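import Cfsg.Agent.Linear.ProjLine
import Cfsg.Agent.Linear.Congr
import Mathlib.GroupTheory.SpecificGroups.Alternating
import Mathlib.GroupTheory.SpecificGroups.Quaternion

/-! # Small cases: `SL_2(2) ≅ S_3`, `PSL_2(3) ≅ A_4`, `PSL_2(4) ≅ A_5`, `SL_2(3)` -/

namespace Cfsg.Agent.Linear

open Matrix

/-- A group embedded in `Perm (Fin n)` with half as many elements is `A_n`. -/
theorem nonempty_iso_alternating {G : Type*} [Group G] {α : Type*} [Fintype α] [DecidableEq α]
    [Nontrivial α] (f : G →* Equiv.Perm α) (hf : Function.Injective f)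
    (hcard : 2 * Nat.card G = Nat.card (Equiv.Perm α)) :
    Nonempty (G ≃* alternatingGroup α) := by
  have hr : Nat.card f.range = Nat.card G :=
    (Nat.card_congr (MonoidHom.ofInjective hf).toEquiv).symm
  have hi : f.range.index = 2 := by
    have h := f.range.card_mul_index
    rw [hr, ← hcard, mul_comm 2] at h
    have hpos : 0 < Nat.card G := hr ▸ Nat.card_pos
    exact Nat.eq_of_mul_eq_mul_left hpos h
  exact ⟨(MonoidHom.ofInjective hf).trans
    (MulEquiv.subgroupCongr (Equiv.Perm.eq_alternatingGroup_of_index_eq_two hi))⟩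

variable {F : Type*} [Field F] [Fintype F]

/-- `PSL_2(q)` embeds in the symmetric group of degree `q + 1`. -/
lemma exists_PSL2_perm_injective {N : ℕ} (hN : Fintype.card F + 1 = N) :
    ∃ f : ProjectiveSpecialLinearGroup (Fin 2) F →* Equiv.Perm (Fin N), Function.Injective f := by
  have h : Nat.card (Projectivization F (Fin 2 → F)) = N := by
    rw [card_projLine, Nat.card_eq_fintype_card, hN]
  exact ⟨(Finite.equivFinOfCardEq h).permCongrHom.toMonoidHom.comp
      Projectivization.PSLAction.toPermHom,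
    (Finite.equivFinOfCardEq h).permCongrHom.injective.comp
      Matrix.ProjectiveSpecialLinearGroup.toPermHom_injective⟩

theorem SL2_two_iso (hF : Fintype.card F = 2) :
    Nonempty (SpecialLinearGroup (Fin 2) F ≃* Equiv.Perm (Fin 3)) := by
  obtain ⟨f, hf⟩ := exists_PSL2_perm_injective (F := F) (N := 3) (by omega)
  have hq : Function.Injective (QuotientGroup.mk' (Subgroup.center (SpecialLinearGroup (Fin 2) F))) := by
    rw [← MonoidHom.ker_eq_bot_iff, QuotientGroup.ker_mk', ← Subgroup.card_eq_one,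
      card_center_SL, hF]
    rfl
  have hinj := hf.comp hq
  refine ⟨MulEquiv.ofBijective (f.comp (QuotientGroup.mk' _)) ⟨hinj, ?_⟩⟩
  refine (Nat.bijective_iff_injective_and_card _ |>.2 ⟨hinj, ?_⟩).2
  rw [card_SL_two, hF, Nat.card_perm, Nat.card_eq_fintype_card, Fintype.card_fin]
  decide

theorem PSL2_three_iso (hF : Fintype.card F = 3) :
    Nonempty (ProjectiveSpecialLinearGroup (Fin 2) F ≃* alternatingGroup (Fin 4)) := by
  obtain ⟨f, hf⟩ := exists_PSL2_perm_injective (F := F) (N := 4) (by omega)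
  refine nonempty_iso_alternating f hf ?_
  have h := card_PSL_two (F := F)
  norm_num [hF] at h
  rw [Nat.card_perm, Nat.card_eq_fintype_card (α := Fin 4), Fintype.card_fin,
    show Nat.factorial 4 = 24 from rfl]
  omega

theorem PSL2_four_iso (hF : Fintype.card F = 4) :
    Nonempty (ProjectiveSpecialLinearGroup (Fin 2) F ≃* alternatingGroup (Fin 5)) := by
  obtain ⟨f, hf⟩ := exists_PSL2_perm_injective (F := F) (N := 5) (by omega)
  refine nonempty_iso_alternating f hf ?_
  have h := card_PSL_two (F := F)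
  norm_num [hF] at h
  rw [Nat.card_perm, Nat.card_eq_fintype_card (α := Fin 5), Fintype.card_fin,
    show Nat.factorial 5 = 120 from rfl]
  omega

/-- An element of order 4 of `SL_2(3)`. -/
def qA : SpecialLinearGroup (Fin 2) (ZMod 3) := ⟨!![0, 2; 1, 0], by decide⟩

/-- Another element of order 4 of `SL_2(3)`. -/
def qX : SpecialLinearGroup (Fin 2) (ZMod 3) := ⟨!![1, 1; 1, 2], by decide⟩

/-- The quaternion subgroup of `SL_2(3)` as a function. -/
def qFun : QuaternionGroup 2 → SpecialLinearGroup (Fin 2) (ZMod 3)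
  | .a i => qA ^ i.val
  | .xa i => qX * qA ^ i.val

lemma qFun_mul : ∀ x y, qFun (x * y) = qFun x * qFun y := by decide +kernel

lemma qFun_injective : Function.Injective qFun := by decide +kernel

lemma qFun_conj : ∀ g : SpecialLinearGroup (Fin 2) (ZMod 3), ∀ x : QuaternionGroup 2,
    ∃ y, qFun y = g * qFun x * g⁻¹ := by decide +kernel

/-- The quaternion subgroup of `SL_2(3)`. -/
def qHom : QuaternionGroup 2 →* SpecialLinearGroup (Fin 2) (ZMod 3) :=
  MonoidHom.mk' qFun qFun_mul

theorem SL2_three_quaternion (hF : Fintype.card F = 3) :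
    (∃ Q : Subgroup (SpecialLinearGroup (Fin 2) F), Q.Normal ∧ Q.index = 3 ∧
      Nonempty (Q ≃* QuaternionGroup 2)) ∧
    Nat.card (Subgroup.center (SpecialLinearGroup (Fin 2) F)) = 2 := by
  refine ⟨?_, by rw [card_center_SL, hF]; rfl⟩
  let e := slCongr (n := Fin 2) (ZMod.ringEquivOfPrime F Nat.prime_three hF)
  have hinj : Function.Injective (e.toMonoidHom.comp qHom) := e.injective.comp qFun_injective
  refine ⟨(e.toMonoidHom.comp qHom).range, ⟨?_⟩, ?_, ⟨(MonoidHom.ofInjective hinj).symm⟩⟩
  · rintro _ ⟨x, rfl⟩ g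
    obtain ⟨y, hy⟩ := qFun_conj (e.symm g) x
    refine ⟨y, ?_⟩
    change e (qFun y) = g * e (qFun x) * g⁻¹
    rw [hy, map_mul, map_mul, map_inv, MulEquiv.apply_symm_apply]
  · have h := (e.toMonoidHom.comp qHom).range.card_mul_index
    rw [← Nat.card_congr (MonoidHom.ofInjective hinj).toEquiv, Nat.card_eq_fintype_card,
      QuaternionGroup.card, card_SL_two, hF] at h
    omega

end Cfsg.Agent.Linear
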