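import Cfsg.Agent.Linear.PSL2Classes
import Cfsg.Agent.Linear.Torus
import Cfsg.Agent.Dickson.Basic

/-!
# The orders of elements of `PSL₂(q)`
-/

set_option autoImplicit false

namespace Cfsg.Agent.Linear.PSL2Classes

open Matrix

variable {F : Type*} [Field F] [Fintype F]

local notation "SL" => Matrix.SpecialLinearGroup (Fin 2) F
local notation "PSL" => Matrix.ProjectiveSpecialLinearGroup (Fin 2) F

theorem two_ne_zero_of_odd (h : Fintype.card F % 2 = 1) : (2 : F) ≠ 0 := by
  refine Ring.two_ne_zero fun hc => ?_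
  rw [FiniteField.even_card_iff_char_two] at hc
  omega

theorem two_eq_zero_of_even (h : Fintype.card F % 2 = 0) : (2 : F) = 0 := by
  by_contra hc
  have : ringChar F ≠ 2 := fun he => hc (by
    have : CharP F 2 := ringChar.of_eq he
    exact CharTwo.two_eq_zero)
  exact absurd (FiniteField.odd_card_of_char_ne_two this) (by omega)

theorem gcd_two : (Fintype.card F % 2 = 0 ∧ Nat.gcd 2 (Fintype.card F - 1) = 1) ∨
    (Fintype.card F % 2 = 1 ∧ Nat.gcd 2 (Fintype.card F - 1) = 2) := by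
  have h1 : 1 < Fintype.card F := Fintype.one_lt_card
  rcases Nat.mod_two_eq_zero_or_one (Fintype.card F) with h | h
  · refine Or.inl ⟨h, ?_⟩
    rw [Nat.gcd_comm, ← Nat.coprime_iff_gcd_eq_one]
    exact (Nat.coprime_two_right.2 (Nat.odd_iff.2 (by omega)))
  · exact Or.inr ⟨h, Nat.gcd_eq_left (by omega)⟩

theorem toPSL_pow_half {g : SL} {N : ℕ} (h : g ^ N = 1) (hN : 2 ∣ N) (h2 : (2 : F) ≠ 0) :
    toPSL g ^ (N / 2) = 1 := by
  rw [← map_pow, toPSL_eq_one_iff]
  refine sq_eq_one h2 ?_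
  rw [← pow_add, show N / 2 + N / 2 = N by omega, h]

/-- Every order divides `p`, `(q - 1)/d` or `(q + 1)/d`. -/
theorem orderOf_dvd (p : ℕ) [Fact p.Prime] [CharP F p] (x : PSL) :
    orderOf x ∣ p ∨ orderOf x ∣ (Fintype.card F - 1) / Nat.gcd 2 (Fintype.card F - 1) ∨
      orderOf x ∣ (Fintype.card F + 1) / Nat.gcd 2 (Fintype.card F - 1) := by
  obtain ⟨g, rfl⟩ := toPSL_surjective x
  have step : ∀ N : ℕ, g ^ N = 1 → (Fintype.card F % 2 = 1 → 2 ∣ N) →
      orderOf (toPSL g) ∣ N / Nat.gcd 2 (Fintype.card F - 1) := by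
    intro N hN h2N
    rcases gcd_two (F := F) with ⟨_, hd⟩ | ⟨h, hd⟩ <;> rw [hd]
    · rw [Nat.div_one]
      exact orderOf_dvd_of_pow_eq_one (by rw [← map_pow, hN, map_one])
    · exact orderOf_dvd_of_pow_eq_one (toPSL_pow_half hN (h2N h) (two_ne_zero_of_odd h))
  by_cases hr : ∀ l : F, l ^ 2 - tr g * l + 1 ≠ 0
  · exact Or.inr (Or.inr (step _ (pow_card_succ hr) (fun h => by omega)))
  push Not at hr
  obtain ⟨l, hl⟩ := hr
  by_cases hd : tr g - 2 * l = 0
  · exact Or.inl (orderOf_dvd_of_pow_eq_one (by rw [← map_pow, toPSL_eq_one_iff]; exact pow_char p hl hd))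
  · exact Or.inr (Or.inl (step _ (pow_card_pred hl hd) (fun h => by omega)))

theorem exists_of_dvd_order {G : Type*} [Group G] [Finite G] (x : G) {m : ℕ} (h : m ∣ orderOf x) :
    ∃ y : G, orderOf y = m :=
  ⟨x ^ (orderOf x / m), by
    have hm : m ≠ 0 := fun h0 => (orderOf_pos x).ne' (Nat.eq_zero_of_zero_dvd (h0 ▸ h))
    rw [orderOf_pow_of_dvd (Nat.div_ne_zero_iff.2 ⟨hm, Nat.le_of_dvd (orderOf_pos x) h⟩)
      (Nat.div_dvd_of_dvd h), Nat.div_div_self h (orderOf_pos x).ne']⟩

theorem exists_torus_order (plus : Bool) :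
    ∃ x : PSL, (if plus then Fintype.card F + 1 else Fintype.card F - 1) /
      Nat.gcd 2 (Fintype.card F - 1) ∣ orderOf x := by
  classical
  obtain ⟨C, hC, hcard⟩ := exists_cyclic_SL2 (F := F) plus
  obtain ⟨⟨c, hc⟩, hgen⟩ := hC.exists_generator
  have ho : orderOf c = if plus then Fintype.card F + 1 else Fintype.card F - 1 := by
    rw [← hcard, ← orderOf_eq_card_of_forall_mem_zpowers hgen]
    exact orderOf_injective C.subtype C.subtype_injective ⟨c, hc⟩
  rw [← ho]
  refine ⟨toPSL c, ?_⟩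
  have h1 : toPSL c ^ orderOf (toPSL c) = 1 := pow_orderOf_eq_one _
  rw [← map_pow, toPSL_eq_one_iff] at h1
  rcases gcd_two (F := F) with ⟨he, hd⟩ | ⟨-, hd⟩ <;> rw [hd]
  · rw [Nat.div_one]
    refine orderOf_dvd_of_pow_eq_one ?_
    rcases h1 with h | h
    · exact h
    · rw [h]
      refine Subtype.ext ?_
      have h20 := two_eq_zero_of_even (F := F) he
      ext i j
      fin_cases i <;> fin_cases j <;> simp <;> linear_combination -h20
  · rcases Nat.even_or_odd (orderOf c) with ⟨M, hM⟩ | hodd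
    · have hsq : c ^ (2 * orderOf (toPSL c)) = 1 := by
        rw [mul_comm, pow_mul]
        rcases h1 with h | h <;> rw [h] <;> simp
      have := orderOf_dvd_of_pow_eq_one hsq
      rw [hM] at this ⊢
      rw [show M + M = 2 * M by ring] at this ⊢
      rw [Nat.mul_div_cancel_left _ (by norm_num)]
      exact Nat.dvd_of_mul_dvd_mul_left (by norm_num) this
    · exfalso
      rw [ho, Nat.odd_iff] at hodd
      rcases gcd_two (F := F) with ⟨_, hd'⟩ | ⟨h', _⟩
      · omega
      · cases plus <;> simp at hodd <;> omega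

/-- The spectrum of `PSL₂(q)`. -/
theorem range_orderOf (p : ℕ) [Fact p.Prime] [CharP F p] :
    Set.range (orderOf : PSL → ℕ) =
      {m : ℕ | m ∣ p ∨ m ∣ (Fintype.card F - 1) / Nat.gcd 2 (Fintype.card F - 1) ∨
        m ∣ (Fintype.card F + 1) / Nat.gcd 2 (Fintype.card F - 1)} := by
  ext m
  constructor
  · rintro ⟨x, rfl⟩
    exact orderOf_dvd p x
  · rintro (h | h | h)
    · rcases (Nat.dvd_prime Fact.out).1 h with rfl | rfl
      · exact ⟨1, orderOf_one⟩
      · refine ⟨toPSL (Dickson.uel 1), orderOf_eq_prime ?_ ?_⟩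
        · rw [← map_pow, Dickson.pow_p_of_tr _ (by simp [Dickson.tr, Dickson.uel]; norm_num), map_one]
        · rw [Ne, toPSL_eq_one_iff]
          rintro (h | h) <;>
            simpa [Dickson.uel] using congrArg (fun g : SL => g.1 0 1) h
    · obtain ⟨x, hx⟩ := exists_torus_order (F := F) false
      exact exists_of_dvd_order x (h.trans hx)
    · obtain ⟨x, hx⟩ := exists_torus_order (F := F) true
      exact exists_of_dvd_order x (h.trans hx)

/-- No element has order `2p`. -/
theorem orderOf_ne_two_mul (p : ℕ) [Fact p.Prime] [CharP F p] (hp : p ≠ 2) (x : PSL) : orderOf x ≠ 2 * p := by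
  intro ho
  have hp' : p.Prime := Fact.out
  have hpq : p ∣ Fintype.card F := by
    obtain ⟨n, -, hn⟩ := FiniteField.card F p
    exact hn ▸ dvd_pow_self p n.ne_zero
  have h1 : 1 < Fintype.card F := Fintype.one_lt_card
  have hnd : ∀ N : ℕ, p ∣ N / Nat.gcd 2 (Fintype.card F - 1) →
      Nat.gcd 2 (Fintype.card F - 1) ∣ N → p ∣ N := fun N h hd =>
    Nat.div_mul_cancel hd ▸ Dvd.dvd.mul_right h _
  rcases orderOf_dvd p x with h | h | h <;> rw [ho] at h
  · have := Nat.le_of_dvd hp'.pos h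
    have := hp'.pos
    omega
  · have h' := hnd _ ((dvd_mul_left p 2).trans h) (Nat.gcd_dvd_right _ _)
    have h'' : p ∣ 1 := by
      have := Nat.dvd_sub hpq h'
      rwa [show Fintype.card F - (Fintype.card F - 1) = 1 by omega] at this
    exact hp'.not_dvd_one h''
  · have h' := hnd _ ((dvd_mul_left p 2).trans h)
      (by rcases gcd_two (F := F) with ⟨_, hd⟩ | ⟨ho', hd⟩ <;> rw [hd] <;> omega)
    have h'' : p ∣ 1 := by
      have := Nat.dvd_sub h' hpq
      rwa [show Fintype.card F + 1 - Fintype.card F = 1 by omega] at this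
    exact hp'.not_dvd_one h''

end Cfsg.Agent.Linear.PSL2Classes
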