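import Cfsg.Agent.Linear.RegSkew
import Cfsg.Agent.Forms.SympSpectrum

/-!
# Regular unipotent elements of `Sp_2m(q)`, `q` odd
-/

set_option autoImplicit false
set_option linter.unusedSectionVars false

namespace Cfsg.Agent.Linear.SpRegUnipotent

open Module Cfsg.Agent.Linear.RegSkew Cfsg.Agent.Forms
open Matrix (mulVecLin toLinAlgEquiv')

section Abstract

variable {F V : Type*} [Field F] [AddCommGroup V] [Module F V] [FiniteDimensional F V]

theorem pow_apply_intertwine {z z' : Module.End F V} {v v' : V} {e : ℕ} (h : Cyc z v e) (h' : Cyc z' v' e) :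
    ∃ y : V ≃ₗ[F] V, ∀ p, y (z p) = z' (y p) := by
  classical
  let φ : ∀ {z : Module.End F V} {v : V}, Cyc z v e → ((Fin (e + 1) → F) ≃ₗ[F] V) := fun {z v} hz =>
    LinearEquiv.ofBijective
      { toFun := fun c => el z c v
        map_add' := fun b c => by simp [el_apply, add_smul, Finset.sum_add_distrib]
        map_smul' := fun s c => by simp [el_apply, mul_smul, Finset.smul_sum] }
      ⟨fun _ _ hbc => hz.el_injective hbc, hz.el_surjective⟩
  have hsingle : ∀ {z : Module.End F V} {v : V} (hz : Cyc z v e) (i : Fin (e + 1)),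
      φ hz (Pi.single i 1) = (z ^ i.1) v := fun {z v} hz i => by
    show el z (Pi.single i (1 : F)) v = _
    rw [el_apply, Finset.sum_eq_single i (fun j _ hj => by rw [Pi.single_eq_of_ne hj, zero_smul]) (by simp),
      Pi.single_eq_same, one_smul]
  let y := (φ h).symm.trans (φ h')
  have hy : ∀ j : ℕ, y ((z ^ j) v) = (z' ^ j) v' := fun j => by
    rcases le_or_gt j e with hj | hj
    · show φ h' ((φ h).symm ((z ^ j) v)) = _
      rw [← hsingle h ⟨j, by omega⟩, LinearEquiv.symm_apply_apply, hsingle h']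
    · rw [h.pow_eq_zero hj, h'.pow_eq_zero hj]; simp
  refine ⟨y, fun p => ?_⟩
  obtain ⟨c, rfl⟩ := h.el_surjective p
  simp only [el_apply, map_sum, map_smul, hy]
  refine Finset.sum_congr rfl fun i _ => ?_
  rw [← Module.End.mul_apply, ← Module.End.mul_apply, ← pow_succ', ← pow_succ', hy]

theorem finrank_range_of_cyc {z : Module.End F V} {v : V} {e : ℕ} (h : Cyc z v e) :
    finrank F (LinearMap.range z) = e := by
  refine le_antisymm ?_ ?_
  · have hlt : LinearMap.range z < ⊤ := lt_top_iff_ne_top.2 fun htop => by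
      have hs : Function.Surjective (z ^ (e + 1)) := by
        rw [Module.End.coe_pow]; exact (LinearMap.range_eq_top.1 htop).iterate _
      obtain ⟨w, hw⟩ := hs ((z ^ e) v)
      rw [h.nil] at hw
      exact h.top hw.symm
    have := Submodule.finrank_lt_finrank_of_lt hlt
    rw [finrank_top, h.rank] at this
    omega
  · let g : (Fin e → F) →ₗ[F] LinearMap.range z :=
      { toFun := fun r => ⟨z (el z r v), ⟨_, rfl⟩⟩
        map_add' := fun b c => Subtype.ext (by simp [el_apply, add_smul, Finset.sum_add_distrib])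
        map_smul' := fun s c => Subtype.ext (by simp [el_apply, mul_smul, Finset.smul_sum]) }
    have hg : Function.Injective g := by
      rw [← LinearMap.ker_eq_bot, LinearMap.ker_eq_bot']
      intro r hr
      have h1 : z (el z r v) = 0 := congrArg Subtype.val hr
      have h2 : el z (Fin.cons 0 r : Fin (e + 1) → F) v = 0 := by
        rw [el_apply, Fin.sum_univ_succ, Fin.cons_zero, zero_smul, zero_add, ← h1, el_apply, map_sum]
        exact Finset.sum_congr rfl fun i _ => by
          rw [Fin.cons_succ, map_smul, ← Module.End.mul_apply, ← pow_succ', Fin.val_succ]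
      funext i
      simpa using congrFun (h.el_eq_zero h2) i.succ
    simpa using LinearMap.finrank_le_finrank_of_injective hg

theorem exists_top_of_rank {z : Module.End F V} {e : ℕ} (hd : finrank F V = e + 1) (hr : finrank F (LinearMap.range z) = e) :
    ∃ v, (z ^ e) v ≠ 0 := by
  have hk : finrank F (LinearMap.ker z) = 1 := by
    have := LinearMap.finrank_range_add_finrank_ker z
    omega
  have hb : ∀ i, finrank F (LinearMap.ker (z ^ i)) ≤ i := by
    intro i
    induction i with
    | zero => rw [pow_zero, Module.End.one_eq_id, LinearMap.ker_id, finrank_bot]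
    | succ i ih =>
      let g : LinearMap.ker (z ^ (i + 1)) →ₗ[F] LinearMap.ker (z ^ i) :=
        (z.domRestrict _).codRestrict _ fun p => by
          show (z ^ i) (z p.1) = 0
          rw [← Module.End.mul_apply, ← pow_succ]
          exact LinearMap.mem_ker.1 p.2
      have h1 := LinearMap.finrank_range_add_finrank_ker g
      have h2 := Submodule.finrank_le (LinearMap.range g)
      let j : LinearMap.ker g →ₗ[F] LinearMap.ker z :=
        ((LinearMap.ker (z ^ (i + 1))).subtype.domRestrict _).codRestrict _ fun p => by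
          have := congrArg Subtype.val (LinearMap.mem_ker.1 p.2)
          exact LinearMap.mem_ker.2 this
      have h3 := LinearMap.finrank_le_finrank_of_injective (f := j) fun p p' hpp =>
        Subtype.ext (Subtype.ext (congrArg (fun r : LinearMap.ker z => r.1) hpp))
      omega
  by_contra hc
  push Not at hc
  have : LinearMap.ker (z ^ e) = ⊤ := LinearMap.ker_eq_top.2 (LinearMap.ext hc)
  have h1 := hb e
  rw [this, finrank_top, hd] at h1
  omega

theorem exists_cayley (h2 : (2 : F) ≠ 0) (B : LinearMap.BilinForm F V) (u : Module.End F V)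
    (hu : ∀ p q, B (u p) (u q) = B p q) {v : V} {e : ℕ} (h : Cyc (u - 1) v e) :
    ∃ (z : Module.End F V) (v' : V), Cyc z v' e ∧ Adj B z (-z) ∧ ∀ x, Commute x z ↔ Commute x u := by
  have hu1 : IsUnit (u + 1) := by
    rw [show u + 1 = (2 : F) • (1 : Module.End F V) + (u - 1) by rw [two_smul]; abel]
    exact IsNilpotent.isUnit_add_left_of_commute ⟨e + 1, h.nil⟩ (IsUnit.smul (Units.mk0 _ h2) isUnit_one)
      ((Commute.one_right _).smul_right _)
  obtain ⟨w, hw⟩ := hu1
  set ν := u - 1 with hν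
  set z := ν * (w⁻¹ : (Module.End F V)ˣ).1 with hz
  have hνw : Commute ν (w⁻¹ : (Module.End F V)ˣ).1 := Commute.units_inv_right (by
    rw [hw, hν]; exact ((Commute.refl u).sub_left (Commute.one_left u)).add_right (Commute.one_right _))
  have hzw : z * (u + 1) = ν := by rw [← hw, hz, mul_assoc, Units.inv_mul, mul_one]
  refine ⟨z, ((w ^ e : (Module.End F V)ˣ) : Module.End F V) v, ⟨h.rank, ?_, ?_⟩, fun p q => ?_, fun x => ?_⟩
  · rw [hz, hνw.mul_pow, h.nil, zero_mul]
  · rw [hz, hνw.mul_pow, ← Module.End.mul_apply, mul_assoc, ← Units.val_pow_eq_pow_val, ← Units.val_mul, inv_pow,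
      inv_mul_cancel, Units.val_one, mul_one]
    exact h.top
  · have hs : ∀ r, ∃ r', r = (u + 1) r' := fun r => ⟨(w⁻¹ : (Module.End F V)ˣ).1 r, by
      rw [← hw, ← Module.End.mul_apply, Units.mul_inv]; rfl⟩
    obtain ⟨p, rfl⟩ := hs p
    obtain ⟨q, rfl⟩ := hs q
    rw [← Module.End.mul_apply z, hzw, LinearMap.neg_apply, ← Module.End.mul_apply z, hzw, hν]
    simp only [LinearMap.sub_apply, LinearMap.add_apply, Module.End.one_apply, map_sub, map_add, map_neg, hu]
    ring
  · constructor
    · intro hx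
      have h1 : u * (1 - z) = 1 + z := by
        have h1 : z * u + z = u - 1 := by rw [← hν, ← hzw, mul_add, mul_one]
        have h3 : u * z = z * u := by
          have h4 : Commute u (w⁻¹ : (Module.End F V)ˣ).1 := Commute.units_inv_right (by
            rw [hw]; exact (Commute.refl u).add_right (Commute.one_right _))
          exact ((((Commute.refl u).sub_right (Commute.one_right u))).mul_right h4).eq
        rw [mul_sub, mul_one, h3, show u - z * u = 1 + z by
          have : z * u = u - 1 - z := by rw [← h1]; abel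
          rw [this]; abel]
      have hunit : IsUnit (1 - z) := IsNilpotent.isUnit_one_sub ⟨e + 1, by rw [hz, hνw.mul_pow, h.nil, zero_mul]⟩
      refine hunit.mul_right_cancel ?_
      calc x * u * (1 - z) = x * (1 + z) := by rw [mul_assoc, h1]
        _ = (1 + z) * x := ((Commute.one_right x).add_right hx).eq
        _ = u * ((1 - z) * x) := by rw [← h1, mul_assoc]
        _ = u * (x * (1 - z)) := by rw [((Commute.one_right x).sub_right hx).eq]
        _ = u * x * (1 - z) := (mul_assoc _ _ _).symm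
    · intro hx
      refine Commute.mul_right (hx.sub_right (Commute.one_right x)) (Commute.units_inv_right ?_)
      rw [hw]
      exact hx.add_right (Commute.one_right x)

end Abstract

variable {F : Type*} [Field F] [Fintype F] {m : ℕ}

local notation "Vm" => (Fin m ⊕ Fin m → F)

/-- The endomorphism of a symplectic matrix. -/
abbrev T (u : Matrix.symplecticGroup (Fin m) F) : Module.End F Vm := toLinAlgEquiv' u.1

theorem T_pres (u : Matrix.symplecticGroup (Fin m) F) (p q : Vm) : sympB m F (T u p) (T u q) = sympB m F p q := by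
  rw [sympB_apply, sympB_apply]
  exact mem_symplectic_iff.1 u.2 p q

theorem T_injective : Function.Injective (T : Matrix.symplecticGroup (Fin m) F → Module.End F Vm) := fun _ _ h =>
  Subtype.ext (toLinAlgEquiv'.injective h)

theorem T_mul (u u' : Matrix.symplecticGroup (Fin m) F) : T (u * u') = T u * T u' :=
  map_mul (toLinAlgEquiv' (R := F) (n := Fin m ⊕ Fin m)) u.1 u'.1

theorem exists_T {g : Module.End F Vm} (hg : ∀ p q, sympB m F (g p) (g q) = sympB m F p q) :
    ∃ u : Matrix.symplecticGroup (Fin m) F, T u = g := by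
  refine ⟨⟨toLinAlgEquiv'.symm g, mem_symplectic_iff.2 fun p q => ?_⟩, AlgEquiv.apply_symm_apply _ _⟩
  rw [← sympB_apply, ← sympB_apply]
  have : ∀ r, (toLinAlgEquiv'.symm g).mulVec r = g r := fun r => by
    rw [← Matrix.toLinAlgEquiv'_apply, AlgEquiv.apply_symm_apply]
  rw [this, this]; exact hg p q

/-- The defining property of regular unipotent elements. -/
def IsRegUnip (u : Matrix.symplecticGroup (Fin m) F) : Prop :=
  ((u : Matrix (Fin m ⊕ Fin m) (Fin m ⊕ Fin m) F) - 1) ^ (2 * m) = 0 ∧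
    ((u : Matrix (Fin m ⊕ Fin m) (Fin m ⊕ Fin m) F) - 1).rank = 2 * m - 1

theorem isRegUnip_iff {k : ℕ} (hk : m = k + 1) (u : Matrix.symplecticGroup (Fin m) F) :
    IsRegUnip u ↔ ∃ v, Cyc (T u - 1) v (2 * k + 1) := by
  have hd : finrank F Vm = 2 * k + 1 + 1 := by
    rw [finrank_fintype_fun_eq_card, Fintype.card_sum, Fintype.card_fin]; omega
  have hT : T u - 1 = toLinAlgEquiv' ((u : Matrix (Fin m ⊕ Fin m) (Fin m ⊕ Fin m) F) - 1) := by
    rw [map_sub, map_one]
  have hrank : finrank F (LinearMap.range (T u - 1)) = ((u : Matrix (Fin m ⊕ Fin m) (Fin m ⊕ Fin m) F) - 1).rank := by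
    rw [hT]; rfl
  rw [IsRegUnip, ← hrank, show 2 * m = 2 * k + 1 + 1 by omega, Nat.add_sub_cancel,
    ← (toLinAlgEquiv' (R := F) (n := Fin m ⊕ Fin m)).injective.eq_iff, map_pow, map_zero, ← hT]
  constructor
  · rintro ⟨h1, h2⟩
    obtain ⟨v, hv⟩ := exists_top_of_rank hd h2
    exact ⟨v, hd, h1, hv⟩
  · rintro ⟨v, hv⟩
    exact ⟨hv.nil, finrank_range_of_cyc hv⟩

theorem two_ne (hq : Odd (Fintype.card F)) : (2 : F) ≠ 0 := Ring.two_ne_zero fun h => by
  have := FiniteField.even_card_of_char_two h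
  rw [Nat.odd_iff] at hq
  omega

theorem card_centralizer {q : ℕ} (hF : Fintype.card F = q) (hq : Odd q) (hm : 1 ≤ m)
    (u : Matrix.symplecticGroup (Fin m) F) (hu : IsRegUnip u) :
    Nat.card ↥(Subgroup.centralizer ({u} : Set ↥(Matrix.symplecticGroup (Fin m) F))) = 2 * q ^ m := by
  obtain ⟨k, rfl⟩ : ∃ k, m = k + 1 := ⟨m - 1, by omega⟩
  obtain ⟨v, hv⟩ := (isRegUnip_iff rfl u).1 hu
  have h2 := two_ne (hF ▸ hq)
  obtain ⟨z, v', hz, hza, hcomm⟩ := exists_cayley h2 (sympB (k + 1) F) (T u) (T_pres u) hv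
  rw [← card_isometries hz hF hq h2 sympB_nondegenerate hza]
  let w : Matrix.symplecticGroup (Fin (k + 1)) F →* (Module.End F (Fin (k + 1) ⊕ Fin (k + 1) → F))ˣ :=
    ({ toFun := T, map_one' := map_one _, map_mul' := T_mul } : Matrix.symplecticGroup (Fin (k + 1)) F →* _).toHomUnits
  refine Nat.card_congr (Equiv.ofBijective (fun g => ⟨⟨w g.1, (hcomm _).2 ?_⟩, T_pres g.1⟩) ⟨fun g g' h => ?_, ?_⟩)
  · show T g.1 * T u = T u * T g.1
    rw [← T_mul, ← T_mul, Subgroup.mem_centralizer_singleton_iff.1 g.2]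
  · exact Subtype.ext (T_injective (congrArg (fun x => x.1.1.1) h))
  · rintro ⟨x, hx⟩
    obtain ⟨g, hg⟩ := exists_T hx
    refine ⟨⟨g, Subgroup.mem_centralizer_singleton_iff.2 (T_injective ?_)⟩, Subtype.ext (Subtype.ext (Units.ext hg))⟩
    rw [T_mul, T_mul, hg]
    exact ((hcomm _).1 x.2).eq

theorem exists_reg (hq : Odd (Fintype.card F)) (hm : 1 ≤ m) : ∃ u : Matrix.symplecticGroup (Fin m) F, IsRegUnip u := by
  obtain ⟨k, rfl⟩ : ∃ k, m = k + 1 := ⟨m - 1, by omega⟩
  let ι : (Fin (2 * k + 1 + 1) → F) ≃ₗ[F] (Fin (k + 1) ⊕ Fin (k + 1) → F) :=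
    LinearEquiv.funCongrLeft F F (finSumFinEquiv.trans (finCongr (by omega)))
  let B : LinearMap.BilinForm F (Fin (2 * k + 1 + 1) → F) := (sympB (k + 1) F).compl₁₂ ι.toLinearMap ι.toLinearMap
  have hA : B.IsAlt := fun x => sympB_isAlt (ι x)
  have hB : B.Nondegenerate := by
    refine ⟨fun x hx => ι.injective ?_, fun y hy => ι.injective ?_⟩ <;> rw [map_zero]
    · refine sympB_nondegenerate.1 _ fun v => ?_
      obtain ⟨w, rfl⟩ := ι.surjective v
      exact hx w
    · refine sympB_nondegenerate.2 _ fun v => ?_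
      obtain ⟨w, rfl⟩ := ι.surjective v
      exact hy w
  obtain ⟨a, ha, ha1, ha2⟩ := exists_regular_unipotent (two_ne hq) (k := k + 1) (m := 2 * k + 1) (by omega) B hA hB
  let g : Module.End F (Fin (k + 1) ⊕ Fin (k + 1) → F) := ι.conjAlgEquiv F (a : Module.End F (Fin (2 * k + 1 + 1) → F))
  obtain ⟨u, hu⟩ := exists_T (g := g) fun p q => by
    obtain ⟨p, rfl⟩ := ι.surjective p
    obtain ⟨q, rfl⟩ := ι.surjective q
    have h := ha p q
    simp [g, B, LinearEquiv.conjAlgEquiv_apply] at h ⊢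
    exact h
  refine ⟨u, (isRegUnip_iff rfl u).2 ?_⟩
  have hg : T u - 1 = ι.conjAlgEquiv F ((a : Module.End F (Fin (2 * k + 1 + 1) → F)) - 1) := by
    rw [map_sub, map_one, hu]
  obtain ⟨v, hv⟩ : ∃ v, (((a : Module.End F (Fin (2 * k + 1 + 1) → F)) - 1) ^ (2 * k + 1)) v ≠ 0 := by
    by_contra hc
    push Not at hc
    exact ha2 (LinearMap.ext hc)
  refine ⟨ι v, ?_, by rw [hg, ← map_pow, ha1, map_zero], fun h => hv ?_⟩
  · rw [← ι.finrank_eq, finrank_fin_fun]
  · rw [hg, ← map_pow] at h
    exact ι.injective (by simpa [LinearEquiv.conjAlgEquiv_apply] using h)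

theorem card_classes {q : ℕ} (hF : Fintype.card F = q) (hq : Odd q) (hm : 1 ≤ m) :
    Nat.card {C : ConjClasses ↥(Matrix.symplecticGroup (Fin m) F) //
      ∃ u, ConjClasses.mk u = C ∧ IsRegUnip u} = 2 := by
  classical
  have hq' : Odd (Fintype.card F) := hF.symm ▸ hq
  have h2 := two_ne hq'
  have hchar : ringChar F ≠ 2 := fun h => by
    have := FiniteField.even_card_of_char_two h
    rw [Nat.odd_iff] at hq'
    omega
  obtain ⟨u₀, hu₀⟩ := exists_reg hq' hm
  obtain ⟨k, rfl⟩ : ∃ k, m = k + 1 := ⟨m - 1, by omega⟩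
  obtain ⟨v₀, hv₀⟩ := (isRegUnip_iff rfl u₀).1 hu₀
  set B := sympB (k + 1) F
  obtain ⟨z, v', hz, hza, hcomm⟩ := exists_cayley h2 B (T u₀) (T_pres u₀) hv₀
  obtain ⟨χ, hχ⟩ := hz.exists_char
  obtain ⟨c₀, hc₀⟩ := FiniteField.exists_nonsquare hchar
  have hc0 : c₀ ≠ 0 := fun h => hc₀ (h ▸ IsSquare.zero)
  set c : Fˣ := Units.mk0 c₀ hc0
  have hc : ¬ IsSquare c := fun ⟨s, hs⟩ => hc₀ ⟨s, congrArg Units.val hs⟩
  -- a similitude of multiplier `c`
  let d : Fin (k + 1) ⊕ Fin (k + 1) → F := Sum.elim (fun _ => c₀) (fun _ => 1)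
  let hh : (Fin (k + 1) ⊕ Fin (k + 1) → F) ≃ₗ[F] (Fin (k + 1) ⊕ Fin (k + 1) → F) :=
    LinearEquiv.piCongrRight fun i => LinearEquiv.smulOfUnit (Units.mk0 (d i) (by cases i <;> simp [d, hc0]))
  have hhB : ∀ p p', B (hh p) (hh p') = c₀ * B p p' := fun p p' => by
    simp only [B, sympB_apply, sympForm_eq, Finset.mul_sum]
    refine Finset.sum_congr rfl fun i _ => ?_
    simp [hh, d, LinearEquiv.smulOfUnit, Units.smul_def]
    ring
  have hhB' : ∀ p p', B (hh.symm p) (hh.symm p') = c₀⁻¹ * B p p' := fun p p' => by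
    conv_rhs => rw [← hh.apply_symm_apply p, ← hh.apply_symm_apply p', hhB, inv_mul_cancel_left₀ hc0]
  obtain ⟨u₁, hu₁⟩ := exists_T (g := (hh : Module.End F _) * T u₀ * (hh.symm : Module.End F _)) fun p p' => by
    show B (hh (T u₀ (hh.symm p))) (hh (T u₀ (hh.symm p'))) = B p p'
    rw [hhB, T_pres, ← hhB, hh.apply_symm_apply, hh.apply_symm_apply]
  have hh1 : (hh : Module.End F (Fin (k + 1) ⊕ Fin (k + 1) → F)) * (hh.symm : Module.End F _) = 1 :=
    LinearMap.ext hh.apply_symm_apply
  have hu₁R : IsRegUnip u₁ := (isRegUnip_iff rfl u₁).2 ⟨hh v₀, by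
    have he : T u₁ - 1 = hh.conjAlgEquiv F (T u₀ - 1) := by
      rw [map_sub, map_one, hu₁]; rfl
    refine ⟨hv₀.rank, by rw [he, ← map_pow, hv₀.nil, map_zero], fun h => hv₀.top ?_⟩
    rw [he, ← map_pow] at h
    exact hh.injective (by simpa [LinearEquiv.conjAlgEquiv_apply] using h)⟩
  have hne : ConjClasses.mk u₀ ≠ ConjClasses.mk u₁ := by
    rw [Ne, ConjClasses.mk_eq_mk_iff_isConj, isConj_iff]
    rintro ⟨g, hg⟩
    rw [mul_inv_eq_iff_eq_mul] at hg
    have hgT : T g * T u₀ = (hh : Module.End F _) * T u₀ * (hh.symm : Module.End F _) * T g := by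
      rw [← T_mul, hg, T_mul, hu₁]
    set x : Module.End F (Fin (k + 1) ⊕ Fin (k + 1) → F) := (hh.symm : Module.End F _) * T g with hx
    have hxc : Commute x (T u₀) := by
      show x * T u₀ = T u₀ * x
      rw [hx, mul_assoc, hgT]
      refine LinearMap.ext fun p => ?_
      show hh.symm (hh (T u₀ (hh.symm (T g p)))) = T u₀ (hh.symm (T g p))
      rw [hh.symm_apply_apply]
    have hxB : ∀ p p', B (x p) (x p') = c₀⁻¹ * B p p' := fun p p' => by
      show B (hh.symm (T g p)) (hh.symm (T g p')) = _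
      rw [hhB', T_pres]
    obtain ⟨co, hco⟩ := hz.exists_el ((hcomm x).2 hxc)
    have had := adj_el hza co
    rw [← hco] at had
    set x' := el z fun i => (-1 : F) ^ i.1 * co i
    have h1 : x' * x = c₀⁻¹ • (1 : Module.End F _) := LinearMap.ext fun p' =>
      sub_eq_zero.1 (sympB_nondegenerate.2 _ fun p => by
        show B p _ = 0
        rw [map_sub, Module.End.mul_apply, ← had, hxB, LinearMap.smul_apply, Module.End.one_apply, map_smul,
          smul_eq_mul, sub_self])
    have h3 : (x' * x) ((z ^ (2 * k + 1)) v') = (co 0 * co 0) • (z ^ (2 * k + 1)) v' := by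
      rw [Module.End.mul_apply, hco, hz.el_eigen, map_smul, hz.el_eigen, smul_smul, Fin.val_zero, pow_zero, one_mul]
    rw [h1, LinearMap.smul_apply, Module.End.one_apply] at h3
    exact hc₀ ⟨(co 0)⁻¹, by rw [← mul_inv, ← smul_left_injective F hz.top h3, inv_inv]⟩
  have hall : ∀ u, IsRegUnip u → ConjClasses.mk u = ConjClasses.mk u₀ ∨ ConjClasses.mk u = ConjClasses.mk u₁ := by
    intro u hu
    obtain ⟨v, hv⟩ := (isRegUnip_iff rfl u).1 hu
    obtain ⟨y, hy⟩ := pow_apply_intertwine hv₀ hv
    have hyu : ∀ p, y (T u₀ p) = T u (y p) := fun p => by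
      have := hy p
      simp only [LinearMap.sub_apply, Module.End.one_apply, map_sub] at this
      exact sub_left_inj.1 this
    set a : Module.End F (Fin (k + 1) ⊕ Fin (k + 1) → F) :=
      LinearMap.BilinForm.symmCompOfNondegenerate (B.compl₁₂ y.toLinearMap y.toLinearMap) B sympB_nondegenerate
    have ha : ∀ p p', B (a p) p' = B (y p) (y p') := fun p p' =>
      LinearMap.BilinForm.symmCompOfNondegenerate_left_apply _ _ _ _
    have haadj : Adj B a a := fun p p' => by
      rw [ha]
      have hA : B.IsAlt := sympB_isAlt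
      rw [← hA.neg_eq (y p') (y p), ← ha, hA.neg_eq]
    have hac : Commute a (T u₀) := LinearMap.ext fun p => sub_eq_zero.1 (sympB_nondegenerate.1 _ fun p' => by
      show B _ p' = 0
      obtain ⟨r, rfl⟩ : ∃ r, T u₀ r = p' := by
        refine ⟨T u₀⁻¹ p', ?_⟩
        rw [← Module.End.mul_apply, ← T_mul, mul_inv_cancel]
        simp [T]
      rw [map_sub, LinearMap.sub_apply, Module.End.mul_apply, Module.End.mul_apply, ha, hyu, hyu, T_pres, T_pres,
        ← ha, sub_self])
    have hainj : Function.Injective a := by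
      rw [← LinearMap.ker_eq_bot, LinearMap.ker_eq_bot']
      intro p hp
      refine y.map_eq_zero_iff.1 (sympB_nondegenerate.1 _ fun r => ?_)
      obtain ⟨r, rfl⟩ := y.surjective r
      show B _ _ = 0
      rw [← ha, hp, map_zero, LinearMap.zero_apply]
    have haunit : IsUnit a := (Module.End.isUnit_iff a).2 ⟨hainj, LinearMap.injective_iff_surjective.1 hainj⟩
    let aG : GA z := ⟨haunit.unit, (hcomm a).2 hac⟩
    -- finishing from a root
    have fin : ∀ (s : F) (hh' : (Fin (k + 1) ⊕ Fin (k + 1) → F) ≃ₗ[F] (Fin (k + 1) ⊕ Fin (k + 1) → F))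
        (ui : Matrix.symplecticGroup (Fin (k + 1)) F) (w : GA z),
        Adj B w.1.1 w.1.1 → a = s • (w.1.1 * w.1.1) → (∀ p p', s * B (hh'.symm p) (hh'.symm p') = B p p') →
        (∀ p, hh'.symm (T ui p) = T u₀ (hh'.symm p)) → ConjClasses.mk u = ConjClasses.mk ui := by
      intro s hh' ui w hw hae hsB hui
      have hwB : ∀ p p', B (y ((w⁻¹ : GA z).1.1 p)) (y ((w⁻¹ : GA z).1.1 p')) = s * B p p' := fun p p' => by
        have e1 : w.1.1 * (w⁻¹ : GA z).1.1 = 1 := by
          rw [Subgroup.coe_inv, Units.mul_inv]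
        rw [← ha, hae, LinearMap.smul_apply, map_smul, LinearMap.smul_apply, Module.End.mul_apply, hw,
          ← Module.End.mul_apply, ← Module.End.mul_apply (w.1.1), e1]
        rfl
      obtain ⟨g, hg⟩ := exists_T (g := (y : Module.End F _) * (w⁻¹ : GA z).1.1 * (hh'.symm : Module.End F _))
        fun p p' => by
          show B (y ((w⁻¹ : GA z).1.1 (hh'.symm p))) (y ((w⁻¹ : GA z).1.1 (hh'.symm p'))) = B p p'
          rw [hwB, hsB]
      refine (ConjClasses.mk_eq_mk_iff_isConj.2 (isConj_iff.2 ⟨g, ?_⟩)).symm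
      rw [mul_inv_eq_iff_eq_mul]
      refine T_injective (LinearMap.ext fun p => ?_)
      rw [T_mul, T_mul, hg]
      show y ((w⁻¹ : GA z).1.1 (hh'.symm (T ui p))) = T u (y ((w⁻¹ : GA z).1.1 (hh'.symm p)))
      rw [hui, ← hyu]
      exact congrArg y (LinearMap.congr_fun ((hcomm _).1 (w⁻¹ : GA z).2).eq _)
    by_cases hs : IsSquare (χ aG)
    · obtain ⟨w, hw, hww⟩ := exists_root hz hF hq hχ aG haadj hs
      left
      refine fin 1 (LinearEquiv.refl F _) u₀ w hw ?_ (fun p p' => by simp) (fun p => rfl)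
      rw [one_smul]
      exact (congrArg (fun x : GA z => x.1.1) hww).symm
    · have hχsc : χ (sc z c⁻¹ * aG) = c⁻¹ * χ aG := by
        rw [map_mul, show χ (sc z c⁻¹) = c⁻¹ from Units.ext (smul_left_injective F hz.top (hχ (sc z c⁻¹)).symm)]
      have hsq : IsSquare (c⁻¹ * χ aG) := by
        rw [FiniteField.unit_isSquare_iff hchar] at hs hc ⊢
        have d1 := (FiniteField.pow_dichotomy hchar c.ne_zero).resolve_left fun h => hc (Units.ext (by simpa using h))
        have d2 := (FiniteField.pow_dichotomy hchar (χ aG).ne_zero).resolve_left fun h => hs (Units.ext (by simpa using h))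
        rw [Units.ext_iff, Units.val_pow_eq_pow_val, Units.val_mul, mul_pow, Units.val_inv_eq_inv_val, inv_pow, d1, d2,
          Units.val_one]
        norm_num
      have hself : Adj B (sc z c⁻¹ * aG).1.1 (sc z c⁻¹ * aG).1.1 := fun p p' => by
        show B (((c⁻¹ : Fˣ) : F) • a p) p' = B p (((c⁻¹ : Fˣ) : F) • a p')
        rw [map_smul, LinearMap.smul_apply, map_smul, haadj]
      obtain ⟨w, hw, hww⟩ := exists_root hz hF hq hχ (sc z c⁻¹ * aG) hself (hχsc ▸ hsq)
      right
      refine fin c₀ hh u₁ w hw (LinearMap.ext fun p => ?_) (fun p p' => by rw [hhB', mul_inv_cancel_left₀ hc0]) (fun p => ?_)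
      · have h1 := LinearMap.congr_fun (congrArg (fun x : GA z => x.1.1) hww) p
        have h3 : (w.1.1 * w.1.1) p = ((c⁻¹ : Fˣ) : F) • a p := h1
        rw [LinearMap.smul_apply, h3, smul_smul, Units.val_inv_eq_inv_val]
        show a p = (c₀ * c₀⁻¹) • a p
        rw [mul_inv_cancel₀ hc0, one_smul]
      · rw [hu₁]
        show hh.symm (hh (T u₀ (hh.symm p))) = _
        rw [hh.symm_apply_apply]
  have hset : {C : ConjClasses ↥(Matrix.symplecticGroup (Fin (k + 1)) F) | ∃ u, ConjClasses.mk u = C ∧ IsRegUnip u}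
      = {ConjClasses.mk u₀, ConjClasses.mk u₁} := by
    ext C
    constructor
    · rintro ⟨u, rfl, hu⟩
      exact hall u hu
    · rintro (rfl | rfl)
      · exact ⟨u₀, rfl, hu₀⟩
      · exact ⟨u₁, rfl, hu₁R⟩
  rw [← Set.ncard_pair hne, ← hset]
  exact Nat.card_coe_set_eq _

end Cfsg.Agent.Linear.SpRegUnipotent
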