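import Cfsg.Agent.Linear.TransvCentApps
import Cfsg.Agent.FGS3.FrattiniAction

/-!
# `C(Z)` in the affine group `2^(n+1) : GL_(n+1)(2)`
-/

set_option autoImplicit false
set_option linter.unusedSectionVars false

namespace Cfsg.Agent.Linear.AffineTwo

open Matrix Cfsg.Agent.Linear.TransvCentTwo

theorem isExtraspecial_congr {P P' : Type*} [Group P] [Group P'] (e : P ≃* P') {p : ℕ}
    (h : Cfsg.IsExtraspecial p P) : Cfsg.IsExtraspecial p P' := by
  obtain ⟨⟨hp, hf, hc⟩, hcard⟩ := h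
  have hZ : (Subgroup.center P).map e.toMonoidHom = Subgroup.center P' := by
    ext x
    obtain ⟨x, rfl⟩ := e.surjective x
    rw [Subgroup.mem_map_equiv, MulEquiv.symm_apply_apply, Subgroup.mem_center_iff, Subgroup.mem_center_iff]
    exact ⟨fun h g => by obtain ⟨g, rfl⟩ := e.surjective g; rw [← map_mul, ← map_mul, h],
      fun h g => e.injective (by rw [map_mul, map_mul, h])⟩
  have hF : (frattini P).map e.toMonoidHom = frattini P' := by
    refine le_antisymm (FGS3.map_frattini_le_of_surjective e.surjective) fun x hx => ?_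
    rw [Subgroup.mem_map_equiv]
    exact FGS3.map_frattini_le_of_surjective e.symm.surjective (Subgroup.mem_map_of_mem e.symm.toMonoidHom hx)
  refine ⟨⟨hp.of_equiv e, ?_, ?_⟩, ?_⟩
  · rw [← hF, ← hZ, hf]
  · rw [← hZ, ← hc, commutator_def, commutator_def, Subgroup.map_commutator,
      Subgroup.map_top_of_surjective _ e.surjective]
  · rw [← hcard, ← hZ]
    exact Subgroup.card_map_of_injective e.injective

theorem det_eq_one {k : ℕ} {A : Matrix (Fin k) (Fin k) (ZMod 2)} (hA : IsUnit A.det) : A.det = 1 := by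
  rcases zero_or_one (ZMod.card 2) A.det with h | h
  · exact absurd h hA.ne_zero
  · exact h

theorem mext {k : ℕ} {A B : Matrix (Fin k) (Fin k) (ZMod 2)} (h : ∀ v, A *ᵥ v = B *ᵥ v) : A = B :=
  Matrix.toLin'.injective (LinearMap.ext h)

/-- The affine matrices. -/
def N {k : ℕ} (r : Fin k → ZMod 2) (A : Matrix (Fin k) (Fin k) (ZMod 2)) :
    Matrix (Fin (k + 1)) (Fin (k + 1)) (ZMod 2) :=
  Matrix.of (Fin.cons (Fin.cons 1 r) (fun i => Fin.cons 0 (A i)))

theorem N_mul {k : ℕ} (r r' : Fin k → ZMod 2) (A A' : Matrix (Fin k) (Fin k) (ZMod 2)) :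
    N r A * N r' A' = N (r' + r ᵥ* A') (A * A') := by
  ext i j
  refine Fin.cases ?_ (fun i => ?_) i <;> refine Fin.cases ?_ (fun j => ?_) j <;>
    simp [N, Matrix.mul_apply, Fin.sum_univ_succ, vecMul, dotProduct]

theorem det_N {k : ℕ} (r : Fin k → ZMod 2) (A : Matrix (Fin k) (Fin k) (ZMod 2)) : (N r A).det = A.det := by
  rw [det_succ_column_zero, Fin.sum_univ_succ]
  have h0 : ∀ i : Fin k, N r A i.succ 0 = 0 := fun i => by simp [N]
  simp only [h0, mul_zero, zero_mul, Finset.sum_const_zero, add_zero]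
  simp [N, submatrix]
  rfl

theorem N_inj {k : ℕ} {r r' : Fin k → ZMod 2} {A A' : Matrix (Fin k) (Fin k) (ZMod 2)} (h : N r A = N r' A') :
    r = r' ∧ A = A' :=
  ⟨funext fun j => by simpa [N] using congrFun (congrFun h 0) j.succ,
    Matrix.ext fun i j => by simpa [N] using congrFun (congrFun h i.succ) j.succ⟩

variable {G : Type*} [Group G] [Finite G]

theorem exists_embedding (n : ℕ) (U M : Subgroup G) [U.Normal] (hU : Cfsg.IsElementaryAbelian 2 U)
    (hUcard : Nat.card ↥U = 2 ^ (n + 1)) (hUM : U ⊓ M = ⊥) (hUM' : U ⊔ M = ⊤)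
    (hfaith : ∀ m ∈ M, (∀ u ∈ U, m * u * m⁻¹ = u) → m = 1)
    (hfull : ∀ φ : ↥U ≃* ↥U, ∃ m ∈ M, ∀ u : ↥U, ((φ u : ↥U) : G) = m * u * m⁻¹)
    (z : G) (hzU : z ∈ U) (hz1 : z ≠ 1) :
    ∃ f : G →* SpecialLinearGroup (Fin (n + 2)) (ZMod 2), Function.Injective f ∧ f z = z₀ (ZMod 2) n ∧
      Subgroup.centralizer ({z₀ (ZMod 2) n} : Set (SpecialLinearGroup (Fin (n + 2)) (ZMod 2))) ≤ f.range := by
  classical
  haveI : IsMulCommutative U := hU.1
  letI : CommGroup U := { (inferInstance : Group U) with mul_comm := fun a b => (hU.1.is_comm.comm a b) }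
  letI : Module (ZMod 2) (Additive U) := AddCommGroup.zmodModule fun a => by
    have := hU.2 a.toMul.1 a.toMul.2
    exact Additive.toMul.injective (Subtype.ext this)
  have hfin : Module.finrank (ZMod 2) (Additive U) = n + 1 := by
    have h := Module.natCard_eq_pow_finrank (K := ZMod 2) (V := Additive U)
    rw [Nat.card_congr Additive.toMul, hUcard, Nat.card_zmod] at h
    exact (Nat.pow_right_injective le_rfl h).symm
  obtain ⟨ψ₁, hψ₁⟩ : ∃ ψ : Additive U ≃ₗ[ZMod 2] (Fin (n + 1) → ZMod 2),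
      ψ (Additive.ofMul ⟨z, hzU⟩) = Pi.single 0 1 := by
    have hv : (Additive.ofMul (⟨z, hzU⟩ : U)) ≠ 0 := fun h => hz1 (congrArg Subtype.val (Additive.ofMul.injective h))
    have hli : LinearIndepOn (ZMod 2) id ({Additive.ofMul (⟨z, hzU⟩ : U)} : Set (Additive U)) :=
      LinearIndepOn.singleton hv
    let b := Module.Basis.extend hli
    have hmem : Additive.ofMul (⟨z, hzU⟩ : U) ∈ hli.extend (Set.subset_univ _) :=
      Module.Basis.subset_extend hli (Set.mem_singleton _)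
    haveI : Fintype (hli.extend (Set.subset_univ _)) := Fintype.ofFinite _
    let e₀ : hli.extend (Set.subset_univ _) ≃ Fin (n + 1) :=
      Fintype.equivFinOfCardEq (by rw [← Module.finrank_eq_card_basis b, hfin])
    let e₁ := e₀.trans (Equiv.swap (e₀ ⟨_, hmem⟩) 0)
    refine ⟨(b.reindex e₁).equivFun, ?_⟩
    have : (b.reindex e₁) 0 = Additive.ofMul (⟨z, hzU⟩ : U) := by
      rw [Module.Basis.reindex_apply, show e₁.symm 0 = ⟨_, hmem⟩ from e₁.symm_apply_eq.2 (by simp [e₁]),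
        Module.Basis.extend_apply_self]
    refine (congrArg (b.reindex e₁).equivFun this.symm).trans (funext fun j => ?_)
    rw [Module.Basis.equivFun_self, Pi.single_apply]
    exact if_congr eq_comm rfl rfl
  let ψ : U → (Fin (n + 1) → ZMod 2) := fun u => ψ₁ (Additive.ofMul u)
  have hψmul : ∀ u v : U, ψ (u * v) = ψ u + ψ v := fun u v => map_add ψ₁ (Additive.ofMul u) (Additive.ofMul v)
  have hψinj : Function.Injective ψ := ψ₁.injective.comp Additive.ofMul.injective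
  have hψsurj : Function.Surjective ψ := ψ₁.surjective.comp Additive.ofMul.surjective
  let cj : G → U → U := fun g u => ⟨g * u.1 * g⁻¹, ‹U.Normal›.conj_mem u.1 u.2 g⟩
  let T : G → Matrix (Fin (n + 1)) (Fin (n + 1)) (ZMod 2) := fun g => LinearMap.toMatrix' (AddMonoidHom.toZModLinearMap 2
    { toFun := fun r => ψ₁ (Additive.ofMul (cj g (ψ₁.symm r).toMul))
      map_zero' := by
        rw [map_zero, show cj g (0 : Additive U).toMul = 1 from Subtype.ext (show g * 1 * g⁻¹ = 1 by group),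
          ofMul_one, map_zero]
      map_add' := fun r r' => by
        rw [← map_add, map_add ψ₁.symm, ← ofMul_mul]
        refine congrArg ψ₁ (congrArg Additive.ofMul (Subtype.ext ?_))
        show g * ((ψ₁.symm r).toMul.1 * (ψ₁.symm r').toMul.1) * g⁻¹ = _ * _
        simp [cj, mul_assoc] })
  have hT : ∀ g u, T g *ᵥ ψ u = ψ (cj g u) := fun g u => by
    simp [T, ψ, LinearMap.toMatrix'_mulVec]
  have hTmul : ∀ g h, T (g * h) = T g * T h := fun g h => mext fun r => by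
    obtain ⟨u, rfl⟩ := hψsurj r
    rw [← mulVec_mulVec, hT, hT, hT]
    exact congrArg ψ (Subtype.ext (by simp [cj, mul_assoc]))
  have hT1 : T 1 = 1 := mext fun r => by
    obtain ⟨u, rfl⟩ := hψsurj r
    rw [hT, one_mulVec]
    exact congrArg ψ (Subtype.ext (by simp [cj]))
  let A : G → Matrix (Fin (n + 1)) (Fin (n + 1)) (ZMod 2) := fun g => (T g⁻¹)ᵀ
  have hA : ∀ g h, A (g * h) = A g * A h := fun g h => by
    simp only [A, _root_.mul_inv_rev, hTmul, transpose_mul]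
  have hA1 : A 1 = 1 := by simp [A, hT1]
  have hAdet : ∀ g, (A g).det = 1 := fun g => det_eq_one (by
    refine IsUnit.of_mul_eq_one (A g⁻¹).det ?_
    rw [← det_mul, ← hA, mul_inv_cancel, hA1, det_one])
  have hconjA : ∀ g u, ψ (cj g u) ᵥ* A g = ψ u := fun g u => by
    show ψ (cj g u) ᵥ* (T g⁻¹)ᵀ = ψ u
    rw [vecMul_transpose, hT]
    exact congrArg ψ (Subtype.ext (by simp [cj, mul_assoc]))
  -- decomposition
  have hdec : ∀ g : G, ∃ (u : U) (m : M), g = u.1 * m.1 := fun g => by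
    obtain ⟨u, hu, m, hm, h⟩ := Subgroup.mem_sup_of_normal_left.1 (hUM' ▸ Subgroup.mem_top g : g ∈ U ⊔ M)
    exact ⟨⟨u, hu⟩, ⟨m, hm⟩, h.symm⟩
  have huniq : ∀ (u u' : U) (m m' : M), u.1 * m.1 = u'.1 * m'.1 → u = u' ∧ m = m' := by
    intro u u' m m' h
    have h1 : u'.1⁻¹ * u.1 = m'.1 * m.1⁻¹ := by
      calc u'.1⁻¹ * u.1 = u'.1⁻¹ * (u.1 * m.1) * m.1⁻¹ := by group
        _ = u'.1⁻¹ * (u'.1 * m'.1) * m.1⁻¹ := by rw [h]
        _ = m'.1 * m.1⁻¹ := by group
    have h2 : u'.1⁻¹ * u.1 ∈ U ⊓ M :=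
      Subgroup.mem_inf.2 ⟨mul_mem (inv_mem u'.2) u.2, h1 ▸ mul_mem m'.2 (inv_mem m.2)⟩
    rw [hUM, Subgroup.mem_bot, inv_mul_eq_one] at h2
    exact ⟨Subtype.ext h2.symm, Subtype.ext (by rw [h2] at h; exact mul_left_cancel h)⟩
  choose uu mm hg using hdec
  let F : G → SpecialLinearGroup (Fin (n + 2)) (ZMod 2) := fun g =>
    ⟨N (ψ (uu g) ᵥ* A (mm g).1) (A (mm g).1), by rw [det_N, hAdet]⟩
  have hF : ∀ (u : U) (m : M), (F (u.1 * m.1)).1 = N (ψ u ᵥ* A m.1) (A m.1) := fun u m => by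
    obtain ⟨h1, h2⟩ := huniq _ _ _ _ (hg (u.1 * m.1))
    show N _ _ = _
    rw [← h1, ← h2]
  let f : G →* SpecialLinearGroup (Fin (n + 2)) (ZMod 2) := MonoidHom.mk' F fun g g' => by
    refine Subtype.ext ?_
    show (F (g * g')).1 = (F g).1 * (F g').1
    have : g * g' = (uu g * cj (mm g).1 (uu g') : U).1 * (mm g * mm g' : M).1 := by
      conv_lhs => rw [hg g, hg g']
      simp [cj, mul_assoc]
    rw [this, hF]
    show _ = N _ _ * N _ _
    rw [N_mul, show ((mm g * mm g' : M)).1 = (mm g).1 * (mm g').1 from rfl, hA, hψmul, add_vecMul,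
      ← vecMul_vecMul, ← vecMul_vecMul, hconjA]
    exact congrArg (N · _) (add_comm _ _)
  have hf : Function.Injective f := by
    rw [injective_iff_map_eq_one]
    intro g hg1
    have h1 : N (ψ (uu g) ᵥ* A (mm g).1) (A (mm g).1) = N 0 1 := by
      have := congrArg Subtype.val hg1
      refine this.trans ?_
      show (1 : Matrix (Fin (n + 2)) (Fin (n + 2)) (ZMod 2)) = N 0 1
      ext i j
      refine Fin.cases ?_ (fun i => ?_) i <;> refine Fin.cases ?_ (fun j => ?_) j <;>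
        simp [N, Matrix.one_apply, Fin.succ_ne_zero]
      exact fun h => absurd h (Fin.succ_ne_zero _).symm
    obtain ⟨h2, h3⟩ := N_inj h1
    rw [h3, vecMul_one] at h2
    have hm : (mm g).1 = 1 := by
      refine inv_eq_one.1 (hfaith _ (inv_mem (mm g).2) fun u hu => ?_)
      have h4 : T (mm g).1⁻¹ = 1 := by
        have := congrArg transpose h3
        simpa [A] using this
      have h5 := hT (mm g).1⁻¹ ⟨u, hu⟩
      rw [h4, one_mulVec] at h5
      exact (congrArg Subtype.val (hψinj h5)).symm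
    have hu : uu g = 1 := hψinj (h2.trans (map_zero ψ₁).symm)
    rw [hg g, hm, hu, mul_one]; rfl
  refine ⟨f, hf, ?_, fun x hx => ?_⟩
  · refine Subtype.ext ?_
    show (F z).1 = _
    conv_lhs => rw [show z = (⟨z, hzU⟩ : U).1 * (1 : M).1 from (mul_one z).symm]
    rw [hF, OneMemClass.coe_one, hA1, vecMul_one, z₀_coe, show ψ ⟨z, hzU⟩ = Pi.single 0 1 from hψ₁]
    ext i j
    refine Fin.cases ?_ (fun i => Fin.cases ?_ (fun i => ?_) i) i <;>
      refine Fin.cases ?_ (fun j => Fin.cases ?_ (fun j => ?_) j) j <;>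
      simp [N, transvection, Matrix.one_apply, Matrix.single, Fin.ext_iff]
  · obtain ⟨c, a, b, K, rfl⟩ := exists_el (ZMod.card 2) x hx
    set r : Fin (n + 1) → ZMod 2 := Fin.cons c a
    set B : Matrix (Fin (n + 1)) (Fin (n + 1)) (ZMod 2) := Matrix.of (Fin.cons (Fin.cons 1 0) (fun i => Fin.cons (b i) (K.1 i)))
    have hrB : (el c a b K).1 = N r B := by
      ext i j
      refine Fin.cases ?_ (fun i => ?_) i <;> refine Fin.cases ?_ (fun j => ?_) j
      · rfl
      · rfl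
      · refine Fin.cases ?_ (fun i => ?_) i <;> rfl
      · refine Fin.cases ?_ (fun i => ?_) i <;> rfl
    have hB : IsUnit B.det := by
      rw [← det_N r B, ← hrB, (el c a b K).2]; exact isUnit_one
    let L : (Fin (n + 1) → ZMod 2) ≃ₗ[ZMod 2] (Fin (n + 1) → ZMod 2) :=
      Matrix.toLinearEquiv' Bᵀ (Matrix.invertibleOfIsUnitDet _ (by rwa [det_transpose]))
    let φ : U ≃* U :=
      { toFun := fun u => (ψ₁.symm (L (ψ u))).toMul
        invFun := fun u => (ψ₁.symm (L.symm (ψ u))).toMul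
        left_inv := fun u => by simp [ψ]
        right_inv := fun u => by simp [ψ]
        map_mul' := fun u v => by rw [hψmul, map_add, map_add]; rfl }
    obtain ⟨m, hm, hmφ⟩ := hfull φ
    have hAm : A m⁻¹ = B := by
      show (T m⁻¹⁻¹)ᵀ = B
      rw [inv_inv, ← transpose_transpose B]
      refine congrArg transpose (mext fun r => ?_)
      obtain ⟨u, rfl⟩ := hψsurj r
      rw [hT, show cj m u = φ u from Subtype.ext (hmφ u).symm]
      simp [φ, ψ, L, Matrix.toLinearEquiv', mulVec_transpose]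
    obtain ⟨u, hu⟩ := hψsurj (r ᵥ* B⁻¹)
    refine ⟨u.1 * m⁻¹, Subtype.ext ?_⟩
    show (F (u.1 * (⟨m⁻¹, inv_mem hm⟩ : M).1)).1 = _
    rw [hF, hrB, hAm, hu, vecMul_vecMul, Matrix.nonsing_inv_mul _ hB, vecMul_one]

theorem result (n : ℕ) (hn : 1 ≤ n) (U M : Subgroup G) [U.Normal] (hU : Cfsg.IsElementaryAbelian 2 U)
    (hUcard : Nat.card ↥U = 2 ^ (n + 1)) (hUM : U ⊓ M = ⊥) (hUM' : U ⊔ M = ⊤)
    (hfaith : ∀ m ∈ M, (∀ u ∈ U, m * u * m⁻¹ = u) → m = 1)
    (hfull : ∀ φ : ↥U ≃* ↥U, ∃ m ∈ M, ∀ u : ↥U, ((φ u : ↥U) : G) = m * u * m⁻¹)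
    (Z : Subgroup G) (hZU : Z ≤ U) (hZ : Nat.card ↥Z = 2) (Q : Subgroup G)
    (hQ : Q = (Cfsg.pCore 2 ↥(Subgroup.centralizer (Z : Set G))).map (Subgroup.centralizer (Z : Set G)).subtype) :
    Cfsg.IsExtraspecial 2 ↥Q ∧ Nat.card ↥Q = 2 ^ (2 * n + 1) ∧
      (∃ E : Subgroup G, E ≤ Q ∧ Cfsg.IsElementaryAbelian 2 E ∧ Nat.card ↥E = 2 ^ (n + 1)) ∧
      Cfsg.IsLargeExtraspecial Q ∧ ∃ K : Subgroup G, K ≤ Subgroup.centralizer (Z : Set G) ∧ Q ⊓ K = ⊥ ∧
        Q ⊔ K = Subgroup.centralizer (Z : Set G) ∧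
        Nonempty (↥K ≃* Matrix.GeneralLinearGroup (Fin n) (ZMod 2)) := by
  classical
  have hF := ZMod.card 2
  haveI : Fact (Nat.Prime 2) := ⟨Nat.prime_two⟩
  haveI : Nontrivial Z := Finite.one_lt_card_iff_nontrivial.1 (by omega)
  obtain ⟨⟨z, hz⟩, hz1⟩ := exists_ne (1 : Z)
  have hz1' : z ≠ 1 := fun h => hz1 (Subtype.ext h)
  obtain ⟨f, hf, hfz, hrange⟩ := exists_embedding n U M hU hUcard hUM hUM' hfaith hfull z (hZU hz) hz1'
  have hZz : Subgroup.zpowers z = Z := Subgroup.eq_of_le_of_card_ge (Subgroup.zpowers_le.2 hz) (by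
    rw [hZ, Nat.card_zpowers, orderOf_eq_prime (hU.2 z (hZU hz)) hz1'])
  set C := Subgroup.centralizer (Z : Set G) with hC
  have hCz : C = Subgroup.centralizer ({z} : Set G) := by
    rw [hC, ← hZz, Subgroup.zpowers_eq_closure, Subgroup.centralizer_closure]
  have hCmap : C.map f = Subgroup.centralizer ({z₀ (ZMod 2) n} : Set (SpecialLinearGroup (Fin (n + 2)) (ZMod 2))) := by
    refine le_antisymm ?_ fun x hx => ?_
    · rintro _ ⟨g, hg, rfl⟩
      rw [SetLike.mem_coe, hCz, Subgroup.mem_centralizer_singleton_iff] at hg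
      rw [Subgroup.mem_centralizer_singleton_iff, ← hfz, ← map_mul, ← map_mul, hg]
    · obtain ⟨g, rfl⟩ := hrange hx
      refine ⟨g, ?_, rfl⟩
      rw [Subgroup.mem_centralizer_singleton_iff, ← hfz, ← map_mul, ← map_mul] at hx
      rw [SetLike.mem_coe, hCz, Subgroup.mem_centralizer_singleton_iff]
      exact hf hx
  have hle : ∀ S : Subgroup (SpecialLinearGroup (Fin (n + 2)) (ZMod 2)),
      S ≤ Subgroup.centralizer ({z₀ (ZMod 2) n} : Set (SpecialLinearGroup (Fin (n + 2)) (ZMod 2))) →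
      (S.comap f).map f = S := fun S hS => Subgroup.map_comap_eq_self (hS.trans hrange)
  have hleC : ∀ S : Subgroup (SpecialLinearGroup (Fin (n + 2)) (ZMod 2)),
      S ≤ Subgroup.centralizer ({z₀ (ZMod 2) n} : Set (SpecialLinearGroup (Fin (n + 2)) (ZMod 2))) →
      S.comap f ≤ C := fun S hS => by
    rw [← Subgroup.map_le_map_iff_of_injective hf, hle S hS, hCmap]; exact hS
  let e := (C.equivMapOfInjective f hf).trans (MulEquiv.subgroupCongr hCmap)
  have hQ' : Q = (Q₀ (ZMod 2) n).comap f := by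
    refine Subgroup.map_injective hf ?_
    rw [hle _ Q₀_le, hQ, Subgroup.map_map, ← Subgroup.map_subgroupOf_eq_of_le (Q₀_le (F := ZMod 2) (m := n)),
      ← pCore_centralizer hF, ← Core.pCore_map_equiv e, Subgroup.map_map]
    congr 1
  let eQ : Q ≃* Q₀ (ZMod 2) n := (Q.equivMapOfInjective f hf).trans
    (MulEquiv.subgroupCongr (by rw [hQ', hle _ Q₀_le]))
  obtain ⟨E, hEQ, hE, hEcard⟩ := exists_elementary (m := n) hF
  obtain ⟨K, hK, hQK, hQK', ⟨eK⟩⟩ := split (m := n) hF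
  obtain ⟨-, hcent, -, hodd⟩ := isLarge (m := n) hF hn
  have hQC : Q ≤ C := hQ' ▸ hleC _ Q₀_le
  have hzQ : z ∈ Q := by rw [hQ', Subgroup.mem_comap, hfz]; exact z₀_mem
  have hcentQ : Subgroup.centralizer (Q : Set G) = Subgroup.zpowers z := by
    refine Subgroup.map_injective hf (le_antisymm ?_ ?_)
    · rintro _ ⟨g, hg, rfl⟩
      rw [MonoidHom.map_zpowers, hfz, ← centralizer_Q₀ hF]
      intro y hy
      obtain ⟨y, rfl⟩ := hrange (Q₀_le hy)
      rw [← map_mul, ← map_mul, hg y (by rw [SetLike.mem_coe, hQ']; exact hy)]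
    · rintro _ ⟨g, hg, rfl⟩
      refine ⟨g, fun y hy => hf ?_, rfl⟩
      have h1 : f g ∈ Subgroup.centralizer (Q₀ (ZMod 2) n : Set (SpecialLinearGroup (Fin (n + 2)) (ZMod 2))) := by
        rw [centralizer_Q₀ hF, ← hfz, ← MonoidHom.map_zpowers]; exact Subgroup.mem_map_of_mem f hg
      rw [map_mul, map_mul]
      exact h1 _ (by rw [SetLike.mem_coe, hQ'] at hy; exact hy)
  have hcenterQ : (Subgroup.center Q).map Q.subtype = Subgroup.zpowers z := by
    rw [← hcentQ]
    refine le_antisymm ?_ fun g hg => ?_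
    · rintro _ ⟨x, hx, rfl⟩ y hy
      exact congrArg Subtype.val (Subgroup.mem_center_iff.1 hx ⟨y, hy⟩)
    · exact ⟨⟨g, Subgroup.zpowers_le.2 hzQ (hcentQ ▸ hg)⟩,
        Subgroup.mem_center_iff.2 fun y => Subtype.ext (hg y.1 y.2), rfl⟩
  refine ⟨isExtraspecial_congr eQ.symm (isExtraspecial_Q₀ hF hn), (Nat.card_congr eQ.toEquiv).trans (card_Q₀ hF),
    ⟨E.comap f, hQ' ▸ Subgroup.comap_mono hEQ, ⟨⟨⟨fun a b => Subtype.ext (hf ?_)⟩⟩, fun a ha => hf ?_⟩, ?_⟩,
    ⟨isExtraspecial_congr eQ.symm (isExtraspecial_Q₀ hF hn), hcentQ.trans hcenterQ.symm, ?_, ?_⟩,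
    K.comap f, hleC K hK, ?_, ?_, ?_⟩
  · show f (a.1 * b.1) = f (b.1 * a.1)
    rw [map_mul, map_mul]
    exact congrArg Subtype.val (hE.1.is_comm.comm ⟨_, a.2⟩ ⟨_, b.2⟩)
  · rw [map_pow, map_one]; exact hE.2 _ ha
  · rw [← hEcard]
    exact (Subgroup.card_map_of_injective hf).symm.trans (by rw [hle E (hEQ.trans Q₀_le)])
  · rw [hcenterQ, hZz, ← hC]
    have : (Q.subgroupOf C).Normal := by
      have h : Q.subgroupOf C = Cfsg.pCore 2 C := by
        rw [hQ]; exact Subgroup.comap_map_eq_self_of_injective C.subtype_injective _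
      rw [h]; infer_instance
    exact (Subgroup.normal_subgroupOf_iff_le_normalizer hQC).1 this
  · intro L hL hQL
    refine (Subgroup.map_eq_bot_iff_of_injective L hf).1 (hodd (L.map f)
      (by rwa [Subgroup.card_map_of_injective hf]) fun x hx => ?_)
    obtain ⟨x, rfl⟩ := hrange (Q₀_le hx)
    exact Subgroup.le_normalizer_map f ⟨x, hQL (hQ' ▸ hx), rfl⟩
  · rw [hQ', ← Subgroup.comap_inf, hQK]
    exact (MonoidHom.comap_bot f).trans ((MonoidHom.ker_eq_bot_iff f).2 hf)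
  · refine Subgroup.map_injective hf ?_
    rw [Subgroup.map_sup, hle K hK, hQ', hle _ Q₀_le, hQK', hCmap]
  · let e₁ : ↥(K.comap f) ≃* SpecialLinearGroup (Fin n) (ZMod 2) :=
      (((K.comap f).equivMapOfInjective f hf).trans (MulEquiv.subgroupCongr (hle K hK))).trans eK
    have hsurj : Function.Surjective (SpecialLinearGroup.toGL : SpecialLinearGroup (Fin n) (ZMod 2) →* GL (Fin n) (ZMod 2)) :=
      fun g => ⟨⟨g.1, det_eq_one ((Matrix.isUnit_iff_isUnit_det _).1 g.isUnit)⟩, Units.ext rfl⟩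
    exact ⟨e₁.trans (MulEquiv.ofBijective SpecialLinearGroup.toGL ⟨SpecialLinearGroup.toGL_injective, hsurj⟩)⟩

end Cfsg.Agent.Linear.AffineTwo
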