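import Mathlib

/-!
# Orders of elements commuting with an element of order `p` in `PSL_n(q)`
-/

set_option autoImplicit false
set_option linter.unusedSectionVars false

namespace Cfsg.Agent.Linear.CommuteUnipotent

open Module (finrank)

variable {F : Type*} [Field F] [Fintype F]

theorem dvd_card_GL_mono {r j m : ℕ} (hr : r.Prime) (hjm : j ≤ m)
    (h : r ∣ Nat.card (GL (Fin j) F)) : r ∣ Nat.card (GL (Fin m) F) := by
  classical
  rw [Matrix.card_GL_field] at h ⊢
  obtain ⟨i, -, hi⟩ := (Prime.dvd_finsetProd_iff hr.prime _).1 h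
  set k := j - (i : ℕ) with hk
  refine dvd_trans ?_ (Finset.dvd_prod_of_mem _ (Finset.mem_univ (⟨m - k, by omega⟩ : Fin m)))
  have e : ∀ a b, b ≤ a → Fintype.card F ^ a - Fintype.card F ^ b =
      Fintype.card F ^ b * (Fintype.card F ^ (a - b) - 1) := fun a b hab => by
    rw [Nat.mul_sub, mul_one, ← pow_add, Nat.add_sub_cancel' hab]
  rw [e j i i.2.le, ← hk] at hi
  show r ∣ Fintype.card F ^ m - Fintype.card F ^ (m - k)
  rw [e m (m - k) (Nat.sub_le _ _), show m - (m - k) = k by omega]
  rcases hr.dvd_mul.1 hi with h1 | h1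
  · by_cases hmk : m - k = 0
    · -- then `j = m` and `i = 0`
      have : (i : ℕ) = 0 := by omega
      rw [this, pow_zero] at h1
      exact absurd h1 hr.not_dvd_one
    · exact dvd_mul_of_dvd_left (dvd_pow (hr.dvd_of_dvd_pow h1) hmk) _
  · exact dvd_mul_of_dvd_right h1 _

theorem dvd_card_SL {r m : ℕ} (hr : r.Prime) (hm : 2 ≤ m) (h : r ∣ Nat.card (GL (Fin m) F)) :
    r ∣ Nat.card (Matrix.SpecialLinearGroup (Fin m) F) := by
  classical
  have hcard : Nat.card (GL (Fin m) F) = Nat.card (Matrix.GeneralLinearGroup.det : GL (Fin m) F →* Fˣ).ker *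
      Nat.card (Matrix.GeneralLinearGroup.det : GL (Fin m) F →* Fˣ).range := by
    rw [← Subgroup.index_ker, Subgroup.card_mul_index]
  let i0 : Fin m := ⟨0, by omega⟩
  let i1 : Fin m := ⟨1, by omega⟩
  have h01 : i0 ≠ i1 := by simp [i0, i1]
  let e : Matrix.SpecialLinearGroup (Fin m) F → (Matrix.GeneralLinearGroup.det : GL (Fin m) F →* Fˣ).ker := fun g =>
    ⟨Matrix.SpecialLinearGroup.toGL g, by rw [MonoidHom.mem_ker]; exact Units.ext g.2⟩
  have he : Function.Bijective e :=
    ⟨fun a b hab => Matrix.SpecialLinearGroup.toGL_injective (congrArg Subtype.val hab),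
      fun g => ⟨⟨g.1.1, congrArg Units.val (MonoidHom.mem_ker.1 g.2)⟩, Subtype.ext (Units.ext rfl)⟩⟩
  rw [hcard, ← Nat.card_congr (Equiv.ofBijective e he)] at h
  rcases hr.dvd_mul.1 h with h1 | h1
  · exact h1
  refine (h1.trans (Subgroup.card_subgroup_dvd_card _)).trans ?_
  let δ : Fˣ → Fin m → F := fun u => Function.update (Function.update (fun _ => (1 : F)) i0 (u : F)) i1 (↑u⁻¹ : F)
  have hδ : ∀ u, (Matrix.diagonal (δ u)).det = 1 := fun u => by
    rw [Matrix.det_diagonal, Finset.prod_update_of_mem (Finset.mem_univ _),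
      Finset.prod_update_of_mem (by simp [h01])]
    simp
  have hmul : ∀ u v j, δ (u * v) j = δ u j * δ v j := fun u v j => by
    simp only [δ, Function.update_apply]
    split_ifs <;> simp [mul_comm]
  let d : Fˣ →* Matrix.SpecialLinearGroup (Fin m) F :=
    MonoidHom.mk' (fun u => ⟨Matrix.diagonal (δ u), hδ u⟩) fun u v => Subtype.ext (by
      show Matrix.diagonal _ = Matrix.diagonal _ * Matrix.diagonal _
      rw [Matrix.diagonal_mul_diagonal, funext (hmul u v)])
  refine Subgroup.card_dvd_of_injective d fun u v huv => ?_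
  have h := congrArg (fun g : Matrix.SpecialLinearGroup (Fin m) F => g.1 i0 i0) huv
  simp [d, δ, h01, MonoidHom.mk'_apply] at h
  exact Units.ext h

variable {r : ℕ} (hr : r.Prime) {d : ℕ}
  (hbig : ∀ j ≤ d, ¬ r ∣ Nat.card (GL (Fin j) F))

include hr hbig in
theorem eq_one_of_small {M : Type*} [AddCommGroup M] [Module F M] [FiniteDimensional F M] (hM : finrank F M ≤ d)
    (f : Module.End F M) (hf : f ^ r = 1) : f = 1 := by
  classical
  haveI : Finite M := Module.finite_of_finite F
  let u : (Module.End F M)ˣ := Units.ofPowEqOne f r hf hr.ne_zero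
  let e : (Module.End F M)ˣ ≃* GL (Fin (finrank F M)) F :=
    Units.mapEquiv (LinearMap.toMatrixAlgEquiv (Module.finBasis F M)).toMulEquiv
  have h1 : (e u) ^ r = 1 := by
    rw [← map_pow, show u ^ r = 1 from Units.ext hf, map_one]
  have h2 := orderOf_dvd_of_pow_eq_one h1
  rcases hr.eq_one_or_self_of_dvd _ h2 with h3 | h3
  · rw [orderOf_eq_one_iff, map_eq_one_iff e e.injective] at h3
    exact congrArg Units.val h3
  · exact absurd (h3 ▸ orderOf_dvd_natCard (e u)) (hbig _ hM)

variable {n : ℕ}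

local notation "Vn" => (Fin n → F)

include hr hbig in
theorem trivial_on_layer {g : Module.End F Vn} (hg : g ^ r = 1) {W W' : Submodule F Vn}
    (hW : ∀ x ∈ W, g x ∈ W) (hle : W' ≤ W) (hdim : finrank F W ≤ finrank F W' + d)
    (hfix : ∀ x ∈ W', g x = x) : ∀ x ∈ W, g x - x ∈ W' := by
  set P := W'.comap W.subtype with hP
  let gW : Module.End F W := g.restrict hW
  have hPle : P ≤ P.comap gW := fun x hx => by
    show g (x : Vn) ∈ W'
    rw [hfix (x : Vn) hx]; exact hx
  let q : Module.End F (W ⧸ P) := P.mapQ P gW hPle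
  have hq : q ^ r = 1 := by
    refine LinearMap.ext fun y => ?_
    obtain ⟨x, rfl⟩ := Submodule.Quotient.mk_surjective P y
    have : ∀ k : ℕ, (q ^ k) (Submodule.Quotient.mk x) = Submodule.Quotient.mk ((gW ^ k) x) := fun k => by
      induction k with
      | zero => simp
      | succ k ih => rw [pow_succ', pow_succ', Module.End.mul_apply, Module.End.mul_apply, ih]; rfl
    rw [this, Module.End.one_apply]
    congr 1
    refine Subtype.ext ?_
    rw [Module.End.pow_restrict r, LinearMap.restrict_coe_apply, hg, Module.End.one_apply]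
  have hd : finrank F (W ⧸ P) ≤ d := by
    have h1 := P.finrank_quotient_add_finrank
    have h2 : finrank F P = finrank F W' := (Submodule.comapSubtypeEquivOfLe hle).finrank_eq
    omega
  have := eq_one_of_small hr hbig hd q hq
  intro x hx
  have h := LinearMap.congr_fun this (Submodule.Quotient.mk ⟨x, hx⟩)
  rw [Module.End.one_apply] at h
  exact (Submodule.Quotient.eq P).1 h

theorem fix_of_shift {g : Module.End F Vn} (hg : g ^ r = 1) (hrF : (r : F) ≠ 0) {x : Vn}
    (h : g (g x - x) = g x - x) : g x = x := by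
  have : ∀ k : ℕ, (g ^ k) x = x + (k : F) • (g x - x) := fun k => by
    induction k with
    | zero => simp
    | succ k ih =>
      rw [pow_succ', Module.End.mul_apply, ih, map_add, map_smul, h, Nat.cast_succ, add_smul, one_smul]
      abel
  have h' := this r
  rw [hg, Module.End.one_apply, left_eq_add, smul_eq_zero] at h'
  exact sub_eq_zero.1 (h'.resolve_left hrF)

theorem core (hn : 4 ≤ n) (hbig' : ∀ j ≤ n - 2, ¬ r ∣ Nat.card (GL (Fin j) F)) (hr' : r.Prime)
    (hrF : (r : F) ≠ 0) {g N : Module.End F Vn} (hg : g ^ r = 1) (hgN : Commute g N) (hN0 : N ≠ 0)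
    (hNnil : IsNilpotent N) : g = 1 := by
  classical
  set K := LinearMap.ker N with hK
  set R := LinearMap.range N with hR
  have hgN' : ∀ x, g (N x) = N (g x) := fun x => LinearMap.congr_fun hgN.eq x
  have hgK : ∀ x ∈ K, g x ∈ K := fun x hx => by
    rw [hK, LinearMap.mem_ker] at hx ⊢; rw [← hgN', hx, map_zero]
  have hgR : ∀ x ∈ R, g x ∈ R := by rintro _ ⟨x, rfl⟩; exact ⟨g x, (hgN' x).symm⟩
  have hdim := LinearMap.finrank_range_add_finrank_ker N
  rw [Module.finrank_fin_fun, ← hK, ← hR] at hdim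
  have hRpos : 1 ≤ finrank F R := Submodule.one_le_finrank_iff.2 fun h => hN0 (LinearMap.range_eq_bot.1 h)
  -- a nilpotent map meets its kernel on every non-zero invariant subspace
  have hmeet : ∀ W : Submodule F Vn, (∀ x ∈ W, N x ∈ W) → W ≠ ⊥ → K ⊓ W ≠ ⊥ := fun W hW hW0 h => by
    obtain ⟨x, hx, hx0⟩ := Submodule.exists_mem_ne_zero_of_ne_bot hW0
    obtain ⟨m, hm⟩ := hNnil
    have : ∀ j : ℕ, (N ^ j) x ∈ W ∧ (N ^ j) x ≠ 0 := fun j => by
      induction j with
      | zero => exact ⟨hx, hx0⟩
      | succ j ih =>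
        rw [pow_succ', Module.End.mul_apply]
        refine ⟨hW _ ih.1, fun h0 => ih.2 ?_⟩
        have : (N ^ j) x ∈ K ⊓ W := ⟨h0, ih.1⟩
        rwa [h, Submodule.mem_bot] at this
    exact (this m).2 (by rw [hm]; rfl)
  have hNR : ∀ x ∈ R, N x ∈ R := fun x _ => ⟨x, rfl⟩
  have hKR := hmeet R hNR (fun h => hN0 (LinearMap.range_eq_bot.1 h))
  have hKpos : 1 ≤ finrank F K := Submodule.one_le_finrank_iff.2 fun h => hKR (by rw [h, bot_inf_eq])
  have lift : ∀ W : Submodule F Vn, (∀ x ∈ W, g x = x) → ∀ x, N (g x - x) = 0 → (K ≤ W) → g x = x :=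
    fun W hW x hx hle => fix_of_shift hg hrF (hW _ (hle (LinearMap.mem_ker.2 hx)))
  have hK1R : finrank F R ≤ n - 2 ∨ finrank F K = 1 := by omega
  -- the range is fixed
  have hRfix : ∀ x ∈ R, g x = x := by
    rcases hK1R with h | h
    · intro x hx
      have := trivial_on_layer hr' hbig' hg hgR bot_le (by rw [finrank_bot, zero_add]; exact h)
        (fun y hy => by rw [(Submodule.mem_bot F).1 hy, map_zero]) x hx
      exact sub_eq_zero.1 ((Submodule.mem_bot F).1 this)
    · have hKR' : K ⊓ R = K := Submodule.eq_of_le_of_finrank_le inf_le_left (by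
        rw [h]; exact Submodule.one_le_finrank_iff.2 hKR)
      have hKfix : ∀ x ∈ K, g x = x := fun x hx => by
        have := trivial_on_layer hr' hbig' hg hgK bot_le (by rw [finrank_bot, zero_add]; omega)
          (fun y hy => by rw [(Submodule.mem_bot F).1 hy, map_zero]) x hx
        exact sub_eq_zero.1 ((Submodule.mem_bot F).1 this)
      intro x hx
      refine fix_of_shift hg hrF (hKfix _ ?_)
      have hle : K ≤ R := inf_eq_left.1 hKR'
      have := trivial_on_layer hr' hbig' hg hgR hle (by omega) hKfix x hx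
      exact this
  -- the kernel is fixed
  have hKfix : ∀ x ∈ K, g x = x := by
    by_cases h : finrank F K ≤ n - 2
    · intro x hx
      have := trivial_on_layer hr' hbig' hg hgK bot_le (by rw [finrank_bot, zero_add]; exact h)
        (fun y hy => by rw [(Submodule.mem_bot F).1 hy, map_zero]) x hx
      exact sub_eq_zero.1 ((Submodule.mem_bot F).1 this)
    · have hle : R ≤ K := by
        have h1 : finrank F R = 1 := by omega
        exact inf_eq_right.1 (Submodule.eq_of_le_of_finrank_le inf_le_right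
          (by rw [h1]; exact Submodule.one_le_finrank_iff.2 hKR))
      intro x hx
      refine fix_of_shift hg hrF (hRfix _ ?_)
      exact trivial_on_layer hr' hbig' hg hgK hle (by omega) hRfix x hx
  refine LinearMap.ext fun x => ?_
  rw [Module.End.one_apply]
  refine lift K hKfix x ?_ le_rfl
  rw [map_sub, ← hgN', hRfix _ ⟨x, rfl⟩, sub_self]

variable {p : ℕ} [Fact p.Prime] [CharP F p]

theorem prime_factor (hn : 4 ≤ n) (a b : Matrix.ProjectiveSpecialLinearGroup (Fin n) F) (ha : orderOf a = p)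
    (hab : Commute a b) :
    (orderOf b).primeFactors ⊆ (Nat.card (Matrix.SpecialLinearGroup (Fin (n - 2)) F)).primeFactors := by
  classical
  intro r hr
  have hrp := Nat.prime_of_mem_primeFactors hr
  refine Nat.mem_primeFactors.2 ⟨hrp, dvd_card_SL hrp (by omega) ?_, Nat.card_pos.ne'⟩
  have hp : p.Prime := Fact.out
  -- the characteristic
  have hpdvd : p ∣ Fintype.card F := by
    obtain ⟨f, -, hf⟩ := FiniteField.card F p
    rw [hf]; exact dvd_pow_self p f.pos.ne'
  by_cases hrp' : r = p
  · subst hrp'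
    rw [Matrix.card_GL_field]
    refine dvd_trans ?_ (Finset.dvd_prod_of_mem _ (Finset.mem_univ (⟨1, by omega⟩ : Fin (n - 2))))
    exact Nat.dvd_sub (dvd_pow hpdvd (by omega)) (dvd_pow hpdvd one_ne_zero)
  by_contra hnot
  have hbig : ∀ j ≤ n - 2, ¬ r ∣ Nat.card (GL (Fin j) F) := fun j hj h => hnot (dvd_card_GL_mono hrp hj h)
  have hrF : (r : F) ≠ 0 := fun h => hrp' ((Nat.prime_dvd_prime_iff_eq hp hrp).1 ((CharP.cast_eq_zero_iff F p r).1 h)).symm
  obtain ⟨A, rfl⟩ := QuotientGroup.mk_surjective a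
  obtain ⟨B, rfl⟩ := QuotientGroup.mk_surjective b
  haveI : Nonempty (Fin n) := ⟨⟨0, by omega⟩⟩
  have hscal : ∀ X : Matrix.SpecialLinearGroup (Fin n) F, X ∈ Subgroup.center _ → ∃ c : F, X.1 = c • 1 := fun X hX => by
    obtain ⟨c, -, hc⟩ := Matrix.SpecialLinearGroup.mem_center_iff.1 hX
    exact ⟨c, by rw [← hc, Matrix.scalar_apply, Matrix.smul_one_eq_diagonal]⟩
  have hAp : A ^ p ∈ Subgroup.center (Matrix.SpecialLinearGroup (Fin n) F) := by
    have h := pow_orderOf_eq_one (QuotientGroup.mk A : Matrix.ProjectiveSpecialLinearGroup (Fin n) F)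
    rw [ha, ← QuotientGroup.mk_pow, QuotientGroup.eq_one_iff] at h
    exact h
  obtain ⟨c, hc⟩ := hscal _ hAp
  -- scale to a unipotent
  obtain ⟨f, -, hf⟩ := FiniteField.card F p
  let v := c ^ (p ^ ((f : ℕ) - 1))
  have hv : v ^ p = c := by
    show (c ^ (p ^ ((f : ℕ) - 1))) ^ p = c
    rw [← pow_mul, ← pow_succ, Nat.sub_add_cancel f.pos, ← hf, FiniteField.pow_card]
  have hc0 : c ≠ 0 := fun h => by
    have := (A ^ p).2
    rw [hc, h, zero_smul, Matrix.det_zero] at this
    exact zero_ne_one this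
  have hv0 : v ≠ 0 := fun h => hc0 (by rw [← hv, h, zero_pow hp.ne_zero])
  let E : Matrix (Fin n) (Fin n) F ≃ₐ[F] Module.End F Vn := Matrix.toLinAlgEquiv'
  haveI : CharP (Matrix (Fin n) (Fin n) F) p := Matrix.charP p
  set U := v⁻¹ • A.1 - 1 with hU
  have hUp : U ^ p = 0 := by
    rw [hU, sub_pow_char_of_commute _ (Commute.one_right _), one_pow, smul_pow,
      ← Matrix.SpecialLinearGroup.coe_pow, hc, smul_smul, inv_pow, hv, inv_mul_cancel₀ hc0, one_smul, sub_self]
  have hU0 : U ≠ 0 := fun h => by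
    rw [hU, sub_eq_zero] at h
    have hA : A.1 = v • 1 := by rw [← h, smul_smul, mul_inv_cancel₀ hv0, one_smul]
    have hdet := A.2
    rw [hA, Matrix.det_smul, Matrix.det_one, mul_one, Fintype.card_fin] at hdet
    have : (QuotientGroup.mk A : Matrix.ProjectiveSpecialLinearGroup (Fin n) F) = 1 := (QuotientGroup.eq_one_iff _).2
      (Matrix.SpecialLinearGroup.mem_center_iff.2 ⟨v, by rw [Fintype.card_fin]; exact hdet, by
        rw [hA, Matrix.scalar_apply, Matrix.smul_one_eq_diagonal]⟩)
    rw [this, orderOf_one] at ha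
    exact hp.one_lt.ne ha
  -- the commutator is trivial
  obtain ⟨z, hz⟩ : ∃ z : F, A.1 * B.1 = z • (B.1 * A.1) := by
    have h : (B * A)⁻¹ * (A * B) ∈ Subgroup.center (Matrix.SpecialLinearGroup (Fin n) F) := by
      rw [← QuotientGroup.eq, QuotientGroup.mk_mul, QuotientGroup.mk_mul]
      exact hab.symm.eq
    obtain ⟨z, hz⟩ := hscal _ h
    refine ⟨z, ?_⟩
    have h' : A * B = (B * A) * ((B * A)⁻¹ * (A * B)) := by group
    rw [← Matrix.SpecialLinearGroup.coe_mul, h', Matrix.SpecialLinearGroup.coe_mul, hz, Matrix.mul_smul, mul_one,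
      Matrix.SpecialLinearGroup.coe_mul]
  have hcomm : U * B.1 = B.1 * U := by
    have h1 : (U + 1) * B.1 = z • (B.1 * (U + 1)) := by
      rw [hU, sub_add_cancel, Matrix.smul_mul, hz, Matrix.mul_smul, smul_comm]
    -- both sides are conjugate unipotents, so the scalar is one
    let Bu : GL (Fin n) F := Matrix.SpecialLinearGroup.toGL B
    have hBu : (Bu : Matrix (Fin n) (Fin n) F) = B.1 := rfl
    have h2 : (Bu⁻¹ : GL (Fin n) F).1 * (U + 1) * Bu.1 = z • (U + 1) := by
      rw [mul_assoc, hBu, h1, Matrix.mul_smul, ← mul_assoc, ← hBu, Units.inv_mul, one_mul]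
    have h3 : ((z • (U + 1)) : Matrix (Fin n) (Fin n) F) ^ p = 1 := by
      rw [← h2, Units.conj_pow', add_pow_char_of_commute _ (Commute.one_right _), hUp, zero_add, one_pow, mul_one,
        Units.inv_mul]
    rw [smul_pow, add_pow_char_of_commute _ (Commute.one_right _), hUp, zero_add, one_pow] at h3
    have hz1 : z ^ p = 1 := by simpa using congrFun (congrFun h3 ⟨0, by omega⟩) ⟨0, by omega⟩
    have hz' : z = 1 := by
      have := frobenius_inj F p (show frobenius F p z = frobenius F p 1 by simpa [frobenius_def] using hz1)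
      exact this
    rw [hz', one_smul, add_mul, mul_add, one_mul, mul_one] at h1
    exact add_right_cancel h1
  -- an element of order r
  have hrB : r ∣ orderOf B := (Nat.dvd_of_mem_primeFactors hr).trans
    (orderOf_map_dvd (QuotientGroup.mk' (Subgroup.center (Matrix.SpecialLinearGroup (Fin n) F))) B)
  set G := B ^ (orderOf B / r) with hG
  have hGr : orderOf G = r := orderOf_pow_orderOf_div (orderOf_pos B).ne' hrB
  have hgr : (E G.1) ^ r = 1 := by
    rw [← map_pow, ← Matrix.SpecialLinearGroup.coe_pow, ← hGr, pow_orderOf_eq_one,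
      Matrix.SpecialLinearGroup.coe_one, map_one]
  have hgU : Commute (E G.1) (E U) := by
    have hBU : Commute B.1 U := hcomm.symm
    rw [hG, Matrix.SpecialLinearGroup.coe_pow]
    exact (hBU.pow_left _).map E
  have h := core hn hbig hrp hrF hgr hgU ((map_ne_zero_iff E E.injective).2 hU0) ⟨p, by rw [← map_pow, hUp, map_zero]⟩
  have hG1 : G = 1 := Subtype.ext (E.injective (by rw [h, Matrix.SpecialLinearGroup.coe_one, map_one]))
  rw [hG1, orderOf_one] at hGr
  exact hrp.one_lt.ne hGr

end Cfsg.Agent.Linear.CommuteUnipotent
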