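import Cfsg.Agent.Linear.SpPrimeClasses

/-!
# The irreducible factors of `X ^ r - 1` and their reciprocals
-/

set_option autoImplicit false
set_option linter.unusedSectionVars false

namespace Cfsg.Agent.Linear.CycloFactors

open Polynomial UniqueFactorizationMonoid Cfsg.Agent.Forms Cfsg.Agent.Linear.PrimeOrderClasses
  Cfsg.Agent.Linear.SpPrimeClasses

variable {F : Type*} [Field F]

/-- The set of irreducible factors other than `X - 1`. -/
structure Factors (r i : ℕ) (S : Finset F[X]) : Prop where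
  irred : ∀ P ∈ S, Irreducible P
  monic : ∀ P ∈ S, P.Monic
  deg : ∀ P ∈ S, P.natDegree = i
  eval_one : ∀ P ∈ S, P.eval 1 ≠ 0
  coeff_zero : ∀ P ∈ S, P.coeff 0 ≠ 0
  dvd : ∀ P ∈ S, P ∣ X ^ r - 1
  hat_mem : ∀ P ∈ S, hat P ∈ S
  hat_hat : ∀ P ∈ S, hat (hat P) = P
  self : ¬ Odd i → ∀ P ∈ S, hat P = P
  not_self : Odd i → ∀ P ∈ S, hat P ≠ P
  complete : ∀ P : F[X], Irreducible P → P.Monic → P ∣ X ^ r - 1 → P = X - 1 ∨ P ∈ S

theorem exists_factors [Fintype F] {p q : ℕ} [Fact p.Prime] [CharP F p] (hF : Fintype.card F = q) (r i t : ℕ)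
    (hr : r.Prime) (hr2 : r ≠ 2) (hrp : r ≠ p) (hi : i = orderOf (q : ZMod r)) (ht : t * i = r - 1) :
    ∃ S : Finset F[X], S.card = t ∧ Factors r i S := by
  classical
  have hp : p.Prime := Fact.out
  haveI : Fact r.Prime := ⟨hr⟩
  have hr1 := hr.one_lt
  have hrodd : Odd r := hr.odd_of_ne_two hr2
  have hi0 : 0 < i := Nat.pos_of_ne_zero fun h => by rw [h, mul_zero] at ht; omega
  have hcop : p.Coprime r := (Nat.coprime_primes hp hr).2 fun h => hrp h.symm
  have hrF : (r : F) ≠ 0 := fun h => hrp (((CharP.cast_eq_zero_iff F p r).1 h |>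
    (Nat.prime_dvd_prime_iff_eq hp hr).1).symm)
  obtain ⟨f, -, hf⟩ := FiniteField.card F p
  set Φr : F[X] := cyclotomic r F with hΦr
  set M0 := normalizedFactors Φr with hM0
  have hM0p : ∀ P ∈ M0, Irreducible P ∧ P.Monic := fun P hP => by
    have h1 := irreducible_of_normalized_factor P hP
    refine ⟨h1, ?_⟩
    rw [← normalize_normalized_factor P hP]
    exact monic_normalize h1.ne_zero
  have hdeg : ∀ P ∈ M0, P.natDegree = i := fun P hP => by
    rw [natDegree_of_dvd_cyclotomic_of_irreducible (p := p) (f := f) (n := r)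
      hf hcop (dvd_of_mem_normalizedFactors hP) (hM0p P hP).1,
      hi, ← orderOf_units, ZMod.coe_unitOfCoprime, ← hf, hF]
  have hXr : X ^ r - 1 = Φr * (X - 1) := (cyclotomic_prime_mul_X_sub_one F r).symm
  have hM0card : Multiset.card M0 = t := by
    have h := natDegree_prod_eq M0 (fun P hP => (hM0p P hP).2) i hdeg
    rw [hM0, prod_normalizedFactors_monic (cyclotomic.monic r F), natDegree_cyclotomic, Nat.totient_prime hr] at h
    rw [← ht] at h
    exact (Nat.eq_of_mul_eq_mul_right hi0 h).symm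
  have hnodup : M0.Nodup := (squarefree_iff_nodup_normalizedFactors (cyclotomic_ne_zero r F)).1 (by
    have := (separable_X_pow_sub_C (1 : F) hrF one_ne_zero).squarefree
    rw [C_1] at this
    exact this.squarefree_of_dvd ⟨_, hXr⟩)
  have hX1 : (X - 1 : F[X]).Monic ∧ Irreducible (X - 1 : F[X]) := by
    rw [← C_1]; exact ⟨monic_X_sub_C 1, irreducible_X_sub_C 1⟩
  have hne1 : ∀ P ∈ M0, P.eval 1 ≠ 0 := fun P hP h => hrF (by
    have h1 := eval_dvd (x := (1 : F)) (dvd_of_mem_normalizedFactors hP)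
    rw [h, eval_one_cyclotomic_prime, zero_dvd_iff] at h1
    exact h1)
  have hdvdr : ∀ P ∈ M0, P ∣ X ^ r - 1 := fun P hP => (dvd_of_mem_normalizedFactors hP).trans ⟨_, hXr⟩
  have hne0 : ∀ P ∈ M0, P.coeff 0 ≠ 0 := fun P hP h => by
    have h1 := eval_dvd (x := (0 : F)) (hdvdr P hP)
    rw [← coeff_zero_eq_eval_zero P, h, zero_dvd_iff] at h1
    simp [zero_pow hr.ne_zero] at h1
  have hfac : ∀ P : F[X], Irreducible P → P.Monic → P ∣ X ^ r - 1 → P = X - 1 ∨ P ∈ M0 := fun P hP hPm hd => by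
    rw [hXr] at hd
    rcases hP.prime.dvd_or_dvd hd with h | h
    · obtain ⟨Q, hQ, hPQ⟩ := exists_mem_normalizedFactors_of_dvd (cyclotomic_ne_zero r F) hP h
      exact Or.inr (eq_of_monic_of_associated hPm (hM0p Q hQ).2 hPQ ▸ hQ)
    · exact Or.inl (eq_of_monic_of_associated hPm hX1.1 (hP.associated_of_dvd hX1.2 h))
  -- the reciprocal permutes the factors
  have hroot : ∀ P ∈ M0, ∀ (K : Type _) [Field K] [Algebra F K] (x : K), aeval x P = 0 → x ^ r = 1 := fun P hP K _ _ x hx => by
    obtain ⟨R, hR⟩ := hdvdr P hP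
    have := congrArg (aeval x) hR
    rw [map_sub, map_pow, aeval_X, map_one, map_mul, hx, zero_mul, sub_eq_zero] at this
    exact this
  have hhatM : ∀ P ∈ M0, hat P ∈ M0 := fun P hP => by
    obtain ⟨hm', hd', -, -⟩ := hat_props (hM0p P hP).2 (hne0 P hP)
    obtain ⟨Q, hQm, hQi, hQd⟩ := exists_monic_irreducible_factor (hat P)
      (not_isUnit_of_natDegree_pos _ (by rw [hd', hdeg P hP]; exact hi0))
    haveI := Fact.mk hQi
    set x := AdjoinRoot.root Q
    have hx0 : x ≠ 0 := fun h => by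
      obtain ⟨R, hR⟩ := hQd
      have h1 := congrArg (fun G => aeval x G) hR
      simp only [map_mul, x, AdjoinRoot.aeval_eq, AdjoinRoot.mk_self, zero_mul] at h1
      rw [← AdjoinRoot.aeval_eq, show AdjoinRoot.root Q = 0 from h, aeval_def, eval₂_at_zero, hat, coeff_C_mul,
        coeff_zero_reverse, (hM0p P hP).2.leadingCoeff, mul_one] at h1
      exact inv_ne_zero (hne0 P hP) ((algebraMap F (AdjoinRoot Q)).injective (h1.trans (map_zero _).symm))
    have hxP : aeval x⁻¹ P = 0 := by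
      obtain ⟨R, hR⟩ := hQd
      have h1 := congrArg (fun G => aeval x G) hR
      simp only [map_mul, x, AdjoinRoot.aeval_eq, AdjoinRoot.mk_self, zero_mul] at h1
      rw [← AdjoinRoot.aeval_eq, hat, map_mul, aeval_C, mul_eq_zero] at h1
      have h2 := h1.resolve_left fun h => inv_ne_zero (hne0 P hP)
        ((algebraMap F (AdjoinRoot Q)).injective (h.trans (map_zero _).symm))
      letI : Invertible x⁻¹ := invertibleOfNonzero (inv_ne_zero hx0)
      have h3 := Polynomial.eval₂_reverse_eq_zero_iff (algebraMap F (AdjoinRoot Q)) x⁻¹ P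
      rw [invOf_eq_inv, inv_inv] at h3
      exact h3.1 h2
    have hxr : x ^ r = 1 := by
      have := hroot P hP _ x⁻¹ hxP
      rwa [inv_pow, inv_eq_one] at this
    have hQ : Q ∣ X ^ r - 1 := by
      rw [← AdjoinRoot.mk_eq_zero, map_sub, map_pow, AdjoinRoot.mk_X, map_one]
      exact sub_eq_zero.2 hxr
    rcases hfac Q hQi hQm hQ with h | h
    · exfalso
      have hx1 : x = 1 := by
        have h1 : AdjoinRoot.mk Q Q = 0 := AdjoinRoot.mk_self
        have h2 : AdjoinRoot.mk Q Q = x - 1 := by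
          rw [congrArg (AdjoinRoot.mk Q) h, map_sub, AdjoinRoot.mk_X, map_one]
        exact sub_eq_zero.1 (h2.symm.trans h1)
      rw [hx1, inv_one, show (1 : AdjoinRoot Q) = algebraMap F _ 1 from (map_one _).symm, aeval_algebraMap_apply,
        map_eq_zero] at hxP
      exact hne1 P hP hxP
    · have : Q = hat P := eq_of_monic_of_dvd_of_natDegree_le hQm hm' hQd (by rw [hd', hdeg P hP, hdeg Q h]) |> Eq.symm
      exact this ▸ h
  have hhh : ∀ P ∈ M0, hat (hat P) = P := fun P hP => (hat_props (hM0p P hP).2 (hne0 P hP)).2.2.1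
  have heven : ¬ Odd i → ∀ P ∈ M0, hat P = P := fun hio P hP => by
    obtain ⟨h, hh⟩ := Nat.not_odd_iff_even.1 hio
    haveI := Fact.mk (hM0p P hP).1
    set x := AdjoinRoot.root P
    have hx : aeval x P = 0 := by rw [AdjoinRoot.aeval_eq, AdjoinRoot.mk_self]
    have hxr : x ^ r = 1 := hroot P hP _ x hx
    have hx0 : x ≠ 0 := fun h => by rw [h, zero_pow hr.ne_zero] at hxr; exact zero_ne_one hxr
    have hsq : ((q : ZMod r) ^ h) * ((q : ZMod r) ^ h) = 1 := by rw [← pow_add, ← hh, hi, pow_orderOf_eq_one]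
    have hneg : (q : ZMod r) ^ h = -1 := (mul_self_eq_one_iff.1 hsq).resolve_left fun h1 => by
      have := Nat.le_of_dvd (by omega) (orderOf_dvd_of_pow_eq_one h1)
      omega
    have hdiv : r ∣ q ^ h + 1 := by
      rw [← ZMod.natCast_eq_zero_iff, Nat.cast_add, Nat.cast_pow, hneg, Nat.cast_one, neg_add_cancel]
    have hpow : x ^ (q ^ h) = x⁻¹ := by
      obtain ⟨c, hc⟩ := hdiv
      refine eq_inv_of_mul_eq_one_left ?_
      rw [← pow_succ, hc, pow_mul, hxr, one_pow]
    have hfrob : ∀ j : ℕ, aeval (x ^ q ^ j) P = 0 := by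
      intro j
      induction j with
      | zero => simpa using hx
      | succ j ih =>
        rw [pow_succ, pow_mul, ← hF, show (x ^ Fintype.card F ^ j) ^ Fintype.card F =
          FiniteField.frobeniusAlgHom F (AdjoinRoot P) (x ^ Fintype.card F ^ j) from rfl,
          Polynomial.aeval_algHom_apply]
        rw [← hF] at ih
        rw [ih, map_zero]
    have h2 : aeval x P.reverse = 0 := by
      have h1 := hfrob h
      rw [hpow] at h1
      letI : Invertible x⁻¹ := invertibleOfNonzero (inv_ne_zero hx0)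
      have h3 := Polynomial.eval₂_reverse_eq_zero_iff (algebraMap F (AdjoinRoot P)) x⁻¹ P
      rw [invOf_eq_inv, inv_inv] at h3
      exact h3.2 h1
    rw [AdjoinRoot.aeval_eq, AdjoinRoot.mk_eq_zero] at h2
    obtain ⟨hm', hd', -, -⟩ := hat_props (hM0p P hP).2 (hne0 P hP)
    exact eq_of_monic_of_dvd_of_natDegree_le (hM0p P hP).2 hm' (dvd_mul_of_dvd_right h2 _) hd'.le
  have hodd : Odd i → ∀ P ∈ M0, hat P ≠ P := fun hio P hP h => by
    have hr' := reverse_eq_of_hat_eq h (hne1 P hP) (hne0 P hP)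
    have he := eval_eq_zero_of_reverse (R := P) (e := -1) (by ring) (by rw [hdeg P hP]; exact hio)
      (by rw [neg_neg, C_1, one_mul]; exact hr')
    have h1 := hroot P hP F (-1) (by simpa using he)
    rw [hrodd.neg_one_pow] at h1
    rw [h1] at he
    exact hne1 P hP he
  refine ⟨M0.toFinset, by rw [Multiset.toFinset_card_of_nodup hnodup, hM0card],
    fun P hP => (hM0p P (Multiset.mem_toFinset.1 hP)).1, fun P hP => (hM0p P (Multiset.mem_toFinset.1 hP)).2,
    fun P hP => hdeg P (Multiset.mem_toFinset.1 hP), fun P hP => hne1 P (Multiset.mem_toFinset.1 hP),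
    fun P hP => hne0 P (Multiset.mem_toFinset.1 hP), fun P hP => hdvdr P (Multiset.mem_toFinset.1 hP),
    fun P hP => Multiset.mem_toFinset.2 (hhatM P (Multiset.mem_toFinset.1 hP)),
    fun P hP => hhh P (Multiset.mem_toFinset.1 hP), fun h P hP => heven h P (Multiset.mem_toFinset.1 hP),
    fun h P hP => hodd h P (Multiset.mem_toFinset.1 hP),
    fun P h1 h2 h3 => (hfac P h1 h2 h3).imp id Multiset.mem_toFinset.2⟩

end Cfsg.Agent.Linear.CycloFactors
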