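import Cfsg.Agent.Linear.Transvection
import Cfsg.Agent.Linear.Congr
import Mathlib.GroupTheory.SpecificGroups.Alternating
import Mathlib.Data.List.GetD

/-! # Permutation representations of `SL_n` checked on transvections -/

namespace Cfsg.Agent.Linear

open Matrix

variable {F : Type*} [Field F] {n : Type*} [Fintype n] [DecidableEq n]

section

variable {X : Type*} [DecidableEq X] (act : SpecialLinearGroup n F → X → X)
  (hone : ∀ x, act 1 x = x) (hmul : ∀ g h x, act (g * h) x = act g (act h x))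
  (L : Finset X) (hL : ∀ g, ∀ x ∈ L, act g x ∈ L)

/-- The permutation representation of `SL_n` on an invariant finite set. -/
def permHom : SpecialLinearGroup n F →* Equiv.Perm L :=
  MonoidHom.mk'
    (fun g =>
      { toFun := fun x => ⟨act g x.1, hL g x.1 x.2⟩
        invFun := fun x => ⟨act g⁻¹ x.1, hL g⁻¹ x.1 x.2⟩
        left_inv := fun x => Subtype.ext (by dsimp only; rw [← hmul, inv_mul_cancel, hone])
        right_inv := fun x => Subtype.ext (by dsimp only; rw [← hmul, mul_inv_cancel, hone]) })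
    (fun g h => Equiv.ext fun x => Subtype.ext (hmul g h x.1))

@[simp]
lemma permHom_apply (g : SpecialLinearGroup n F) (x : L) :
    (permHom act hone hmul L hL g x).1 = act g x.1 := rfl

end

/-- Invariance only needs to be checked on transvections. -/
lemma invariant_of_transvection [Nontrivial n] {X : Type*}
    (act : SpecialLinearGroup n F → X → X) (hmul : ∀ g h x, act (g * h) x = act g (act h x))
    (L : Finset X)
    (h : ∀ (i j : n) (hij : i ≠ j) (c : F), ∀ x ∈ L,
      act (SpecialLinearGroup.transvection hij c) x ∈ L) :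
    ∀ g, ∀ x ∈ L, act g x ∈ L := fun g =>
  transvection_induction (fun g => ∀ x ∈ L, act g x ∈ L) h
    (fun A B hA hB x hx => by rw [hmul]; exact hA _ (hB x hx)) g

/-- A non-trivial action of `SL_n` killing the centre gives an embedding of simple `PSL_n`. -/
lemma exists_PSL_injective {M : Type*} [Group M] (f : SpecialLinearGroup n F →* M)
    (hc : Subgroup.center (SpecialLinearGroup n F) ≤ f.ker) (hne : f ≠ 1)
    [IsSimpleGroup (ProjectiveSpecialLinearGroup n F)] :
    ∃ φ : ProjectiveSpecialLinearGroup n F →* M, Function.Injective φ := by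
  refine ⟨QuotientGroup.lift _ f hc, ?_⟩
  rcases (QuotientGroup.lift _ f hc).normal_ker.eq_bot_or_eq_top with h | h
  · exact (MonoidHom.ker_eq_bot_iff _).1 h
  · refine absurd (MonoidHom.ext fun g => ?_) hne
    have : QuotientGroup.lift _ f hc g = 1 := MonoidHom.mem_ker.1 (h ▸ Subgroup.mem_top _)
    simpa using this

/-- The centre of `SL_2` is `±1`. -/
lemma center_SL2_le_iff {M : Type*} [Group M] (f : SpecialLinearGroup (Fin 2) F →* M)
    (h : f (-1) = 1) : Subgroup.center (SpecialLinearGroup (Fin 2) F) ≤ f.ker := by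
  intro z hz
  obtain ⟨r, hr, hz'⟩ := Matrix.SpecialLinearGroup.mem_center_iff.1 hz
  rw [Fintype.card_fin, pow_two, mul_self_eq_one_iff] at hr
  rw [MonoidHom.mem_ker]
  rcases hr with rfl | rfl
  · rw [show z = 1 from Subtype.ext (by rw [← hz']; simp), map_one]
  · rw [show z = -1 from Subtype.ext (by rw [← hz']; ext i j; simp [one_apply, diagonal_apply]; split_ifs <;> simp), h]

/-- Conjugation on finite sets of matrices. -/
def conjAct [DecidableEq F] (g : SpecialLinearGroup n F) (S : Finset (Matrix n n F)) :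
    Finset (Matrix n n F) :=
  S.image fun M => g.1 * M * adjugate g.1

lemma conjAct_one [DecidableEq F] (S : Finset (Matrix n n F)) :
    conjAct (1 : SpecialLinearGroup n F) S = S := by
  simp [conjAct]

lemma conjAct_mul [DecidableEq F] (g h : SpecialLinearGroup n F) (S : Finset (Matrix n n F)) :
    conjAct (g * h) S = conjAct g (conjAct h S) := by
  simp [conjAct, Finset.image_image, Function.comp_def, adjugate_mul_distrib, Matrix.mul_assoc]

/-- Points given by lists. -/
def ptsOf {α : Type*} [DecidableEq α] (L : List (List α)) : Finset (Finset α) :=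
  (L.map List.toFinset).toFinset

lemma mem_ptsOf {α : Type*} [DecidableEq α] {L : List (List α)} {S : Finset α} :
    S ∈ ptsOf L ↔ ∃ x ∈ L, x.toFinset = S := by
  simp [ptsOf]

lemma mul_adjugate_eq_of_mul_eq {g : SpecialLinearGroup n F} {M N : Matrix n n F}
    (h : g.1 * M = N * g.1) : g.1 * M * adjugate g.1 = N := by
  rw [h, Matrix.mul_assoc, mul_adjugate, g.2, one_smul, Matrix.mul_one]

lemma mul_eq_of_mul_adjugate_eq {g : SpecialLinearGroup n F} {M N : Matrix n n F}
    (h : g.1 * M * adjugate g.1 = N) : g.1 * M = N * g.1 := by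
  rw [← h, Matrix.mul_assoc, adjugate_mul, g.2, one_smul, Matrix.mul_one]

/-- Checking invariance under conjugation on lists. -/
lemma conjAct_mem_ptsOf [DecidableEq F] {L : List (List (Matrix n n F))} {k : ℕ}
    (hk : ∀ x ∈ L, x.toFinset.card = k) {g : SpecialLinearGroup n F}
    (h : ∀ x ∈ L, ∃ y ∈ L, ∀ M ∈ x, ∃ N ∈ y, g.1 * M = N * g.1) :
    ∀ S ∈ ptsOf L, conjAct g S ∈ ptsOf L := by
  intro S hS
  obtain ⟨x, hx, rfl⟩ := mem_ptsOf.1 hS
  obtain ⟨y, hy, hM⟩ := h x hx
  refine mem_ptsOf.2 ⟨y, hy, (Finset.eq_of_subset_of_card_le ?_ ?_).symm⟩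
  · intro N hN
    simp only [conjAct, Finset.mem_image, List.mem_toFinset] at hN
    obtain ⟨M, hMx, rfl⟩ := hN
    obtain ⟨N, hNy, hN⟩ := hM M hMx
    rw [mul_adjugate_eq_of_mul_eq hN]
    exact List.mem_toFinset.2 hNy
  · rw [hk y hy, ← hk x hx, conjAct, Finset.card_image_of_injective _ ?_]
    intro A B hAB
    have e1 := mul_eq_of_mul_adjugate_eq (g := g) hAB
    rw [Matrix.mul_assoc, adjugate_mul, g.2, one_smul, Matrix.mul_one] at e1
    have e2 := congrArg (fun Z => adjugate g.1 * Z) e1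
    simpa [← Matrix.mul_assoc, adjugate_mul, g.2] using e2

/-- Exhibiting a moved point. -/
lemma conjAct_ne_of_list [DecidableEq F] {g : SpecialLinearGroup n F} {x : List (Matrix n n F)}
    (h : ∃ M ∈ x, ∀ N ∈ x, g.1 * M ≠ N * g.1) : conjAct g x.toFinset ≠ x.toFinset := by
  obtain ⟨M, hM, hN⟩ := h
  intro he
  have : g.1 * M * adjugate g.1 ∈ x.toFinset :=
    he ▸ Finset.mem_image_of_mem _ (List.mem_toFinset.2 hM)
  exact hN _ (List.mem_toFinset.1 this) (mul_eq_of_mul_adjugate_eq rfl)

/-- The representation on lists is non-trivial as soon as one set is moved. -/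
lemma permHom_ne_one [DecidableEq F] {L : List (List (Matrix n n F))}
    (hL : ∀ g, ∀ S ∈ ptsOf L, conjAct g S ∈ ptsOf L) {g : SpecialLinearGroup n F}
    (h : ∃ x ∈ L, ∃ M ∈ x, ∀ N ∈ x, g.1 * M ≠ N * g.1) :
    permHom conjAct conjAct_one conjAct_mul (ptsOf L) hL ≠ 1 := by
  obtain ⟨x, hx, hM⟩ := h
  intro he
  exact conjAct_ne_of_list hM (congrArg Subtype.val
    (congrArg (fun f : _ →* Equiv.Perm (ptsOf L) => f g ⟨_, mem_ptsOf.2 ⟨x, hx, rfl⟩⟩) he))

lemma conjAct_neg_one [DecidableEq F] (S : Finset (Matrix (Fin 2) (Fin 2) F)) :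
    conjAct (-1 : SpecialLinearGroup (Fin 2) F) S = S := by
  have h : adjugate (-1 : Matrix (Fin 2) (Fin 2) F) = -1 := by
    rw [adjugate_fin_two]
    ext i j
    fin_cases i <;> fin_cases j <;> simp
  simp [conjAct, h]

/-- Turning an index certificate into the membership form. -/
lemma exists_image_of_cert (L : List (List (Matrix n n F))) (T : Matrix n n F) {m k : ℕ}
    (hlen : L.length = m) (hk : ∀ a : Fin m, (L.getD a []).length = k) (σ : ℕ → ℕ)
    (π : ℕ → ℕ → ℕ)
    (h : ∀ a : Fin m, σ a < m ∧ ∀ i : Fin k, π a i < k ∧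
      T * (L.getD a []).getD i 1 = (L.getD (σ a) []).getD (π a i) 1 * T) :
    ∀ x ∈ L, ∃ y ∈ L, ∀ M ∈ x, ∃ N ∈ y, T * M = N * T := by
  intro x hx
  obtain ⟨a, ha, rfl⟩ := List.mem_iff_getElem.1 hx
  have ea : L.getD a [] = L[a] := List.getD_eq_getElem _ _ ha
  obtain ⟨hy, hi⟩ := h ⟨a, hlen ▸ ha⟩
  simp only at hy hi
  have hyl : σ a < L.length := hlen.symm ▸ hy
  have ey : L.getD (σ a) [] = L[σ a] := List.getD_eq_getElem _ _ hyl
  refine ⟨L[σ a], List.getElem_mem hyl, fun M hM => ?_⟩
  obtain ⟨i, hi', rfl⟩ := List.mem_iff_getElem.1 hM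
  have hla : L[a].length = k := ea ▸ hk ⟨a, hlen ▸ ha⟩
  have hly : L[σ a].length = k := ey ▸ hk ⟨σ a, hy⟩
  obtain ⟨hlt, heq⟩ := hi ⟨i, hla ▸ hi'⟩
  simp only [ea, ey] at heq hlt
  rw [List.getD_eq_getElem _ _ hi', List.getD_eq_getElem _ _ (hly.symm ▸ hlt)] at heq
  exact ⟨_, List.getElem_mem _, heq⟩

end Cfsg.Agent.Linear
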