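import Cfsg.Agent.Linear.SLNormal
import Cfsg.Agent.Components.Basic
import Cfsg.Agent.Core.Cores
import Cfsg.Prelude.Def_CaseTheorems

/-!
# A component in the centraliser of a reflection of `GL_n(q)`
-/

set_option autoImplicit false
set_option linter.unusedSectionVars false

namespace Cfsg.Agent.Linear.GLComponent

open Matrix

variable {F : Type*} [Field F] [Fintype F] [DecidableEq F] {m : ℕ}

/-- Block diagonal matrices. -/
def N (a : F) (A : Matrix (Fin m) (Fin m) F) : Matrix (Fin (m + 1)) (Fin (m + 1)) F :=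
  Matrix.of (Fin.cons (Fin.cons a 0) (fun i => Fin.cons 0 (A i)))

theorem N_mul (a b : F) (A B : Matrix (Fin m) (Fin m) F) : N a A * N b B = N (a * b) (A * B) := by
  ext i j
  refine Fin.cases ?_ (fun i => ?_) i <;> refine Fin.cases ?_ (fun j => ?_) j <;>
    simp [N, Matrix.mul_apply, Fin.sum_univ_succ]

theorem N_one : N (1 : F) (1 : Matrix (Fin m) (Fin m) F) = 1 := by
  ext i j
  refine Fin.cases ?_ (fun i => ?_) i <;> refine Fin.cases ?_ (fun j => ?_) j <;>
    simp [N, Matrix.one_apply, Fin.ext_iff]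

theorem det_N (a : F) (A : Matrix (Fin m) (Fin m) F) : (N a A).det = a * A.det := by
  rw [det_succ_row_zero, Fin.sum_univ_succ]
  have h1 : ∀ j : Fin m, N a A 0 j.succ = 0 := fun j => by simp [N]
  simp only [h1, mul_zero, zero_mul, Finset.sum_const_zero, add_zero]
  simp [N, submatrix]
  left; rfl

theorem result (hF : Odd (Fintype.card F)) (hm : 2 ≤ m) (h33 : ¬ (m = 2 ∧ Fintype.card F = 3)) :
    ∃ t : GL (Fin (m + 1)) F, orderOf t = 2 ∧ t ∉ Subgroup.center (GL (Fin (m + 1)) F) ∧
      Cfsg.HasComponent (↥(Subgroup.centralizer ({t} : Set (GL (Fin (m + 1)) F))) ⧸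
        Cfsg.oddCore ↥(Subgroup.centralizer ({t} : Set (GL (Fin (m + 1)) F)))) := by
  classical
  haveI : Fact (Nat.Prime 2) := ⟨Nat.prime_two⟩
  have h2 : (2 : F) ≠ 0 := Ring.two_ne_zero fun h => by
    have := FiniteField.even_card_of_char_two h
    rw [Nat.odd_iff] at hF
    omega
  have hm1 : (-1 : F) ≠ 1 := fun h => h2 (by linear_combination -h)
  let t : GL (Fin (m + 1)) F := Matrix.GeneralLinearGroup.mkOfDetNeZero (N (-1) 1) (by rw [det_N, det_one, mul_one]; exact neg_ne_zero.2 one_ne_zero)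
  have hsplit : ∀ g : GL (Fin (m + 1)) F, g ∈ Subgroup.centralizer ({t} : Set (GL (Fin (m + 1)) F)) →
      g.1 = N (g.1 0 0) (g.1.submatrix Fin.succ Fin.succ) := fun g hg => by
    have h : g.1 * N (-1) 1 = N (-1) 1 * g.1 := congrArg Units.val (Subgroup.mem_centralizer_singleton_iff.1 hg)
    ext i j
    refine Fin.cases ?_ (fun i => ?_) i <;> refine Fin.cases ?_ (fun j => ?_) j
    · simp [N]
    · have h' := congrFun (congrFun h 0) j.succ
      simp [N, Matrix.mul_apply, Fin.sum_univ_succ, Matrix.one_apply] at h'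
      have : (2 : F) * g.1 0 j.succ = 0 := by linear_combination h'
      simpa [N] using (mul_eq_zero.1 this).resolve_left h2
    · have h' := congrFun (congrFun h i.succ) 0
      simp [N, Matrix.mul_apply, Fin.sum_univ_succ, Matrix.one_apply] at h'
      have : (2 : F) * g.1 i.succ 0 = 0 := by linear_combination -h'
      simpa [N] using (mul_eq_zero.1 this).resolve_left h2
    · simp [N]
  refine ⟨t, orderOf_eq_prime (Units.ext ?_) fun h => hm1 ?_, fun hc => ?_, ?_⟩
  · rw [pow_two, Units.val_mul, Units.val_one]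
    show N (-1) 1 * N (-1) (1 : Matrix (Fin m) (Fin m) F) = 1
    rw [N_mul]; simp [N_one]
  · have := congrArg (fun g : GL (Fin (m + 1)) F => g.1 0 0) h
    simpa [t, N] using this
  · obtain ⟨i0, hi0⟩ : ∃ i : Fin m, i.1 = 0 := ⟨⟨0, by omega⟩, rfl⟩
    let T : GL (Fin (m + 1)) F := Matrix.GeneralLinearGroup.mkOfDetNeZero (Matrix.transvection 0 i0.succ 1)
      (by rw [det_transvection_of_ne _ _ (Fin.succ_ne_zero _).symm]; exact one_ne_zero)
    have h := congrArg (fun g : GL (Fin (m + 1)) F => g.1 0 i0.succ) (Subgroup.mem_center_iff.1 hc T)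
    simp [t, T, N, Matrix.mul_apply, Fin.sum_univ_succ, Matrix.GeneralLinearGroup.mkOfDetNeZero,
      Matrix.transvection, Matrix.one_apply, Matrix.single, Fin.succ_inj, Fin.succ_ne_zero, (Fin.succ_ne_zero i0).symm] at h
    exact h2 (by linear_combination h)
  set C := Subgroup.centralizer ({t} : Set (GL (Fin (m + 1)) F))
  let f : SpecialLinearGroup (Fin m) F →* C := MonoidHom.mk' (fun s => ⟨Matrix.GeneralLinearGroup.mkOfDetNeZero (N 1 s.1)
      (by rw [det_N, one_mul, s.2]; exact one_ne_zero), by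
        rw [Subgroup.mem_centralizer_singleton_iff]
        refine Units.ext ?_
        show N 1 s.1 * N (-1) 1 = N (-1) 1 * N 1 s.1
        rw [N_mul, N_mul]; simp⟩)
    (fun a b => Subtype.ext (Units.ext (by
      show N 1 (a * b).1 = N 1 a.1 * N 1 b.1
      rw [N_mul, one_mul]; rfl)))
  have hnorm : f.range.Normal := ⟨by
    rintro _ ⟨s, rfl⟩ ⟨c, hc⟩
    have h1 := hsplit c hc
    have h2' := hsplit c⁻¹ (inv_mem hc)
    set a := c.1 0 0
    set B := c.1.submatrix Fin.succ Fin.succ
    set a' := (c⁻¹ : GL (Fin (m + 1)) F).1 0 0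
    set B' := (c⁻¹ : GL (Fin (m + 1)) F).1.submatrix Fin.succ Fin.succ
    have h3 : N (a * a') (B * B') = N 1 1 := by
      rw [← N_mul, ← h1, ← h2', ← Units.val_mul, mul_inv_cancel, N_one]; rfl
    have h4 : a * a' = 1 := by simpa [N] using congrFun (congrFun h3 0) 0
    have h5 : B * B' = 1 := Matrix.ext fun i j => by simpa [N] using congrFun (congrFun h3 i.succ) j.succ
    refine ⟨⟨B * s.1 * B', by rw [det_mul, det_mul, s.2, mul_one, ← det_mul, h5, det_one]⟩, Subtype.ext (Units.ext ?_)⟩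
    show N 1 (B * s.1 * B') = c.1 * N 1 s.1 * (c⁻¹ : GL (Fin (m + 1)) F).1
    rw [h1, h2', N_mul, N_mul, mul_one, h4]⟩
  have hex : ¬ (m = 2 ∧ Fintype.card F ≤ 3) := fun h => h33 ⟨h.1, by
    have := Fintype.one_lt_card (α := F); obtain ⟨k, hk⟩ := hF; omega⟩
  have hqs : Cfsg.IsQuasisimple (SpecialLinearGroup (Fin m) F) :=
    ⟨⟨sl_perfect_finite m hm hex⟩, psl_simple_finite m hm hex⟩
  let π := QuotientGroup.mk' (Cfsg.oddCore C)
  refine ⟨(π.comp f).range, Subgroup.Normal.isSubnormal (by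
    rw [MonoidHom.range_comp]; exact hnorm.map π (QuotientGroup.mk'_surjective _)), ?_⟩
  haveI : Nontrivial (π.comp f).range := by
    let d : Fin m → F := fun i => if i.1 < 2 then -1 else 1
    have hd : (Matrix.diagonal d).det = 1 := by
      rw [det_diagonal, Finset.prod_ite, Finset.prod_const, Finset.prod_const_one, mul_one]
      rw [show (Finset.univ.filter fun i : Fin m => i.1 < 2) = {⟨0, by omega⟩, ⟨1, by omega⟩} by
        ext i; simp [Fin.ext_iff]; omega, Finset.card_pair (by simp [Fin.ext_iff])]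
      ring
    let s : SpecialLinearGroup (Fin m) F := ⟨Matrix.diagonal d, hd⟩
    have hs2 : s ^ 2 = 1 := Subtype.ext (by
      show (Matrix.diagonal d) ^ 2 = 1
      rw [Matrix.diagonal_pow, ← Matrix.diagonal_one]
      refine congrArg _ (funext fun i => ?_)
      simp [d])
    have hs1 : s ≠ 1 := fun h => hm1 (by
      simpa [s, d] using congrFun (congrFun (congrArg (fun A : SpecialLinearGroup (Fin m) F => A.1) h) ⟨0, by omega⟩) ⟨0, by omega⟩)
    refine ⟨⟨⟨π (f s), ⟨s, rfl⟩⟩, 1, fun h => ?_⟩⟩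
    have h1 : f s ∈ Cfsg.oddCore C := (QuotientGroup.eq_one_iff _).1 (congrArg Subtype.val h)
    have hfs : f s ≠ 1 := fun h' => hs1 (Subtype.ext (Matrix.ext fun i j => by
      have := congrFun (congrFun (congrArg (fun x : C => x.1.1) h') i.succ) j.succ
      simpa [f, N, Matrix.one_apply, Fin.succ_inj] using this))
    have ho : orderOf (f s) = 2 := orderOf_eq_prime (by rw [← map_pow, hs2, map_one]) hfs
    have hodd := Cfsg.Agent.Core.not_dvd_card_pPrimeCore 2 C
    refine hodd ?_
    exact (((Subgroup.orderOf_mk (f s) h1).trans ho).symm ▸ orderOf_dvd_natCard (⟨f s, h1⟩ : ↥(Cfsg.oddCore C)) : _)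
  exact Components.isQuasisimple_of_surjective (MonoidHom.rangeRestrict_surjective _) hqs

end Cfsg.Agent.Linear.GLComponent
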