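import Cfsg.Agent.Forms.SympSemisimple
import Cfsg.Agent.Forms.Models

/-!
# Self-adjoint matrices as norms
-/

set_option autoImplicit false
set_option linter.unusedSectionVars false

namespace Cfsg.Agent.Linear.HermRoot

open Matrix

variable {K : Type*} [Field K] {ι : Type*} [Fintype ι] [DecidableEq ι]

/-- The conjugate transpose relative to `σ`. -/
def H (σ : K →+* K) (A : Matrix ι ι K) : Matrix ι ι K := (A.map σ)ᵀ

variable (σ : K →+* K)

theorem H_mul (A B : Matrix ι ι K) : H σ (A * B) = H σ B * H σ A := by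
  rw [H, H, H, Matrix.map_mul, transpose_mul]

theorem H_one : H σ (1 : Matrix ι ι K) = 1 := by simp [H]

theorem H_add (A B : Matrix ι ι K) : H σ (A + B) = H σ A + H σ B := by
  ext i j; simp [H]

theorem H_sub (A B : Matrix ι ι K) : H σ (A - B) = H σ A - H σ B := by
  ext i j; simp [H]

theorem H_smul (c : K) (A : Matrix ι ι K) : H σ (c • A) = σ c • H σ A := by
  ext i j; simp [H]

theorem H_pow (A : Matrix ι ι K) : ∀ k : ℕ, H σ (A ^ k) = H σ A ^ k
  | 0 => by simp [H_one]
  | k + 1 => by rw [pow_succ, H_mul, H_pow A k, ← pow_succ']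

theorem H_H (hσ2 : ∀ c, σ (σ c) = c) (A : Matrix ι ι K) : H σ (H σ A) = A := by
  ext i j; simp [H, hσ2]

theorem isUnit_H {A : Matrix ι ι K} (hA : IsUnit A) : IsUnit (H σ A) := by
  obtain ⟨u, rfl⟩ := hA
  exact IsUnit.of_mul_eq_one (H σ (u⁻¹ : (Matrix ι ι K)ˣ).1) (by rw [← H_mul, Units.inv_mul, H_one])

theorem eigen_unique {A : Matrix ι ι K} [Nonempty ι] {c c' : K} (h : IsNilpotent (A - c • 1))
    (h' : IsNilpotent (A - c' • 1)) : c = c' := by
  have hc : Commute (A - c • 1) (A - c' • 1) :=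
    ((Commute.refl A).sub_right ((Commute.one_right A).smul_right c')).sub_left
      (((Commute.one_left _).smul_left c))
  have h2 := hc.isNilpotent_sub h h'
  rw [show A - c • 1 - (A - c' • 1) = (c' - c) • (1 : Matrix ι ι K) by rw [sub_smul]; abel] at h2
  obtain ⟨k, hk⟩ := h2
  rw [smul_pow, one_pow] at hk
  rcases smul_eq_zero.1 hk with h3 | h3
  · exact (sub_eq_zero.1 (eq_zero_of_pow_eq_zero h3)).symm
  · exact absurd h3 one_ne_zero

theorem det_one_add {A : Matrix ι ι K} (h : IsNilpotent A) : (1 + A).det = 1 := by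
  have h1 : A.charpoly = Polynomial.X ^ Fintype.card ι :=
    sub_eq_zero.1 (Matrix.isNilpotent_charpoly_sub_pow_of_isNilpotent h).eq_zero
  have h2 := Matrix.eval_charpoly A (-1 : K)
  rw [h1, Polynomial.eval_pow, Polynomial.eval_X, Matrix.scalar_apply, ← Matrix.smul_one_eq_diagonal, neg_one_smul,
    show (-1 : Matrix ι ι K) - A = (-1 : K) • (1 + A) by rw [neg_one_smul]; abel, det_smul] at h2
  exact (mul_eq_left₀ (pow_ne_zero _ (neg_ne_zero.2 one_ne_zero))).1 h2.symm

theorem det_of_nilpotent {A : Matrix ι ι K} {c : K} (hc : c ≠ 0) (h : IsNilpotent (A - c • 1)) :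
    A.det = c ^ Fintype.card ι := by
  have h1 : IsNilpotent (c⁻¹ • (A - c • 1)) := h.smul _
  have e : A = c • (1 + c⁻¹ • (A - c • 1)) := by
    rw [smul_add, smul_smul, mul_inv_cancel₀ hc, one_smul, add_sub_cancel]
  rw [e, det_smul, det_one_add h1, mul_one]

variable {σ}

theorem root_unipotent (hσ2 : ∀ c, σ (σ c) = c) {θ : K} (hθ : θ + σ θ = 1) :
    ∀ (m : ℕ) (b : Matrix ι ι K), H σ b = b → (b - 1) ^ m = 0 →
      ∃ x : Matrix ι ι K, IsUnit x ∧ H σ x * x = b ∧ ∀ y, Commute y b → Commute y x := by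
  intro m
  induction m using Nat.strong_induction_on with
  | _ m ih =>
    intro b hb hm
    rcases Nat.lt_or_ge m 2 with hlt | hge
    · have : b = 1 := sub_eq_zero.1 (by
        have := pow_eq_zero_of_le (show m ≤ 1 by omega) hm
        rwa [pow_one] at this)
      subst this
      exact ⟨1, isUnit_one, by rw [H_one, one_mul], fun y _ => Commute.one_right y⟩
    set δ := b - 1 with hδ
    have hHδ : H σ δ = δ := by rw [hδ, H_sub, hb, H_one]
    set x₁ : Matrix ι ι K := 1 + θ • δ with hx₁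
    have hHx₁ : H σ x₁ = 1 + σ θ • δ := by rw [hx₁, H_add, H_one, H_smul, hHδ]
    have hnilδ : IsNilpotent δ := ⟨m, hm⟩
    have hu : ∀ c : K, IsUnit (1 + c • δ) := fun c => (hnilδ.smul c).isUnit_one_add
    have hprod : H σ x₁ * x₁ = 1 + δ + (σ θ * θ) • (δ * δ) := by
      rw [hHx₁, hx₁, add_mul, one_mul, smul_mul_assoc, mul_add, mul_one, mul_smul_comm, smul_add, smul_smul, add_assoc,
        ← add_assoc (θ • δ), ← add_smul, hθ, one_smul, add_assoc]
    obtain ⟨W, hW⟩ : IsUnit (H σ x₁ * x₁) := (hHx₁ ▸ hu (σ θ)).mul (hu θ)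
    set w := (W⁻¹ : (Matrix ι ι K)ˣ).1 with hw
    have hcomm : ∀ y, Commute y b → Commute y x₁ := fun y hy =>
      (Commute.one_right y).add_right ((hy.sub_right (Commute.one_right y)).smul_right θ)
    have hcommW : ∀ y, Commute y b → Commute y w := fun y hy => by
      refine Commute.units_inv_right ?_
      rw [hW, hprod]
      have hyd : Commute y δ := hy.sub_right (Commute.one_right y)
      exact ((Commute.one_right y).add_right hyd).add_right ((hyd.mul_right hyd).smul_right _)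
    have hHP : H σ (H σ x₁ * x₁) = H σ x₁ * x₁ := by rw [H_mul, H_H σ hσ2]
    have hHw : H σ w = w := by
      have h1 : H σ w * W.1 = 1 := by
        rw [hW, ← hHP, ← H_mul, ← hW, hw, Units.mul_inv, H_one]
      calc H σ w = H σ w * (W.1 * w) := by rw [hw, Units.mul_inv, mul_one]
        _ = w := by rw [← mul_assoc, h1, one_mul]
    set b' := b * w with hb'
    have hbw : Commute b w := hcommW b (Commute.refl b)
    have hHb' : H σ b' = b' := by rw [hb', H_mul, hb, hHw, hbw.eq]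
    have hdiff : b' - 1 = (-(σ θ * θ)) • ((δ * δ) * w) := by
      rw [hb', show (1 : Matrix ι ι K) = W.1 * w by rw [hw, Units.mul_inv], ← sub_mul, hW, hprod, hδ, add_sub_cancel,
        sub_add_cancel_left, neg_mul, smul_mul_assoc, neg_smul]
    have hm' : (b' - 1) ^ ((m + 1) / 2) = 0 := by
      have hdw : Commute (δ * δ) w := by
        have hd : Commute δ w := hbw.sub_left (Commute.one_left w)
        exact hd.mul_left hd
      rw [hdiff, smul_pow, hdw.mul_pow, ← pow_two, ← pow_mul, pow_eq_zero_of_le (by omega) hm, zero_mul, smul_zero]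
    obtain ⟨y, hyu, hy, hyc⟩ := ih ((m + 1) / 2) (by omega) b' hHb' hm'
    refine ⟨y * x₁, hyu.mul (hu θ), ?_, fun z hz => (hyc z (hz.mul_right (hcommW z hz))).mul_right (hcomm z hz)⟩
    have hbx : Commute b' x₁ := hcomm b' ((Commute.refl b).mul_left hbw.symm) |> fun h => h
    rw [H_mul, mul_assoc, ← mul_assoc (H σ y), hy, hbx.eq, ← mul_assoc, ← hW, hb', hbw.eq, ← mul_assoc, hw,
      Units.mul_inv, one_mul]

theorem exists_trace_one (hσ2 : ∀ c, σ (σ c) = c) (hσ : ∃ c, σ c ≠ c) : ∃ θ : K, θ + σ θ = 1 := by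
  obtain ⟨d, hd⟩ : ∃ d, d + σ d ≠ 0 := by
    by_contra hall
    push Not at hall
    obtain ⟨c, hc⟩ := hσ
    have h2 : (1 : K) + 1 = 0 := by simpa using hall 1
    exact hc (by linear_combination hall c - c * h2)
  refine ⟨d * (d + σ d)⁻¹, ?_⟩
  rw [map_mul σ, map_inv₀, map_add σ, hσ2, add_comm (σ d) d, ← add_mul, mul_inv_cancel₀ hd]

/-- A self-adjoint unit with a single eigenvalue is a norm. -/
theorem herm_root [Finite K] [Nonempty ι] (hσ2 : ∀ c, σ (σ c) = c) (hσ : ∃ c, σ c ≠ c) {a : Matrix ι ι K}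
    (ha : H σ a = a) (hau : IsUnit a) {s : K} (hs : IsNilpotent (a - s • 1)) :
    ∃ x : Matrix ι ι K, IsUnit x ∧ H σ x * x = a ∧ ∀ y, Commute y a → Commute y x := by
  have hs0 : s ≠ 0 := by
    rintro rfl
    rw [zero_smul, sub_zero] at hs
    obtain ⟨k, hk⟩ := hs
    exact (hau.pow k).ne_zero hk
  have hσs : σ s = s := by
    obtain ⟨k, hk⟩ := hs
    refine (eigen_unique (A := a) ⟨k, hk⟩ ⟨k, ?_⟩).symm
    have h1 : H σ ((a - s • 1) ^ k) = (a - σ s • 1) ^ k := by rw [H_pow, H_sub, H_smul, H_one, ha]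
    rw [← h1, hk]
    ext i j; simp [H]
  obtain ⟨l, hl0, hl⟩ := Forms.exists_norm_of_fixed σ hσ2 hσ hσs hs0
  obtain ⟨θ, hθ⟩ := exists_trace_one hσ2 hσ
  have hb : IsNilpotent (s⁻¹ • a - 1) := by
    have h1 : IsNilpotent (s⁻¹ • (a - s • 1)) := hs.smul _
    rwa [smul_sub, smul_smul, inv_mul_cancel₀ hs0, one_smul] at h1
  obtain ⟨k, hk⟩ := hb
  obtain ⟨x, hxu, hx, hxc⟩ := root_unipotent hσ2 hθ k (s⁻¹ • a) (by rw [H_smul, ha, map_inv₀, hσs]) hk
  refine ⟨l • x, hxu.smul (Units.mk0 l hl0), ?_, fun y hy => (hxc y (hy.smul_right _)).smul_right l⟩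
  rw [H_smul, smul_mul_assoc, mul_smul_comm, smul_smul, hx, smul_smul, mul_comm (σ l), hl, mul_inv_cancel₀ hs0, one_smul]

end Cfsg.Agent.Linear.HermRoot
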