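import Cfsg.Agent.Linear.FiniteAction
import Cfsg.Agent.Linear.SmallIso


/-! # `PSL_2(5) ≅ A_5` -/

namespace Cfsg.Agent.Linear

open Matrix

/-- From a faithful action of `PSL_n(F)` on a finite set. -/
theorem PSL_iso_alternating_of_perm {F : Type*} [Field F] {n : Type*} [Fintype n] [DecidableEq n]
    {X : Type*} [DecidableEq X] {L : Finset X} {N : ℕ}
    (f : SpecialLinearGroup n F →* Equiv.Perm L)
    (hc : Subgroup.center (SpecialLinearGroup n F) ≤ f.ker) (hne : f ≠ 1)
    [IsSimpleGroup (ProjectiveSpecialLinearGroup n F)] (hN : L.card = N) (h2 : 2 ≤ N)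
    (hcard : 2 * Nat.card (ProjectiveSpecialLinearGroup n F) = N.factorial) :
    Nonempty (ProjectiveSpecialLinearGroup n F ≃* alternatingGroup (Fin N)) := by
  obtain ⟨φ, hφ⟩ := exists_PSL_injective f hc hne
  have : Nontrivial (Fin N) := Fin.nontrivial_iff_two_le.2 h2
  let e := (L.equivFinOfCardEq hN).permCongrHom
  refine nonempty_iso_alternating (e.toMonoidHom.comp φ) (e.injective.comp hφ) ?_
  rw [hcard, Nat.card_perm, Nat.card_eq_fintype_card, Fintype.card_fin]

section A5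

instance fact_prime_five_lin : Fact (Nat.Prime 5) := ⟨by norm_num⟩

/-- The five quaternion subgroups of `SL_2(5)`, by their elements of order 4. -/
def a5List : List (List (Matrix (Fin 2) (Fin 2) (ZMod 5))) :=
  [[!![0, 1; 4, 0], !![0, 4; 1, 0], !![2, 0; 0, 3], !![3, 0; 0, 2], !![0, 3; 3, 0], !![0, 2; 2, 0]],
   [!![4, 2; 4, 1], !![1, 3; 1, 4], !![2, 1; 0, 3], !![3, 4; 0, 2], !![3, 0; 3, 2], !![2, 0; 2, 3]],
   [!![3, 0; 4, 2], !![2, 0; 1, 3], !![2, 2; 0, 3], !![3, 3; 0, 2], !![1, 1; 3, 4], !![4, 4; 2, 1]],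
   [!![2, 0; 4, 3], !![3, 0; 1, 2], !![2, 3; 0, 3], !![3, 2; 0, 2], !![4, 1; 3, 1], !![1, 4; 2, 4]],
   [!![1, 2; 4, 4], !![4, 3; 1, 1], !![2, 4; 0, 3], !![3, 1; 0, 2], !![2, 0; 3, 3], !![3, 0; 2, 2]]]

lemma a5_invariant : ∀ (i j : Fin 2) (h : i ≠ j) (c : ZMod 5), ∀ x ∈ a5List,
    ∃ y ∈ a5List, ∀ M ∈ x, ∃ N ∈ y,
      (SpecialLinearGroup.transvection h c).1 * M = N * (SpecialLinearGroup.transvection h c).1 := by
  decide +kernel

theorem PSL2_five_iso {F : Type*} [Field F] [Fintype F] (hF : Fintype.card F = 5) :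
    Nonempty (ProjectiveSpecialLinearGroup (Fin 2) F ≃* alternatingGroup (Fin 5)) := by
  have : IsSimpleGroup (ProjectiveSpecialLinearGroup (Fin 2) (ZMod 5)) :=
    Matrix.ProjectiveSpecialLinearGroup.rank_two_simple (by simp)
  let f := permHom conjAct conjAct_one conjAct_mul (ptsOf a5List)
    (invariant_of_transvection conjAct conjAct_mul _ fun i j h c =>
      conjAct_mem_ptsOf (k := 6) (by decide +kernel) (a5_invariant i j h c))
  have hneg : f (-1) = 1 := Equiv.ext fun x => Subtype.ext (conjAct_neg_one _)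
  have hne : f ≠ 1 := permHom_ne_one _
    (g := SpecialLinearGroup.transvection zero_ne_one (1 : ZMod 5)) (by decide +kernel)
  have hc : Nat.card (ProjectiveSpecialLinearGroup (Fin 2) (ZMod 5)) = 60 := by
    have h := card_PSL_two (F := ZMod 5)
    rw [ZMod.card, show Nat.gcd 2 (5 - 1) = 2 from rfl] at h
    omega
  obtain ⟨e⟩ := PSL_iso_alternating_of_perm f (center_SL2_le_iff f hneg) hne
    (show (ptsOf a5List).card = 5 by decide +kernel) (by norm_num) (by rw [hc]; rfl)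
  exact ⟨(pslCongr (ZMod.ringEquivOfPrime F (by norm_num) hF)).symm.trans e⟩

end A5

end Cfsg.Agent.Linear
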