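import Cfsg.Agent.Linear.PSL2Subgroups
import Cfsg.Agent.Linear.SmallIso
import Mathlib.FieldTheory.Finite.GaloisField
import Mathlib.FieldTheory.Finite.Basic
import Mathlib.GroupTheory.Perm.Sign

/-!
# Subfield subgroups of `PSL₂`, and the even characteristic
-/

set_option autoImplicit false

namespace Cfsg.Agent.Linear

open Matrix

variable {F : Type*} [Field F] [Fintype F]

/-- A finite field contains every field of which its order is a power. -/
theorem nonempty_ringHom_of_card_pow {K : Type*} [Field K] [Fintype K] {m : ℕ} (hm : 1 ≤ m)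
    (hK : Fintype.card K ^ m = Fintype.card F) : Nonempty (K →+* F) := by
  classical
  obtain ⟨p, hp⟩ := CharP.exists F
  obtain ⟨n, hpp, hn⟩ := FiniteField.card F p
  have : Fact p.Prime := ⟨hpp⟩
  set r := Fintype.card K with hr
  have hr2 : 2 ≤ r := Fintype.one_lt_card
  obtain ⟨k, -, hk⟩ := (Nat.dvd_prime_pow hpp).1 (show r ∣ p ^ (n : ℕ) by
    rw [← hn, ← hK]; exact dvd_pow_self r (by omega))
  let σ := iterateFrobenius F p k
  have hσ : ∀ x, σ x = x ^ r := fun x => by rw [iterateFrobenius_def, hk]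
  let L := RingHom.eqLocusField σ (RingHom.id F)
  have hU : Nat.card Fˣ = r ^ m - 1 := by rw [Nat.card_units, Nat.card_eq_fintype_card, hK]
  have hker : Nat.card ((powMonoidHom (r - 1) : Fˣ →* Fˣ).ker) = r - 1 := by
    rw [IsCyclic.card_powMonoidHom_ker, hU]
    exact Nat.gcd_eq_right (Nat.sub_one_dvd_pow_sub_one r m)
  have hLu : Nat.card Lˣ = r - 1 := by
    rw [← hker]
    refine Nat.card_congr (Equiv.ofBijective (fun u => ⟨Units.map L.subtype.toMonoidHom u, ?_⟩)
      ⟨?_, ?_⟩)
    · rw [MonoidHom.mem_ker, powMonoidHom_apply]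
      ext
      have h0 : ((u : L) : F) ≠ 0 := fun h => u.ne_zero (Subtype.ext h)
      have h2 : ((u : L) : F) ^ r = ((u : L) : F) := (hσ _).symm.trans (u : L).2
      rw [Units.val_pow_eq_pow_val, Units.val_one]
      change ((u : L) : F) ^ (r - 1) = 1
      apply mul_right_cancel₀ h0
      rw [← pow_succ, one_mul, Nat.sub_add_cancel (by omega), h2]
    · intro u v h
      ext
      exact congrArg (fun k : (powMonoidHom (r - 1) : Fˣ →* Fˣ).ker => ((k : Fˣ) : F)) h
    · rintro ⟨x, hx⟩
      rw [MonoidHom.mem_ker, powMonoidHom_apply] at hx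
      have h3 := congrArg Units.val hx
      rw [Units.val_pow_eq_pow_val, Units.val_one] at h3
      have h2 : (x : F) ∈ L := by
        change σ (x : F) = (x : F)
        rw [hσ, show r = (r - 1) + 1 by omega, pow_succ, h3, one_mul]
      exact ⟨Units.mk0 ⟨x, h2⟩ (fun h => x.ne_zero (congrArg Subtype.val h)),
        Subtype.ext (Units.ext rfl)⟩
  rw [Nat.card_units] at hLu
  have hLpos : 0 < Nat.card L := Nat.card_pos
  have hc : Fintype.card L = Fintype.card K := by
    rw [← Nat.card_eq_fintype_card, ← hr]; omega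
  exact ⟨L.subtype.comp (FiniteField.ringEquivOfCardEq hc).symm.toRingHom⟩

variable {K : Type*} [Field K]

/-- A ring homomorphism of fields on `PSL₂`. -/
def pslMap (ι : K →+* F) :
    Matrix.ProjectiveSpecialLinearGroup (Fin 2) K →* Matrix.ProjectiveSpecialLinearGroup (Fin 2) F :=
  QuotientGroup.map _ _ (Matrix.SpecialLinearGroup.map ι) (by
    intro g hg
    rw [Subgroup.mem_comap, mem_center_SL2_iff]
    rcases mem_center_SL2_iff.1 hg with rfl | rfl
    · exact Or.inl (map_one _)
    · refine Or.inr (Subtype.ext (Matrix.ext fun i j => ?_))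
      simp [Matrix.one_apply, apply_ite ι])

theorem pslMap_injective (ι : K →+* F) : Function.Injective (pslMap ι) := by
  rw [injective_iff_map_eq_one]
  intro x hx
  induction x using QuotientGroup.induction_on with | _ g =>
  rw [pslMap, QuotientGroup.map_mk, QuotientGroup.eq_one_iff, mem_center_SL2_iff] at hx
  rw [QuotientGroup.eq_one_iff, mem_center_SL2_iff]
  rcases hx with h | h
  · left
    refine Subtype.ext (Matrix.ext fun i j => ι.injective ?_)
    have := congrFun (congrFun (congrArg Subtype.val h) i) j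
    simpa [Matrix.one_apply, apply_ite ι] using this
  · right
    refine Subtype.ext (Matrix.ext fun i j => ι.injective ?_)
    have := congrFun (congrFun (congrArg Subtype.val h) i) j
    simpa [Matrix.one_apply, apply_ite ι] using this

theorem exists_subgroup_psl (ι : K →+* F) :
    ∃ H : Subgroup (Matrix.ProjectiveSpecialLinearGroup (Fin 2) F),
      Nonempty (H ≃* Matrix.ProjectiveSpecialLinearGroup (Fin 2) K) :=
  ⟨_, ⟨(MonoidHom.ofInjective (pslMap_injective ι)).symm⟩⟩

/-- Subgroups move along injective homomorphisms. -/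
theorem exists_subgroup_of_injective {A B C : Type*} [Group A] [Group B] [Group C] (f : A →* B)
    (hf : Function.Injective f) (h : ∃ H : Subgroup A, Nonempty (H ≃* C)) :
    ∃ H : Subgroup B, Nonempty (H ≃* C) := by
  obtain ⟨H, ⟨e⟩⟩ := h
  exact ⟨H.map f, ⟨(Subgroup.equivMapOfInjective H f hf).symm.trans e⟩⟩

/-- `PGL₂(K) ≤ PSL₂(F)` when the scalars of `K` become squares. -/
theorem exists_subgroup_pgl (ι : K →+* F) (hsq : ∀ x : K, IsSquare (ι x)) :
    ∃ H : Subgroup (Matrix.ProjectiveSpecialLinearGroup (Fin 2) F),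
      Nonempty (H ≃* Matrix.ProjGenLinGroup (Fin 2) K) := by
  classical
  choose s hs using fun g : GL (Fin 2) K => hsq g.1.det
  have hd0 : ∀ g : GL (Fin 2) K, ι g.1.det ≠ 0 := fun g =>
    (map_ne_zero ι).2 (Matrix.GeneralLinearGroup.det_ne_zero g)
  have hs0 : ∀ g, s g ≠ 0 := fun g h => hd0 g (by rw [hs g, h, mul_zero])
  have hmapdet : ∀ g : GL (Fin 2) K, (g.1.map ι).det = s g * s g := fun g => by
    rw [← RingHom.mapMatrix_apply, ← RingHom.map_det, hs]
  let lift : GL (Fin 2) K → Matrix.SpecialLinearGroup (Fin 2) F := fun g =>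
    ⟨(s g)⁻¹ • g.1.map ι, by
      rw [Matrix.det_smul, Fintype.card_fin, hmapdet g]
      field_simp [hs0 g]⟩
  let f : GL (Fin 2) K →* Matrix.ProjectiveSpecialLinearGroup (Fin 2) F :=
    MonoidHom.mk' (fun g => toPSL (lift g)) (by
      intro g h
      rw [← map_mul, toPSL_eq_iff]
      have hc : (s (g * h)) * (s (g * h)) = (s g * s h) * (s g * s h) := by
        rw [← hs (g * h), Units.val_mul, Matrix.det_mul, map_mul, hs g, hs h]; ring
      rcases mul_self_eq_mul_self_iff.1 hc with he | he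
      · left
        apply Subtype.ext
        change (s (g * h))⁻¹ • (g * h).1.map ι = ((s g)⁻¹ • g.1.map ι) * ((s h)⁻¹ • h.1.map ι)
        rw [he, Units.val_mul, Matrix.map_mul, smul_mul_smul_comm, mul_inv]
      · right
        apply Subtype.ext
        change (s (g * h))⁻¹ • (g * h).1.map ι = -(((s g)⁻¹ • g.1.map ι) * ((s h)⁻¹ • h.1.map ι))
        rw [he, Units.val_mul, Matrix.map_mul, smul_mul_smul_comm, ← mul_inv, inv_neg, neg_smul])
  have hker : f.ker = Subgroup.center (GL (Fin 2) K) := by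
    ext g
    rw [MonoidHom.mem_ker, Matrix.GeneralLinearGroup.mem_center_iff_val_mem_range_scalar]
    change toPSL (lift g) = 1 ↔ _
    rw [toPSL_eq_one_iff]
    constructor
    · intro h
      have hz : ∃ e : F, (e = 1 ∨ e = -1) ∧ (s g)⁻¹ • g.1.map ι = e • 1 := by
        rcases h with h | h
        · exact ⟨1, Or.inl rfl, by rw [one_smul]; exact congrArg Subtype.val h⟩
        · exact ⟨-1, Or.inr rfl, by rw [neg_one_smul]; exact congrArg Subtype.val h⟩
      obtain ⟨e, -, he⟩ := hz
      have he' : g.1.map ι = (s g * e) • (1 : Matrix (Fin 2) (Fin 2) F) := by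
        rw [← smul_smul, ← he, smul_smul, mul_inv_cancel₀ (hs0 g), one_smul]
      have e00 := congrFun (congrFun he' 0) 0
      have e01 := congrFun (congrFun he' 0) 1
      have e10 := congrFun (congrFun he' 1) 0
      have e11 := congrFun (congrFun he' 1) 1
      simp at e00 e01 e10 e11
      refine ⟨g.1 0 0, ?_⟩
      ext i j
      fin_cases i <;> fin_cases j <;> simp [e01, e10]
      exact ι.injective (e00.trans e11.symm)
    · rintro ⟨t, ht⟩
      have hm : g.1.map ι = ι t • (1 : Matrix (Fin 2) (Fin 2) F) := by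
        rw [← ht]; ext i j; simp [Matrix.scalar_apply, Matrix.diagonal_apply, Matrix.one_apply, apply_ite ι]
      have hst : ι t * ι t = s g * s g := by
        rw [← hmapdet g, hm, Matrix.det_smul, Matrix.det_one, Fintype.card_fin]; ring
      rcases mul_self_eq_mul_self_iff.1 hst with he | he
      · left
        apply Subtype.ext
        change (s g)⁻¹ • g.1.map ι = 1
        rw [hm, smul_smul, he, inv_mul_cancel₀ (hs0 g), one_smul]
      · right
        apply Subtype.ext
        change (s g)⁻¹ • g.1.map ι = -1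
        rw [hm, smul_smul, he, mul_neg, inv_mul_cancel₀ (hs0 g), neg_smul, one_smul]
  exact ⟨f.range, ⟨((QuotientGroup.quotientMulEquivOfEq hker.symm).trans
    (QuotientGroup.quotientKerEquivRange f)).symm⟩⟩

/-- For an odd degree the group `PGL₂(K)` is too big at the prime two. -/
theorem no_subgroup_pgl [Fintype K] {m : ℕ} (hodd : Odd (Fintype.card F))
    (hK : Fintype.card K ^ m = Fintype.card F) (hm : ¬ Even m)
    {H : Subgroup (Matrix.ProjectiveSpecialLinearGroup (Fin 2) F)}
    (e : H ≃* Matrix.ProjGenLinGroup (Fin 2) K) : False := by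
  classical
  set r := Fintype.card K with hr
  set q := Fintype.card F with hq
  have hqo : q % 2 = 1 := Nat.odd_iff.1 hodd
  have hmo : Odd m := Nat.not_even_iff_odd.1 hm
  have hro : r % 2 = 1 := by
    by_contra h
    have h2 : Even r := Nat.even_iff.2 (by omega)
    have := h2.pow_of_ne_zero hmo.pos.ne'
    rw [hK, Nat.even_iff] at this
    omega
  have hdvd := Subgroup.card_subgroup_dvd_card H
  rw [Nat.card_congr e.toEquiv, card_PGL_two, ← hr] at hdvd
  have hmul := card_PSL_mul_center (F := F) 2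
  rw [card_SL_two, ← hq, Nat.gcd_eq_left (by omega : 2 ∣ q - 1)] at hmul
  have h1 : 2 * (r * (r ^ 2 - 1)) ∣ q * (q ^ 2 - 1) := hmul ▸ Nat.mul_dvd_mul_left 2 hdvd
  have hS : (r ^ 2) ^ m - 1 = (r ^ 2 - 1) * ∑ i ∈ Finset.range m, (r ^ 2) ^ i := by
    have := geom_sum_mul_add (r ^ 2 - 1) m
    have hr1 : 1 ≤ r ^ 2 := Nat.one_le_pow _ _ Fintype.card_pos
    rw [Nat.sub_add_cancel hr1] at this
    rw [← this, Nat.add_sub_cancel, mul_comm]
  have hSodd : (∑ i ∈ Finset.range m, (r ^ 2) ^ i) % 2 = 1 := by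
    rw [Finset.sum_nat_mod]
    have : ∀ i ∈ Finset.range m, (r ^ 2) ^ i % 2 = 1 := fun i _ => by
      rw [← pow_mul, Nat.pow_mod, hro, one_pow]; rfl
    rw [Finset.sum_congr rfl this, Finset.sum_const, Finset.card_range, smul_eq_mul, mul_one,
      Nat.odd_iff.1 hmo]
  rw [← hK, ← pow_mul, mul_comm m 2, pow_mul, hS] at h1
  have hpos : 0 < r ^ 2 - 1 := by
    have : 2 ≤ r := Fintype.one_lt_card
    have : 2 ^ 2 ≤ r ^ 2 := Nat.pow_le_pow_left this 2
    omega
  have h3 : 2 * r ∣ r ^ m * ∑ i ∈ Finset.range m, (r ^ 2) ^ i := by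
    apply Nat.dvd_of_mul_dvd_mul_right hpos
    calc 2 * r * (r ^ 2 - 1) = 2 * (r * (r ^ 2 - 1)) := by ring
      _ ∣ _ := h1
      _ = _ := by ring
  have h4 := (dvd_mul_right 2 r).trans h3
  rw [Nat.dvd_iff_mod_eq_zero, Nat.mul_mod, Nat.pow_mod, hro, one_pow, hSodd] at h4
  norm_num at h4

/-- `A₄ ≤ A₅`. -/
theorem exists_A4_in_A5 :
    ∃ H : Subgroup (alternatingGroup (Fin 5)), Nonempty (H ≃* alternatingGroup (Fin 4)) := by
  let e : Fin 4 ≃ {i : Fin 5 // (i : ℕ) < 4} :=
    { toFun := fun i => ⟨i.castSucc, i.2⟩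
      invFun := fun x => ⟨x.1.1, x.2⟩
      left_inv := fun i => rfl
      right_inv := fun x => rfl }
  let f : alternatingGroup (Fin 4) →* alternatingGroup (Fin 5) :=
    ((Equiv.Perm.extendDomainHom e).comp (alternatingGroup (Fin 4)).subtype).codRestrict _ fun g => by
      rw [Equiv.Perm.mem_alternatingGroup]
      change Equiv.Perm.sign (g.1.extendDomain e) = 1
      rw [Equiv.Perm.sign_extendDomain]
      exact g.2
  have hf : Function.Injective f := fun a b h =>
    Subtype.ext (Equiv.Perm.extendDomainHom_injective e (congrArg Subtype.val h))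
  exact ⟨f.range, ⟨(MonoidHom.ofInjective hf).symm⟩⟩

/-- `A₅ ≤ PSL₂(2^n)` for even `n`. -/
theorem exists_A5_even {k : ℕ} (hk : 1 ≤ k) (hF : Fintype.card F = 4 ^ k) :
    ∃ H : Subgroup (Matrix.ProjectiveSpecialLinearGroup (Fin 2) F),
      Nonempty (H ≃* alternatingGroup (Fin 5)) := by
  have : Fintype (GaloisField 2 2) := Fintype.ofFinite _
  have hc : Fintype.card (GaloisField 2 2) = 4 := by
    rw [← Nat.card_eq_fintype_card, GaloisField.card 2 2 (by norm_num)]
    norm_num
  obtain ⟨ι⟩ := nonempty_ringHom_of_card_pow (F := F) (K := GaloisField 2 2) hk (by rw [hc, hF])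
  obtain ⟨H, ⟨e⟩⟩ := exists_subgroup_psl ι
  obtain ⟨e'⟩ := PSL2_four_iso (F := GaloisField 2 2) hc
  exact ⟨H, ⟨e.trans e'⟩⟩

/-- No `A₄` in `PSL₂(2^n)` for odd `n`. -/
theorem no_A4_char_two (h2 : (2 : F) = 0) (h3 : ¬ 3 ∣ Fintype.card F - 1)
    {H : Subgroup (Matrix.ProjectiveSpecialLinearGroup (Fin 2) F)}
    (e : H ≃* alternatingGroup (Fin 4)) : False := by
  obtain ⟨σ, α, h1, h2', h3', h4, h5⟩ : ∃ σ α : alternatingGroup (Fin 4),
      α * α = 1 ∧ α ≠ 1 ∧ σ * σ * σ = 1 ∧ σ * α * σ⁻¹ * α = α * (σ * α * σ⁻¹) ∧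
        σ * α * σ⁻¹ ≠ α :=
    ⟨⟨Equiv.swap 0 1 * Equiv.swap 1 2, Equiv.Perm.mem_alternatingGroup.2 (by decide)⟩,
      ⟨Equiv.swap 0 1 * Equiv.swap 2 3, Equiv.Perm.mem_alternatingGroup.2 (by decide)⟩,
      by decide, by decide, by decide, by decide, by decide⟩
  classical
  have hbot := center_SL2_eq_bot (F := F) h2
  have hinj : Function.Injective
      (toPSL : Matrix.SpecialLinearGroup (Fin 2) F → Matrix.ProjectiveSpecialLinearGroup (Fin 2) F) := by
    rw [injective_iff_map_eq_one]
    intro g hg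
    rw [toPSL, QuotientGroup.mk'_apply, QuotientGroup.eq_one_iff, hbot, Subgroup.mem_bot] at hg
    exact hg
  let g : alternatingGroup (Fin 4) → Matrix.SpecialLinearGroup (Fin 2) F :=
    fun z => Function.surjInv toPSL_surjective (e.symm z : Matrix.ProjectiveSpecialLinearGroup (Fin 2) F)
  have hg : ∀ z, toPSL (g z) = (e.symm z : Matrix.ProjectiveSpecialLinearGroup (Fin 2) F) := fun z =>
    Function.surjInv_eq toPSL_surjective _
  have gmul : ∀ y z, g (y * z) = g y * g z := fun y z =>
    hinj (by rw [hg, map_mul toPSL, hg, hg, map_mul, Subgroup.coe_mul])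
  have gone : g 1 = 1 := hinj (by rw [hg, map_one, map_one, Subgroup.coe_one])
  have ginj : Function.Injective g := fun y z h => e.symm.injective (Subtype.ext (by rw [← hg, ← hg, h]))
  set a := g α
  set b := g (σ * α * σ⁻¹)
  set x := g σ
  have haa : a * a = 1 := by rw [← gmul, h1, gone]
  have ha1 : a ≠ 1 := fun h => h2' (ginj (h.trans gone.symm))
  have hbb : b * b = 1 := by
    rw [← gmul, show σ * α * σ⁻¹ * (σ * α * σ⁻¹) = σ * (α * α) * σ⁻¹ by group, h1, mul_one,
      mul_inv_cancel, gone]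
  have hab : b * a = a * b := by rw [← gmul, ← gmul, h4]
  have hxa : x * a = b * x := by rw [← gmul, ← gmul, inv_mul_cancel_right]
  have hx3 : x * x * x = 1 := by rw [← gmul, ← gmul, h3', gone]
  have hne : b ≠ a := fun h => h5 (ginj h)
  have m1 : a.1 * a.1 = 1 := congrArg Subtype.val haa
  have hN : (a.1 - 1) * (a.1 - 1) = 0 := by
    have e2 : a.1 + a.1 = 0 := by rw [← two_smul F a.1, h2, zero_smul]
    rw [sub_mul, mul_sub, mul_one, one_mul, m1]
    rw [show (1 : Matrix (Fin 2) (Fin 2) F) - a.1 - (a.1 - 1) = 2 • (1 : Matrix (Fin 2) (Fin 2) F) -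
      (a.1 + a.1) by rw [two_nsmul]; abel, e2, sub_zero, two_nsmul, ← two_smul F, h2, zero_smul]
  obtain ⟨v, hv⟩ : ∃ v : Fin 2 → F, (a.1 - 1) *ᵥ v ≠ 0 := by
    by_contra h
    push Not at h
    refine ha1 (Subtype.ext (sub_eq_zero.1 (Matrix.ext_of_mulVec_single fun i => ?_)))
    exact (h _).trans (Matrix.zero_mulVec _).symm
  set w := (a.1 - 1) *ᵥ v with hw
  have haw : a.1 *ᵥ w = w := by
    have h0 : (a.1 - 1) *ᵥ w = 0 := by rw [hw, Matrix.mulVec_mulVec, hN, Matrix.zero_mulVec]
    rwa [Matrix.sub_mulVec, Matrix.one_mulVec, sub_eq_zero] at h0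
  have hav : a.1 *ᵥ v = v + w := by
    rw [hw, Matrix.sub_mulVec, Matrix.one_mulVec, add_sub_cancel]
  set d := w 0 * v 1 - v 0 * w 1 with hd
  have hd0 : d ≠ 0 := by
    intro hd0
    apply hv
    have w0 := congrFun haw 0
    have w1 := congrFun haw 1
    have v0 := congrFun hav 0
    have v1 := congrFun hav 1
    simp [Matrix.mulVec, dotProduct, Fin.sum_univ_two] at w0 w1 v0 v1
    have q0 : w 0 * w 0 = 0 := by
      linear_combination (-(w 0)) * v0 + v 0 * w0 + (a.1 0 1) * hd0
    have q1 : w 1 * w 1 = 0 := by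
      linear_combination (-(w 1)) * v1 + v 1 * w1 - (a.1 1 0) * hd0
    funext i
    fin_cases i
    · exact mul_self_eq_zero.1 q0
    · exact mul_self_eq_zero.1 q1
  let P : Matrix.SpecialLinearGroup (Fin 2) F :=
    ⟨!![w 0, d⁻¹ * v 0; w 1, d⁻¹ * v 1], by
      rw [Matrix.det_fin_two_of]
      field_simp
      rw [hd]⟩
  have hPa : a.1 * P.1 = P.1 * !![1, d⁻¹; 0, 1] := by
    have w0 := congrFun haw 0
    have w1 := congrFun haw 1
    have v0 := congrFun hav 0
    have v1 := congrFun hav 1
    simp [Matrix.mulVec, dotProduct, Fin.sum_univ_two] at w0 w1 v0 v1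
    ext i j
    fin_cases i <;> fin_cases j <;> simp [P, Matrix.mul_apply, Fin.sum_univ_two]
    · linear_combination w0
    · linear_combination d⁻¹ * v0
    · linear_combination w1
    · linear_combination d⁻¹ * v1
  let U : Matrix.SpecialLinearGroup (Fin 2) F := ⟨!![1, d⁻¹; 0, 1], by simp [Matrix.det_fin_two]⟩
  have hU : P⁻¹ * a * P = U := by
    rw [mul_assoc, show a * P = P * U from Subtype.ext hPa, inv_mul_cancel_left]
  set b' := P⁻¹ * b * P
  set x' := P⁻¹ * x * P
  have k1 : (b' * U).1 = (U * b').1 := congrArg Subtype.val (by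
    rw [← hU]
    calc P⁻¹ * b * P * (P⁻¹ * a * P) = P⁻¹ * (b * a) * P := by group
      _ = P⁻¹ * (a * b) * P := by rw [hab]
      _ = P⁻¹ * a * P * (P⁻¹ * b * P) := by group)
  have k2 : (x' * U).1 = (b' * x').1 := congrArg Subtype.val (by
    rw [← hU]
    calc P⁻¹ * x * P * (P⁻¹ * a * P) = P⁻¹ * (x * a) * P := by group
      _ = P⁻¹ * (b * x) * P := by rw [hxa]
      _ = P⁻¹ * b * P * (P⁻¹ * x * P) := by group)
  have k3 : (b' * b').1 = 1 := congrArg Subtype.val (show b' * b' = 1 by
    calc P⁻¹ * b * P * (P⁻¹ * b * P) = P⁻¹ * (b * b) * P := by group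
      _ = 1 := by rw [hbb, mul_one, inv_mul_cancel])
  have k4 : (x' * x' * x').1 = 1 := congrArg Subtype.val (show x' * x' * x' = 1 by
    calc P⁻¹ * x * P * (P⁻¹ * x * P) * (P⁻¹ * x * P) = P⁻¹ * (x * x * x) * P := by group
      _ = 1 := by rw [hx3, mul_one, inv_mul_cancel])
  simp only [Matrix.SpecialLinearGroup.coe_mul] at k1 k2 k3 k4
  have hi : d⁻¹ ≠ 0 := inv_ne_zero hd0
  have b10 : b'.1 1 0 = 0 := by
    have := congrFun (congrFun k1 0) 0
    simp [U, Matrix.mul_apply, Fin.sum_univ_two] at this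
    exact this.resolve_left hd0
  have bd : b'.1 0 0 = b'.1 1 1 := by
    have := congrFun (congrFun k1 0) 1
    simp [U, Matrix.mul_apply, Fin.sum_univ_two] at this
    exact mul_right_cancel₀ hi (by linear_combination this)
  have b00 : b'.1 0 0 = 1 := by
    have := congrFun (congrFun k3 0) 0
    simp [Matrix.mul_apply, Fin.sum_univ_two, b10] at this
    have hh : (b'.1 0 0 - 1) * (b'.1 0 0 - 1) = 0 := by
      linear_combination this + (1 - b'.1 0 0) * h2
    exact sub_eq_zero.1 (mul_self_eq_zero.1 hh)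
  have b11 : b'.1 1 1 = 1 := bd ▸ b00
  have x10 : x'.1 1 0 = 0 := by
    have := congrFun (congrFun k2 1) 1
    simp [U, Matrix.mul_apply, Fin.sum_univ_two, b10, b11] at this
    exact this.resolve_right hd0
  have hxd := x'.2
  rw [Matrix.det_fin_two, x10, mul_zero, sub_zero] at hxd
  have x00 : x'.1 0 0 = 1 := by
    have := congrFun (congrFun k4 0) 0
    simp [Matrix.mul_apply, Fin.sum_univ_two, x10] at this
    have hcube := this
    by_contra hne1
    apply h3
    have hu : orderOf (Units.mk0 (x'.1 0 0) (left_ne_zero_of_mul_eq_one hxd)) = 3 := by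
      have : Fact (Nat.Prime 3) := ⟨Nat.prime_three⟩
      refine orderOf_eq_prime (Units.ext ?_) (fun h => hne1 (congrArg Units.val h))
      simp [pow_succ, mul_assoc]
      linear_combination hcube
    have := orderOf_dvd_natCard (Units.mk0 (x'.1 0 0) (left_ne_zero_of_mul_eq_one hxd))
    rwa [hu, Nat.card_units, Nat.card_eq_fintype_card] at this
  rw [x00, one_mul] at hxd
  have b01 : b'.1 0 1 = d⁻¹ := by
    have := congrFun (congrFun k2 0) 1
    simp [U, Matrix.mul_apply, Fin.sum_univ_two, x00, x10, hxd, b00] at this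
    linear_combination -this
  apply hne
  have hbU : b' = U := by
    ext i j
    fin_cases i <;> fin_cases j <;> simp [U, b00, b01, b10, b11]
  rw [← hU] at hbU
  exact mul_left_cancel (mul_right_cancel hbU)

end Cfsg.Agent.Linear
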