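import Cfsg.Agent.Linear.IcosianData
import Cfsg.Agent.Linear.IsoAlternating
import Cfsg.Agent.Linear.PSL2Subfield

/-!
# `A₅ ≤ PSL₂(q)` for odd `q` with a root of `x² = x + 1`
-/

set_option autoImplicit false
set_option synthInstance.maxSize 4096

namespace Cfsg.Agent.Linear

open Matrix

local notation "SL5" => Matrix.SpecialLinearGroup (Fin 2) (ZMod 5)

/-- Product in `ℤ[φ]`. -/
def zphiMul (a b c d : Int) : Int × Int := (a * c + b * d, a * d + b * c + b * d)

/-- Hamilton product of coordinates over `ℤ[φ]`. -/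
def q8Mul (p r : Q8) : Q8 :=
  let (a, a', b, b', c, c', d, d') := p
  let (e, e', f, f', g, g', h, h') := r
  let ae := zphiMul a a' e e'; let bf := zphiMul b b' f f'
  let cg := zphiMul c c' g g'; let dh := zphiMul d d' h h'
  let af := zphiMul a a' f f'; let be := zphiMul b b' e e'
  let ch := zphiMul c c' h h'; let dg := zphiMul d d' g g'
  let ag := zphiMul a a' g g'; let bh := zphiMul b b' h h'
  let ce := zphiMul c c' e e'; let df := zphiMul d d' f f'
  let ah := zphiMul a a' h h'; let bg := zphiMul b b' g g'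
  let cf := zphiMul c c' f f'; let de := zphiMul d d' e e'
  (ae.1 - bf.1 - cg.1 - dh.1, ae.2 - bf.2 - cg.2 - dh.2,
   af.1 + be.1 + ch.1 - dg.1, af.2 + be.2 + ch.2 - dg.2,
   ag.1 - bh.1 + ce.1 + df.1, ag.2 - bh.2 + ce.2 + df.2,
   ah.1 + bg.1 - cf.1 + de.1, ah.2 + bg.2 - cf.2 + de.2)

/-- Doubling. -/
def q8Dbl (p : Q8) : Q8 :=
  let (a, a', b, b', c, c', d, d') := p
  (2 * a, 2 * a', 2 * b, 2 * b', 2 * c, 2 * c', 2 * d, 2 * d')

/-- The image of the generator of order four. -/
def icoS : Q8 := (0, 0, 2, 0, 0, 0, 0, 0)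

/-- Twice the identity. -/
def icoOne : Q8 := (2, 0, 0, 0, 0, 0, 0, 0)

/-- The coordinates of entry `k`. -/
def icoQ (k : ℕ) : Q8 := icoVal.getD k icoOne

/-- The matrix of entry `k`. -/
def icoMat (k : ℕ) : Matrix (Fin 2) (Fin 2) (ZMod 5) :=
  let c := icoCode.getD k 0
  !![((c / 125 : ℕ) : ZMod 5), ((c / 25 % 5 : ℕ) : ZMod 5);
     ((c / 5 % 5 : ℕ) : ZMod 5), ((c % 5 : ℕ) : ZMod 5)]

theorem icoMat_det : ∀ k : Fin 120, (icoMat k).det = 1 := by
  simp only [Matrix.det_fin_two]
  decide +kernel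

theorem icoCode_back : ∀ k : Fin 120,
    icoBack.getD (icoCode.getD k 0) 0 = k.val ∧ icoCode.getD k 0 < 625 := by
  decide +kernel

theorem icoLeft_spec : ∀ k : Fin 120,
    (icoLeftS.getD k 0 < 120 ∧
      icoMat (icoLeftS.getD k 0) = !![0, -1; 1, 0] * icoMat k ∧
      q8Mul icoS (icoQ k) = q8Dbl (icoQ (icoLeftS.getD k 0))) ∧
    (icoLeftT.getD k 0 < 120 ∧
      icoMat (icoLeftT.getD k 0) = !![1, 1; 0, 1] * icoMat k ∧
      q8Mul icoT (icoQ k) = q8Dbl (icoQ (icoLeftT.getD k 0))) := by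
  decide +kernel

theorem icoPar_spec : ∀ k : Fin 120, k.val = 0 ∨ (icoPar.getD k 0 < k.val ∧
    ((icoParGen.getD k 0 = 0 ∧ icoLeftS.getD (icoPar.getD k 0) 0 = k.val) ∨
      (icoParGen.getD k 0 = 1 ∧ icoLeftT.getD (icoPar.getD k 0) 0 = k.val))) := by
  decide +kernel

theorem ico_basics : icoMat 0 = 1 ∧ icoQ 0 = icoOne ∧ icoQ (icoLeftS.getD 0 0) = icoS ∧
    icoQ (icoLeftT.getD 0 0) = icoT := by
  decide +kernel

/-- Entry `k` in the group. -/
def icoElt (k : Fin 120) : SL5 := ⟨icoMat k, icoMat_det k⟩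

theorem icoMat_code (k : Fin 120) :
    125 * (icoMat k 0 0).val + 25 * (icoMat k 0 1).val + 5 * (icoMat k 1 0).val +
      (icoMat k 1 1).val = icoCode.getD k 0 := by
  have h := (icoCode_back k).2
  simp only [icoMat]
  generalize icoCode.getD k 0 = c at h ⊢
  simp [ZMod.val_natCast]
  omega

theorem icoElt_bijective : Function.Bijective icoElt := by
  have hinj : Function.Injective icoElt := by
    intro i j h
    have hM : icoMat i = icoMat j := congrArg Subtype.val h
    have hi := icoMat_code i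
    have hj := icoMat_code j
    rw [hM, hj] at hi
    exact Fin.ext ((icoCode_back i).1.symm.trans (hi ▸ (icoCode_back j).1))
  refine hinj.bijective_of_nat_card_le ?_
  rw [card_SL_two, ZMod.card, Nat.card_eq_fintype_card, Fintype.card_fin]
  norm_num

section Real

variable {F : Type*} [Field F] (φ u v : F)

/-- `a + b φ`. -/
def zc (a b : Int) : F := (a : F) + (b : F) * φ

/-- The quaternion with the given coordinates, not halved. -/
def q8Mat (p : Q8) : Matrix (Fin 2) (Fin 2) F :=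
  let (a, a', b, b', c, c', d, d') := p
  !![zc φ a a' + zc φ c c' * u - zc φ d d' * v, -zc φ b b' + zc φ c c' * v + zc φ d d' * u;
     zc φ b b' + zc φ c c' * v + zc φ d d' * u, zc φ a a' - zc φ c c' * u + zc φ d d' * v]

variable {φ u v}

theorem zphiMul_cast (hφ : φ * φ = φ + 1) (a b c d : Int) :
    ((zphiMul a b c d).1 : F) + ((zphiMul a b c d).2 : F) * φ = zc φ a b * zc φ c d := by
  simp only [zphiMul, zc]
  push_cast
  linear_combination (-((b : F) * (d : F))) * hφ

theorem q8Mat_mul (hφ : φ * φ = φ + 1) (huv : u * u + v * v = -1) (p r : Q8) :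
    q8Mat φ u v (q8Mul p r) = q8Mat φ u v p * q8Mat φ u v r := by
  obtain ⟨a, a', b, b', c, c', d, d'⟩ := p
  obtain ⟨e, e', f, f', g, g', h, h'⟩ := r
  have c0 := fun s s' t t' => zphiMul_cast (F := F) hφ s s' t t'
  ext i j
  fin_cases i <;> fin_cases j <;> simp [q8Mat, q8Mul, zc, Matrix.mul_apply, Fin.sum_univ_two]
  all_goals simp only [zc] at c0
  · linear_combination c0 a a' e e' - c0 b b' f f' - c0 c c' g g' - c0 d d' h h' +
      u * (c0 a a' g g' - c0 b b' h h' + c0 c c' e e' + c0 d d' f f') -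
      v * (c0 a a' h h' + c0 b b' g g' - c0 c c' f f' + c0 d d' e e') -
      (((c : F) + c' * φ) * (g + g' * φ) + ((d : F) + d' * φ) * (h + h' * φ)) * huv
  · linear_combination -(c0 a a' f f' + c0 b b' e e' + c0 c c' h h' - c0 d d' g g') +
      v * (c0 a a' g g' - c0 b b' h h' + c0 c c' e e' + c0 d d' f f') +
      u * (c0 a a' h h' + c0 b b' g g' - c0 c c' f f' + c0 d d' e e') -
      (((c : F) + c' * φ) * (h + h' * φ) - ((d : F) + d' * φ) * (g + g' * φ)) * huv
  · linear_combination (c0 a a' f f' + c0 b b' e e' + c0 c c' h h' - c0 d d' g g') +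
      v * (c0 a a' g g' - c0 b b' h h' + c0 c c' e e' + c0 d d' f f') +
      u * (c0 a a' h h' + c0 b b' g g' - c0 c c' f f' + c0 d d' e e') -
      (((d : F) + d' * φ) * (g + g' * φ) - ((c : F) + c' * φ) * (h + h' * φ)) * huv
  · linear_combination c0 a a' e e' - c0 b b' f f' - c0 c c' g g' - c0 d d' h h' -
      u * (c0 a a' g g' - c0 b b' h h' + c0 c c' e e' + c0 d d' f f') +
      v * (c0 a a' h h' + c0 b b' g g' - c0 c c' f f' + c0 d d' e e') -
      (((c : F) + c' * φ) * (g + g' * φ) + ((d : F) + d' * φ) * (h + h' * φ)) * huv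

theorem q8Mat_dbl (p : Q8) : q8Mat φ u v (q8Dbl p) = (2 : F) • q8Mat φ u v p := by
  obtain ⟨a, a', b, b', c, c', d, d'⟩ := p
  ext i j
  fin_cases i <;> fin_cases j <;> simp [q8Mat, q8Dbl, zc] <;> ring

/-- The two-dimensional representation on matrices. -/
noncomputable def icoRep (φ u v : F) (g : SL5) : Matrix (Fin 2) (Fin 2) F :=
  (2 : F)⁻¹ • q8Mat φ u v (icoQ ((Equiv.ofBijective icoElt icoElt_bijective).symm g))

theorem icoRep_elt (φ u v : F) (k : Fin 120) :
    icoRep φ u v (icoElt k) = (2 : F)⁻¹ • q8Mat φ u v (icoQ k) := by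
  rw [icoRep]
  exact congrArg (fun m : Fin 120 => (2 : F)⁻¹ • q8Mat φ u v (icoQ m))
    ((Equiv.ofBijective icoElt icoElt_bijective).symm_apply_apply k)

theorem icoRep_one (h2 : (2 : F) ≠ 0) (φ u v : F) : icoRep φ u v 1 = 1 := by
  have h1 : (1 : SL5) = icoElt 0 := Subtype.ext ico_basics.1.symm
  rw [h1, icoRep_elt]
  change (2 : F)⁻¹ • q8Mat φ u v (icoQ 0) = 1
  rw [ico_basics.2.1]
  ext i j
  fin_cases i <;> fin_cases j <;> simp [q8Mat, icoOne, zc, h2]

/-- The generator of order four. -/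
def icoGenS : SL5 := ⟨!![0, -1; 1, 0], by simp [Matrix.det_fin_two]⟩

/-- The generator of order five. -/
def icoGenT : SL5 := ⟨!![1, 1; 0, 1], by simp [Matrix.det_fin_two]⟩

theorem icoRep_left (h2 : (2 : F) ≠ 0) (hφ : φ * φ = φ + 1) (huv : u * u + v * v = -1)
    (s : SL5) (lefts : List ℕ) (q : Q8)
    (hspec : ∀ k : Fin 120, lefts.getD k 0 < 120 ∧ icoMat (lefts.getD k 0) = s.1 * icoMat k ∧
      q8Mul q (icoQ k) = q8Dbl (icoQ (lefts.getD k 0)))
    (h0 : icoQ (lefts.getD 0 0) = q) (g : SL5) :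
    icoRep φ u v (s * g) = icoRep φ u v s * icoRep φ u v g := by
  obtain ⟨k, rfl⟩ := icoElt_bijective.2 g
  have hs : ∀ k : Fin 120, s * icoElt k = icoElt ⟨lefts.getD k 0, (hspec k).1⟩ := fun k =>
    Subtype.ext (hspec k).2.1.symm
  have hs0 : s = icoElt ⟨lefts.getD 0 0, (hspec 0).1⟩ :=
    (mul_one s).symm.trans ((congrArg (s * ·) (Subtype.ext ico_basics.1.symm :
      (1 : SL5) = icoElt 0)).trans (hs 0))
  conv_rhs => rw [hs0]
  rw [hs, icoRep_elt, icoRep_elt, icoRep_elt, smul_mul_assoc, mul_smul_comm]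
  change _ = (2 : F)⁻¹ • (2 : F)⁻¹ • (q8Mat φ u v (icoQ (lefts.getD 0 0)) * q8Mat φ u v (icoQ k))
  rw [h0, ← q8Mat_mul hφ huv]
  refine Eq.trans ?_ (congrArg (fun x => (2 : F)⁻¹ • (2 : F)⁻¹ • q8Mat φ u v x) (hspec k).2.2.symm)
  rw [q8Mat_dbl, smul_smul (2 : F)⁻¹ (2 : F), inv_mul_cancel₀ h2, one_smul]

theorem icoRep_mul (h2 : (2 : F) ≠ 0) (hφ : φ * φ = φ + 1) (huv : u * u + v * v = -1) :
    ∀ g : SL5, (icoRep φ u v g).det = 1 ∧
      ∀ h, icoRep φ u v (g * h) = icoRep φ u v g * icoRep φ u v h := by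
  have hS := icoRep_left (φ := φ) (u := u) (v := v) h2 hφ huv icoGenS icoLeftS icoS
    (fun k => (icoLeft_spec k).1) ico_basics.2.2.1
  have hT := icoRep_left (φ := φ) (u := u) (v := v) h2 hφ huv icoGenT icoLeftT icoT
    (fun k => (icoLeft_spec k).2) ico_basics.2.2.2
  have hdS : (icoRep φ u v icoGenS).det = 1 := by
    have h : icoGenS = icoElt ⟨icoLeftS.getD 0 0, (icoLeft_spec 0).1.1⟩ := by
      apply Subtype.ext
      change _ = icoMat (icoLeftS.getD 0 0)
      have h00 := (icoLeft_spec 0).1.2.1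
      simp only [Fin.val_zero] at h00
      rw [h00]
      change (icoGenS : SL5).1 = !![0, -1; 1, 0] * icoMat 0
      rw [ico_basics.1, mul_one]
      rfl
    rw [h, icoRep_elt]
    change ((2 : F)⁻¹ • q8Mat φ u v (icoQ (icoLeftS.getD 0 0))).det = 1
    rw [ico_basics.2.2.1, Matrix.det_smul, Fintype.card_fin]
    simp [q8Mat, icoS, zc, Matrix.det_fin_two]
    field_simp
  have hdT : (icoRep φ u v icoGenT).det = 1 := by
    have h : icoGenT = icoElt ⟨icoLeftT.getD 0 0, (icoLeft_spec 0).2.1⟩ := by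
      apply Subtype.ext
      change _ = icoMat (icoLeftT.getD 0 0)
      have h00 := (icoLeft_spec 0).2.2.1
      simp only [Fin.val_zero] at h00
      rw [h00]
      change (icoGenT : SL5).1 = !![1, 1; 0, 1] * icoMat 0
      rw [ico_basics.1, mul_one]
      rfl
    rw [h, icoRep_elt]
    change ((2 : F)⁻¹ • q8Mat φ u v (icoQ (icoLeftT.getD 0 0))).det = 1
    rw [ico_basics.2.2.2, Matrix.det_smul, Fintype.card_fin]
    simp [q8Mat, icoT, zc, Matrix.det_fin_two]
    field_simp
    linear_combination 2 * hφ - φ ^ 2 * huv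
  suffices H : ∀ (n : ℕ) (k : Fin 120), k.val = n → (icoRep φ u v (icoElt k)).det = 1 ∧
      ∀ h, icoRep φ u v (icoElt k * h) = icoRep φ u v (icoElt k) * icoRep φ u v h by
    intro g
    obtain ⟨k, rfl⟩ := icoElt_bijective.2 g
    exact H k.val k rfl
  intro n
  induction n using Nat.strong_induction_on with
  | _ n ih =>
    intro k hk
    rcases icoPar_spec k with h0 | ⟨hlt, hcase⟩
    · have : icoElt k = 1 := Subtype.ext (by
        change icoMat k = 1; rw [h0]; exact ico_basics.1)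
      rw [this, icoRep_one h2]
      exact ⟨Matrix.det_one, fun h => by rw [one_mul, one_mul]⟩
    · obtain ⟨ihd, ihm⟩ := ih _ (hk ▸ hlt) ⟨icoPar.getD k 0, hlt.trans k.2⟩ rfl
      have step : ∀ s : SL5, (icoRep φ u v s).det = 1 →
          (∀ h, icoRep φ u v (s * h) = icoRep φ u v s * icoRep φ u v h) →
          icoElt k = s * icoElt ⟨icoPar.getD k 0, hlt.trans k.2⟩ →
          (icoRep φ u v (icoElt k)).det = 1 ∧
            ∀ h, icoRep φ u v (icoElt k * h) = icoRep φ u v (icoElt k) * icoRep φ u v h := by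
        intro s hd hs he
        rw [he]
        refine ⟨by rw [hs, Matrix.det_mul, hd, ihd, one_mul], fun h => ?_⟩
        rw [mul_assoc, hs, ihm, hs, mul_assoc]
      rcases hcase with ⟨-, he⟩ | ⟨-, he⟩
      · refine step icoGenS hdS hS (Subtype.ext ?_)
        change icoMat k = !![0, -1; 1, 0] * icoMat (icoPar.getD k 0)
        rw [← (icoLeft_spec ⟨icoPar.getD k 0, hlt.trans k.2⟩).1.2.1, he]
      · refine step icoGenT hdT hT (Subtype.ext ?_)
        change icoMat k = !![1, 1; 0, 1] * icoMat (icoPar.getD k 0)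
        rw [← (icoLeft_spec ⟨icoPar.getD k 0, hlt.trans k.2⟩).2.2.1, he]

/-- The root of `x² = x + 1` from an element of order five. -/
theorem exists_golden [Fintype F] (h5 : 5 ∣ Fintype.card F * (Fintype.card F ^ 2 - 1)) :
    ∃ φ : F, φ * φ = φ + 1 := by
  have : Fact (Nat.Prime 5) := ⟨by norm_num⟩
  obtain ⟨g, hg⟩ := exists_prime_orderOf_dvd_card' (G := Matrix.SpecialLinearGroup (Fin 2) F) 5
    (by rw [card_SL_two]; exact h5)
  have hd := g.2
  rw [Matrix.det_fin_two] at hd
  set t := g.1 0 0 + g.1 1 1 with ht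
  set M := g.1 with hM
  have hCH : M * M = t • M - 1 := by
    ext i j
    fin_cases i <;> fin_cases j <;> simp [Matrix.mul_apply, Fin.sum_univ_two, ht] <;>
      first | (linear_combination -hd) | ring
  have h5' : M * M * (M * M) * M = 1 := by
    have := congrArg Subtype.val (hg ▸ pow_orderOf_eq_one g)
    simpa [pow_succ, mul_assoc, hM] using this
  have e5 : (t * t * t * t - 3 * (t * t) + 1) • M = (t * t * t - 2 * t + 1) • 1 := by
    have h3 : M * M * M = (t * t - 1) • M - t • 1 := by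
      rw [hCH, sub_mul, smul_mul_assoc, one_mul, hCH, smul_sub, smul_smul, sub_smul, one_smul]
      abel
    have h4 : M * M * (M * M) = (t * t * t - 2 * t) • M - (t * t - 1) • 1 := by
      rw [← mul_assoc, h3, sub_mul, smul_mul_assoc, smul_mul_assoc, one_mul, hCH]
      module
    rw [h4, sub_mul, smul_mul_assoc, smul_mul_assoc, one_mul, hCH] at h5'
    rw [add_smul _ _ (1 : Matrix (Fin 2) (Fin 2) F), one_smul]
    conv_rhs => arg 2; rw [← h5']
    module
  rcases eq_or_ne (t * t * t * t - 3 * (t * t) + 1) 0 with hU | hU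
  · rcases mul_eq_zero.1 (show (t * t - t - 1) * (t * t + t - 1) = 0 by linear_combination hU) with
      h | h
    · exact ⟨t, by linear_combination h⟩
    · exact ⟨-t, by linear_combination h⟩
  · exfalso
    set c := (t * t * t * t - 3 * (t * t) + 1)⁻¹ * (t * t * t - 2 * t + 1)
    have hMc : M = c • 1 := by
      rw [mul_smul, ← e5, smul_smul, inv_mul_cancel₀ hU, one_smul]
    have hcen : g ∈ Subgroup.center (Matrix.SpecialLinearGroup (Fin 2) F) := by
      rw [Matrix.SpecialLinearGroup.mem_center_iff]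
      refine ⟨c, ?_, by rw [Matrix.scalar_apply, ← Matrix.smul_one_eq_diagonal]; exact hMc.symm⟩
      have := g.2
      rwa [← hM, hMc, Matrix.det_smul, Matrix.det_one, mul_one] at this
    have hsq : g ^ 2 = 1 := by
      rcases mem_center_SL2_iff.1 hcen with rfl | rfl
      · simp
      · rw [sq, neg_mul_neg, one_mul]
    have := orderOf_dvd_of_pow_eq_one hsq
    rw [hg] at this
    norm_num at this

/-- `A₅ ≤ PSL₂(q)` for odd `q` with `5 ∣ q(q² - 1)`. -/
theorem exists_A5_odd [Fintype F] (h2 : (2 : F) ≠ 0)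
    (h5 : 5 ∣ Fintype.card F * (Fintype.card F ^ 2 - 1)) :
    ∃ H : Subgroup (Matrix.ProjectiveSpecialLinearGroup (Fin 2) F),
      Nonempty (H ≃* alternatingGroup (Fin 5)) := by
  classical
  obtain ⟨φ, hφ⟩ := exists_golden h5
  set u := (quatH h2 : Matrix.SpecialLinearGroup (Fin 2) F).1 0 0
  set v := (quatH h2 : Matrix.SpecialLinearGroup (Fin 2) F).1 1 0
  have huv : u * u + v * v = -1 := by
    have hH := eq_of_anticommute_quatJ (quatH_anti (F := F) h2)
    have hd := (quatH h2 : Matrix.SpecialLinearGroup (Fin 2) F).2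
    rw [hH, Matrix.det_fin_two_of] at hd
    linear_combination -hd
  have hrep := icoRep_mul (φ := φ) (u := u) (v := v) h2 hφ huv
  let ψ : SL5 →* Matrix.SpecialLinearGroup (Fin 2) F :=
    { toFun := fun g => ⟨icoRep φ u v g, (hrep g).1⟩
      map_one' := Subtype.ext (icoRep_one h2 φ u v)
      map_mul' := fun g h => Subtype.ext ((hrep g).2 h) }
  let χ := toPSL.comp ψ
  have hc : Subgroup.center SL5 ≤ χ.ker := by
    intro z hz
    rw [MonoidHom.mem_ker, MonoidHom.comp_apply, toPSL_eq_one_iff]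
    rcases mem_center_SL2_iff.1 hz with rfl | rfl
    · exact Or.inl (map_one ψ)
    · rcases eq_or_ne (ψ (-1)) 1 with h | h
      · exact Or.inl h
      · exact Or.inr (Subtype.ext (SL2_involution_eq_neg_one h2 h
          (by rw [← map_mul, neg_mul_neg, one_mul, map_one])))
  let χ' : Matrix.ProjectiveSpecialLinearGroup (Fin 2) (ZMod 5) →*
      Matrix.ProjectiveSpecialLinearGroup (Fin 2) F := QuotientGroup.lift _ χ hc
  have hsimple : IsSimpleGroup (Matrix.ProjectiveSpecialLinearGroup (Fin 2) (ZMod 5)) :=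
    Matrix.ProjectiveSpecialLinearGroup.rank_two_simple (by simp)
  have hne : χ icoGenS ≠ 1 := by
    refine ((toPSL_involution h2).2 ?_).1
    have h4 : icoGenS * icoGenS = (-1 : SL5) := by decide +kernel
    have hS0 : icoRep φ u v icoGenS = !![0, -1; 1, 0] := by
      have h : icoGenS = icoElt ⟨icoLeftS.getD 0 0, (icoLeft_spec 0).1.1⟩ := by
        apply Subtype.ext
        change _ = icoMat (icoLeftS.getD 0 0)
        have h00 := (icoLeft_spec 0).1.2.1
        simp only [Fin.val_zero] at h00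
        rw [h00]
        change (icoGenS : SL5).1 = !![0, -1; 1, 0] * icoMat 0
        rw [ico_basics.1, mul_one]
        rfl
      rw [h, icoRep_elt]
      change (2 : F)⁻¹ • q8Mat φ u v (icoQ (icoLeftS.getD 0 0)) = _
      rw [ico_basics.2.2.1]
      ext i j
      fin_cases i <;> fin_cases j <;> simp [q8Mat, icoS, zc, h2]
    change icoRep φ u v icoGenS * icoRep φ u v icoGenS = -1
    rw [hS0]
    exact quatJ_sq
  have hinj : Function.Injective χ' := by
    rw [← MonoidHom.ker_eq_bot_iff]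
    refine (MonoidHom.normal_ker χ').eq_bot_or_eq_top.resolve_right fun h => hne ?_
    have : QuotientGroup.mk icoGenS ∈ χ'.ker := h ▸ Subgroup.mem_top _
    exact this
  obtain ⟨e⟩ := PSL2_five_iso (F := ZMod 5) (ZMod.card 5)
  exact ⟨_, ⟨(MonoidHom.ofInjective hinj).symm.trans e⟩⟩

end Real

end Cfsg.Agent.Linear
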