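/-!
# The icosian realisation of `SL₂(5)`: tables

Entry `k` is a matrix of `SL₂(ZMod 5)`, coded in base five, with twice the coordinates of its
quaternion over `ℤ[φ]`; `icoLeftS`/`icoLeftT` give left multiplication by the two generators.
-/

set_option autoImplicit false

namespace Cfsg.Agent.Linear

/-- Eight integers: four coordinates in `ℤ[φ]`. -/
abbrev Q8 : Type := Int × Int × Int × Int × Int × Int × Int × Int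

/-- Table `icoCode`. -/
def icoCode : List Nat :=
  [126, 105, 151, 504, 230, 106, 176, 45, 604, 509, 355, 131, 107, 201, 545, 49, 579, 109, 514,
    480, 605, 281, 157, 108, 226, 146, 420, 524, 48, 554, 529, 209, 239, 519, 611, 431, 581, 332,
    183, 46, 141, 295, 170, 499, 623, 47, 533, 309, 409, 464, 369, 136, 617, 588, 382, 557, 258,
    571, 541, 169, 349, 199, 448, 597, 537, 418, 64, 289, 94, 411, 292, 163, 590, 560, 458, 247,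
    471, 371, 316, 192, 273, 223, 397, 212, 243, 402, 278, 444, 491, 61, 336, 92, 488, 340, 185,
    568, 362, 91, 215, 322, 387, 452, 353, 477, 328, 392, 63, 263, 90, 435, 268, 465, 62, 93,
    377, 303, 427, 253, 60, 310]

/-- Table `icoBack`. -/
def icoBack : List Nat :=
  [0, 0, 0, 0, 0, 0, 0, 0, 0, 0, 0, 0, 0, 0, 0, 0, 0, 0, 0, 0, 0, 0, 0, 0, 0, 0, 0, 0, 0, 0, 0,
    0, 0, 0, 0, 0, 0, 0, 0, 0, 0, 0, 0, 0, 0, 7, 39, 45, 28, 15, 0, 0, 0, 0, 0, 0, 0, 0, 0, 0,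
    118, 89, 112, 106, 66, 0, 0, 0, 0, 0, 0, 0, 0, 0, 0, 0, 0, 0, 0, 0, 0, 0, 0, 0, 0, 0, 0, 0,
    0, 0, 108, 97, 91, 113, 68, 0, 0, 0, 0, 0, 0, 0, 0, 0, 0, 1, 5, 12, 23, 17, 0, 0, 0, 0, 0, 0,
    0, 0, 0, 0, 0, 0, 0, 0, 0, 0, 0, 0, 0, 0, 0, 11, 0, 0, 0, 0, 51, 0, 0, 0, 0, 40, 0, 0, 0, 0,
    25, 0, 0, 0, 0, 2, 0, 0, 0, 0, 0, 22, 0, 0, 0, 0, 0, 71, 0, 0, 0, 0, 0, 59, 42, 0, 0, 0, 0,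
    0, 6, 0, 0, 0, 0, 0, 0, 38, 0, 94, 0, 0, 0, 0, 0, 0, 79, 0, 0, 0, 0, 0, 0, 61, 0, 13, 0, 0,
    0, 0, 0, 0, 0, 31, 0, 0, 83, 0, 0, 98, 0, 0, 0, 0, 0, 0, 0, 81, 0, 0, 24, 0, 0, 0, 4, 0, 0,
    0, 0, 0, 0, 0, 0, 32, 0, 0, 0, 84, 0, 0, 0, 75, 0, 0, 0, 0, 0, 117, 0, 0, 0, 0, 56, 0, 0, 0,
    0, 107, 0, 0, 0, 0, 110, 0, 0, 0, 0, 80, 0, 0, 0, 0, 86, 0, 0, 21, 0, 0, 0, 0, 0, 0, 0, 67,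
    0, 0, 70, 0, 0, 41, 0, 0, 0, 0, 0, 0, 0, 115, 0, 0, 0, 0, 0, 47, 119, 0, 0, 0, 0, 0, 78, 0,
    0, 0, 0, 0, 99, 0, 0, 0, 0, 0, 104, 0, 0, 0, 37, 0, 0, 0, 90, 0, 0, 0, 93, 0, 0, 0, 0, 0, 0,
    0, 0, 60, 0, 0, 0, 102, 0, 10, 0, 0, 0, 0, 0, 0, 96, 0, 0, 0, 0, 0, 0, 50, 0, 77, 0, 0, 0, 0,
    0, 114, 0, 0, 0, 0, 54, 0, 0, 0, 0, 100, 0, 0, 0, 0, 105, 0, 0, 0, 0, 82, 0, 0, 0, 0, 85, 0,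
    0, 0, 0, 0, 0, 48, 0, 69, 0, 0, 0, 0, 0, 0, 65, 0, 26, 0, 0, 0, 0, 0, 0, 116, 0, 0, 0, 35, 0,
    0, 0, 109, 0, 0, 0, 0, 0, 0, 0, 0, 87, 0, 0, 0, 62, 0, 0, 0, 101, 0, 0, 0, 0, 0, 74, 0, 0, 0,
    0, 0, 49, 111, 0, 0, 0, 0, 0, 76, 0, 0, 0, 0, 0, 103, 0, 0, 19, 0, 0, 0, 0, 0, 0, 0, 92, 0,
    0, 88, 0, 0, 0, 0, 0, 0, 0, 43, 0, 0, 0, 0, 3, 0, 0, 0, 0, 9, 0, 0, 0, 0, 18, 0, 0, 0, 0, 33,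
    0, 0, 0, 0, 27, 0, 0, 0, 0, 30, 0, 0, 0, 46, 0, 0, 0, 64, 0, 0, 0, 58, 0, 0, 0, 14, 0, 0, 0,
    0, 0, 0, 0, 0, 29, 0, 0, 55, 0, 0, 73, 0, 0, 0, 0, 0, 0, 0, 95, 0, 0, 57, 0, 0, 0, 0, 0, 0,
    0, 16, 0, 36, 0, 0, 0, 0, 0, 0, 53, 0, 72, 0, 0, 0, 0, 0, 0, 63, 0, 0, 0, 0, 0, 0, 8, 20, 0,
    0, 0, 0, 0, 34, 0, 0, 0, 0, 0, 52, 0, 0, 0, 0, 0, 44, 0]

/-- Table `icoLeftS`. -/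
def icoLeftS : List Nat :=
  [1, 3, 5, 7, 9, 8, 12, 0, 15, 14, 18, 20, 16, 23, 25, 2, 28, 30, 26, 33, 27, 34, 36, 29, 17,
    4, 40, 42, 6, 45, 39, 46, 48, 41, 43, 52, 44, 53, 55, 24, 10, 51, 11, 59, 61, 13, 57, 64, 58,
    65, 67, 19, 60, 62, 72, 63, 73, 75, 77, 21, 71, 22, 79, 81, 76, 78, 85, 69, 86, 88, 90, 35,
    80, 82, 95, 31, 84, 32, 96, 37, 94, 38, 98, 74, 47, 97, 89, 70, 50, 103, 92, 104, 87, 107,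
    54, 99, 49, 102, 56, 83, 111, 113, 66, 68, 106, 93, 116, 109, 117, 105, 119, 110, 101, 115,
    108, 112, 91, 118, 114, 100]

/-- Table `icoLeftT`. -/
def icoLeftT : List Nat :=
  [2, 4, 6, 8, 10, 11, 13, 14, 16, 17, 19, 21, 22, 24, 26, 27, 29, 31, 32, 20, 1, 35, 37, 38, 0,
    39, 41, 43, 44, 30, 3, 47, 49, 50, 51, 36, 5, 54, 56, 57, 58, 42, 7, 60, 62, 63, 23, 48, 9,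
    66, 68, 69, 70, 71, 55, 12, 74, 76, 78, 33, 61, 15, 80, 82, 83, 84, 67, 18, 87, 89, 91, 92,
    93, 94, 46, 45, 77, 25, 97, 52, 81, 28, 99, 100, 95, 101, 102, 59, 40, 90, 34, 105, 106, 108,
    109, 110, 64, 88, 72, 75, 112, 114, 115, 85, 86, 79, 107, 53, 111, 118, 113, 98, 96, 65, 116,
    117, 103, 104, 119, 73]

/-- Table `icoParGen`. -/
def icoParGen : List Nat :=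
  [0, 0, 1, 0, 1, 0, 1, 0, 1, 0, 1, 1, 0, 1, 1, 0, 1, 1, 0, 1, 0, 1, 1, 0, 1, 0, 1, 1, 0, 1, 0,
    1, 1, 0, 0, 1, 0, 1, 1, 1, 0, 1, 0, 1, 1, 0, 0, 1, 0, 1, 1, 1, 0, 0, 1, 0, 1, 1, 1, 0, 1, 0,
    1, 1, 0, 0, 1, 0, 1, 1, 1, 1, 0, 0, 1, 0, 1, 0, 1, 0, 1, 0, 1, 1, 1, 0, 0, 1, 0, 1, 0, 1, 1,
    1, 1, 0, 0, 1, 0, 1, 1, 1, 1, 0, 0, 1, 1, 0, 1, 1, 1, 0, 1, 0, 1, 1, 0, 0, 1, 0]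

/-- Table `icoPar`. -/
def icoPar : List Nat :=
  [0, 0, 0, 1, 1, 2, 2, 3, 3, 4, 4, 5, 6, 6, 7, 8, 8, 9, 10, 10, 11, 11, 12, 13, 13, 14, 14, 15,
    16, 16, 17, 17, 18, 19, 21, 21, 22, 22, 23, 25, 26, 26, 27, 27, 28, 29, 31, 31, 32, 32, 33,
    34, 35, 37, 37, 38, 38, 39, 40, 43, 43, 44, 44, 45, 47, 49, 49, 50, 50, 51, 52, 53, 54, 56,
    56, 57, 57, 58, 58, 62, 62, 63, 63, 64, 65, 66, 68, 68, 69, 69, 70, 70, 71, 72, 73, 74, 78,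
    78, 82, 82, 83, 85, 86, 89, 91, 91, 92, 93, 93, 94, 95, 100, 100, 101, 101, 102, 106, 108,
    109, 110]

/-- Table `icoVal`. -/
def icoVal : List Q8 :=
  [(2, 0, 0, 0, 0, 0, 0, 0), (0, 0, 2, 0, 0, 0, 0, 0), (-1, 1, -1, 0, 0, 0, 0, 1),
    (-2, 0, 0, 0, 0, 0, 0, 0), (1, 0, -1, 1, 0, 1, 0, 0), (1, 0, -1, 1, 0, -1, 0, 0),
    (0, -1, 1, -1, 0, 0, 1, 0), (0, 0, -2, 0, 0, 0, 0, 0), (1, -1, 1, 0, 0, 0, 0, -1),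
    (1, -1, 1, 0, 0, 0, 0, 1), (-1, 1, 0, -1, 1, 0, 0, 0), (-1, 1, 1, 0, 0, 0, 0, 1),
    (-1, 1, 0, -1, -1, 0, 0, 0), (0, -1, -1, 1, 0, 0, -1, 0), (-1, 0, 1, -1, 0, -1, 0, 0),
    (-1, 0, 1, -1, 0, 1, 0, 0), (0, 1, -1, 1, 0, 0, -1, 0), (-1, 0, -1, 1, 0, 1, 0, 0),
    (0, 1, -1, 1, 0, 0, 1, 0), (1, -1, 0, -1, -1, 0, 0, 0), (-1, 0, -1, 1, 0, -1, 0, 0),
    (1, -1, 0, 0, 0, 1, 1, 0), (1, -1, 0, 0, 0, -1, 1, 0), (1, -1, 0, -1, 1, 0, 0, 0),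
    (-1, 1, 1, 0, 0, 0, 0, -1), (-1, 1, -1, 0, 0, 0, 0, -1), (1, -1, 0, 1, -1, 0, 0, 0),
    (1, -1, -1, 0, 0, 0, 0, -1), (1, -1, 0, 1, 1, 0, 0, 0), (0, 1, 1, -1, 0, 0, 1, 0),
    (1, -1, -1, 0, 0, 0, 0, 1), (0, 0, 1, -1, 1, 0, 0, -1), (0, 0, 1, -1, 1, 0, 0, 1),
    (0, 1, 1, -1, 0, 0, -1, 0), (0, 0, 1, -1, -1, 0, 0, 1), (-1, 0, -1, 0, 1, 0, -1, 0),
    (0, 0, 1, -1, -1, 0, 0, -1), (-1, 0, 0, 1, 0, 0, -1, 1), (-1, 0, -1, 0, -1, 0, -1, 0),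
    (1, 0, 1, -1, 0, -1, 0, 0), (0, -1, 1, -1, 0, 0, -1, 0), (-1, 1, 0, 1, 1, 0, 0, 0),
    (1, 0, 1, -1, 0, 1, 0, 0), (-1, 1, 0, 0, 0, -1, -1, 0), (-1, 1, 0, 0, 0, 1, -1, 0),
    (-1, 1, 0, 1, -1, 0, 0, 0), (-1, 1, 0, 0, 0, 1, 1, 0), (1, 0, -1, 0, -1, 0, -1, 0),
    (-1, 1, 0, 0, 0, -1, 1, 0), (0, -1, -1, 0, -1, 1, 0, 0), (1, 0, -1, 0, -1, 0, 1, 0),
    (0, -1, -1, 1, 0, 0, 1, 0), (1, 0, -1, 0, 1, 0, 1, 0), (0, -1, -1, 0, 1, -1, 0, 0),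
    (0, 0, 1, 0, 0, 1, 1, -1), (1, 0, -1, 0, 1, 0, -1, 0), (0, 0, 1, 0, 0, -1, 1, -1),
    (0, 0, -1, 1, -1, 0, 0, 1), (0, 0, -1, 1, -1, 0, 0, -1), (0, 0, -1, 1, 1, 0, 0, -1),
    (1, 0, 1, 0, -1, 0, 1, 0), (0, 0, -1, 1, 1, 0, 0, 1), (1, 0, 0, -1, 0, 0, 1, -1),
    (1, 0, 1, 0, 1, 0, 1, 0), (1, 0, 1, 0, 1, 0, -1, 0), (1, 0, 0, -1, 0, 0, -1, 1),
    (-1, 0, 0, 0, 1, -1, 0, -1), (1, 0, 1, 0, -1, 0, -1, 0), (-1, 0, 0, 0, 1, -1, 0, 1),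
    (-1, 0, 1, 0, 1, 0, -1, 0), (-1, 0, 0, -1, 0, 0, -1, 1), (-1, 0, 1, 0, -1, 0, -1, 0),
    (-1, 0, 0, 0, -1, 1, 0, 1), (-1, 0, 0, 0, -1, 1, 0, -1), (1, 0, 0, 1, 0, 0, -1, 1),
    (1, -1, 0, 0, 0, -1, -1, 0), (-1, 0, 1, 0, 1, 0, 1, 0), (1, -1, 0, 0, 0, 1, -1, 0),
    (0, 1, 1, 0, 1, -1, 0, 0), (0, 1, 1, 0, -1, 1, 0, 0), (0, 0, -1, 0, 0, -1, -1, 1),
    (-1, 0, 1, 0, -1, 0, 1, 0), (0, 0, -1, 0, 0, 1, -1, 1), (0, 1, -1, 0, -1, 1, 0, 0),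
    (-1, 0, -1, 0, -1, 0, 1, 0), (0, 0, -1, 0, 0, 1, 1, -1), (0, 0, -1, 0, 0, -1, 1, -1),
    (0, -1, 1, 0, -1, 1, 0, 0), (-1, 0, -1, 0, 1, 0, 1, 0), (1, 0, 0, 0, -1, 1, 0, -1),
    (0, 1, -1, 0, 1, -1, 0, 0), (0, -1, 0, 0, -1, 0, 1, -1), (1, 0, 0, 1, 0, 0, 1, -1),
    (0, -1, 0, 0, 1, 0, 1, -1), (1, 0, 0, 0, 1, -1, 0, -1), (0, -1, 1, 0, 1, -1, 0, 0),
    (-1, 0, 0, 1, 0, 0, 1, -1), (1, 0, 0, 0, -1, 1, 0, 1), (1, 0, 0, 0, 1, -1, 0, 1),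
    (-1, 0, 0, -1, 0, 0, 1, -1), (0, 0, 0, -1, 1, -1, 1, 0), (0, 0, 0, -1, 1, -1, -1, 0),
    (0, 0, 1, 0, 0, -1, -1, 1), (0, 0, 1, 0, 0, 1, -1, 1), (0, 0, 0, -1, -1, 1, -1, 0),
    (0, 0, 0, 1, 1, -1, -1, 0), (0, 1, 0, 0, 1, 0, -1, 1), (0, 0, 0, -1, -1, 1, 1, 0),
    (0, 0, 0, 0, 0, 0, -2, 0), (0, 1, 0, 0, -1, 0, -1, 1), (0, 0, 0, 1, -1, 1, -1, 0),
    (0, 1, 0, 0, -1, 0, 1, -1), (0, -1, 0, 0, -1, 0, -1, 1), (0, 1, 0, 0, 1, 0, 1, -1),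
    (0, 0, 0, 0, -2, 0, 0, 0), (0, 0, 0, 1, -1, 1, 1, 0), (0, 0, 0, 1, 1, -1, 1, 0),
    (0, 0, 0, 0, 2, 0, 0, 0), (0, 0, 0, 0, 0, 0, 2, 0), (0, -1, 0, 0, 1, 0, -1, 1)]

/-- The image of the generator of order five. -/
def icoT : Q8 := (-1, 1, -1, 0, 0, 0, 0, 1)

end Cfsg.Agent.Linear
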