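import Cfsg.Agent.Linear.IsoAlternating

/-! # `PSL_2(7) ≅ PSL_3(2)`: the action on seven quaternion subgroups of `SL_2(7)` -/

set_option maxRecDepth 10000
set_option maxHeartbeats 4000000

namespace Cfsg.Agent.Linear

open Matrix

instance fact_prime_seven_lin : Fact (Nat.Prime 7) := ⟨by norm_num⟩

/-- Seven quaternion subgroups of `SL_2(7)`, by their elements of order 4. -/
def a7List : List (List (Matrix (Fin 2) (Fin 2) (ZMod 7))) :=
  [[!![0, 1; 6, 0], !![0, 6; 1, 0], !![2, 3; 3, 5], !![5, 4; 4, 2], !![3, 5; 5, 4], !![4, 2; 2, 3]],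
   [!![6, 2; 6, 1], !![1, 5; 1, 6], !![5, 3; 3, 2], !![2, 4; 4, 5], !![1, 1; 5, 6], !![6, 6; 2, 1]],
   [!![5, 5; 6, 2], !![2, 2; 1, 5], !![1, 4; 3, 6], !![6, 3; 4, 1], !![6, 1; 5, 1], !![1, 6; 2, 6]],
   [!![4, 3; 6, 3], !![3, 4; 1, 4], !![4, 6; 3, 3], !![3, 1; 4, 4], !![4, 5; 5, 3], !![3, 2; 2, 4]],
   [!![3, 3; 6, 4], !![4, 4; 1, 3], !![0, 2; 3, 0], !![0, 5; 4, 0], !![2, 6; 5, 5], !![5, 1; 2, 2]],
   [!![2, 5; 6, 5], !![5, 2; 1, 2], !![3, 6; 3, 4], !![4, 1; 4, 3], !![0, 4; 5, 0], !![0, 3; 2, 0]],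
   [!![1, 2; 6, 6], !![6, 5; 1, 1], !![6, 4; 3, 1], !![1, 3; 4, 6], !![5, 6; 5, 2], !![2, 1; 2, 5]]]

/-- The index tables of `T_01(1)` and `T_10(1)`. -/
def a7Cert : List (List (ℕ × List ℕ)) :=
  [[(1, [0, 1, 2, 3, 4, 5]), (2, [0, 1, 2, 3, 4, 5]), (3, [0, 1, 2, 3, 4, 5]), (4, [0, 1, 2, 3, 4, 5]), (5, [0, 1, 2, 3, 4, 5]), (6, [0, 1, 2, 3, 4, 5]), (0, [0, 1, 2, 3, 4, 5])],
   [(2, [4, 5, 3, 2, 0, 1]), (0, [5, 4, 2, 3, 0, 1]), (4, [3, 2, 1, 0, 5, 4]), (6, [3, 2, 4, 5, 1, 0]), (5, [5, 4, 1, 0, 2, 3]), (3, [4, 5, 2, 3, 1, 0]), (1, [0, 1, 3, 2, 5, 4])]]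

/-- Target set index. -/
def a7Sigma (s a : ℕ) : ℕ := ((a7Cert.getD s []).getD a (0, [])).1

/-- Target element index. -/
def a7Pi (s a k : ℕ) : ℕ := ((a7Cert.getD s []).getD a (0, [])).2.getD k 0

/-- The code of a matrix. -/
def a7Code (M : Matrix (Fin 2) (Fin 2) (ZMod 7)) : ℕ :=
  (((M 0 0).val * 7 + (M 0 1).val) * 7 + (M 1 0).val) * 7 + (M 1 1).val

lemma a7_shape : a7List.length = 7 ∧ (∀ a : Fin 7, (a7List.getD a []).length = 6) ∧
    (∀ a : Fin 7, ((a7List.getD a []).map a7Code).Nodup) ∧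
    ∀ a b : Fin 7, a ≠ b → ∃ k : Fin 6, ∀ l : Fin 6,
      a7Code ((a7List.getD a []).getD k 1) ≠ a7Code ((a7List.getD b []).getD l 1) := by
  decide +kernel

lemma a7_cert0 : ∀ a : Fin 7, a7Sigma 0 a < 7 ∧ ∀ k : Fin 6, a7Pi 0 a k < 6 ∧
    Matrix.transvection 0 1 (1 : ZMod 7) * (a7List.getD a []).getD k 1 =
      (a7List.getD (a7Sigma 0 a) []).getD (a7Pi 0 a k) 1 * Matrix.transvection 0 1 1 := by
  decide +kernel

lemma a7_cert1 : ∀ a : Fin 7, a7Sigma 1 a < 7 ∧ ∀ k : Fin 6, a7Pi 1 a k < 6 ∧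
    Matrix.transvection 1 0 (1 : ZMod 7) * (a7List.getD a []).getD k 1 =
      (a7List.getD (a7Sigma 1 a) []).getD (a7Pi 1 a k) 1 * Matrix.transvection 1 0 1 := by
  decide +kernel

/-- The seven sets, indexed. -/
def a7Pt (a : Fin 7) : Finset (Matrix (Fin 2) (Fin 2) (ZMod 7)) :=
  (a7List.getD a []).toFinset

lemma a7Pt_card (a : Fin 7) : (a7Pt a).card = 6 := by
  rw [a7Pt, List.toFinset_card_of_nodup (a7_shape.2.2.1 a).of_map, a7_shape.2.1]

lemma a7Pt_injective : Function.Injective a7Pt := by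
  intro a b h
  by_contra hab
  obtain ⟨k, hk⟩ := a7_shape.2.2.2 a b hab
  have hka : (k : ℕ) < (a7List.getD a []).length := by rw [a7_shape.2.1]; exact k.2
  have hm : (a7List.getD a []).getD k 1 ∈ a7Pt b := by
    rw [← h, a7Pt, List.mem_toFinset, List.getD_eq_getElem _ _ hka]
    exact List.getElem_mem _
  obtain ⟨l, hl, he⟩ := List.mem_iff_getElem.1 (List.mem_toFinset.1 hm)
  refine hk ⟨l, a7_shape.2.1 b ▸ hl⟩ ?_
  rw [← he, List.getD_eq_getElem _ _ hl]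

lemma conjAct_toFinset_eq {F : Type*} [Field F] [DecidableEq F] {n : Type*} [Fintype n]
    [DecidableEq n] {g : SpecialLinearGroup n F} (S T : Finset (Matrix n n F))
    (hc : T.card = S.card) (h : ∀ M ∈ S, ∃ N ∈ T, g.1 * M = N * g.1) : conjAct g S = T := by
  refine Finset.eq_of_subset_of_card_le ?_ ?_
  · intro N hN
    obtain ⟨M, hM, rfl⟩ := Finset.mem_image.1 hN
    obtain ⟨N, hNT, hN⟩ := h M hM
    rwa [mul_adjugate_eq_of_mul_eq hN]
  · rw [hc, conjAct, Finset.card_image_of_injective _ ?_]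
    intro A B hAB
    have e1 := mul_eq_of_mul_adjugate_eq (g := g) hAB
    rw [Matrix.mul_assoc, adjugate_mul, g.2, one_smul, Matrix.mul_one] at e1
    have e2 := congrArg (fun Z => adjugate g.1 * Z) e1
    simpa [← Matrix.mul_assoc, adjugate_mul, g.2] using e2

lemma conjAct_a7Pt {i j : Fin 2} (hij : i ≠ j) (σ : ℕ → ℕ) (π : ℕ → ℕ → ℕ)
    (h : ∀ a : Fin 7, σ a < 7 ∧ ∀ k : Fin 6, π a k < 6 ∧
      Matrix.transvection i j (1 : ZMod 7) * (a7List.getD a []).getD k 1 =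
        (a7List.getD (σ a) []).getD (π a k) 1 * Matrix.transvection i j 1) (a : Fin 7) :
    conjAct (SpecialLinearGroup.transvection hij (1 : ZMod 7)) (a7Pt a)
      = a7Pt ⟨σ a, (h a).1⟩ := by
  refine conjAct_toFinset_eq _ _ (by rw [a7Pt_card, a7Pt_card]) fun M hM => ?_
  obtain ⟨k, hk, rfl⟩ := List.mem_iff_getElem.1 (List.mem_toFinset.1 hM)
  obtain ⟨hlt, he⟩ := (h a).2 ⟨k, a7_shape.2.1 a ▸ hk⟩
  have hk' : π a k < (a7List.getD (σ a) []).length := by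
    have := a7_shape.2.1 ⟨σ a, (h a).1⟩
    rw [this]
    exact hlt
  rw [List.getD_eq_getElem _ _ hk, List.getD_eq_getElem _ _ hk'] at he
  exact ⟨_, List.mem_toFinset.2 (List.getElem_mem hk'), he⟩

/-- Labels by the non-zero vectors of `F_2^3`. -/
def a7Lab : Fin 7 → Fin 3 → ZMod 2 := ![![1, 0, 0], ![0, 1, 0], ![0, 0, 1], ![1, 1, 0], ![0, 1, 1], ![1, 1, 1], ![1, 0, 1]]

/-- The matrix of a collineation. -/
def a7Mat (π : Fin 7 → Fin 7) : Matrix (Fin 3) (Fin 3) (ZMod 2) :=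
  Matrix.of fun r c => a7Lab (π ⟨c, by omega⟩) r

lemma a7_lin : ∀ s : Fin 2, ∀ a : Fin 7,
    a7Mat (fun b => ⟨a7Sigma s b % 7, Nat.mod_lt _ (by norm_num)⟩) *ᵥ a7Lab a
      = a7Lab ⟨a7Sigma s a % 7, Nat.mod_lt _ (by norm_num)⟩ := by decide +kernel

lemma a7Lab_basis : ∀ c : Fin 3, a7Lab ⟨c, by omega⟩ = Pi.single c 1 := by decide +kernel

lemma a7Mat_id : a7Mat id = 1 := by decide +kernel

lemma a7_moved : a7Sigma 0 0 = 1 ∧ a7Lab 1 ≠ a7Lab 0 := by decide +kernel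

lemma a7_mulVec_id : ∀ a : Fin 7, a7Mat id *ᵥ a7Lab a = a7Lab a := by decide +kernel

/-- `SL_2(7)` permutes the seven sets linearly. -/
def A7Linear (g : SpecialLinearGroup (Fin 2) (ZMod 7)) : Prop :=
  ∃ π : Fin 7 → Fin 7, (∀ a, conjAct g (a7Pt a) = a7Pt (π a)) ∧
    ∀ a, a7Mat π *ᵥ a7Lab a = a7Lab (π a)

lemma a7Linear_one : A7Linear 1 := ⟨id, fun a => conjAct_one _, a7_mulVec_id⟩

lemma a7Mat_comp {π ρ : Fin 7 → Fin 7} (hπ : ∀ a, a7Mat π *ᵥ a7Lab a = a7Lab (π a)) :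
    a7Mat (π ∘ ρ) = a7Mat π * a7Mat ρ := by
  ext r c
  change a7Lab (π (ρ ⟨c, by omega⟩)) r = _
  rw [← hπ]
  rfl

lemma a7Linear_mul (g h : SpecialLinearGroup (Fin 2) (ZMod 7)) (hg : A7Linear g)
    (hh : A7Linear h) : A7Linear (g * h) := by
  obtain ⟨π, hπ, hπl⟩ := hg
  obtain ⟨ρ, hρ, hρl⟩ := hh
  refine ⟨π ∘ ρ, fun a => by rw [conjAct_mul, hρ, hπ]; rfl, fun a => ?_⟩
  rw [a7Mat_comp hπl, ← mulVec_mulVec, hρl, hπl]
  rfl

lemma a7Linear_gen (i j : Fin 2) (hij : i ≠ j) :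
    A7Linear (SpecialLinearGroup.transvection hij (1 : ZMod 7)) := by
  fin_cases i <;> fin_cases j <;> first | contradiction | skip
  · refine ⟨fun b => ⟨a7Sigma 0 b % 7, Nat.mod_lt _ (by norm_num)⟩, fun a => ?_, a7_lin 0⟩
    rw [conjAct_a7Pt _ _ _ a7_cert0 a]
    exact congrArg a7Pt (Fin.ext (Nat.mod_eq_of_lt (a7_cert0 a).1).symm)
  · refine ⟨fun b => ⟨a7Sigma 1 b % 7, Nat.mod_lt _ (by norm_num)⟩, fun a => ?_, a7_lin 1⟩
    rw [conjAct_a7Pt _ _ _ a7_cert1 a]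
    exact congrArg a7Pt (Fin.ext (Nat.mod_eq_of_lt (a7_cert1 a).1).symm)

lemma a7Linear_all (g : SpecialLinearGroup (Fin 2) (ZMod 7)) : A7Linear g := by
  refine transvection_induction A7Linear (fun i j hij c => ?_) a7Linear_mul g
  rw [← ZMod.natCast_zmod_val c]
  induction c.val with
  | zero => rw [Nat.cast_zero, SpecialLinearGroup.transvection_coeff_zero]; exact a7Linear_one
  | succ k ih =>
    rw [Nat.cast_succ, SpecialLinearGroup.transvection_add]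
    exact a7Linear_mul _ _ ih (a7Linear_gen i j hij)

/-- The permutation of the seven sets induced by `g`. -/
noncomputable def a7Perm (g : SpecialLinearGroup (Fin 2) (ZMod 7)) : Fin 7 → Fin 7 :=
  (a7Linear_all g).choose

lemma a7Perm_spec (g : SpecialLinearGroup (Fin 2) (ZMod 7)) (a : Fin 7) :
    conjAct g (a7Pt a) = a7Pt (a7Perm g a) := (a7Linear_all g).choose_spec.1 a

lemma a7Perm_eq {g : SpecialLinearGroup (Fin 2) (ZMod 7)} {π : Fin 7 → Fin 7}
    (h : ∀ a, conjAct g (a7Pt a) = a7Pt (π a)) : a7Perm g = π :=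
  funext fun a => a7Pt_injective ((a7Perm_spec g a).symm.trans (h a))

/-- The linear representation `SL_2(7) → GL_3(2)`. -/
noncomputable def a7Hom : SpecialLinearGroup (Fin 2) (ZMod 7) →*
    Matrix (Fin 3) (Fin 3) (ZMod 2) where
  toFun g := a7Mat (a7Perm g)
  map_one' := by rw [a7Perm_eq (g := 1) (π := id) fun a => conjAct_one _, a7Mat_id]
  map_mul' g h := by
    rw [← a7Mat_comp (π := a7Perm g) (a7Linear_all g).choose_spec.2]
    congr 1
    exact a7Perm_eq fun a => by rw [conjAct_mul, a7Perm_spec, a7Perm_spec]; rfl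

lemma a7Hom_det (g : SpecialLinearGroup (Fin 2) (ZMod 7)) : (a7Hom g).det = 1 := by
  have h : (a7Hom g).det * (a7Hom g⁻¹).det = 1 := by
    rw [← det_mul, ← map_mul, mul_inv_cancel, map_one, det_one]
  have key : ∀ a b : ZMod 2, a * b = 1 → a = 1 := by decide
  exact key _ _ h

theorem PSL2_seven_iso {F K : Type*} [Field F] [Fintype F] [Field K] [Fintype K]
    (hF : Fintype.card F = 7) (hK : Fintype.card K = 2) :
    Nonempty (ProjectiveSpecialLinearGroup (Fin 2) F ≃*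
      ProjectiveSpecialLinearGroup (Fin 3) K) := by
  have : IsSimpleGroup (ProjectiveSpecialLinearGroup (Fin 2) (ZMod 7)) :=
    Matrix.ProjectiveSpecialLinearGroup.rank_two_simple (by simp)
  let f0 : SpecialLinearGroup (Fin 2) (ZMod 7) →* SpecialLinearGroup (Fin 3) (ZMod 2) :=
    MonoidHom.mk' (fun g => ⟨a7Hom g, a7Hom_det g⟩) fun g h => Subtype.ext (map_mul a7Hom g h)
  let f : SpecialLinearGroup (Fin 2) (ZMod 7) →* ProjectiveSpecialLinearGroup (Fin 3) (ZMod 2) :=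
    (QuotientGroup.mk' _).comp f0
  have hz : Subgroup.center (SpecialLinearGroup (Fin 3) (ZMod 2)) = ⊥ := by
    rw [← Subgroup.card_eq_one, card_center_SL]
    rfl
  have hneg : f (-1) = 1 := by
    have : f0 (-1) = 1 := Subtype.ext (by
      change a7Mat (a7Perm (-1)) = 1
      rw [a7Perm_eq (g := -1) (π := id) fun a => conjAct_neg_one _, a7Mat_id])
    change QuotientGroup.mk' _ (f0 (-1)) = 1
    rw [this, map_one]
  have hne : f ≠ 1 := by
    intro he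
    have h1 := DFunLike.congr_fun he (SpecialLinearGroup.transvection zero_ne_one 1)
    rw [MonoidHom.one_apply, MonoidHom.comp_apply, QuotientGroup.mk'_apply,
      QuotientGroup.eq_one_iff, hz, Subgroup.mem_bot] at h1
    have h2 : a7Mat (a7Perm (SpecialLinearGroup.transvection zero_ne_one 1)) = 1 :=
      congrArg Subtype.val h1
    have h3 := (a7Linear_all (SpecialLinearGroup.transvection zero_ne_one 1)).choose_spec.2 0
    change a7Mat (a7Perm (SpecialLinearGroup.transvection zero_ne_one 1)) *ᵥ a7Lab 0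
      = a7Lab (a7Perm _ 0) at h3
    rw [h2, one_mulVec] at h3
    have h4 : a7Perm (SpecialLinearGroup.transvection zero_ne_one 1) 0 = 1 := by
      refine a7Pt_injective ((a7Perm_spec _ 0).symm.trans ?_)
      rw [conjAct_a7Pt _ _ _ a7_cert0 0]
      exact congrArg a7Pt (Fin.ext a7_moved.1)
    rw [h4] at h3
    exact a7_moved.2 h3.symm
  obtain ⟨φ, hφ⟩ := exists_PSL_injective f (center_SL2_le_iff f hneg) hne
  have hc7 : Nat.card (ProjectiveSpecialLinearGroup (Fin 2) (ZMod 7)) = 168 := by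
    have h := card_PSL_two (F := ZMod 7)
    rw [ZMod.card, show Nat.gcd 2 (7 - 1) = 2 from rfl] at h
    omega
  have hc2 : Nat.card (ProjectiveSpecialLinearGroup (Fin 3) (ZMod 2)) = 168 := by
    have h := card_PSL (F := ZMod 2) 3
    simp only [ZMod.card, Nat.gcd_one_right, Nat.reduceSub, one_mul, Fin.prod_univ_three] at h
    rw [h]
    rfl
  refine ⟨(pslCongr (ZMod.ringEquivOfPrime F (by norm_num) hF)).symm.trans
    ((MulEquiv.ofBijective φ ((Nat.bijective_iff_injective_and_card φ).2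
      ⟨hφ, hc7.trans hc2.symm⟩)).trans (pslCongr (ZMod.ringEquivOfPrime K Nat.prime_two hK)))⟩

end Cfsg.Agent.Linear
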