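import Cfsg.Agent.Linear.PrimeAdjacent
import Cfsg.Agent.KnownB.LinearOrders
import Mathlib

/-!
# Elements of order `r s` in `PSL_n(q)`, both primes odd and not the characteristic
-/

set_option autoImplicit false
set_option linter.unusedSectionVars false

namespace Cfsg.Agent.Linear.OddAdjacent

open Module (finrank)

variable {F : Type*} [Field F] [Fintype F] {n : ℕ}

local notation "Vn" => (Fin n → F)
local notation "SLn" => Matrix.SpecialLinearGroup (Fin n) F
local notation "PSLn" => Matrix.ProjectiveSpecialLinearGroup (Fin n) F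
local notation "E" => (Matrix.toLinAlgEquiv' : Matrix (Fin n) (Fin n) F ≃ₐ[F] Module.End F (Fin n → F))

theorem pow_sub_one_dvd_iff {r : ℕ} (i : ℕ) :
    r ∣ Fintype.card F ^ i - 1 ↔ orderOf ((Fintype.card F : ℕ) : ZMod r) ∣ i := by
  rw [orderOf_dvd_iff_pow_eq_one, ← Nat.cast_pow, ← ZMod.natCast_eq_zero_iff,
    Nat.cast_sub (Nat.one_le_pow _ _ Fintype.card_pos), Nat.cast_one, sub_eq_zero]

theorem le_of_dvd_card_GL {r k m : ℕ} (hr : r.Prime) (hrq : ¬ r ∣ Fintype.card F)
    (hk : k = orderOf ((Fintype.card F : ℕ) : ZMod r)) (h : r ∣ Nat.card (GL (Fin m) F)) : k ≤ m := by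
  classical
  rw [Matrix.card_GL_field] at h
  obtain ⟨i, -, hi⟩ := (Prime.dvd_finsetProd_iff hr.prime _).1 h
  rw [show Fintype.card F ^ m - Fintype.card F ^ (i : ℕ) =
    Fintype.card F ^ (i : ℕ) * (Fintype.card F ^ (m - i) - 1) by
      rw [Nat.mul_sub, mul_one, ← pow_add, Nat.add_sub_cancel' i.2.le]] at hi
  rcases hr.dvd_mul.1 hi with h1 | h1
  · exact absurd (hr.dvd_of_dvd_pow h1) hrq
  · rw [pow_sub_one_dvd_iff, ← hk] at h1
    exact (Nat.le_of_dvd (by omega) h1).trans (Nat.sub_le _ _)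

/-- A fixed-point-free element of prime order `r` acts only on spaces whose dimension is a multiple
of the order of `q` modulo `r`. -/
theorem dvd_finrank {r : ℕ} (hr : r.Prime) (a : Module.End F Vn) (har : a ^ r = 1) (U : Submodule F Vn)
    (hU : ∀ x ∈ U, a x ∈ U) (hfree : ∀ x ∈ U, a x = x → x = 0) :
    orderOf ((Fintype.card F : ℕ) : ZMod r) ∣ finrank F U := by
  classical
  haveI := Fact.mk hr
  haveI : Finite U := Module.finite_of_finite F
  have hf : (a.restrict hU) ^ r = 1 := by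
    refine LinearMap.ext fun x => Subtype.ext ?_
    rw [Module.End.pow_restrict r, LinearMap.restrict_coe_apply, har]; rfl
  let u : (Module.End F U)ˣ := Units.ofPowEqOne _ r hf hr.ne_zero
  have hur : u ^ r = 1 := Units.ext hf
  have hP : IsPGroup r (Subgroup.zpowers u) := fun x => by
    refine ⟨1, ?_⟩
    obtain ⟨j, hj⟩ := Subgroup.mem_zpowers_iff.1 x.2
    refine Subtype.ext ?_
    rw [pow_one, SubmonoidClass.coe_pow, ← hj, ← zpow_natCast, ← zpow_mul, mul_comm, zpow_mul, zpow_natCast, hur,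
      one_zpow]
    rfl
  have hfix : MulAction.fixedPoints (Subgroup.zpowers u) U = {0} := by
    ext x
    rw [MulAction.mem_fixedPoints, Set.mem_singleton_iff]
    refine ⟨fun h => ?_, fun h g => ?_⟩
    · have h' := h ⟨u, Subgroup.mem_zpowers u⟩
      exact Subtype.ext (hfree x x.2 (congrArg Subtype.val h'))
    · subst h
      exact LinearMap.map_zero (g : (Module.End F U)ˣ).val
  have h := hP.card_modEq_card_fixedPoints U
  rw [hfix, show Nat.card ({0} : Set U) = 1 from Nat.card_unique,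
    Module.natCard_eq_pow_finrank (K := F) (V := U), Nat.card_eq_fintype_card] at h
  exact (pow_sub_one_dvd_iff _).1 ((Nat.modEq_iff_dvd' (Nat.one_le_pow _ _ Fintype.card_pos)).1 h.symm)

theorem fpf_range {r : ℕ} (hrF : (r : F) ≠ 0) {a : Module.End F Vn} (har : a ^ r = 1) {y : Vn}
    (hy : y ∈ LinearMap.range (a - 1)) (h : a y = y) : y = 0 := by
  obtain ⟨x, rfl⟩ := hy
  rw [LinearMap.sub_apply, Module.End.one_apply] at h ⊢
  rw [CommuteUnipotent.fix_of_shift har hrF h, sub_self]

/-- Commuting fixed-point-free pieces need room. -/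
theorem room {r s : ℕ} (hr : r.Prime) (hs : s.Prime) (hrF : (r : F) ≠ 0) (hsF : (s : F) ≠ 0)
    {a b : Module.End F Vn} (har : a ^ r = 1) (hbs : b ^ s = 1) (hab : Commute a b) (ha : a ≠ 1) (hb : b ≠ 1) :
    orderOf ((Fintype.card F : ℕ) : ZMod r) + orderOf ((Fintype.card F : ℕ) : ZMod s) ≤ n ∨
      ∃ d, 1 ≤ d ∧ d ≤ n ∧ orderOf ((Fintype.card F : ℕ) : ZMod r) ∣ d ∧
        orderOf ((Fintype.card F : ℕ) : ZMod s) ∣ d := by
  have happ : ∀ x, a (b x) = b (a x) := fun x => LinearMap.congr_fun hab.eq x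
  set Wa := LinearMap.range (a - 1) with hWa
  set Wb := LinearMap.range (b - 1) with hWb
  have hWa' : ∀ x ∈ Wa, a x ∈ Wa := by
    rintro _ ⟨x, rfl⟩; exact ⟨a x, by simp [LinearMap.sub_apply]⟩
  have hWb' : ∀ x ∈ Wb, b x ∈ Wb := by
    rintro _ ⟨x, rfl⟩; exact ⟨b x, by simp [LinearMap.sub_apply]⟩
  have hle : ∀ W : Submodule F Vn, finrank F W ≤ n := fun W =>
    (Submodule.finrank_le W).trans (Module.finrank_fin_fun F).le
  set U := LinearMap.range ((a - 1) * (b - 1)) with hU
  have hcomm : (a - 1) * (b - 1) = (b - 1) * (a - 1) :=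
    ((hab.sub_left (Commute.one_left b)).sub_right (Commute.one_right _)).eq
  have hUa : U ≤ Wa := fun x ⟨y, hy⟩ => ⟨(b - 1) y, hy⟩
  have hUb : U ≤ Wb := fun x ⟨y, hy⟩ => ⟨(a - 1) y, by rw [← hy, hcomm]; rfl⟩
  by_cases h0 : U = ⊥
  · left
    have hz : (a - 1) * (b - 1) = 0 := LinearMap.range_eq_bot.1 h0
    have hdisj : Wa ⊓ Wb = ⊥ := (Submodule.eq_bot_iff _).2 fun y hy => by
      obtain ⟨hya, x, hx⟩ := hy
      refine fpf_range hrF har hya (sub_eq_zero.1 ?_)
      have h := LinearMap.congr_fun hz x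
      rw [Module.End.mul_apply, hx] at h
      simpa using h
    have h := Submodule.finrank_sup_add_finrank_inf_eq Wa Wb
    rw [hdisj, finrank_bot, add_zero] at h
    have h1 : orderOf ((Fintype.card F : ℕ) : ZMod r) ≤ finrank F Wa := Nat.le_of_dvd (Submodule.one_le_finrank_iff.2 fun e =>
      ha (sub_eq_zero.1 (LinearMap.range_eq_bot.1 e))) (dvd_finrank hr a har Wa hWa' fun x => fpf_range hrF har)
    have h2 : orderOf ((Fintype.card F : ℕ) : ZMod s) ≤ finrank F Wb := Nat.le_of_dvd (Submodule.one_le_finrank_iff.2 fun e =>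
      hb (sub_eq_zero.1 (LinearMap.range_eq_bot.1 e))) (dvd_finrank hs b hbs Wb hWb' fun x => fpf_range hsF hbs)
    have := hle (Wa ⊔ Wb)
    omega
  · right
    refine ⟨finrank F U, Submodule.one_le_finrank_iff.2 h0, hle U,
      dvd_finrank hr a har U ?_ (fun x hx => fpf_range hrF har (hUa hx)),
      dvd_finrank hs b hbs U ?_ (fun x hx => fpf_range hsF hbs (hUb hx))⟩
    · rintro _ ⟨x, rfl⟩
      refine ⟨a x, ?_⟩
      simp only [Module.End.mul_apply, LinearMap.sub_apply, Module.End.one_apply, map_sub, happ]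
    · rintro _ ⟨x, rfl⟩
      refine ⟨b x, ?_⟩
      simp only [Module.End.mul_apply, LinearMap.sub_apply, Module.End.one_apply, map_sub, happ]

theorem mem_range_of_gl {e : ℕ} (he : 0 < e) (hn : 1 ≤ n) (hcop : e.Coprime (Fintype.card F - 1)) (g : GL (Fin n) F)
    (hg : orderOf g = e) : e ∈ Set.range (orderOf : PSLn → ℕ) := by
  classical
  have hunit : ∀ u : Fˣ, u ^ e = 1 → u = 1 := fun u hu => by
    have h1 := orderOf_dvd_of_pow_eq_one hu
    have h2 := orderOf_dvd_card (x := u)
    rw [Fintype.card_units] at h2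
    have h3 := Nat.dvd_gcd h1 h2
    rw [hcop.gcd_eq_one, Nat.dvd_one, orderOf_eq_one_iff] at h3
    exact h3
  have hdet : Matrix.GeneralLinearGroup.det g = 1 := hunit _ (by rw [← map_pow, ← hg, pow_orderOf_eq_one, map_one])
  let X : SLn := ⟨g.1, congrArg Units.val hdet⟩
  have hX : Matrix.SpecialLinearGroup.toGL X = g := Units.ext rfl
  refine ⟨QuotientGroup.mk X, Nat.dvd_antisymm (orderOf_dvd_of_pow_eq_one ?_) ?_⟩
  · rw [← QuotientGroup.mk_pow]
    refine (QuotientGroup.eq_one_iff _).2 ?_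
    have : X ^ e = 1 := Matrix.SpecialLinearGroup.toGL_injective (by
      rw [map_pow, hX, ← hg, pow_orderOf_eq_one, map_one])
    rw [this]; exact one_mem _
  · set j := orderOf (QuotientGroup.mk X : PSLn)
    have h : (QuotientGroup.mk X : PSLn) ^ j = 1 := pow_orderOf_eq_one _
    rw [← QuotientGroup.mk_pow, QuotientGroup.eq_one_iff] at h
    obtain ⟨c, -, hc⟩ := (PrimeAdjacent.mem_center_SL_iff _).1 h
    haveI : Nonempty (Fin n) := ⟨⟨0, hn⟩⟩
    have hc' : (g ^ j).1 = c • 1 := by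
      rw [← hc, ← hX, ← map_pow]; rfl
    have hc0 : c ≠ 0 := fun e => (g ^ j).ne_zero (by rw [hc', e, zero_smul])
    have hce : (Units.mk0 c hc0) ^ e = 1 := by
      refine Units.ext (smul_left_injective F (one_ne_zero (α := Matrix (Fin n) (Fin n) F)) ?_)
      show ((Units.mk0 c hc0) ^ e).val • (1 : Matrix (Fin n) (Fin n) F) = (1 : F) • 1
      have h2 := congrArg (fun M : Matrix (Fin n) (Fin n) F => M ^ e) hc'
      rw [← Units.val_pow_eq_pow_val, ← pow_mul, mul_comm, pow_mul, ← hg, pow_orderOf_eq_one, one_pow, Units.val_one,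
        smul_pow, one_pow, hg] at h2
      rw [one_smul, Units.val_pow_eq_pow_val, Units.val_mk0, ← h2]
    have hc1 : c = 1 := congrArg Units.val (hunit _ hce)
    rw [← hg]
    exact orderOf_dvd_of_pow_eq_one (Units.ext (by rw [hc', hc1, one_smul, Units.val_one]))

theorem adjacent_iff {p : ℕ} [Fact p.Prime] [CharP F p] (hn : 2 ≤ n) {r s k l : ℕ} (hr : r.Prime) (hs : s.Prime)
    (hrp : r ≠ p) (hsp : s ≠ p) (hrs : r ≠ s) (hsG : s ∣ Nat.card PSLn)
    (hk : k = orderOf ((Fintype.card F : ℕ) : ZMod r)) (hl : l = orderOf ((Fintype.card F : ℕ) : ZMod s))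
    (h2k : 2 ≤ k) (hkl : k ≤ l) :
    (r * s ∉ Set.range (orderOf : PSLn → ℕ)) ↔ (n < k + l ∧ ¬ k ∣ l) := by
  classical
  have hp : p.Prime := Fact.out
  have hne : ∀ t : ℕ, t.Prime → t ≠ p → (t : F) ≠ 0 := fun t ht htp h =>
    htp ((Nat.prime_dvd_prime_iff_eq hp ht).1 ((CharP.cast_eq_zero_iff F p t).1 h)).symm
  have hq : ∀ t : ℕ, t.Prime → t ≠ p → ¬ t ∣ Fintype.card F := fun t ht htp h => by
    obtain ⟨f, -, hf⟩ := FiniteField.card F p
    rw [hf] at h
    exact htp ((Nat.prime_dvd_prime_iff_eq ht hp).1 (ht.dvd_of_dvd_pow h))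
  have hq1 : ∀ t m : ℕ, t.Prime → m = orderOf ((Fintype.card F : ℕ) : ZMod t) → 2 ≤ m →
      t.Coprime (Fintype.card F - 1) := fun t m ht hm h2 => by
    rw [ht.coprime_iff_not_dvd]
    intro h
    have := (pow_sub_one_dvd_iff (F := F) (r := t) 1).1 (by simpa using h)
    rw [← hm] at this
    have := Nat.le_of_dvd one_pos this
    omega
  have hcop : (r * s).Coprime (Fintype.card F - 1) :=
    Nat.Coprime.mul_left (hq1 r k hr hk h2k) (hq1 s l hs hl (h2k.trans hkl))
  have hln : l ≤ n := le_of_dvd_card_GL hs (hq s hs hsp) hl (hsG.trans ((Subgroup.card_quotient_dvd_card _).trans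
    (Subgroup.card_dvd_of_injective _ Matrix.SpecialLinearGroup.toGL_injective)))
  have hrs' : r.Coprime s := (Nat.coprime_primes hr hs).2 hrs
  constructor
  · intro hno
    by_contra hcon
    apply hno
    by_cases hkd : k ∣ l
    · obtain ⟨g, hg⟩ := KnownB.exists_gl_orderOf (F := F) (n := n) (d := l) (e := r * s) (by omega) hln
        (hrs'.mul_dvd_of_dvd_of_dvd ((pow_sub_one_dvd_iff l).2 (hk ▸ hkd))
          ((pow_sub_one_dvd_iff l).2 (hl ▸ dvd_rfl)))
      exact mem_range_of_gl (Nat.mul_pos hr.pos hs.pos) (by omega) hcop g hg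
    · have hkln : k + l ≤ n := by
        by_contra hlt
        exact hcon ⟨by omega, hkd⟩
      obtain ⟨g, hg⟩ := KnownB.exists_gl_orderOf (F := F) (n := k) (d := k) (e := r) (by omega) le_rfl
        ((pow_sub_one_dvd_iff k).2 (hk ▸ dvd_rfl))
      obtain ⟨h, hh⟩ := KnownB.exists_gl_orderOf (F := F) (n := n - k) (d := l) (e := s) (by omega) (by omega)
        ((pow_sub_one_dvd_iff l).2 (hl ▸ dvd_rfl))
      let e : Fin k ⊕ Fin (n - k) ≃ Fin n := finSumFinEquiv.trans (finCongr (by omega))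
      let φ : GL (Fin k) F × GL (Fin (n - k)) F →* GL (Fin n) F :=
        (Units.map (((Matrix.reindexAlgEquiv F F e).toAlgHom.toRingHom.toMonoidHom).comp
          { toFun := fun x : Matrix (Fin k) (Fin k) F × Matrix (Fin (n - k)) (Fin (n - k)) F =>
              Matrix.fromBlocks x.1 0 0 x.2
            map_one' := Matrix.fromBlocks_one
            map_mul' := fun x y => by simp [Matrix.fromBlocks_multiply] })).comp MulEquiv.prodUnits.symm.toMonoidHom
      have hφ : Function.Injective φ := by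
        refine (Units.map_injective ?_).comp MulEquiv.prodUnits.symm.injective
        intro x y hxy
        have h := Matrix.fromBlocks_inj.1 ((Matrix.reindexAlgEquiv F F e).injective hxy)
        exact Prod.ext h.1 h.2.2.2
      refine mem_range_of_gl (Nat.mul_pos hr.pos hs.pos) (by omega) hcop (φ (g, h)) ?_
      rw [orderOf_injective φ hφ, Prod.orderOf_mk, hg, hh, hrs'.lcm_eq_mul]
  · rintro ⟨hlt, hkd⟩ ⟨x, hx⟩
    obtain ⟨X, rfl⟩ := QuotientGroup.mk_surjective x
    have hd : r * s ∣ orderOf X := hx ▸ orderOf_map_dvd (QuotientGroup.mk' (Subgroup.center SLn)) X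
    set G := X ^ (orderOf X / (r * s)) with hGd
    have hG : orderOf G = r * s := orderOf_pow_orderOf_div (orderOf_pos X).ne' hd
    have hEG : ∀ j, (E G.1) ^ j = E (G ^ j).1 := fun j => by rw [← map_pow, ← Matrix.SpecialLinearGroup.coe_pow]
    have hone : E (1 : SLn).1 = 1 := by rw [Matrix.SpecialLinearGroup.coe_one, map_one]
    have hinj : ∀ j, (E G.1) ^ j = 1 → r * s ∣ j := fun j hj => by
      rw [← hG]
      refine orderOf_dvd_of_pow_eq_one (Subtype.ext ((E).injective ?_))
      rw [← hEG, hj, hone]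
    have hG1 : (E G.1) ^ (r * s) = 1 := by rw [hEG, ← hG, pow_orderOf_eq_one, hone]
    rcases room (a := (E G.1) ^ s) (b := (E G.1) ^ r) hr hs (hne r hr hrp) (hne s hs hsp)
      (by rw [← pow_mul, mul_comm, hG1]) (by rw [← pow_mul, hG1]) (Commute.pow_pow_self _ s r)
      (fun e => by
        have := Nat.le_of_dvd hs.pos (hinj s e)
        nlinarith [hr.two_le, hs.pos])
      (fun e => by
        have := Nat.le_of_dvd hr.pos (hinj r e)
        nlinarith [hs.two_le, hr.pos]) with h | ⟨d, hd1, hdn, hkd', hld'⟩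
    · rw [← hk, ← hl] at h; omega
    · rw [← hk] at hkd'
      rw [← hl] at hld'
      obtain ⟨m, rfl⟩ := hld'
      rcases Nat.lt_or_ge m 2 with hm | hm
      · obtain rfl : m = 1 := by
          rcases Nat.eq_zero_or_pos m with h0 | h0
          · rw [h0, mul_zero] at hd1; omega
          · omega
        exact hkd (by simpa using hkd')
      · have : l * 2 ≤ l * m := Nat.mul_le_mul_left l hm
        omega

end Cfsg.Agent.Linear.OddAdjacent
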