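import Cfsg.Agent.Linear.PSL2MaxExist
import Cfsg.Agent.S2119
import Mathlib

/-!
# Maximal subgroups of `PGL₂(q)`, `q` odd: tools
-/

set_option autoImplicit false
set_option linter.unusedSectionVars false

namespace Cfsg.Agent.Linear.PGL2Max

open scoped Pointwise
open Matrix Cfsg.Agent.Dickson Cfsg.Agent.Linear.PSL2Borel Cfsg.Agent.Linear.PSL2Dickson
  Cfsg.Agent.Linear.PSL2Ext Cfsg.Agent.Linear.PSL2Max

variable {F : Type*} [Field F]

local notation "SL" => Matrix.SpecialLinearGroup (Fin 2) F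
local notation "PSL" => Matrix.ProjectiveSpecialLinearGroup (Fin 2) F
local notation "PGL" => Matrix.ProjGenLinGroup (Fin 2) F

/-- The embedding of `PSL₂`. -/
def T : Matrix.ProjectiveSpecialLinearGroup (Fin 2) F →* Matrix.ProjGenLinGroup (Fin 2) F :=
  Matrix.ProjectiveSpecialLinearGroup.toPGL

theorem T_injective : Function.Injective (T (F := F)) :=
  Matrix.ProjectiveSpecialLinearGroup.toPGL_injective

theorem T_toPSL (s : SL) : T (toPSL s) = ProjGenLinGroup.mk (SpecialLinearGroup.toGL s) := rfl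

theorem range_T :
    (ProjGenLinGroup.mk.comp SpecialLinearGroup.toGL : SL →* PGL).range = (T (F := F)).range := by
  ext x
  constructor
  · rintro ⟨s, rfl⟩
    exact ⟨toPSL s, rfl⟩
  · rintro ⟨y, rfl⟩
    obtain ⟨s, rfl⟩ := toPSL_surjective y
    exact ⟨s, rfl⟩

/-- The image of `GL₂` of a subfield. -/
def GK (K : Subfield F) : Subgroup (Matrix.ProjGenLinGroup (Fin 2) F) :=
  (ProjGenLinGroup.mk.comp (GeneralLinearGroup.map (K.subtype : K →+* F))).range

theorem toPSL_entries {K : Subfield F} {g : SL} (h : toPSL g ∈ stdP K) : g ∈ entriesIn K := by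
  obtain ⟨k, hk, e⟩ := h
  rcases toPSL_eq_iff.1 e with rfl | rfl
  · exact hk
  · intro i j
    simpa using K.neg_mem (hk i j)

theorem uel_mem_entries (K : Subfield F) : (uel 1 : SL) ∈ entriesIn K := fun i j => by
  fin_cases i <;> fin_cases j <;> simp [K.one_mem, K.zero_mem]

theorem lel_mem_entries (K : Subfield F) : (lel 1 : SL) ∈ entriesIn K := fun i j => by
  fin_cases i <;> fin_cases j <;> simp [K.one_mem, K.zero_mem]

theorem cdet_uel_lel : PSL2Pairs.cdet (uel 1 : SL) (lel 1) ≠ 0 := by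
  rw [PSL2Pairs.cdet_eq]
  simp [tr, mul_apply2]
  norm_num

theorem GK_mono {K K' : Subfield F} (h : K ≤ K') : GK K ≤ GK K' := by
  rintro _ ⟨Q, rfl⟩
  exact ⟨GeneralLinearGroup.map (Subfield.inclusion h) Q, congrArg ProjGenLinGroup.mk (by ext i j; rfl)⟩

theorem T_stdP_le (K : Subfield F) : (stdP K).map T ≤ GK K := by
  rintro _ ⟨_, ⟨s, hs, rfl⟩, rfl⟩
  rw [SetLike.mem_coe, entriesIn_eq_range] at hs
  obtain ⟨s0, rfl⟩ := hs
  exact ⟨SpecialLinearGroup.toGL s0, congrArg ProjGenLinGroup.mk (by ext i j; rfl)⟩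

theorem mem_of_uel_mem_GK {K : Subfield F} {x : F} (h : T (toPSL (uel x)) ∈ GK K) : x ∈ K := by
  obtain ⟨Q, hQ⟩ := h
  rw [T_toPSL, MonoidHom.comp_apply, ProjGenLinGroup.mk_eq_mk_iff] at hQ
  obtain ⟨u, hu⟩ := hQ
  have e : ∀ i j, (Q.1 i j : F) * (u : F) = (uel x : SL).1 i j := fun i j => by
    have := congrArg (fun M : GL (Fin 2) F => M.1 i j) hu
    simpa [Matrix.mul_diagonal] using this
  have h00 := e 0 0
  have h01 := e 0 1
  simp at h00 h01
  have hq : (Q.1 0 0 : F) ≠ 0 := fun e => by rw [e, zero_mul] at h00; exact zero_ne_one h00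
  have : x = (Q.1 0 1 : F) / (Q.1 0 0 : F) := by
    rw [eq_div_iff hq, ← h01]
    linear_combination (Q.1 0 1 : F) * h00
  rw [this]
  exact K.div_mem (Q.1 0 1).2 (Q.1 0 0).2

theorem GK_ne_top {K : Subfield F} (hK : K ≠ ⊤) : GK K ≠ ⊤ := fun h =>
  hK (eq_top_iff.2 fun _ _ => mem_of_uel_mem_GK (h ▸ Subgroup.mem_top _))

/-- `GK K` is `PGL₂(K)`. -/
theorem nonempty_GK_equiv (K : Subfield F) : Nonempty (GK K ≃* Matrix.ProjGenLinGroup (Fin 2) K) := by
  let f : GL (Fin 2) K →* PGL := ProjGenLinGroup.mk.comp (GeneralLinearGroup.map (K.subtype : K →+* F))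
  have hf : f.comp (GeneralLinearGroup.scalar (Fin 2)) = 1 := by
    ext u
    simp only [f, MonoidHom.comp_apply, MonoidHom.one_apply]
    refine ProjGenLinGroup.mk_eq_one.2 ?_
    rw [GeneralLinearGroup.center_eq_range_scalar]
    refine ⟨Units.map (K.subtype : K →+* F).toMonoidHom u, ?_⟩
    ext i j
    by_cases h : i = j <;> simp [Matrix.diagonal, h]
  have hinj : Function.Injective (ProjGenLinGroup.lift f hf) := by
    rw [injective_iff_map_eq_one]
    intro y hy
    induction y using ProjGenLinGroup.induction_on with | mk A =>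
    rw [ProjGenLinGroup.lift_mk, MonoidHom.comp_apply, ProjGenLinGroup.mk_eq_one] at hy
    refine ProjGenLinGroup.mk_eq_one.2 ?_
    rw [Subgroup.mem_center_iff] at hy ⊢
    intro B
    have := hy (GeneralLinearGroup.map (K.subtype : K →+* F) B)
    rw [← map_mul, ← map_mul] at this
    refine Units.ext (Matrix.ext fun i j => Subtype.ext ?_)
    exact congrArg (fun M : GL (Fin 2) F => M.1 i j) this
  have hr : GK K = (ProjGenLinGroup.lift f hf).range := by
    ext x
    constructor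
    · rintro ⟨Q, rfl⟩
      exact ⟨ProjGenLinGroup.mk Q, ProjGenLinGroup.lift_mk _ _⟩
    · rintro ⟨y, rfl⟩
      induction y using ProjGenLinGroup.induction_on with | mk A =>
      exact ⟨A, (ProjGenLinGroup.lift_mk _ _).symm⟩
  exact ⟨(MulEquiv.subgroupCongr hr).trans (MonoidHom.ofInjective hinj).symm⟩

theorem mk_eq_of_smul {P Q : GL (Fin 2) F} {w : F} (h : P.1 = w • Q.1) :
    ProjGenLinGroup.mk Q = ProjGenLinGroup.mk P := by
  have hw : w ≠ 0 := fun e => by
    have := P.isUnit.map (Matrix.detMonoidHom)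
    simp [h, e] at this
  refine ProjGenLinGroup.mk_eq_mk_iff.2 ⟨Units.mk0 w hw, ?_⟩
  ext i j
  simp [h, Matrix.mul_diagonal, mul_comm w]

variable [Fintype F]

instance finitePGL : Finite (Matrix.ProjGenLinGroup (Fin 2) F) :=
  Finite.of_surjective _ ProjGenLinGroup.mk_surjective

theorem T_glAut (P : GL (Fin 2) F) (x : PSL) :
    T (glAut P x) = ProjGenLinGroup.mk P * T x * (ProjGenLinGroup.mk P)⁻¹ := by
  obtain ⟨s, rfl⟩ := toPSL_surjective x
  rw [glAut_toPSL, T_toPSL, T_toPSL, ← map_inv, ← map_mul, ← map_mul]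
  exact congrArg ProjGenLinGroup.mk (Units.ext rfl)

theorem tr_conjGL (P : GL (Fin 2) F) (g : SL) : tr (conjGL P g) = tr g := by
  have : (conjGL P g).1 = P.1 * g.1 * (↑P⁻¹ : Matrix (Fin 2) (Fin 2) F) := rfl
  have h1 := Matrix.trace_units_conj P g.1
  rw [← this, Matrix.trace_fin_two, Matrix.trace_fin_two] at h1
  exact h1

/-- An element conjugating an irreducible pair over `K` into matrices over `K` is in `GK K`. -/
theorem descend {K : Subfield F} {g h : SL} (hg : g ∈ entriesIn K) (hh : h ∈ entriesIn K)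
    (hne : PSL2Pairs.cdet g h ≠ 0) {P : GL (Fin 2) F} (hPg : glAut P (toPSL g) ∈ stdP K)
    (hPh : glAut P (toPSL h) ∈ stdP K) : ProjGenLinGroup.mk P ∈ GK K := by
  rw [glAut_toPSL] at hPg hPh
  have hg1 := toPSL_entries hPg
  have hh1 := toPSL_entries hPh
  rw [entriesIn_eq_range] at hg hh hg1 hh1
  obtain ⟨g0, hg0⟩ := hg
  obtain ⟨h0, hh0⟩ := hh
  obtain ⟨g1, hg1⟩ := hg1
  obtain ⟨h1, hh1⟩ := hh1
  set φ := (Matrix.SpecialLinearGroup.map (K.subtype : K →+* F) : _ →* SL)
  have htr : ∀ k : SL2 K, tr (φ k) = K.subtype (tr k) := fun k => by simp [φ, tr]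
  have hne0 : PSL2Pairs.cdet g0 h0 ≠ 0 := fun e => hne (by
    have e' := congrArg K.subtype e
    rw [PSL2Pairs.cdet_eq] at e'
    rw [PSL2Pairs.cdet_eq, ← hg0, ← hh0, ← map_mul, htr, htr, htr]
    simpa [map_ofNat, show ((4 : K) : F) = 4 from map_ofNat K.subtype 4] using e')
  have hinj := K.subtype.injective
  obtain ⟨Q, eg, eh⟩ := PSL2Pairs.exists_conj hne0 (g' := g1) (h' := h1)
    (hinj (by rw [← htr, ← htr, hg1, hg0, tr_conjGL]))
    (hinj (by rw [← htr, ← htr, hh1, hh0, tr_conjGL]))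
    (hinj (by rw [← htr, ← htr, map_mul, map_mul, hg1, hh1, hg0, hh0, ← map_mul, tr_conjGL]))
  set R : GL (Fin 2) F := GeneralLinearGroup.map (K.subtype : K →+* F) Q
  have hR : R.1 = Q.1.map K.subtype := rfl
  have key : ∀ (a : SL) (a0 a1 : SL2 K), φ a0 = a → φ a1 = conjGL P a → a1.1 * Q.1 = Q.1 * a0.1 →
      (R⁻¹.1 * P.1) * a.1 = a.1 * (R⁻¹.1 * P.1) := by
    intro a a0 a1 e0 e1 e
    have h2 : (P.1 * a.1 * (↑P⁻¹ : Matrix (Fin 2) (Fin 2) F)) * R.1 = R.1 * a.1 := by
      change (conjGL P a).1 * R.1 = R.1 * a.1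
      rw [← e1, ← e0, hR]
      change a1.1.map K.subtype * _ = _ * a0.1.map K.subtype
      rw [← Matrix.map_mul, ← Matrix.map_mul, e]
    rw [mul_assoc, Units.inv_mul_eq_iff_eq_mul, ← mul_assoc, ← mul_assoc, ← h2]
    simp only [mul_assoc, Units.mul_inv_cancel_left, Units.inv_mul, mul_one]
  obtain ⟨w, hw⟩ := PSL2Pairs.commutant hne (key g g0 g1 hg0 hg1 eg) (key h h0 h1 hh0 hh1 eh)
  rw [Units.inv_mul_eq_iff_eq_mul, mul_smul_comm, mul_one] at hw
  exact ⟨Q, mk_eq_of_smul hw⟩

/-- Faithfulness on irreducible pairs. -/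
theorem mk_eq_one_of_fix {g h : SL} (hne : PSL2Pairs.cdet g h ≠ 0) (h2 : (2 : F) ≠ 0) (hh : tr h ≠ 0)
    (hgh : tr g ≠ 0 ∨ tr (g * h) ≠ 0) {P : GL (Fin 2) F} (e1 : glAut P (toPSL g) = toPSL g)
    (e2 : glAut P (toPSL h) = toPSL h) : ProjGenLinGroup.mk P = 1 := by
  have hfix : ∀ a : SL, tr a ≠ 0 → glAut P (toPSL a) = toPSL a → conjGL P a = a := by
    intro a ha e
    rw [glAut_toPSL] at e
    rcases toPSL_eq_iff.1 e with e | e
    · exact e
    · have h' := congrArg tr e
      rw [tr_conjGL, tr_neg] at h'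
      exact absurd ((mul_eq_zero.1 (show (2 : F) * tr a = 0 by linear_combination h')).resolve_left h2) ha
  have hh' := hfix h hh e2
  have hg' : conjGL P g = g := by
    rcases hgh with h' | h'
    · exact hfix g h' e1
    · have := hfix (g * h) h' (by rw [map_mul, map_mul, e1, e2])
      rw [map_mul, hh'] at this
      exact mul_right_cancel this
  have comm : ∀ a : SL, conjGL P a = a → P.1 * a.1 = a.1 * P.1 := fun a e => by
    have : P.1 * a.1 * (↑P⁻¹ : Matrix (Fin 2) (Fin 2) F) = a.1 := congrArg Subtype.val e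
    rwa [Units.mul_inv_eq_iff_eq_mul] at this
  obtain ⟨w, hw⟩ := PSL2Pairs.commutant hne (comm g hg') (comm h hh')
  rw [← mk_eq_of_smul (Q := 1) (by rw [hw]; rfl), map_one]

theorem tr_uel_lel_ne (h2 : (2 : F) ≠ 0) : tr (uel 1 : SL) ≠ 0 ∧ tr (lel 1 : SL) ≠ 0 := by
  constructor <;> simp [tr] <;> norm_num <;> exact h2

theorem eq_one_of_glAut_id (h2 : (2 : F) ≠ 0) {P : GL (Fin 2) F} (h : ∀ x, glAut P x = x) :
    ProjGenLinGroup.mk P = 1 :=
  mk_eq_one_of_fix cdet_uel_lel h2 (tr_uel_lel_ne h2).2 (Or.inl (tr_uel_lel_ne h2).1) (h _) (h _)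

theorem index_range_T (hodd : Fintype.card F % 2 = 1) : (T (F := F)).range.index = 2 := by
  obtain ⟨g, hg, hker⟩ := Cfsg.Agent.Linear.exists_PGL_quotient (F := F) 2
  rw [show (T (F := F)).range = g.ker from hker.symm, Subgroup.index_ker, MonoidHom.range_eq_top.2 hg,
    Subgroup.card_top, Nat.card_congr Multiplicative.toAdd, Nat.card_zmod, Nat.gcd_eq_left_iff_dvd]
  omega

theorem range_T_eq_top (heven : Fintype.card F % 2 = 0) : (T (F := F)).range = ⊤ := by
  obtain ⟨g, hg, hker⟩ := Cfsg.Agent.Linear.exists_PGL_quotient (F := F) 2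
  have h1 : Nat.gcd 2 (Fintype.card F - 1) = 1 := by
    have := Fintype.one_lt_card (α := F)
    rw [Nat.gcd_rec, show (Fintype.card F - 1) % 2 = 1 by omega, Nat.gcd_one_left]
  rw [show (T (F := F)).range = g.ker from hker.symm, ← Subgroup.index_eq_one, Subgroup.index_ker,
    MonoidHom.range_eq_top.2 hg, Subgroup.card_top, Nat.card_congr Multiplicative.toAdd, Nat.card_zmod, h1]

section Maximal

variable (hodd : Fintype.card F % 2 = 1) (hq : 5 ≤ Fintype.card F) {M : Subgroup (Matrix.ProjGenLinGroup (Fin 2) F)}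
  (hM : IsCoatom M)
  (hML : ¬ (T (F := F)).range ≤ M)

theorem comap_map_stable {P : GL (Fin 2) F} (hP : ProjGenLinGroup.mk P ∈ M) :
    (M.comap T).map (glAut P).toMonoidHom = M.comap T := by
  ext x
  constructor
  · rintro ⟨y, hy, rfl⟩
    show T (glAut P y) ∈ M
    rw [T_glAut]
    exact mul_mem (mul_mem hP hy) (inv_mem hP)
  · intro hx
    refine ⟨(glAut P).symm x, ?_, (glAut P).apply_symm_apply x⟩
    show T ((glAut P).symm x) ∈ M
    have e := T_glAut P ((glAut P).symm x)
    rw [MulEquiv.apply_symm_apply] at e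
    rw [show T ((glAut P).symm x) = (ProjGenLinGroup.mk P)⁻¹ * T x * ProjGenLinGroup.mk P by rw [e]; group]
    exact mul_mem (mul_mem (inv_mem hP) hx) hP

include hodd hM hML in
theorem exists_not_mem : ∃ P : GL (Fin 2) F, ProjGenLinGroup.mk P ∈ M ∧ ProjGenLinGroup.mk P ∉ (T (F := F)).range := by
  by_contra hcon
  push Not at hcon
  have hle : M ≤ (T (F := F)).range := fun x hx => by
    induction x using ProjGenLinGroup.induction_on with | mk A => exact hcon A hx
  rcases hle.lt_or_eq with h | h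
  · have := index_range_T hodd
    rw [hM.2 _ h, Subgroup.index_top] at this
    omega
  · exact hML h.ge

include hodd hM hML in
theorem card_eq : Nat.card M = 2 * Nat.card (M.comap T) := by
  obtain ⟨P, hP, hPn⟩ := exists_not_mem hodd hM hML
  have h1 : ((T (F := F)).range.subgroupOf M).index = 2 := by
    rw [Subgroup.index_eq_two_iff]
    refine ⟨⟨_, hP⟩, fun b => ?_⟩
    have := Subgroup.mul_mem_iff_of_index_two (index_range_T hodd) (a := (b : PGL)) (b := ProjGenLinGroup.mk P)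
    simp only [Subgroup.mem_subgroupOf, Subgroup.coe_mul]
    by_cases hb : (b : PGL) ∈ (T (F := F)).range
    · exact Or.inr ⟨hb, fun h => hPn ((this.1 h).1 hb)⟩
    · exact Or.inl ⟨this.2 ⟨fun h => absurd h hb, fun h => absurd h hPn⟩, hb⟩
  have h2 := ((T (F := F)).range.subgroupOf M).index_mul_card
  rw [h1] at h2
  rw [← h2]
  congr 1
  have e : M.comap T ≃* (T (F := F)).range.subgroupOf M :=
    { toFun := fun x => ⟨⟨T x.1, x.2⟩, ⟨x.1, rfl⟩⟩
      invFun := fun y => ⟨y.2.choose, by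
        show T y.2.choose ∈ M
        rw [y.2.choose_spec]; exact y.1.2⟩
      left_inv := fun x => Subtype.ext (T_injective
        (Exists.choose_spec (⟨x.1, rfl⟩ : T x.1 ∈ (T (F := F)).range)))
      right_inv := fun y => Subtype.ext (Subtype.ext y.2.choose_spec)
      map_mul' := fun a b => Subtype.ext (Subtype.ext (map_mul T _ _)) }
  exact (Nat.card_congr e.toEquiv).symm

include hq hM hML in
theorem comap_ne_top : M.comap T ≠ ⊤ := fun h => hML fun _ ⟨y, hy⟩ =>
  hy ▸ (show y ∈ M.comap T from h ▸ Subgroup.mem_top y)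

/-- The normaliser in `PGL₂` of a subgroup of `PSL₂`. -/
theorem normalizer_ne_top' (hq4 : 4 ≤ Fintype.card F) {V : Subgroup PSL} (h1 : V ≠ ⊥) (h2 : V ≠ ⊤) :
    Subgroup.normalizer ((V.map T : Subgroup PGL) : Set PGL) ≠ ⊤ := fun h => by
  refine normalizer_ne_top hq4 h1 h2 (eq_top_iff.2 fun z _ => ?_)
  refine Subgroup.mem_normalizer_fintype fun v hv => ?_
  obtain ⟨w, hw, e⟩ := (Subgroup.mem_normalizer_iff.1 (h ▸ Subgroup.mem_top (T z)) (T v)).1
    (Subgroup.mem_map_of_mem _ hv)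
  rw [← map_inv, ← map_mul, ← map_mul] at e
  exact T_injective e ▸ hw

include hq hM in
/-- `M` is the whole normaliser of every non-trivial proper invariant subgroup. -/
theorem eq_normalizer {V : Subgroup PSL} (h1 : V ≠ ⊥) (h2 : V ≠ ⊤)
    (hV : ∀ P : GL (Fin 2) F, ProjGenLinGroup.mk P ∈ M → ∀ v ∈ V, glAut P v ∈ V) :
    M = Subgroup.normalizer ((V.map T : Subgroup PGL) : Set PGL) := by
  have hle : M ≤ Subgroup.normalizer ((V.map T : Subgroup PGL) : Set PGL) := fun x hx => by
    induction x using ProjGenLinGroup.induction_on with | mk P =>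
    refine Subgroup.mem_normalizer_fintype ?_
    rintro _ ⟨v, hv, rfl⟩
    exact ⟨_, hV P hx v hv, T_glAut P v⟩
  rcases hle.lt_or_eq with h | h
  · exact absurd (hM.2 _ h) (normalizer_ne_top' (by omega) h1 h2)
  · exact h

include hq hM in
theorem normalizer_le_comap {V : Subgroup PSL} (h1 : V ≠ ⊥) (h2 : V ≠ ⊤)
    (hV : ∀ P : GL (Fin 2) F, ProjGenLinGroup.mk P ∈ M → ∀ v ∈ V, glAut P v ∈ V) :
    Subgroup.normalizer (V : Set PSL) ≤ M.comap T := by
  intro z hz
  show T z ∈ M
  rw [eq_normalizer hq hM h1 h2 hV]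
  refine Subgroup.mem_normalizer_fintype ?_
  rintro _ ⟨v, hv, rfl⟩
  exact ⟨z * v * z⁻¹, (Subgroup.mem_normalizer_iff.1 hz v).1 hv, by rw [map_mul, map_mul, map_inv]⟩

include hodd hq hM hML in
theorem comap_ne_bot : M.comap T ≠ ⊥ := by
  intro hbot
  have h2 : (2 : F) ≠ 0 := PSL2Classes.two_ne_zero_of_odd hodd
  have hc := card_eq hodd hM hML
  rw [hbot, Subgroup.card_bot] at hc
  obtain ⟨P, hP, hPn⟩ := exists_not_mem hodd hM hML
  set z := ProjGenLinGroup.mk P
  have hz2 : z * z = 1 := by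
    have := pow_card_eq_one' (x := (⟨z, hP⟩ : M))
    rw [hc, pow_two] at this
    exact congrArg Subtype.val this
  have hinv : Function.Involutive (glAut P) := fun x => T_injective (by
    rw [T_glAut, T_glAut, show z * (z * T x * z⁻¹) * z⁻¹ = z * z * T x * (z * z)⁻¹ by group, hz2, one_mul,
      inv_one, mul_one])
  obtain ⟨x, hfx, hx⟩ : ∃ x, glAut P x = x ∧ x ≠ 1 := by
    by_contra hcon
    push Not at hcon
    have hfpf : MonoidHom.FixedPointFree (glAut P) := fun x hx => hcon x hx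
    have hi := hfpf.coe_eq_inv_of_involutive hinv
    have hcomm : ∀ a b : PSL, a * b = b * a := fun a b => by
      have := map_mul (glAut P) a⁻¹ b⁻¹
      simp only [hi, inv_inv, _root_.mul_inv_rev] at this
      exact this.symm
    exact not_solvable_psl (K := F) (by omega) (Group.isSolvable_of_comm hcomm)
  have hxz : Commute (T x) z := by
    have := T_glAut P x
    rw [hfx] at this
    exact (eq_mul_inv_iff_mul_eq.1 this)
  have hlt : M < Subgroup.centralizer ({z} : Set PGL) := by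
    refine lt_of_le_of_ne (fun y hy => ?_) fun e => ?_
    · rw [Subgroup.mem_centralizer_singleton_iff]
      have h01 : ∀ w : M, w = 1 ∨ w = ⟨z, hP⟩ := by
        intro w
        obtain ⟨u, -, huniq⟩ := (Nat.card_eq_two_iff' (1 : M)).1 (by rw [hc])
        by_cases hw : w = 1
        · exact Or.inl hw
        · exact Or.inr ((huniq w hw).trans (huniq ⟨z, hP⟩ (fun e =>
            hPn ⟨1, by rw [map_one]; exact (congrArg Subtype.val e).symm⟩)).symm)
      rcases h01 ⟨y, hy⟩ with e | e <;> rw [show y = _ from congrArg Subtype.val e] <;> simp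
    · have hm : T x ∈ M := e ▸ Subgroup.mem_centralizer_singleton_iff.2 hxz.eq
      have : x ∈ M.comap T := hm
      rw [hbot, Subgroup.mem_bot] at this
      exact hx this
  have htop := hM.2 _ hlt
  refine hPn ⟨1, ?_⟩
  rw [map_one]
  refine (eq_one_of_glAut_id h2 fun y => T_injective ?_).symm
  have := Subgroup.mem_centralizer_singleton_iff.1 (htop ▸ Subgroup.mem_top (T y))
  rw [T_glAut, ← this, mul_inv_cancel_right]

end Maximal

end Cfsg.Agent.Linear.PGL2Max
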