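import Cfsg.Agent.Linear.PGL2Max
import Mathlib

/-!
# The cases for a maximal subgroup of `PGL₂(q)`, `q` odd
-/

set_option autoImplicit false
set_option linter.unusedSectionVars false

namespace Cfsg.Agent.Linear.PGL2Max

open scoped Pointwise
open Matrix Cfsg.Agent.Dickson Cfsg.Agent.Linear.PSL2Borel Cfsg.Agent.Linear.PSL2Dickson
  Cfsg.Agent.Linear.PSL2Ext Cfsg.Agent.Linear.PSL2Max Cfsg.Agent.KnownA.GL2

variable {F : Type*} [Field F] [Fintype F]

local notation "SL" => Matrix.SpecialLinearGroup (Fin 2) F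
local notation "PSL" => Matrix.ProjectiveSpecialLinearGroup (Fin 2) F
local notation "PGL" => Matrix.ProjGenLinGroup (Fin 2) F

/-- The matrices commuting with a non-scalar matrix. -/
theorem exists_lin {g : SL} (hg : ¬ IsScalar g.1) {Q : Matrix (Fin 2) (Fin 2) F} (h : Q * g.1 = g.1 * Q) :
    ∃ a b : F, Q = a • (1 : Matrix (Fin 2) (Fin 2) F) + b • g.1 := by
  have e := fun i j => congrArg (fun M : Matrix (Fin 2) (Fin 2) F => M i j) h
  have e00 := e 0 0; have e01 := e 0 1; have e10 := e 1 0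
  simp [Matrix.mul_apply, Fin.sum_univ_two] at e00 e01 e10
  suffices ∃ a b : F, Q 0 0 = a + b * g.1 0 0 ∧ Q 1 1 = a + b * g.1 1 1 ∧ Q 0 1 = b * g.1 0 1 ∧ Q 1 0 = b * g.1 1 0 by
    obtain ⟨a, b, h1, h2, h3, h4⟩ := this
    refine ⟨a, b, Matrix.ext fun i j => ?_⟩
    fin_cases i <;> fin_cases j <;> simp [h1, h2, h3, h4]
  by_cases h01 : g.1 0 1 = 0
  · by_cases h10 : g.1 1 0 = 0
    · have hd : g.1 0 0 - g.1 1 1 ≠ 0 := fun h => hg (by
        rw [sub_eq_zero] at h
        simp [IsScalar, h01, h10, h])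
      refine ⟨Q 0 0 - (Q 0 0 - Q 1 1) / (g.1 0 0 - g.1 1 1) * g.1 0 0,
        (Q 0 0 - Q 1 1) / (g.1 0 0 - g.1 1 1), by ring, ?_, ?_, ?_⟩
      · field_simp; ring
      · rw [h01] at e01 ⊢
        rw [mul_zero]
        exact (mul_eq_zero.1 (show Q 0 1 * (g.1 0 0 - g.1 1 1) = 0 by linear_combination -e01)).resolve_right hd
      · rw [h10] at e10 ⊢
        rw [mul_zero]
        exact (mul_eq_zero.1 (show Q 1 0 * (g.1 0 0 - g.1 1 1) = 0 by linear_combination e10)).resolve_right hd
    · refine ⟨Q 0 0 - Q 1 0 / g.1 1 0 * g.1 0 0, Q 1 0 / g.1 1 0, by ring, ?_, ?_, ?_⟩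
      · field_simp; linear_combination e10
      · rw [h01] at e00 ⊢
        rw [mul_zero]
        exact (mul_eq_zero.1 (show Q 0 1 * g.1 1 0 = 0 by linear_combination e00)).resolve_right h10
      · field_simp
  · refine ⟨Q 0 0 - Q 0 1 / g.1 0 1 * g.1 0 0, Q 0 1 / g.1 0 1, by ring, ?_, ?_, ?_⟩
    · field_simp; linear_combination -e01
    · field_simp
    · field_simp; linear_combination -e00

theorem lin_unique {g : SL} (hg : ¬ IsScalar g.1) {a b a' b' : F}
    (h : a • (1 : Matrix (Fin 2) (Fin 2) F) + b • g.1 = a' • 1 + b' • g.1) : a = a' ∧ b = b' := by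
  have e := fun i j => congrArg (fun M : Matrix (Fin 2) (Fin 2) F => M i j) h
  have e00 := e 0 0; have e11 := e 1 1; have e01 := e 0 1; have e10 := e 1 0
  simp at e00 e11 e01 e10
  have hb : b = b' := by
    by_contra hne
    have h01 : g.1 0 1 = 0 := e01.resolve_left hne
    have h10 : g.1 1 0 = 0 := e10.resolve_left hne
    refine hg ?_
    have : g.1 0 0 = g.1 1 1 := mul_left_cancel₀ (sub_ne_zero.2 hne) (by linear_combination e00 - e11)
    simp [IsScalar, h01, h10, this]
  exact ⟨by subst hb; linear_combination e00, hb⟩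

theorem det_lin (g : SL) (a b : F) :
    (a • (1 : Matrix (Fin 2) (Fin 2) F) + b • g.1).det = a ^ 2 + a * b * tr g + b ^ 2 := by
  have hd := det_eq g
  simp only [Matrix.det_fin_two, Matrix.add_apply, Matrix.smul_apply, tr]
  simp
  linear_combination b ^ 2 * hd

theorem cayley (g : SL) : g.1 * g.1 = tr g • g.1 - 1 := by
  rw [SmallOrder.cayley2, g.2, one_smul, Matrix.trace_fin_two]; rfl

theorem mul_lin (g : SL) (a b c d : F) :
    (a • (1 : Matrix (Fin 2) (Fin 2) F) + b • g.1) * (c • 1 + d • g.1) =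
      (a * c - b * d) • 1 + (a * d + b * c + b * d * tr g) • g.1 := by
  rw [add_mul, mul_add, mul_add, smul_mul_smul_comm, smul_mul_smul_comm, smul_mul_smul_comm, smul_mul_smul_comm,
    one_mul, one_mul, mul_one, cayley]
  module

theorem tr_inv' (g : SL) : tr (g⁻¹ : SL) = tr g := by simp [tr, add_comm]

theorem inv_eq_lin (g : SL) : (g⁻¹ : SL).1 = tr g • (1 : Matrix (Fin 2) (Fin 2) F) + (-1 : F) • g.1 := by
  apply Matrix.ext
  intro i j
  fin_cases i <;> fin_cases j <;> simp [tr] <;> ring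

/-- The centraliser of a semisimple element gives a cyclic subgroup of `PGL₂`. -/
theorem cyclic_centraliser {g : SL} (hg : ¬ IsScalar g.1) (ht : tr g ^ 2 ≠ 4) :
    ∃ C : Subgroup PGL, IsCyclic C ∧ ∀ x, x ∈ C ↔ ∃ P : GL (Fin 2) F, P.1 * g.1 = g.1 * P.1 ∧ ProjGenLinGroup.mk P = x := by
  classical
  let S : Subgroup (GL (Fin 2) F) := Subgroup.centralizer {SpecialLinearGroup.toGL g}
  have hS : ∀ P : GL (Fin 2) F, P ∈ S ↔ P.1 * g.1 = g.1 * P.1 := fun P => by
    rw [Subgroup.mem_centralizer_singleton_iff]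
    exact ⟨fun h => congrArg Units.val h, fun h => Units.ext h⟩
  refine ⟨S.map ProjGenLinGroup.mk, ?_, fun x => ?_⟩
  swap
  · exact ⟨fun ⟨P, hP, e⟩ => ⟨P, (hS P).1 hP, e⟩, fun ⟨P, hP, e⟩ => ⟨P, (hS P).2 hP, e⟩⟩
  -- the ratio of the eigenvalues
  let K := AlgebraicClosure F
  let ι := algebraMap F K
  obtain ⟨l, hl⟩ : ∃ l : K, l ^ 2 - ι (tr g) * l + 1 = 0 := by
    obtain ⟨l, hl⟩ := IsAlgClosed.exists_root
      (Polynomial.X ^ 2 - Polynomial.C (ι (tr g)) * Polynomial.X + 1 : Polynomial K) (by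
        rw [show (Polynomial.X ^ 2 - Polynomial.C (ι (tr g)) * Polynomial.X + 1 : Polynomial K) =
          Polynomial.C 1 * Polynomial.X ^ 2 + Polynomial.C (-ι (tr g)) * Polynomial.X + Polynomial.C 1 by
            simp only [map_one, map_neg]; ring, Polynomial.degree_quadratic one_ne_zero]
        decide)
    exact ⟨l, by simpa using hl⟩
  set l' := ι (tr g) - l with hl'
  have hll : l * l' = 1 := by rw [hl']; linear_combination -hl
  have hne : l - l' ≠ 0 := fun e => ht (ι.injective (by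
    rw [map_pow, map_ofNat]
    linear_combination (-(4 : K)) * hl + (l - l') * e + (e * 0) + ((ι (tr g)) - l - l') * 0))
  choose ca cb hab using fun P : S => exists_lin hg ((hS P.1).1 P.2)
  have hmul : ∀ P Q : S, ca (P * Q) = ca P * ca Q - cb P * cb Q ∧
      cb (P * Q) = ca P * cb Q + cb P * ca Q + cb P * cb Q * tr g := fun P Q =>
    lin_unique hg ((hab (P * Q)).symm.trans (by
      rw [Subgroup.coe_mul, Units.val_mul, hab P, hab Q, mul_lin]))
  let μ : S → K := fun P => ι (ca P) + ι (cb P) * l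
  let μ' : S → K := fun P => ι (ca P) + ι (cb P) * l'
  have hμμ : ∀ P, μ P * μ' P ≠ 0 := fun P => by
    have e : μ P * μ' P = ι (P.1.1.det) := by
      rw [hab P, det_lin]
      simp only [μ, μ', map_add, map_mul, map_pow]
      linear_combination (ι (cb P)) ^ 2 * hll + ι (ca P) * ι (cb P) * hl'
    rw [e]
    exact (map_ne_zero _).2 (GeneralLinearGroup.det_ne_zero P.1)
  let ν : S →* K := MonoidHom.mk
    ⟨fun P => μ P / μ' P, by
      have h1 : ca (1 : S) = 1 ∧ cb (1 : S) = 0 := lin_unique hg ((hab 1).symm.trans (by simp))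
      simp [μ, μ', h1.1, h1.2]⟩
    (fun P Q => by
      obtain ⟨e1, e2⟩ := hmul P Q
      show μ (P * Q) / μ' (P * Q) = μ P / μ' P * (μ Q / μ' Q)
      have a1 : μ (P * Q) = μ P * μ Q := by
        simp only [μ, e1, e2, map_add, map_sub, map_mul]
        linear_combination -(ι (cb P) * ι (cb Q)) * hl
      have a2 : μ' (P * Q) = μ' P * μ' Q := by
        simp only [μ', e1, e2, map_add, map_sub, map_mul, hl']
        linear_combination -(ι (cb P) * ι (cb Q)) * hl
      rw [a1, a2, div_mul_div_comm])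
  let νu : S →* Kˣ := MonoidHom.toHomUnits ν
  obtain ⟨⟨_, c, rfl⟩, hc⟩ := IsCyclic.exists_generator (α := νu.range)
  refine isCyclic_iff_exists_zpowers_eq_top.2 ⟨⟨_, Subgroup.mem_map_of_mem _ c.2⟩, eq_top_iff.2 ?_⟩
  rintro ⟨_, P, hP, rfl⟩ -
  obtain ⟨i, hi⟩ := hc ⟨νu ⟨P, hP⟩, ⟨P, hP⟩, rfl⟩
  refine ⟨i, Subtype.ext ?_⟩
  have hker : νu ((⟨P, hP⟩ : S) * (c ^ i)⁻¹) = 1 := by
    rw [map_mul, map_inv, map_zpow, mul_inv_eq_one]
    exact (by simpa using congrArg Subtype.val hi : νu c ^ i = νu ⟨P, hP⟩).symm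
  set R : S := (⟨P, hP⟩ : S) * (c ^ i)⁻¹
  have hb : cb R = 0 := by
    have h1 : μ R / μ' R = 1 := by simpa [νu, ν] using congrArg Units.val hker
    rw [div_eq_one_iff_eq (right_ne_zero_of_mul (hμμ R))] at h1
    exact (map_eq_zero ι).1 ((mul_eq_zero.1 (show ι (cb R) * (l - l') = 0 by
      linear_combination h1)).resolve_right hne)
  have hR : R.1.1 = ca R • ((1 : GL (Fin 2) F) : Matrix (Fin 2) (Fin 2) F) := by
    rw [hab R, hb, zero_smul, add_zero]; rfl
  have := mk_eq_of_smul hR
  rw [map_one] at this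
  simp only [R, Subgroup.coe_mul, Subgroup.coe_inv, Subgroup.coe_zpow, map_mul, map_inv, map_zpow] at this
  rw [Subgroup.coe_zpow]
  exact (mul_inv_eq_one.1 this.symm).symm

section Maximal

variable (p : ℕ) [Fact p.Prime] [CharP F p] (hodd : Fintype.card F % 2 = 1) (hq : 5 ≤ Fintype.card F)
  {M : Subgroup (Matrix.ProjGenLinGroup (Fin 2) F)} (hM : IsCoatom M) (hML : ¬ (T (F := F)).range ≤ M)

include p in
theorem tr_sq_ne {g : SL} (hx : toPSL g ≠ 1) (hp : ¬ p ∣ orderOf (toPSL g)) (h2 : (2 : F) ≠ 0) :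
    tr g ^ 2 ≠ 4 := fun ht => by
  have hl : (tr g / 2) ^ 2 - tr g * (tr g / 2) + 1 = 0 := by
    field_simp; linear_combination -ht
  have hpow : toPSL g ^ p = 1 := by
    rw [← map_pow, toPSL_eq_one_iff]
    have e : PSL2Classes.tr g = tr g := by simp [PSL2Classes.tr, tr, Matrix.trace_fin_two]
    exact PSL2Classes.pow_char p (g := g) (l := tr g / 2) (by rw [e]; exact hl) (by rw [e]; field_simp; ring)
  rcases (Nat.dvd_prime (Fact.out : p.Prime)).1 (orderOf_dvd_of_pow_eq_one hpow) with e | e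
  · exact hx (orderOf_eq_one_iff.1 e)
  · exact hp (dvd_of_eq e.symm)

/-- The elements of order at least 3 of a dihedral group. -/
theorem mem_zpowers_rot {k : ℕ} {z : DihedralGroup k} (h : orderOf z ≠ 2) :
    z ∈ Subgroup.zpowers (DihedralGroup.r 1 : DihedralGroup k) := by
  rcases z with a | a
  · exact ⟨(a.cast : ℤ), by simp⟩
  · exact absurd (DihedralGroup.orderOf_sr a) h

include hodd hq hM hML p in
/-- The trace-preserving property of automorphisms from `M` on a normalised cyclic subgroup. -/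
theorem cyclic_false (hcy : IsCyclic (M.comap T)) (hp : ¬ p ∣ Nat.card (M.comap T)) : False := by
  set N := M.comap T
  obtain ⟨⟨x, hxN⟩, hgen⟩ := hcy.exists_generator
  have hN : N = Subgroup.zpowers x := le_antisymm (fun y hy => by
    obtain ⟨i, hi⟩ := hgen ⟨y, hy⟩
    exact ⟨i, by simpa using congrArg Subtype.val hi⟩) (Subgroup.zpowers_le.2 hxN)
  have hbot := comap_ne_bot hodd hq hM hML
  have hx1 : x ≠ 1 := fun e => hbot (hN.trans (Subgroup.zpowers_eq_bot.2 e))
  have hle := normalizer_le_comap (V := N) hq hM hbot (comap_ne_top hq hM hML) fun P hP v hv => by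
    show glAut P v ∈ M.comap T
    rw [← comap_map_stable hP]; exact Subgroup.mem_map_of_mem _ hv
  have hcard : Nat.card N = orderOf x := by rw [hN, Nat.card_zpowers]
  have h1 : 2 * nm F ≤ orderOf x := by
    rw [← hcard]
    refine le_trans ?_ (Subgroup.card_le_of_le hle)
    rw [hN]
    exact normalizer_lower p hx1 (by rw [← hcard]; exact hp)
  rcases parity (F := F) with ⟨h, -⟩ | ⟨-, -, hnm, hnp⟩
  · omega
  have hd := PSL2Classes.orderOf_dvd p x
  rw [show Nat.gcd 2 (Fintype.card F - 1) = 2 by rw [Nat.gcd_eq_left_iff_dvd]; omega] at hd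
  rcases hd with h | h | h
  · rcases (Nat.dvd_prime (Fact.out : p.Prime)).1 h with e | e
    · omega
    · exact hp (hcard.symm ▸ dvd_of_eq e.symm)
  · have := Nat.le_of_dvd (by omega) h; omega
  · have := Nat.le_of_dvd (by omega) h; omega

include hodd hq hM hML p in
/-- The dihedral case. -/
theorem dihedral_case {k : ℕ} (hk : k ∣ np F ∨ k ∣ nm F) (hk2 : 2 ≤ k) (e : M.comap T ≃* DihedralGroup k) :
    3 ≤ k ∧ (k = np F ∨ k = nm F) ∧ Nonempty (M ≃* DihedralGroup (2 * k)) := by
  classical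
  have h2 : (2 : F) ≠ 0 := PSL2Classes.two_ne_zero_of_odd hodd
  set N := M.comap T with hNdef
  have hbot := comap_ne_bot hodd hq hM hML
  have htop := comap_ne_top hq hM hML
  have hNc : Nat.card N = 2 * k := by rw [Nat.card_congr e.toEquiv, DihedralGroup.nat_card]
  have hstab : ∀ P : GL (Fin 2) F, ProjGenLinGroup.mk P ∈ M → ∀ v ∈ N, glAut P v ∈ N := fun P hP v hv => by
    rw [hNdef, ← comap_map_stable hP]; exact Subgroup.mem_map_of_mem _ hv
  have hk3 : 3 ≤ k := by
    by_contra hlt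
    obtain rfl : k = 2 := by omega
    have hV : IsKleinFour N := ⟨hNc, (Monoid.exponent_eq_of_mulEquiv e).trans (by rw [DihedralGroup.exponent]; rfl)⟩
    have h12 := (klein_normalizer h2 hV).trans (Subgroup.card_le_of_le (normalizer_le_comap hq hM hbot htop hstab))
    rw [← hNdef] at h12
    omega
  refine ⟨hk3, ?_⟩
  set x : PSL := ((e.symm (DihedralGroup.r 1) : N) : PSL) with hx
  have hxo : orderOf x = k := by
    rw [hx, Subgroup.orderOf_coe, e.symm.orderOf_eq, DihedralGroup.orderOf_r_one]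
  have hx1 : x ≠ 1 := fun h => by rw [h, orderOf_one] at hxo; omega
  have hxN : x ∈ N := SetLike.coe_mem _
  set V := Subgroup.zpowers x
  have hVbot : V ≠ ⊥ := by rwa [Ne, Subgroup.zpowers_eq_bot]
  have hVtop : V ≠ ⊤ := zpowers_ne_top (by omega) x
  have hrot : ∀ y ∈ N, orderOf y = k → y ∈ V := by
    intro y hy hyo
    obtain ⟨i, hi⟩ := mem_zpowers_rot (z := e ⟨y, hy⟩) (by rw [e.orderOf_eq, Subgroup.orderOf_mk]; omega)
    refine ⟨i, ?_⟩
    have := congrArg (fun z => ((e.symm z : N) : PSL)) hi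
    simp only [map_zpow, MulEquiv.symm_apply_apply, Subgroup.coe_zpow] at this
    rw [hx]
    exact this
  have hVstab : ∀ P : GL (Fin 2) F, ProjGenLinGroup.mk P ∈ M → ∀ v ∈ V, glAut P v ∈ V := by
    rintro P hP _ ⟨i, rfl⟩
    rw [map_zpow]
    exact Subgroup.zpow_mem _ (hrot _ (hstab P hP x hxN) (by rw [(glAut P).orderOf_eq, hxo])) i
  have hxp : ¬ p ∣ orderOf x := by rw [hxo]; exact not_dvd_of_dvd p hk
  have hlow := (normalizer_lower p hx1 hxp).trans
    (Subgroup.card_le_of_le (normalizer_le_comap hq hM hVbot hVtop hVstab))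
  rcases parity (F := F) with ⟨h, -⟩ | ⟨-, -, hnm, hnp⟩
  · omega
  refine ⟨?_, ?_⟩
  · rw [hNc] at hlow
    rcases hk with hd | hd
    · obtain ⟨c, hc⟩ := hd
      rcases c with _ | _ | c
      · omega
      · left; simpa using hc.symm
      · exfalso
        have : k * 2 ≤ k * (c + 1 + 1) := Nat.mul_le_mul_left k (by omega)
        omega
    · have := Nat.le_of_dvd (by omega) hd
      omega
  -- the structure of `M`
  obtain ⟨g, hg⟩ := toPSL_surjective x
  have hns : ¬ IsScalar g.1 := PSL2Classes.not_scalar_of_toPSL (by rw [hg]; exact hx1)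
  have ht4 : tr g ^ 2 ≠ 4 := tr_sq_ne p (by rw [hg]; exact hx1) (by rw [hg]; exact hxp) h2
  have ht0 : tr g ≠ 0 := fun h0 => by
    have hgg : g * g = -1 := Subtype.ext (by
      show g.1 * g.1 = _
      rw [cayley, h0, zero_smul, zero_sub]; simp)
    have : x ^ 2 = 1 := by rw [← hg, pow_two, ← map_mul, hgg]; exact toPSL_eq_one_iff.2 (Or.inr rfl)
    have := Nat.le_of_dvd (by norm_num) (orderOf_dvd_of_pow_eq_one this)
    omega
  obtain ⟨C, hC, hCmem⟩ := cyclic_centraliser hns ht4
  -- exact lifts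
  have hexact : ∀ (P : GL (Fin 2) F) (g' : SL), tr g' = tr g → glAut P x = toPSL g' → conjGL P g = g' := by
    intro P g' htg hPg
    rw [← hg, glAut_toPSL] at hPg
    rcases toPSL_eq_iff.1 hPg with e' | e'
    · exact e'
    · have h' := congrArg tr e'
      rw [tr_conjGL, tr_neg, htg] at h'
      exact absurd ((mul_eq_zero.1 (show (2 : F) * tr g = 0 by linear_combination h')).resolve_left h2) ht0
  have hcases : ∀ P : GL (Fin 2) F, ProjGenLinGroup.mk P ∈ M → glAut P x = x ∨ glAut P x = x⁻¹ := by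
    intro P hP
    obtain ⟨i, hi⟩ := hVstab P hP x (Subgroup.mem_zpowers x)
    have hcomm : toPSL (conjGL P g * g) = toPSL (g * conjGL P g) := by
      rw [map_mul, map_mul, ← glAut_toPSL, hg, ← hi]
      exact (Commute.zpow_self x i).eq
    have hc : conjGL P g * g = g * conjGL P g := by
      rcases toPSL_eq_iff.1 hcomm with e' | e'
      · exact e'
      · exfalso
        have h' : g⁻¹ * (conjGL P g * g) = -conjGL P g := by
          rw [e', mul_neg, inv_mul_cancel_left]
        have h'' := congrArg tr h'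
        rw [← mul_assoc, show g⁻¹ * conjGL P g * g = g⁻¹ * conjGL P g * (g⁻¹)⁻¹ by rw [inv_inv],
          tr_conj, tr_neg, tr_conjGL] at h''
        exact ht0 ((mul_eq_zero.1 (show (2 : F) * tr g = 0 by linear_combination h'')).resolve_left h2)
    obtain ⟨a, b, hab⟩ := exists_lin hns (congrArg Subtype.val hc)
    have htr : 2 * a + b * tr g = tr g := by
      have := congrArg Matrix.trace hab
      rw [Matrix.trace_add, Matrix.trace_smul, Matrix.trace_smul, Matrix.trace_one, Matrix.trace_fin_two,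
        Matrix.trace_fin_two] at this
      have h' : tr (conjGL P g) = a * 2 + b * tr g := by simpa [tr] using this
      rw [tr_conjGL] at h'
      linear_combination -h'
    have hdet : a ^ 2 + a * b * tr g + b ^ 2 = 1 := by rw [← det_lin, ← hab]; exact (conjGL P g).2
    have hb : (b - 1) * (b + 1) = 0 := by
      have h4 : 4 - tr g ^ 2 ≠ 0 := sub_ne_zero.2 (Ne.symm ht4)
      refine (mul_eq_zero.1 (show (b - 1) * (b + 1) * (4 - tr g ^ 2) = 0 from ?_)).resolve_right h4
      linear_combination 4 * hdet - (2 * a + b * tr g + tr g) * htr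
    rcases mul_eq_zero.1 hb with hb | hb
    · left
      have hb' : b = 1 := sub_eq_zero.1 hb
      have ha : a = 0 := by
        rw [hb'] at htr
        exact (mul_eq_zero.1 (show (2 : F) * a = 0 by linear_combination htr)).resolve_left h2
      rw [← hg, glAut_toPSL]
      congr 1
      exact Subtype.ext (by rw [hab, ha, hb', zero_smul, one_smul, zero_add])
    · right
      have hb' : b = -1 := by linear_combination hb
      have ha : a = tr g := by
        rw [hb'] at htr
        exact mul_left_cancel₀ h2 (by linear_combination htr)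
      rw [← hg, glAut_toPSL, ← map_inv]
      congr 1
      exact Subtype.ext (by rw [hab, ha, hb', inv_eq_lin])
  have hMnorm := eq_normalizer hq hM hVbot hVtop hVstab
  have hCfix : ∀ P : GL (Fin 2) F, P.1 * g.1 = g.1 * P.1 → glAut P x = x := by
    intro P hP
    rw [← hg, glAut_toPSL]
    congr 1
    refine Subtype.ext ?_
    show P.1 * g.1 * (↑P⁻¹ : Matrix (Fin 2) (Fin 2) F) = g.1
    rw [Units.mul_inv_eq_iff_eq_mul, hP]
  have hCM : C ≤ M := by
    intro y hy
    obtain ⟨P, hP, rfl⟩ := (hCmem y).1 hy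
    rw [hMnorm]
    refine Subgroup.mem_normalizer_fintype ?_
    rintro _ ⟨_, ⟨i, rfl⟩, rfl⟩
    exact ⟨x ^ i, ⟨i, rfl⟩, by rw [← T_glAut]; simp only [map_zpow, hCfix P hP]⟩
  have hCiff : ∀ P : GL (Fin 2) F, ProjGenLinGroup.mk P ∈ M → (ProjGenLinGroup.mk P ∈ C ↔ glAut P x = x) := by
    intro P _
    constructor
    · intro h
      obtain ⟨Q, hQ, he⟩ := (hCmem _).1 h
      refine T_injective ?_
      rw [T_glAut, ← he, ← T_glAut, hCfix Q hQ]
    · intro h
      have := congrArg Subtype.val (hexact P g rfl (by rw [h, hg]))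
      refine (hCmem _).2 ⟨P, ?_, rfl⟩
      change P.1 * g.1 * (↑P⁻¹ : Matrix (Fin 2) (Fin 2) F) = g.1 at this
      rwa [Units.mul_inv_eq_iff_eq_mul] at this
  set s : PSL := ((e.symm (DihedralGroup.sr 0) : N) : PSL) with hs
  have hsN : s ∈ N := SetLike.coe_mem _
  have hso : orderOf s = 2 := by rw [hs, Subgroup.orderOf_coe, e.symm.orderOf_eq, DihedralGroup.orderOf_sr]
  have hsx : s * x * s⁻¹ = x⁻¹ := by
    rw [hs, hx, ← Subgroup.coe_inv, ← Subgroup.coe_inv, ← Subgroup.coe_mul, ← Subgroup.coe_mul, ← map_inv,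
      ← map_inv, ← map_mul, ← map_mul]
    simp
  obtain ⟨h, hh⟩ := toPSL_surjective s
  set W : PGL := T s
  set H := SpecialLinearGroup.toGL h
  have hWmk : W = ProjGenLinGroup.mk H := by rw [show W = T s from rfl, ← hh]; rfl
  have hHx : glAut H x = x⁻¹ := by rw [glAut_toGL, MulAut.conj_apply, hh]; exact hsx
  have hWC : W ∉ C := fun hm => by
    have h' := (hCiff H (hWmk ▸ hsN)).1 (hWmk ▸ hm)
    rw [hHx] at h'
    have : x ^ 2 = 1 := by rw [pow_two]; nth_rewrite 1 [← h']; exact inv_mul_cancel x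
    have := Nat.le_of_dvd (by norm_num) (orderOf_dvd_of_pow_eq_one this)
    omega
  have hidx : (C.subgroupOf M).index = 2 := by
    rw [Subgroup.index_eq_two_iff]
    refine ⟨⟨W, hsN⟩, fun y => ?_⟩
    obtain ⟨y, hy⟩ := y
    induction y using ProjGenLinGroup.induction_on with | mk P =>
    have hPW : ProjGenLinGroup.mk (P * H) ∈ M := by rw [map_mul]; exact mul_mem hy (hWmk ▸ hsN)
    simp only [Subgroup.mem_subgroupOf, Subgroup.coe_mul]
    rw [hWmk, ← map_mul, hCiff _ hPW, hCiff _ hy, glAut_mul, hHx, map_inv]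
    have hne : x⁻¹ ≠ x := fun h' => by
      have : x ^ 2 = 1 := by rw [pow_two]; nth_rewrite 1 [← h']; exact inv_mul_cancel x
      have := Nat.le_of_dvd (by norm_num) (orderOf_dvd_of_pow_eq_one this)
      omega
    rcases hcases P hy with h' | h'
    · exact Or.inr ⟨h', by rw [h']; exact hne⟩
    · exact Or.inl ⟨by rw [h', inv_inv], by rw [h']; exact hne⟩
  have hMc : Nat.card M = 2 * (2 * k) := by rw [card_eq hodd hM hML, ← hNdef, hNc]
  have hCc : Nat.card C = 2 * k := by
    have h1 := (C.subgroupOf M).index_mul_card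
    rw [hidx, Nat.card_congr (Subgroup.subgroupOfEquivOfLe hCM).toEquiv, hMc] at h1
    omega
  obtain ⟨⟨c, hcC⟩, hcgen⟩ := hC.exists_generator
  have hco : orderOf c = 2 * k := by
    have := orderOf_eq_card_of_forall_mem_zpowers hcgen
    rwa [Subgroup.orderOf_mk, hCc] at this
  have hW2 : W * W = 1 := by
    rw [show W = T s from rfl, ← map_mul, ← pow_two]
    rw [show s ^ 2 = 1 from ?_, map_one]
    have hp' := pow_orderOf_eq_one s
    generalize orderOf s = n at hso hp'
    subst hso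
    exact hp'
  have hWinv : W⁻¹ = W := inv_eq_of_mul_eq_one_right hW2
  have hWc : W * c * W⁻¹ * c = 1 := by
    obtain ⟨P, hP, rfl⟩ := (hCmem c).1 hcC
    obtain ⟨a, b, hab⟩ := exists_lin hns hP
    rw [hWmk, ← map_inv, ← map_mul, ← map_mul, ← map_mul]
    have hgi : H.1 * g.1 * (↑H⁻¹ : Matrix (Fin 2) (Fin 2) F) = (g⁻¹ : SL).1 :=
      congrArg Subtype.val (hexact H g⁻¹ (tr_inv' g) (by rw [hHx, map_inv, hg]))
    have hscal : (H * P * H⁻¹ * P).1 =
        (a ^ 2 + a * b * tr g + b ^ 2) • ((1 : GL (Fin 2) F) : Matrix (Fin 2) (Fin 2) F) := by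
      have hX : H.1 * P.1 * (↑H⁻¹ : Matrix (Fin 2) (Fin 2) F) =
          (a + b * tr g) • (1 : Matrix (Fin 2) (Fin 2) F) + (-b) • g.1 := by
        rw [hab, mul_add, add_mul, Matrix.mul_smul, Matrix.smul_mul, mul_one, Units.mul_inv, Matrix.mul_smul,
          Matrix.smul_mul, hgi, inv_eq_lin]
        module
      rw [Units.val_mul, Units.val_mul, Units.val_mul, hX, hab, mul_lin, Units.val_one,
        show (a + b * tr g) * b + -b * a + -b * b * tr g = 0 by ring, zero_smul, add_zero]
      congr 1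
      ring
    exact ((mk_eq_of_smul hscal).symm.trans (map_one _))
  have hWo : orderOf W = 2 := orderOf_eq_prime (by rw [pow_two, hW2]) fun e' => hWC (e' ▸ one_mem C)
  have hWco : orderOf (W * c) = 2 := by
    refine orderOf_eq_prime ?_ fun e' => hWC ?_
    · rw [pow_two]
      calc W * c * (W * c) = W * c * W⁻¹ * c := by rw [hWinv]; group
        _ = 1 := hWc
    · rw [show W = c⁻¹ from eq_inv_of_mul_eq_one_left e']; exact inv_mem hcC
  have hne : W ≠ W * c := fun e' => by
    rw [left_eq_mul.1 e', orderOf_one] at hco; omega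
  obtain ⟨eD⟩ := Cfsg.Agent.S0206.result W (W * c) hWo hWco hne
  rw [← mul_assoc, hW2, one_mul, hco] at eD
  have hle : Subgroup.closure ({W, W * c} : Set PGL) ≤ M := by
    rw [Subgroup.closure_le]
    rintro _ (rfl | rfl)
    · exact hsN
    · exact mul_mem hsN (hCM hcC)
  have heq : Subgroup.closure ({W, W * c} : Set PGL) = M := by
    refine Subgroup.eq_of_le_of_card_ge hle ?_
    rw [Nat.card_congr eD.toEquiv, DihedralGroup.nat_card, hMc]
  exact ⟨(MulEquiv.subgroupCongr heq.symm).trans eD⟩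

end Maximal

end Cfsg.Agent.Linear.PGL2Max
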