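import Cfsg.Agent.Linear.PSL2Spectrum

/-!
# Products of conjugacy classes of `PSL₂(q)`
-/

set_option autoImplicit false

namespace Cfsg.Agent.Linear.PSL2Classes

open Matrix
open Cfsg.Agent.KnownA.GL2 (IsScalar nfS trace_eq_of_isConj)

variable {F : Type*} [Field F] [Fintype F]

local notation "SL" => Matrix.SpecialLinearGroup (Fin 2) F
local notation "PSL" => Matrix.ProjectiveSpecialLinearGroup (Fin 2) F

/-- The square of a semisimple class of elements of order `> 2` covers everything (odd `q`). -/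
theorem square_covers_odd (p : ℕ) [Fact p.Prime] [CharP F p] (hp : p ≠ 2) (x : PSL) (hx2 : 2 < orderOf x)
    (hxp : ¬ p ∣ orderOf x) (g : PSL) (hg : g ≠ 1) :
    ∃ u v : PSL, g = (u * x * u⁻¹) * (v * x * v⁻¹) := by
  have h2 : (2 : F) ≠ 0 := Ring.two_ne_zero (by rw [ringChar.eq F p]; exact hp)
  obtain ⟨X, rfl⟩ := toPSL_surjective x
  obtain ⟨G, rfl⟩ := toPSL_surjective g
  have hX1 : toPSL X ≠ 1 := fun h => by rw [h, orderOf_one] at hx2; omega
  have hXs := not_scalar_of_toPSL hX1
  set t := tr X with htdef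
  have ht0 : t ≠ 0 := by
    intro h0
    have hsq : X * X = -1 := mul_self_SL (sq_neg_one_of_trace X (by
      rw [htdef, tr, Matrix.trace_fin_two] at h0; exact h0))
    have : toPSL X ^ 2 = 1 := by rw [sq, ← map_mul, toPSL_eq_one_iff]; exact Or.inr hsq
    have := Nat.le_of_dvd (by norm_num) (orderOf_dvd_of_pow_eq_one this)
    omega
  have ht4 : t ^ 2 ≠ 4 := by
    intro h4
    have hl : (t / 2) ^ 2 - t * (t / 2) + 1 = 0 := by field_simp; linear_combination -h4
    have hd : t - 2 * (t / 2) = 0 := by field_simp; ring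
    have hpow : toPSL X ^ p = 1 := by rw [← map_pow, toPSL_eq_one_iff]; exact pow_char p hl hd
    rcases (Nat.dvd_prime Fact.out).1 (orderOf_dvd_of_pow_eq_one hpow) with h | h
    · omega
    · exact hxp (h ▸ dvd_rfl)
  suffices H : ∃ G' : SL, toPSL G' = toPSL G ∧
      ∃ u v : F, u ^ 2 + tr G' * u * v + v ^ 2 - t * (u + v) + 1 = 0 by
    obtain ⟨G', hG', u, v, e⟩ := H
    rw [← hG'] at hg ⊢
    exact mem_square_of_conic hXs (Or.inl ht4) ht4 (not_scalar_of_toPSL hg) u v e
  by_cases hr : tr G ^ 2 = 4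
  · have hcase : tr G = 2 ∨ tr G = -2 := sq_eq_sq_iff_eq_or_eq_neg.1 (by rw [hr]; norm_num)
    have key : ∀ G' : SL, tr G' = -2 →
        ∃ u v : F, u ^ 2 + tr G' * u * v + v ^ 2 - t * (u + v) + 1 = 0 := fun G' hG' =>
      ⟨1 / (2 * t), 1 / (2 * t), by rw [hG']; field_simp; ring⟩
    rcases hcase with h | h
    · exact ⟨-G, toPSL_neg G, key _ (by rw [tr_neg, h])⟩
    · exact ⟨G, rfl, key _ h⟩
  · refine ⟨G, rfl, ?_⟩
    set r := tr G
    have h4 : (4 : F) ≠ 0 := by rw [show (4 : F) = 2 * 2 by norm_num]; exact mul_ne_zero h2 h2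
    have hb : 1 - r ^ 2 / 4 ≠ 0 := fun h => hr (by field_simp at h; linear_combination -h)
    have hr2 : 2 + r ≠ 0 := fun h => hr (by linear_combination (r - 2) * h)
    set c := t / (2 + r) with hc
    have hc' : c * (2 + r) = t := div_mul_cancel₀ t hr2
    obtain ⟨x', y, hxy⟩ := Forms.exists_sq_add_sq_eq (F := F) one_ne_zero hb (t * c - 1)
    have e : (2 : F) * (r * y / 2) = r * y := by field_simp
    refine ⟨x' - r * y / 2 + c, y + c, ?_⟩
    have e4 : (4 : F) * (r ^ 2 / 4) = r ^ 2 := by field_simp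
    set w := r * y / 2 with hw
    refine (mul_eq_zero.1 ?_).resolve_left h4
    set k := r ^ 2 / 4 with hk
    linear_combination 4 * hxy + 4 * (x' - w + y + c) * hc' + y ^ 2 * e4 + (2 * w - r * y) * e - 4 * x' * e + 2 * 0 * e

/-- The square of a split semisimple class covers everything (`q` even). -/
theorem square_covers_even [CharP F 2] (x : PSL) (hx2 : 2 < orderOf x)
    (hxq : ¬ orderOf x ∣ Fintype.card F + 1) (g : PSL) (hg : g ≠ 1) :
    ∃ u v : PSL, g = (u * x * u⁻¹) * (v * x * v⁻¹) := by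
  have h20 : (2 : F) = 0 := CharTwo.two_eq_zero
  obtain ⟨X, rfl⟩ := toPSL_surjective x
  obtain ⟨G, rfl⟩ := toPSL_surjective g
  have hX1 : toPSL X ≠ 1 := fun h => by rw [h, orderOf_one] at hx2; omega
  have ht : tr X ^ 2 ≠ 4 := by
    intro h4
    have h0 : tr X = 0 := by
      have : tr X ^ 2 = 0 := by linear_combination h4 + 2 * h20
      exact pow_eq_zero_iff (n := 2) two_ne_zero |>.1 this
    have hsq : X * X = -1 := mul_self_SL (sq_neg_one_of_trace X (by
      rw [tr, Matrix.trace_fin_two] at h0; exact h0))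
    have : toPSL X ^ 2 = 1 := by rw [sq, ← map_mul, toPSL_eq_one_iff]; exact Or.inr hsq
    have := Nat.le_of_dvd (by norm_num) (orderOf_dvd_of_pow_eq_one this)
    omega
  obtain ⟨l, hl⟩ : ∃ l : F, l ^ 2 - tr X * l + 1 = 0 := by
    by_contra h
    push Not at h
    exact hxq (orderOf_dvd_of_pow_eq_one (by rw [← map_pow, pow_card_succ h, map_one]))
  exact mem_square_of_conic (not_scalar_of_toPSL hX1) (Or.inl ht) ht (not_scalar_of_toPSL hg) l 0
    (by linear_combination hl)

theorem card_roots_le_two (a b c : F) (ha : a ≠ 0) [DecidableEq F] :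
    (Finset.univ.filter fun m : F => a * m ^ 2 + b * m + c = 0).card ≤ 2 := by
  set P : Polynomial F := Polynomial.C a * Polynomial.X ^ 2 + Polynomial.C b * Polynomial.X + Polynomial.C c
  have hdeg : P.natDegree = 2 := Polynomial.natDegree_quadratic ha
  have hP : P ≠ 0 := fun h => by simp [h] at hdeg
  refine (Finset.card_le_card (t := P.roots.toFinset) ?_).trans
    ((Multiset.toFinset_card_le _).trans ((Polynomial.card_roots' P).trans hdeg.le))
  intro m hm
  rw [Multiset.mem_toFinset, Polynomial.mem_roots hP]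
  simpa [P, Polynomial.IsRoot] using (Finset.mem_filter.1 hm).2

/-- The product of two non-trivial classes is never one class. -/
theorem class_product_ne_class (h4 : 4 ≤ Fintype.card F) (a b : PSL) (ha : a ≠ 1) (hb : b ≠ 1) (c : PSL) :
    {g : PSL | ∃ u v : PSL, g = (u * a * u⁻¹) * (v * b * v⁻¹)} ≠ {g | IsConj c g} := by
  classical
  obtain ⟨A, rfl⟩ := toPSL_surjective a
  obtain ⟨B, rfl⟩ := toPSL_surjective b
  obtain ⟨C, rfl⟩ := toPSL_surjective c
  intro heq
  obtain ⟨δ, P, hA⟩ := exists_nf (not_scalar_of_toPSL ha)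
  obtain ⟨ε, Q, hB⟩ := exists_nf (not_scalar_of_toPSL hb)
  set t := tr A
  set s := tr B
  have hδ : (δ : F) ≠ 0 := δ.ne_zero
  have hε : (ε : F) ≠ 0 := ε.ne_zero
  let T : F → SL := fun m => ⟨!![1, m; 0, 1], by simp [Matrix.det_fin_two]⟩
  have hmem : ∀ m : F, tr (nfS t δ * (T m * nfS s ε * (T m)⁻¹)) = tr C ∨
      tr (nfS t δ * (T m * nfS s ε * (T m)⁻¹)) = -tr C := by
    intro m
    set W := nfS t δ * (T m * nfS s ε * (T m)⁻¹) with hW
    have hin : toPSL W ∈ {g : PSL | IsConj (toPSL C) g} := by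
      rw [← heq]
      refine ⟨toPSL P⁻¹, toPSL (T m * Q⁻¹), ?_⟩
      rw [hA, hB, ← map_inv, ← map_inv, ← map_mul, ← map_mul, ← map_mul, ← map_mul, ← map_mul, hW]
      congr 1
      group
    obtain ⟨u, hu⟩ := isConj_iff.1 hin
    obtain ⟨U, rfl⟩ := toPSL_surjective u
    rw [← map_inv, ← map_mul, ← map_mul] at hu
    rcases toPSL_eq_iff.1 hu.symm with h | h <;> rw [h]
    · exact Or.inl (tr_conj U C)
    · exact Or.inr (by rw [tr_neg, tr_conj])
  have hval : ∀ m : F, tr (nfS t δ * (T m * nfS s ε * (T m)⁻¹)) =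
      (-((δ : F) * ε)) * m ^ 2 + ((δ : F) * s - t * ε) * m + (t * s - (ε : F) / δ - δ / ε) := by
    intro m
    change ((nfS t δ).1 * ((T m).1 * (nfS s ε).1 * (T m)⁻¹.1)).trace = _
    rw [Matrix.SpecialLinearGroup.coe_inv]
    simp [T, nfS, Cfsg.Agent.KnownA.GL2.Kmat, Matrix.adjugate_fin_two, Matrix.trace_fin_two,
      Matrix.mul_apply, Fin.sum_univ_two]
    field_simp
    ring
  set α : F := -((δ : F) * ε)
  set β : F := (δ : F) * s - t * ε
  set γ : F := t * s - (ε : F) / δ - δ / ε
  have hα : α ≠ 0 := neg_ne_zero.2 (mul_ne_zero hδ hε)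
  let S : F → Finset F := fun r => Finset.univ.filter fun m => α * m ^ 2 + β * m + (γ - r) = 0
  have hall : (Finset.univ : Finset F) ⊆ S (tr C) ∪ S (-tr C) := fun m _ => by
    rcases hmem m with h | h <;> rw [hval] at h
    · exact Finset.mem_union_left _ (Finset.mem_filter.2 ⟨Finset.mem_univ _, by linear_combination h⟩)
    · exact Finset.mem_union_right _ (Finset.mem_filter.2 ⟨Finset.mem_univ _, by linear_combination h⟩)
  have hcard := Finset.card_le_card hall
  rw [Finset.card_univ] at hcard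
  have h1 := card_roots_le_two α β (γ - tr C) hα
  have h2 := card_roots_le_two α β (γ - -tr C) hα
  have hu := Finset.card_union_le (S (tr C)) (S (-tr C))
  rcases Nat.mod_two_eq_zero_or_one (Fintype.card F) with hev | hodd
  · have h20 := two_eq_zero_of_even (F := F) hev
    rw [show -tr C = tr C by linear_combination -(tr C) * h20, Finset.union_self] at hcard
    simp only [S] at hcard
    omega
  · simp only [S] at hcard hu
    omega

end Cfsg.Agent.Linear.PSL2Classes
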