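import Cfsg.Agent.Linear.PSL2Spectrum
import Cfsg.Agent.KnownA.GL2.Centralizers
import Cfsg.Agent.Linear.SL2Facts
import Mathlib

/-! # The conjugacy class sizes of `PSL₂(q)` -/

set_option autoImplicit false

namespace Cfsg.Agent.Linear.PSL2ClassSizes

open Matrix Cfsg.Agent.Linear.PSL2Classes
open Cfsg.Agent.KnownA.GL2 (IsScalar scalar_SL_cases card_centralizer_SL)

variable {F : Type*} [Field F] [Fintype F]

local notation "SL" => Matrix.SpecialLinearGroup (Fin 2) F
local notation "PSL" => Matrix.ProjectiveSpecialLinearGroup (Fin 2) F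

theorem card_mul_card (g : SL) :
    (Subgroup.centralizer ({g} : Set SL)).index * Nat.card (Subgroup.centralizer ({g} : Set SL)) =
      Fintype.card F * (Fintype.card F ^ 2 - 1) := by
  rw [Subgroup.index_mul_card, Cfsg.Agent.Linear.card_SL_two (F := F)]

theorem card_conic_split {t l : F} (hl : l ^ 2 - t * l + 1 = 0) (hd : t - 2 * l ≠ 0) :
    Nat.card {p : F × F // p.1 ^ 2 + p.1 * p.2 * t + p.2 ^ 2 = 1} = Fintype.card F - 1 := by
  have hfac : ∀ x y : F, x ^ 2 + x * y * t + y ^ 2 = (x + y * l) * (x + y * (t - l)) := fun x y => by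
    linear_combination y ^ 2 * hl
  let f : {p : F × F // p.1 ^ 2 + p.1 * p.2 * t + p.2 ^ 2 = 1} ≃ Fˣ :=
    { toFun := fun p => Units.mk0 (p.1.1 + p.1.2 * l)
        (left_ne_zero_of_mul_eq_one ((hfac _ _).symm.trans p.2))
      invFun := fun a => ⟨((a : F) - (((a : F)⁻¹ - a) / (t - 2 * l)) * l, ((a : F)⁻¹ - a) / (t - 2 * l)), by
        have h1 : ((a : F) - (((a : F)⁻¹ - a) / (t - 2 * l)) * l) + (((a : F)⁻¹ - a) / (t - 2 * l)) * (t - l) =
            (a : F)⁻¹ := by
          linear_combination div_mul_cancel₀ ((a : F)⁻¹ - a) hd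
        rw [hfac, h1, sub_add_cancel, mul_inv_cancel₀ a.ne_zero]⟩
      left_inv := fun p => by
        have h := (hfac _ _).symm.trans p.2
        have hinv : (p.1.1 + p.1.2 * l)⁻¹ = p.1.1 + p.1.2 * (t - l) := inv_eq_of_mul_eq_one_right h
        have hy : ((p.1.1 + p.1.2 * l)⁻¹ - (p.1.1 + p.1.2 * l)) / (t - 2 * l) = p.1.2 := by
          rw [hinv, div_eq_iff hd]; ring
        apply Subtype.ext
        refine Prod.ext ?_ hy
        show p.1.1 + p.1.2 * l - _ * l = p.1.1
        rw [Units.val_mk0, hy]; ring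
      right_inv := fun a => Units.ext (sub_add_cancel _ _) }
  rw [Nat.card_congr f, Nat.card_units, Nat.card_eq_fintype_card]

theorem exists_norm_eq {t : F} (ht : ∀ l : F, l ^ 2 - t * l + 1 ≠ 0) (c : F) :
    ∃ x y : F, x ^ 2 + x * y * t + y ^ 2 = c := by
  rcases Nat.mod_two_eq_zero_or_one (Fintype.card F) with hq | hq
  · obtain ⟨x, hx⟩ := Forms.exists_sq_of_two_eq_zero (two_eq_zero_of_even hq) c
    exact ⟨x, 0, by rw [← hx]; ring⟩
  · have h2 : (2 : F) ≠ 0 := two_ne_zero_of_odd hq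
    have h4 : (4 : F) ≠ 0 := by rw [show (4 : F) = 2 * 2 by norm_num]; exact mul_ne_zero h2 h2
    have hD : 1 - t ^ 2 / 4 ≠ 0 := by
      intro h
      refine ht (t / 2) ?_
      field_simp at h ⊢
      linear_combination h
    obtain ⟨u, y, hu⟩ := Forms.exists_sq_add_sq_eq (F := F) one_ne_zero (b := 1 - t ^ 2 / 4) hD c
    refine ⟨u - t * y / 2, y, ?_⟩
    field_simp at hu ⊢
    linear_combination hu

theorem no_eigen {g : SL} (h : ∀ l : F, l ^ 2 - tr g * l + 1 ≠ 0) (c : F) (v : Fin 2 → F) (hv : v ≠ 0) :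
    g.1.mulVec v ≠ c • v := by
  intro e
  refine h c ?_
  have hd : (g.1 - c • (1 : Matrix (Fin 2) (Fin 2) F)).det = 0 :=
    Matrix.exists_mulVec_eq_zero_iff.1 ⟨v, hv, by rw [Matrix.sub_mulVec, e, Matrix.smul_mulVec, Matrix.one_mulVec, sub_self]⟩
  have hdet : g.1 0 0 * g.1 1 1 - g.1 0 1 * g.1 1 0 = 1 := by rw [← Matrix.det_fin_two]; exact g.2
  simp [Matrix.det_fin_two] at hd
  simp [tr, Matrix.trace_fin_two]
  linear_combination hd - hdet

theorem card_centralizer_ell {g : SL} (h : ∀ l : F, l ^ 2 - tr g * l + 1 ≠ 0) :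
    Nat.card (Subgroup.centralizer ({g} : Set SL)) = Fintype.card F + 1 := by
  classical
  set G : GL (Fin 2) F := Matrix.SpecialLinearGroup.toGL g with hG
  have hC := Cfsg.Agent.KnownA.GL2.card_centralizer_elliptic (g := G) (fun c v hv => no_eigen h c v hv)
  set C := Subgroup.centralizer ({G} : Set (GL (Fin 2) F))
  let d : C →* Fˣ := (Matrix.GeneralLinearGroup.det).comp C.subtype
  have hns : ¬ IsScalar g.1 := Cfsg.Agent.KnownA.GL2.not_scalar_of_no_eigen (no_eigen h)
  have hsurj : Function.Surjective d := by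
    intro c
    obtain ⟨x, y, hxy⟩ := exists_norm_eq h (c : F)
    set M := x • (1 : Matrix (Fin 2) (Fin 2) F) + y • g.1 with hM
    have hdM : M.det = c := by
      rw [hM, Cfsg.Agent.KnownA.GL2.det_coeffs, g.2, mul_one]; exact hxy
    refine ⟨⟨Matrix.GeneralLinearGroup.mkOfDetNeZero M (by rw [hdM]; exact c.ne_zero),
      Cfsg.Agent.KnownA.GL2.mem_centralizer_val.2 ?_⟩, Units.ext ?_⟩
    · change M * g.1 = g.1 * M
      simp [hM, add_mul, mul_add]
    · exact hdM
  let e : Subgroup.centralizer ({g} : Set SL) ≃ d.ker :=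
    Equiv.ofBijective (fun x => ⟨⟨Matrix.SpecialLinearGroup.toGL x.1, Subgroup.mem_centralizer_singleton_iff.2
        (by rw [hG, ← map_mul, ← map_mul, Subgroup.mem_centralizer_singleton_iff.1 x.2])⟩,
        MonoidHom.mem_ker.2 (Units.ext x.1.2)⟩)
      ⟨fun a b hab => Subtype.ext (Matrix.SpecialLinearGroup.toGL_injective
          (congrArg (fun z : d.ker => (z.1 : GL (Fin 2) F)) hab)),
        fun z => by
          have hz : z.1.1.1.det = 1 := congrArg Units.val (MonoidHom.mem_ker.1 z.2)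
          refine ⟨⟨⟨z.1.1.1, hz⟩, Subgroup.mem_centralizer_singleton_iff.2 (Subtype.ext ?_)⟩, ?_⟩
          · exact Cfsg.Agent.KnownA.GL2.mem_centralizer_val.1 z.1.2
          · apply Subtype.ext; apply Subtype.ext; exact Units.ext rfl⟩
  rw [Nat.card_congr e]
  have h1 := Subgroup.index_mul_card d.ker
  rw [Subgroup.index_ker, MonoidHom.range_eq_top.2 hsurj, Subgroup.card_top, Nat.card_units,
    Nat.card_eq_fintype_card (α := F), hC] at h1
  have h2 : 2 ≤ Fintype.card F := Fintype.one_lt_card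
  obtain ⟨m, hm⟩ : ∃ m, Fintype.card F = m + 2 := ⟨_, (Nat.sub_add_cancel h2).symm⟩
  rw [hm] at h1 ⊢
  simp only [show m + 2 - 1 = m + 1 by omega, show (m + 2) ^ 2 - 1 = (m + 1) * (m + 3) by
    rw [Nat.sub_eq_iff_eq_add (Nat.one_le_pow _ _ (by omega))]; ring] at h1
  exact Nat.eq_of_mul_eq_mul_left (by omega) h1

theorem neg_eq_self (h2 : (2 : F) = 0) (g : SL) : -g = g := by
  refine Subtype.ext ?_
  ext i j
  simp
  linear_combination -(g.1 i j) * h2

theorem centralizer_neg (g : SL) :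
    Subgroup.centralizer ({-g} : Set SL) = Subgroup.centralizer ({g} : Set SL) := by
  ext x
  simp only [Subgroup.mem_centralizer_singleton_iff]
  rw [show x * -g = -(x * g) from mul_neg x g, show -g * x = -(g * x) from neg_mul g x, neg_inj]

theorem card_centralizer_double {g : SL} (hg : ¬ IsScalar g.1) {l : F} (hl : l ^ 2 - tr g * l + 1 = 0)
    (hd : tr g - 2 * l = 0) :
    Nat.card (Subgroup.centralizer ({g} : Set SL)) =
      if Fintype.card F % 2 = 0 then Fintype.card F else 2 * Fintype.card F := by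
  have hl2 : l ^ 2 = 1 := by linear_combination -hl - l * hd
  split_ifs with hq
  · have h2 := two_eq_zero_of_even (F := F) hq
    exact Cfsg.Agent.KnownA.GL2.card_centralizer_unip_two h2 hg
      (show tr g = 2 by rw [h2]; linear_combination hd + l * h2)
  · have h2 : (2 : F) ≠ 0 := two_ne_zero_of_odd (by omega)
    rcases sq_eq_one_iff.1 hl2 with rfl | rfl
    · exact Cfsg.Agent.KnownA.GL2.card_centralizer_unip h2 hg (show tr g = 2 by linear_combination hd)
    · rw [← centralizer_neg]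
      refine Cfsg.Agent.KnownA.GL2.card_centralizer_unip h2 (fun hs => hg ?_)
        (show tr (-g) = 2 by rw [tr_neg]; linear_combination -hd)
      obtain ⟨a, b, c⟩ := hs
      simp at a b c
      exact ⟨a, b, c⟩

/-- The centralizer in `SL₂(q)` in each case. -/
theorem card_centralizer_cases {g : SL} (hg : ¬ IsScalar g.1) :
    ((∀ l : F, l ^ 2 - tr g * l + 1 ≠ 0) ∧
        Nat.card (Subgroup.centralizer ({g} : Set SL)) = Fintype.card F + 1) ∨
      ((∃ l : F, l ^ 2 - tr g * l + 1 = 0 ∧ tr g - 2 * l ≠ 0) ∧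
        Nat.card (Subgroup.centralizer ({g} : Set SL)) = Fintype.card F - 1) ∨
      ((∃ l : F, l ^ 2 - tr g * l + 1 = 0 ∧ tr g - 2 * l = 0) ∧
        Nat.card (Subgroup.centralizer ({g} : Set SL)) =
          if Fintype.card F % 2 = 0 then Fintype.card F else 2 * Fintype.card F) := by
  by_cases h : ∀ l : F, l ^ 2 - tr g * l + 1 ≠ 0
  · exact Or.inl ⟨h, card_centralizer_ell h⟩
  push Not at h
  obtain ⟨l, hl⟩ := h
  by_cases hd : tr g - 2 * l = 0
  · exact Or.inr (Or.inr ⟨⟨l, hl, hd⟩, card_centralizer_double hg hl hd⟩)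
  · exact Or.inr (Or.inl ⟨⟨l, hl, hd⟩, by rw [card_centralizer_SL hg]; exact card_conic_split hl hd⟩)

/-- Passing to `PSL₂`. -/
theorem index_centralizer_toPSL {g : SL} (hg : ¬ IsScalar g.1) :
    (tr g = 0 ∧ (2 : F) ≠ 0 →
      2 * (Subgroup.centralizer ({toPSL g} : Set PSL)).index = (Subgroup.centralizer ({g} : Set SL)).index) ∧
    (¬ (tr g = 0 ∧ (2 : F) ≠ 0) →
      (Subgroup.centralizer ({toPSL g} : Set PSL)).index = (Subgroup.centralizer ({g} : Set SL)).index) := by
  classical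
  set K := (Subgroup.centralizer ({toPSL g} : Set PSL)).comap toPSL with hK
  set C := Subgroup.centralizer ({g} : Set SL) with hC
  have hidx : (Subgroup.centralizer ({toPSL g} : Set PSL)).index = K.index :=
    (Subgroup.index_comap_of_surjective _ toPSL_surjective).symm
  have hmem : ∀ x : SL, x ∈ K ↔ x * g * x⁻¹ = g ∨ x * g * x⁻¹ = -g := fun x => by
    rw [hK, Subgroup.mem_comap, Subgroup.mem_centralizer_singleton_iff, ← toPSL_eq_iff, map_mul, map_mul,
      map_inv, mul_inv_eq_iff_eq_mul]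
  have hCmem : ∀ x : SL, x ∈ C ↔ x * g * x⁻¹ = g := fun x => by
    rw [hC, Subgroup.mem_centralizer_singleton_iff, mul_inv_eq_iff_eq_mul]
  have hCK : C ≤ K := fun x hx => (hmem x).2 (Or.inl ((hCmem x).1 hx))
  rw [hidx]
  refine ⟨fun hc => ?_, fun hc => ?_⟩
  · obtain ⟨a, ha⟩ := conj_of_tr hg (h := -g) (fun hs => hg (by
      obtain ⟨p, q, r⟩ := hs
      simp at p q r
      exact ⟨p, q, r⟩)) (by rw [tr_neg, hc.1, neg_zero]) (Or.inl (by
        rw [hc.1]; intro h; exact mul_ne_zero hc.2 hc.2 (by linear_combination -h)))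
    have hne : -g ≠ g := fun h => hc.2 (by
      have h00 : ∀ i j, (2 : F) * g.1 i j = 0 := fun i j => by
        have := congrArg (fun y : SL => y.1 i j) h
        simp at this
        linear_combination -this
      by_contra h2
      have hz : ∀ i j, g.1 i j = 0 := fun i j => (mul_eq_zero.1 (h00 i j)).resolve_left h2
      exact hg ⟨hz 0 1, hz 1 0, by rw [hz, hz]⟩)
    have haK : a ∈ K := (hmem a).2 (Or.inr ha.symm)
    have haneg : ∀ b : SL, b * (-g) * b⁻¹ = -(b * g * b⁻¹) := fun b => by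
      rw [show b * -g = -(b * g) from mul_neg b g]
      exact neg_mul (b * g) b⁻¹
    have h2' : C.relIndex K = 2 := by
      refine Subgroup.index_eq_two_iff.2 ⟨⟨a, haK⟩, fun b => ?_⟩
      simp only [Subgroup.mem_subgroupOf, Subgroup.coe_mul, hCmem]
      have hba : (b.1 * a) * g * (b.1 * a)⁻¹ = -(b.1 * g * b.1⁻¹) := by
        rw [← haneg, ha]; group
      rw [hba]
      rcases (hmem b.1).1 b.2 with hb | hb <;> rw [hb]
      · exact Or.inr ⟨rfl, hne⟩
      · exact Or.inl ⟨neg_neg g, hne⟩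
    rw [← Subgroup.relIndex_mul_index hCK, h2']
  · congr 1
    refine le_antisymm (fun x hx => (hCmem x).2 ?_) hCK
    rcases (hmem x).1 hx with h | h
    · exact h
    · have ht : tr g = -tr g := by
        calc tr g = tr (x * g * x⁻¹) := (tr_conj x g).symm
          _ = tr (-g) := by rw [h]
          _ = -tr g := tr_neg g
      rcases eq_or_ne (2 : F) 0 with h2 | h2
      · rw [h, neg_eq_self h2]
      · exact absurd ⟨(mul_eq_zero.1 (show (2 : F) * tr g = 0 by linear_combination ht)).resolve_left h2, h2⟩ hc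

theorem sq_sub_one_eq (q : ℕ) : q ^ 2 - 1 = (q + 1) * (q - 1) := by
  simpa using Nat.sq_sub_sq q 1

/-- The index of the centralizer in `SL₂(q)` in each case. -/
theorem index_cases {g : SL} (hg : ¬ IsScalar g.1) :
    ((∀ l : F, l ^ 2 - tr g * l + 1 ≠ 0) ∧
        (Subgroup.centralizer ({g} : Set SL)).index = Fintype.card F * (Fintype.card F - 1)) ∨
      ((∃ l : F, l ^ 2 - tr g * l + 1 = 0 ∧ tr g - 2 * l ≠ 0) ∧
        (Subgroup.centralizer ({g} : Set SL)).index = Fintype.card F * (Fintype.card F + 1)) ∨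
      ((∃ l : F, l ^ 2 - tr g * l + 1 = 0 ∧ tr g - 2 * l = 0) ∧
        (Subgroup.centralizer ({g} : Set SL)).index =
          if Fintype.card F % 2 = 0 then Fintype.card F ^ 2 - 1 else (Fintype.card F ^ 2 - 1) / 2) := by
  have h := card_mul_card g
  have hq : 2 ≤ Fintype.card F := Fintype.one_lt_card
  rcases card_centralizer_cases hg with ⟨a, b⟩ | ⟨a, b⟩ | ⟨a, b⟩ <;> rw [b] at h
  · refine Or.inl ⟨a, Nat.eq_of_mul_eq_mul_right (Nat.succ_pos (Fintype.card F)) (h.trans ?_)⟩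
    rw [sq_sub_one_eq, Nat.succ_eq_add_one]; ring
  · refine Or.inr (Or.inl ⟨a, Nat.eq_of_mul_eq_mul_right (show 0 < Fintype.card F - 1 by omega) (h.trans ?_)⟩)
    rw [sq_sub_one_eq]; ring
  · refine Or.inr (Or.inr ⟨a, ?_⟩)
    split_ifs at h ⊢ with hp
    · exact Nat.eq_of_mul_eq_mul_right (show 0 < Fintype.card F by omega) (h.trans (Nat.mul_comm _ _))
    · have h2 : (Subgroup.centralizer ({g} : Set SL)).index * 2 = Fintype.card F ^ 2 - 1 := by
        refine Nat.eq_of_mul_eq_mul_right (show 0 < Fintype.card F by omega) ?_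
        rw [Nat.mul_assoc, h, Nat.mul_comm]
      omega

theorem isScalar_of_eq {g : SL} (h : g = 1 ∨ g = -1) : IsScalar g.1 := by
  rcases h with rfl | rfl <;> exact ⟨by simp, by simp, by simp⟩

theorem exists_split (h4 : 4 ≤ Fintype.card F) : ∃ a : F, a ≠ 0 ∧ a ^ 2 ≠ 1 := by
  classical
  by_contra h
  push Not at h
  have hsub : (Finset.univ : Finset F) ⊆ {0, 1, -1} := fun a _ => by
    rcases eq_or_ne a 0 with ha | ha
    · simp [ha]
    · rcases sq_eq_one_iff.1 (h a ha) with h1 | h1 <;> simp [h1]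
  have h1 := Finset.card_le_card hsub
  have h2 : ({0, 1, -1} : Finset F).card ≤ 3 := Finset.card_le_three
  rw [Finset.card_univ] at h1
  omega

theorem exists_split_odd (h7 : 7 ≤ Fintype.card F) : ∃ a : F, a ≠ 0 ∧ a ^ 2 ≠ 1 ∧ a ^ 2 ≠ -1 := by
  classical
  by_contra h
  push Not at h
  obtain ⟨g, hg⟩ := IsCyclic.exists_generator (α := Fˣ)
  have ho : orderOf g = Fintype.card F - 1 := by
    rw [orderOf_eq_card_of_forall_mem_zpowers hg, Nat.card_units, Nat.card_eq_fintype_card]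
  have h1 : (g : F) ^ 2 ≠ 1 := fun e => by
    have := Nat.le_of_dvd (by norm_num) (orderOf_dvd_of_pow_eq_one (x := g) (n := 2) (Units.ext (by simpa using e)))
    omega
  have h2 := h g g.ne_zero h1
  have := Nat.le_of_dvd (by norm_num) (orderOf_dvd_of_pow_eq_one (x := g) (n := 4) (Units.ext (by
    rw [Units.val_pow_eq_pow_val, show 4 = 2 * 2 from rfl, pow_mul, h2]; simp)))
  omega

/-- An elliptic trace. -/
theorem exists_ell (h4 : 4 ≤ Fintype.card F) :
    ∃ t : F, (∀ l : F, l ^ 2 - t * l + 1 ≠ 0) ∧ (t = 0 → (2 : F) ≠ 0 → False) := by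
  obtain ⟨p, hchar⟩ := CharP.exists F
  obtain ⟨n, hp, hpn⟩ := FiniteField.card F p
  haveI : Fact p.Prime := ⟨hp⟩
  obtain ⟨C, hC, hcard⟩ := exists_cyclic_SL2 (F := F) true
  obtain ⟨⟨c, hc⟩, hgen⟩ := hC.exists_generator
  have ho : orderOf c = Fintype.card F + 1 := by
    have := orderOf_injective C.subtype C.subtype_injective ⟨c, hc⟩
    rw [orderOf_eq_card_of_forall_mem_zpowers hgen, hcard] at this
    simpa using this
  refine ⟨tr c, fun l hl => ?_, fun ht h2 => ?_⟩
  · by_cases hd : tr c - 2 * l = 0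
    · have h2p : c ^ (2 * p) = 1 := by
        rw [mul_comm, pow_mul]
        rcases pow_char p hl hd with h | h <;> rw [h] <;> simp
      have hdvd := orderOf_dvd_of_pow_eq_one h2p
      rw [ho] at hdvd
      have hcop : (Fintype.card F + 1).Coprime p := by
        refine ((hp.coprime_iff_not_dvd).2 fun hd => hp.one_lt.ne' (Nat.dvd_one.1 ?_)).symm
        have h1 : p ∣ Fintype.card F := hpn ▸ dvd_pow_self p n.pos.ne'
        exact (Nat.dvd_add_right h1).1 hd
      have := Nat.le_of_dvd (by norm_num) (hcop.dvd_of_dvd_mul_right hdvd)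
      omega
    · have hdvd := orderOf_dvd_of_pow_eq_one (pow_card_pred hl hd)
      rw [ho] at hdvd
      have := Nat.le_of_dvd (by omega) hdvd
      omega
  · have hcc : c ^ 2 = -1 := by
      refine Subtype.ext ?_
      rw [Matrix.SpecialLinearGroup.coe_pow, pow_two, SmallOrder.cayley2, c.2, show c.1.trace = 0 from ht]
      simp
    have h41 : c ^ 4 = 1 := by rw [show 4 = 2 * 2 from rfl, pow_mul, hcc]; simp
    have := Nat.le_of_dvd (by norm_num) (orderOf_dvd_of_pow_eq_one h41)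
    omega

theorem index_one : (Subgroup.centralizer ({1} : Set PSL)).index = 1 := by
  rw [show Subgroup.centralizer ({1} : Set PSL) = ⊤ from eq_top_iff.2 fun x _ =>
    Subgroup.mem_centralizer_singleton_iff.2 (by simp), Subgroup.index_top]

theorem mem_range {t : F} :
    ∃ g : SL, ¬ IsScalar g.1 ∧ tr g = t :=
  ⟨Cfsg.Agent.KnownA.GL2.nfS t 1, Cfsg.Agent.KnownA.GL2.not_scalar_nfS t 1,
    Cfsg.Agent.KnownA.GL2.trace_nfS t 1⟩

theorem range_even (h2 : 2 ∣ Fintype.card F) (h4 : 4 ≤ Fintype.card F) :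
    Set.range (fun g : PSL => (Subgroup.centralizer ({g} : Set PSL)).index) =
      {1, Fintype.card F * (Fintype.card F - 1), Fintype.card F ^ 2 - 1, Fintype.card F * (Fintype.card F + 1)} := by
  have hm : Fintype.card F % 2 = 0 := Nat.mod_eq_zero_of_dvd h2
  have h20 := two_eq_zero_of_even (F := F) hm
  have hidx : ∀ g : SL, ¬ IsScalar g.1 →
      (Subgroup.centralizer ({toPSL g} : Set PSL)).index = (Subgroup.centralizer ({g} : Set SL)).index :=
    fun g hg => (index_centralizer_toPSL hg).2 fun h => h.2 h20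
  apply Set.ext
  intro k
  simp only [Set.mem_range, Set.mem_insert_iff, Set.mem_singleton_iff]
  constructor
  · rintro ⟨y, rfl⟩
    obtain ⟨g, rfl⟩ := toPSL_surjective y
    by_cases hs : IsScalar g.1
    · left; rw [toPSL_eq_one_iff.2 (scalar_SL_cases hs), index_one]
    rw [hidx g hs]
    rcases index_cases hs with ⟨-, e⟩ | ⟨-, e⟩ | ⟨-, e⟩ <;> simp [e, hm]
  · rintro (rfl | rfl | rfl | rfl)
    · exact ⟨1, index_one⟩
    · obtain ⟨t, ht, -⟩ := exists_ell (F := F) h4
      obtain ⟨g, hg, hgt⟩ := mem_range (t := t)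
      refine ⟨toPSL g, ?_⟩
      rw [hidx g hg]
      rcases index_cases hg with ⟨-, e⟩ | ⟨⟨l, hl, -⟩, -⟩ | ⟨⟨l, hl, -⟩, -⟩
      · exact e
      all_goals exact absurd hl (hgt ▸ ht l)
    · obtain ⟨g, hg, hgt⟩ := mem_range (t := (0 : F))
      refine ⟨toPSL g, ?_⟩
      rw [hidx g hg]
      have hl : (1 : F) ^ 2 - tr g * 1 + 1 = 0 := by rw [hgt]; linear_combination h20
      rcases index_cases hg with ⟨h, -⟩ | ⟨⟨l, -, hd⟩, -⟩ | ⟨-, e⟩
      · exact absurd hl (h 1)
      · exact absurd (show tr g - 2 * l = 0 by rw [hgt, h20]; ring) hd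
      · rwa [if_pos hm] at e
    · obtain ⟨a, ha, ha1⟩ := exists_split (F := F) h4
      obtain ⟨g, hg, hgt⟩ := mem_range (t := a + a⁻¹)
      refine ⟨toPSL g, ?_⟩
      rw [hidx g hg]
      have hl : a ^ 2 - tr g * a + 1 = 0 := by rw [hgt]; field_simp; ring
      rcases index_cases hg with ⟨h, -⟩ | ⟨-, e⟩ | ⟨⟨l, -, hd⟩, -⟩
      · exact absurd hl (h a)
      · exact e
      · rw [h20, zero_mul, sub_zero, hgt] at hd
        refine absurd ?_ ha1
        field_simp at hd
        linear_combination hd - h20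

theorem range_odd (hodd : ¬ 2 ∣ Fintype.card F) (h7 : 7 ≤ Fintype.card F) :
    (Fintype.card F % 4 = 1 →
      Set.range (fun g : PSL => (Subgroup.centralizer ({g} : Set PSL)).index) =
        {1, (Fintype.card F ^ 2 - 1) / 2, Fintype.card F * (Fintype.card F + 1) / 2,
          Fintype.card F * (Fintype.card F - 1), Fintype.card F * (Fintype.card F + 1)}) ∧
    (Fintype.card F % 4 = 3 →
      Set.range (fun g : PSL => (Subgroup.centralizer ({g} : Set PSL)).index) =
        {1, (Fintype.card F ^ 2 - 1) / 2, Fintype.card F * (Fintype.card F - 1) / 2,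
          Fintype.card F * (Fintype.card F + 1), Fintype.card F * (Fintype.card F - 1)}) := by
  have hm : ¬ Fintype.card F % 2 = 0 := fun h => hodd (Nat.dvd_of_mod_eq_zero h)
  have h2 : (2 : F) ≠ 0 := two_ne_zero_of_odd (by omega)
  have hsq := FiniteField.isSquare_neg_one_iff (F := F)
  -- the index in terms of the trace
  have key : ∀ g : SL, ¬ IsScalar g.1 → ∀ k, (Subgroup.centralizer ({toPSL g} : Set PSL)).index = k →
      (k = (Fintype.card F ^ 2 - 1) / 2 ∧ ∃ l : F, l ^ 2 - tr g * l + 1 = 0 ∧ tr g - 2 * l = 0) ∨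
      (tr g = 0 ∧ Fintype.card F % 4 = 1 ∧ k = Fintype.card F * (Fintype.card F + 1) / 2) ∨
      (tr g = 0 ∧ Fintype.card F % 4 = 3 ∧ k = Fintype.card F * (Fintype.card F - 1) / 2) ∨
      (tr g ≠ 0 ∧ (∀ l : F, l ^ 2 - tr g * l + 1 ≠ 0) ∧ k = Fintype.card F * (Fintype.card F - 1)) ∨
      (tr g ≠ 0 ∧ (∃ l : F, l ^ 2 - tr g * l + 1 = 0 ∧ tr g - 2 * l ≠ 0) ∧
        k = Fintype.card F * (Fintype.card F + 1)) := by
    intro g hg k hk
    obtain ⟨hA, hB⟩ := index_centralizer_toPSL hg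
    by_cases ht : tr g = 0
    · have hA' := hA ⟨ht, h2⟩
      rw [hk] at hA'
      rcases index_cases hg with ⟨h, e⟩ | ⟨⟨l, hl, -⟩, e⟩ | ⟨⟨l, hl, hd⟩, -⟩
      · refine Or.inr (Or.inr (Or.inl ⟨ht, ?_, by omega⟩))
        by_contra h3
        obtain ⟨r, hr⟩ := hsq.2 h3
        exact h r (by rw [ht]; linear_combination -hr)
      · refine Or.inr (Or.inl ⟨ht, ?_, by omega⟩)
        have : Fintype.card F % 4 ≠ 3 := hsq.1 ⟨l, by rw [ht] at hl; linear_combination -hl⟩
        omega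
      · exfalso
        rw [ht] at hl hd
        have hl0 : l = 0 := (mul_eq_zero.1 (show (2 : F) * l = 0 by linear_combination -hd)).resolve_left h2
        rw [hl0] at hl
        simp at hl
    · have hB' := hB fun h => ht h.1
      rw [hk] at hB'
      rcases index_cases hg with ⟨h, e⟩ | ⟨h, e⟩ | ⟨h, e⟩
      · exact Or.inr (Or.inr (Or.inr (Or.inl ⟨ht, h, hB'.trans e⟩)))
      · exact Or.inr (Or.inr (Or.inr (Or.inr ⟨ht, h, hB'.trans e⟩)))
      · rw [if_neg hm] at e
        exact Or.inl ⟨hB'.trans e, h⟩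
  have wit : ∀ t : F, ∃ y : PSL, ∃ g : SL, tr g = t ∧ ¬ IsScalar g.1 ∧ y = toPSL g := fun t => by
    obtain ⟨g, hg, hgt⟩ := mem_range (t := t)
    exact ⟨toPSL g, g, hgt, hg, rfl⟩
  -- the four witnesses
  have w1 : ∃ y : PSL, (Subgroup.centralizer ({y} : Set PSL)).index = (Fintype.card F ^ 2 - 1) / 2 := by
    obtain ⟨y, g, hgt, hg, rfl⟩ := wit 2
    refine ⟨toPSL g, ?_⟩
    rcases key g hg _ rfl with ⟨e, -⟩ | ⟨h, -⟩ | ⟨h, -⟩ | ⟨-, h, -⟩ | ⟨-, ⟨l, hl, hd⟩, -⟩
    · exact e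
    · exact absurd (hgt ▸ h) h2
    · exact absurd (hgt ▸ h) h2
    · exact absurd (show (1 : F) ^ 2 - tr g * 1 + 1 = 0 by rw [hgt]; ring) (h 1)
    · refine absurd ?_ hd
      rw [hgt] at hl ⊢
      have : l = 1 := sub_eq_zero.1 (eq_zero_of_pow_eq_zero (show (l - 1) ^ 2 = 0 by linear_combination hl))
      rw [this]; ring
  have w0 : ∃ y : PSL, (Fintype.card F % 4 = 1 →
      (Subgroup.centralizer ({y} : Set PSL)).index = Fintype.card F * (Fintype.card F + 1) / 2) ∧
      (Fintype.card F % 4 = 3 →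
      (Subgroup.centralizer ({y} : Set PSL)).index = Fintype.card F * (Fintype.card F - 1) / 2) := by
    obtain ⟨y, g, hgt, hg, rfl⟩ := wit 0
    refine ⟨toPSL g, ?_⟩
    rcases key g hg _ rfl with ⟨-, l, hl, hd⟩ | ⟨-, hq, e⟩ | ⟨-, hq, e⟩ | ⟨h, -⟩ | ⟨h, -⟩
    · exfalso
      rw [hgt] at hl hd
      have hl0 : l = 0 := (mul_eq_zero.1 (show (2 : F) * l = 0 by linear_combination -hd)).resolve_left h2
      rw [hl0] at hl
      simp at hl
    · exact ⟨fun _ => e, fun h => by omega⟩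
    · exact ⟨fun h => by omega, fun _ => e⟩
    · exact absurd hgt h
    · exact absurd hgt h
  have wm : ∃ y : PSL, (Subgroup.centralizer ({y} : Set PSL)).index = Fintype.card F * (Fintype.card F - 1) := by
    obtain ⟨t, ht, ht0⟩ := exists_ell (F := F) (by omega)
    obtain ⟨y, g, hgt, hg, rfl⟩ := wit t
    refine ⟨toPSL g, ?_⟩
    rcases key g hg _ rfl with ⟨-, l, hl, -⟩ | ⟨h, -⟩ | ⟨h, -⟩ | ⟨-, -, e⟩ | ⟨-, ⟨l, hl, -⟩, -⟩
    · exact absurd hl (hgt ▸ ht l)
    · exact (ht0 (hgt ▸ h) h2).elim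
    · exact (ht0 (hgt ▸ h) h2).elim
    · exact e
    · exact absurd hl (hgt ▸ ht l)
  have wp : ∃ y : PSL, (Subgroup.centralizer ({y} : Set PSL)).index = Fintype.card F * (Fintype.card F + 1) := by
    obtain ⟨a, ha, ha2, ha4⟩ := exists_split_odd (F := F) h7
    obtain ⟨y, g, hgt, hg, rfl⟩ := wit (a + a⁻¹)
    refine ⟨toPSL g, ?_⟩
    have hl : a ^ 2 - tr g * a + 1 = 0 := by rw [hgt]; field_simp; ring
    have hne : tr g ≠ 0 := by
      rw [hgt]; intro h; field_simp at h; exact ha4 (by linear_combination h)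
    rcases key g hg _ rfl with ⟨-, l, hl', hd⟩ | ⟨h, -⟩ | ⟨h, -⟩ | ⟨-, h, -⟩ | ⟨-, -, e⟩
    · exfalso
      have hla : l = a := sub_eq_zero.1 (eq_zero_of_pow_eq_zero (show (l - a) ^ 2 = 0 by
        linear_combination hl - hl' + (a - l) * hd))
      rw [hla, hgt] at hd
      field_simp at hd
      exact ha2 (by linear_combination -hd)
    · exact absurd h hne
    · exact absurd h hne
    · exact absurd hl (h a)
    · exact e
  have hmem : ∀ k, k ∈ Set.range (fun g : PSL => (Subgroup.centralizer ({g} : Set PSL)).index) →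
      k = 1 ∨ k = (Fintype.card F ^ 2 - 1) / 2 ∨ (Fintype.card F % 4 = 1 ∧ k = Fintype.card F * (Fintype.card F + 1) / 2) ∨
      (Fintype.card F % 4 = 3 ∧ k = Fintype.card F * (Fintype.card F - 1) / 2) ∨
      k = Fintype.card F * (Fintype.card F - 1) ∨ k = Fintype.card F * (Fintype.card F + 1) := by
    rintro k ⟨y, rfl⟩
    obtain ⟨g, rfl⟩ := toPSL_surjective y
    by_cases hs : IsScalar g.1
    · left; exact (congrArg (fun z : PSL => (Subgroup.centralizer ({z} : Set PSL)).index)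
        (toPSL_eq_one_iff.2 (scalar_SL_cases hs))).trans index_one
    rcases key g hs _ rfl with ⟨e, -⟩ | ⟨-, h, e⟩ | ⟨-, h, e⟩ | ⟨-, -, e⟩ | ⟨-, -, e⟩
    · exact Or.inr (Or.inl e)
    · exact Or.inr (Or.inr (Or.inl ⟨h, e⟩))
    · exact Or.inr (Or.inr (Or.inr (Or.inl ⟨h, e⟩)))
    · exact Or.inr (Or.inr (Or.inr (Or.inr (Or.inl e))))
    · exact Or.inr (Or.inr (Or.inr (Or.inr (Or.inr e))))
  obtain ⟨y1, e1⟩ := w1
  obtain ⟨y0, e0⟩ := w0
  obtain ⟨ym, em⟩ := wm
  obtain ⟨yp, ep⟩ := wp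
  constructor <;> intro h4 <;> refine Set.Subset.antisymm (fun k hk => ?_) ?_
  · simp only [Set.mem_insert_iff, Set.mem_singleton_iff]
    rcases hmem k hk with h | h | ⟨_, h⟩ | ⟨h', _⟩ | h | h <;> first | omega | tauto
  · rintro k (rfl | rfl | rfl | rfl | rfl)
    exacts [⟨1, index_one⟩, ⟨y1, e1⟩, ⟨y0, e0.1 h4⟩, ⟨ym, em⟩, ⟨yp, ep⟩]
  · simp only [Set.mem_insert_iff, Set.mem_singleton_iff]
    rcases hmem k hk with h | h | ⟨h', _⟩ | ⟨_, h⟩ | h | h <;> first | omega | tauto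
  · rintro k (rfl | rfl | rfl | rfl | rfl)
    exacts [⟨1, index_one⟩, ⟨y1, e1⟩, ⟨y0, e0.2 h4⟩, ⟨yp, ep⟩, ⟨ym, em⟩]

end Cfsg.Agent.Linear.PSL2ClassSizes
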