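import Cfsg.Agent.Linear.PSL2KleinFour
import Cfsg.Agent.KnownA.GL2.Classes
import Cfsg.Agent.SmallOrder.PGL2Spectrum

/-!
# Elements and class products of `PSL₂(q)` through traces
-/

set_option autoImplicit false

namespace Cfsg.Agent.Linear.PSL2Classes

open Matrix
open Cfsg.Agent.KnownA.GL2 (IsScalar nfS exists_Qf_ne_zero isConj_nfS exists_Qf_eq_one scalar_SL_cases
  trace_eq_of_isConj)

variable {F : Type*} [Field F]

local notation "SL" => Matrix.SpecialLinearGroup (Fin 2) F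
local notation "PSL" => Matrix.ProjectiveSpecialLinearGroup (Fin 2) F

/-- The trace. -/
def tr (g : Matrix.SpecialLinearGroup (Fin 2) F) : F := g.1.trace

theorem tr_neg (g : SL) : tr (-g) = -tr g := by
  simp [tr, Matrix.trace_fin_two]

theorem tr_conj (u g : SL) : tr (u * g * u⁻¹) = tr g :=
  (trace_eq_of_isConj (isConj_iff.2 ⟨u, rfl⟩)).symm

theorem not_scalar_of_toPSL {g : SL} (h : toPSL g ≠ 1) : ¬ IsScalar g.1 := fun hs =>
  h (toPSL_eq_one_iff.2 (scalar_SL_cases hs))

theorem exists_nf {g : SL} (hg : ¬ IsScalar g.1) : ∃ (δ : Fˣ) (u : SL), g = u * nfS (tr g) δ * u⁻¹ := by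
  obtain ⟨v, hv⟩ := exists_Qf_ne_zero hg
  obtain ⟨u, hu⟩ := isConj_iff.1 (isConj_nfS g (Units.mk0 _ hv) rfl).symm
  exact ⟨_, u, hu.symm⟩

/-- Elements of trace `t ≠ ±2` form one class. -/
theorem conj_of_tr [Fintype F] {g h : SL} (hg : ¬ IsScalar g.1) (hh : ¬ IsScalar h.1)
    (e : tr g = tr h) (ht : tr g ^ 2 ≠ 4 ∨ (2 : F) = 0) : ∃ u : SL, h = u * g * u⁻¹ := by
  obtain ⟨v, hv⟩ := exists_Qf_eq_one hg ht
  obtain ⟨w, hw⟩ := exists_Qf_eq_one hh (by rw [show h.1.trace = tr g from e.symm]; exact ht)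
  have h1 := isConj_nfS g 1 (by simpa using hv)
  have h2 := isConj_nfS h 1 (by simpa using hw)
  rw [show h.1.trace = g.1.trace from e.symm] at h2
  obtain ⟨u, hu⟩ := isConj_iff.1 (h1.trans h2.symm)
  exact ⟨u, hu.symm⟩

/-- A non-scalar element of a class factors into two elements of trace `t`. -/
theorem exists_factor {g : SL} (hg : ¬ IsScalar g.1) (t u v : F)
    (e : u ^ 2 + tr g * u * v + v ^ 2 - t * (u + v) + 1 = 0) :
    ∃ y z : SL, g = y * z ∧ tr y = t ∧ tr z = t ∧ (t ^ 2 = 4 ∨ (¬ IsScalar y.1 ∧ ¬ IsScalar z.1)) := by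
  obtain ⟨δ, w, hw⟩ := exists_nf hg
  set K := nfS (tr g) δ with hKdef
  have hK : K.1 = !![0, -((δ : F)⁻¹); (δ : F), tr g] := by
    simp [hKdef, nfS, Cfsg.Agent.KnownA.GL2.Kmat]
  let Y : SL := ⟨!![u, -v / δ; δ * (t - v - u * tr g), t - u], by
    rw [Matrix.det_fin_two_of]; field_simp; linear_combination -e⟩
  have hY : tr Y = t := by simp [tr, Y, Matrix.trace_fin_two]
  have hZ : tr (Y⁻¹ * K) = t := by
    change (Y⁻¹.1 * K.1).trace = t
    rw [Matrix.SpecialLinearGroup.coe_inv, hK]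
    simp [Y, Matrix.adjugate_fin_two, Matrix.trace_fin_two, Matrix.mul_apply, Fin.sum_univ_two]
    field_simp
    ring
  refine ⟨w * Y * w⁻¹, w * (Y⁻¹ * K) * w⁻¹, ?_, by rw [tr_conj, hY], by rw [tr_conj, hZ], ?_⟩
  · rw [hw]; group
  · by_cases ht : t ^ 2 = 4
    · exact Or.inl ht
    · have key : ∀ x : SL, tr x = t → ¬ IsScalar x.1 := by
        intro x hx hs
        rcases scalar_SL_cases hs with rfl | rfl <;> refine ht (hx ▸ ?_) <;>
          simp [tr, Matrix.trace_fin_two] <;> ring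
      exact Or.inr ⟨key _ (by rw [tr_conj, hY]), key _ (by rw [tr_conj, hZ])⟩

/-- If the conic has a point, the class squared contains the element. -/
theorem mem_square_of_conic [Fintype F] {X G : SL} (hX : ¬ IsScalar X.1) (ht : tr X ^ 2 ≠ 4 ∨ (2 : F) = 0)
    (hne : tr X ^ 2 ≠ 4) (hG : ¬ IsScalar G.1) (u v : F)
    (e : u ^ 2 + tr G * u * v + v ^ 2 - tr X * (u + v) + 1 = 0) :
    ∃ a b : PSL, toPSL G = (a * toPSL X * a⁻¹) * (b * toPSL X * b⁻¹) := by
  obtain ⟨y, z, rfl, hy, hz, hor⟩ := exists_factor hG (tr X) u v e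
  obtain ⟨hys, hzs⟩ := hor.resolve_left hne
  obtain ⟨a, rfl⟩ := conj_of_tr hX hys hy.symm ht
  obtain ⟨b, rfl⟩ := conj_of_tr hX hzs hz.symm ht
  exact ⟨toPSL a, toPSL b, by simp [map_mul]⟩

theorem pow_eq_one_or_neg {g : SL} {k : ℕ} (h : toPSL g ^ k = 1) : g ^ k = 1 ∨ g ^ k = -1 := by
  rw [← map_pow] at h
  exact toPSL_eq_one_iff.1 h

/-- An element without an eigenvalue. -/
theorem pow_card_succ [Fintype F] {g : SL} (h : ∀ l : F, l ^ 2 - tr g * l + 1 ≠ 0) :
    g ^ (Fintype.card F + 1) = 1 := by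
  refine Subtype.ext ?_
  rw [Matrix.SpecialLinearGroup.coe_pow, pow_succ,
    SmallOrder.pow_card_of_no_root (M := g.1) (fun r => by rw [g.2]; exact h r), sub_mul, smul_mul_assoc,
    one_mul, SmallOrder.cayley2, g.2, one_smul, sub_sub_cancel]
  rfl

/-- An element with a double eigenvalue. -/
theorem pow_char [Fintype F] (p : ℕ) [Fact p.Prime] [CharP F p] {g : SL} {l : F}
    (hl : l ^ 2 - tr g * l + 1 = 0) (hd : tr g - 2 * l = 0) : g ^ p = 1 ∨ g ^ p = -1 := by
  have h1 := SmallOrder.pow_char_of_double_root (M := g.1) (p := p) (by rw [g.2]; exact hl) hd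
  have hl2 : l ^ 2 = 1 := by linear_combination -hl - l * hd
  have : (l ^ p) ^ 2 = 1 := by rw [← pow_mul, mul_comm, pow_mul, hl2, one_pow]
  rcases sq_eq_one_iff.1 this with h | h
  · left; refine Subtype.ext ?_; rw [Matrix.SpecialLinearGroup.coe_pow, h1, h, one_smul]; rfl
  · right; refine Subtype.ext ?_; rw [Matrix.SpecialLinearGroup.coe_pow, h1, h, neg_one_smul]; rfl

/-- An element with two eigenvalues. -/
theorem pow_card_pred [Fintype F] {g : SL} {l : F} (hl : l ^ 2 - tr g * l + 1 = 0) (hd : tr g - 2 * l ≠ 0) :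
    g ^ (Fintype.card F - 1) = 1 := by
  have hlm : l * (tr g - l) = 1 := by linear_combination -hl
  refine Subtype.ext (smul_right_injective (Matrix (Fin 2) (Fin 2) F) hd ?_)
  simp only [Matrix.SpecialLinearGroup.coe_pow]
  rw [show tr g = g.1.trace from rfl, SmallOrder.pow_split (M := g.1) (by rw [g.2]; exact hl),
    FiniteField.pow_card_sub_one_eq_one l (left_ne_zero_of_mul_eq_one hlm),
    FiniteField.pow_card_sub_one_eq_one _ (right_ne_zero_of_mul_eq_one (show l * (g.1.trace - l) = 1 from hlm))]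
  change _ = _ • (1 : Matrix (Fin 2) (Fin 2) F)
  module

/-- In odd characteristic an involutory element is central. -/
theorem sq_eq_one (h2 : (2 : F) ≠ 0) {g : SL} (h : g * g = 1) : g = 1 ∨ g = -1 := by
  by_contra hc
  push Not at hc
  have h3 : g⁻¹ = g := inv_eq_of_mul_eq_one_right h
  have e00 : g.1 1 1 = g.1 0 0 := by
    have := congrArg (fun y : SL => y.1 0 0) h3
    simpa [Matrix.SpecialLinearGroup.coe_inv, Matrix.adjugate_fin_two] using this
  have e01 : g.1 0 1 = 0 := by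
    have := congrArg (fun y : SL => y.1 0 1) h3
    simp [Matrix.SpecialLinearGroup.coe_inv, Matrix.adjugate_fin_two] at this
    exact (mul_eq_zero.1 (show (2 : F) * g.1 0 1 = 0 by linear_combination -this)).resolve_left h2
  have e10 : g.1 1 0 = 0 := by
    have := congrArg (fun y : SL => y.1 1 0) h3
    simp [Matrix.SpecialLinearGroup.coe_inv, Matrix.adjugate_fin_two] at this
    exact (mul_eq_zero.1 (show (2 : F) * g.1 1 0 = 0 by linear_combination -this)).resolve_left h2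
  rcases scalar_SL_cases (g := g) ⟨e01, e10, e00.symm⟩ with rfl | rfl
  · exact hc.1 rfl
  · exact hc.2 rfl

end Cfsg.Agent.Linear.PSL2Classes
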