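import Cfsg.Agent.Dickson.Main
import Mathlib

/-!
# A subgroup of `SL₂(F)` with `|P| + 1` Sylow `p`-subgroups contains `SL₂` of a subfield
-/

set_option linter.unusedSectionVars false
set_option autoImplicit false

namespace Cfsg.Agent.Linear.SL2Subfield

open Subgroup Cfsg.Agent.Dickson

variable {F : Type*} [Field F] {p : ℕ} [Fact p.Prime] [CharP F p]

/-- Hua: an additive subgroup containing `1` and closed under inverses is closed under products, in odd
characteristic. -/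
theorem hua_mul_mem (h2 : (2 : F) ≠ 0) (X : AddSubgroup F) (h1 : (1 : F) ∈ X) (hinv : ∀ a ∈ X, a⁻¹ ∈ X)
    {a b : F} (ha : a ∈ X) (hb : b ∈ X) : a * b ∈ X := by
  have hsq : ∀ a ∈ X, a * a ∈ X := fun a ha => by
    rcases eq_or_ne a 0 with rfl | ha0
    · simp
    rcases eq_or_ne a 1 with rfl | ha1
    · simp [h1]
    have e : a - (a⁻¹ + (1 - a)⁻¹)⁻¹ = a * a := by
      have h3 : (1 : F) - a ≠ 0 := sub_ne_zero.2 (Ne.symm ha1)
      have h4 : a⁻¹ + (1 - a)⁻¹ = 1 / (a * (1 - a)) := by field_simp; ring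
      rw [h4, inv_div, div_one]; ring
    rw [← e]
    exact X.sub_mem ha (hinv _ (X.add_mem (hinv _ ha) (hinv _ (X.sub_mem h1 ha))))
  have hdbl : 2 * (a * b) ∈ X := by
    have := X.sub_mem (X.sub_mem (hsq _ (X.add_mem ha hb)) (hsq _ ha)) (hsq _ hb)
    convert this using 1; ring
  rcases eq_or_ne (a * b) 0 with h0 | h0
  · rw [h0]; exact X.zero_mem
  have h5 := hinv _ hdbl
  have h6 := X.add_mem h5 h5
  have h7 := hinv _ h6
  convert h7 using 1
  field_simp
  norm_num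
  field_simp

theorem exists_subfield {H : Subgroup (SL2 F)} [Finite H] (hp : p ≠ 2) {b0 c0 : F} {ub lc : H}
    {P Q : Sylow p H} (hb : b0 ≠ 0) (hc0 : c0 ≠ 0) (hub : (ub : SL2 F) = uel b0)
    (hlc : (lc : SL2 F) = lel c0) (hP : ub ∈ P) (hQ : lc ∈ Q)
    (hN : Nat.card (Sylow p H) = Nat.card (P : Subgroup H) + 1) :
    ∃ K : Subfield F, (∀ x : F, uel x ∈ H ↔ x / b0 ∈ K) ∧ (∀ x : F, lel x ∈ H ↔ x * b0 ∈ K) ∧
      c0 * b0 ∈ K := by
  have h2 : (2 : F) ≠ 0 := two_ne_zero' hp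
  have hlow : ∀ b : F, b ≠ 0 → uel b ∈ H → lel (-1 / b) ∈ H := by
    intro b hb' hm
    refine lel_mem hp hb' hc0 (ub := ⟨uel b, hm⟩) (P := P) rfl hlc ?_ hQ hN
    exact (mem_P_iff hp hb hub hP _).mpr ⟨by simp, by simp⟩
  have hu0 : uel b0 ∈ H := hub ▸ ub.2
  set W : F → SL2 F := fun b => uel b * lel (-1 / b) * uel b with hW
  have hWmem : ∀ b, b ≠ 0 → uel b ∈ H → W b ∈ H := fun b hb' hm =>
    mul_mem (mul_mem hm (hlow b hb' hm)) hm
  have hWu : ∀ b x : F, b ≠ 0 → W b * uel x * (W b)⁻¹ = lel (-x / b ^ 2) := fun b x hb' => by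
    apply ext2 <;> simp [mul_apply2, hW] <;> field_simp <;> ring
  have hWl : ∀ b x : F, b ≠ 0 → W b * lel x * (W b)⁻¹ = uel (-x * b ^ 2) := fun b x hb' => by
    apply ext2 <;> simp [mul_apply2, hW] <;> field_simp <;> ring
  have hW0 := hWmem b0 hb hu0
  have hul : ∀ x : F, lel x ∈ H ↔ uel (-x * b0 ^ 2) ∈ H := fun x => by
    rw [← hWl b0 x hb]
    refine ⟨fun h => mul_mem (mul_mem hW0 h) (inv_mem hW0), fun h => ?_⟩
    have := mul_mem (mul_mem (inv_mem hW0) h) hW0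
    simpa [mul_assoc] using this
  let X : AddSubgroup F :=
    { carrier := {x | uel (x * b0) ∈ H}
      zero_mem' := by simp [uel_zero]
      add_mem' := fun {x y} hx hy => by
        show uel ((x + y) * b0) ∈ H
        rw [add_mul, uel_add]; exact mul_mem hx hy
      neg_mem' := fun {x} hx => by
        show uel (-x * b0) ∈ H
        rw [neg_mul, ← uel_inv]; exact inv_mem hx }
  have hX1 : (1 : F) ∈ X := show uel (1 * b0) ∈ H by rwa [one_mul]
  have hinv : ∀ a ∈ X, a⁻¹ ∈ X := by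
    intro a ha
    rcases eq_or_ne a 0 with rfl | ha0
    · simp
    have h1 := (hul _).1 (hlow _ (mul_ne_zero ha0 hb) ha)
    show uel (a⁻¹ * b0) ∈ H
    convert h1 using 2
    field_simp
  let K : Subfield F :=
    { X with
      one_mem' := hX1
      mul_mem' := fun {a b} ha hb' => hua_mul_mem h2 X hX1 hinv ha hb'
      inv_mem' := hinv }
  have hKu : ∀ x : F, uel x ∈ H ↔ x / b0 ∈ K := fun x => by
    show _ ↔ uel (x / b0 * b0) ∈ H
    rw [div_mul_cancel₀ x hb]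
  have hKl : ∀ x : F, lel x ∈ H ↔ x * b0 ∈ K := fun x => by
    rw [hul, hKu, show -x * b0 ^ 2 / b0 = -(x * b0) by field_simp, neg_mem_iff]
  exact ⟨K, hKu, hKl, (hKl c0).1 (hlc ▸ lc.2)⟩

end Cfsg.Agent.Linear.SL2Subfield
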