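import Cfsg.Agent.Linear.PSL2PrimeTo
import Cfsg.Agent.KnownA.GL2.Centralizers
import Cfsg.Agent.Dickson.Basic
import Cfsg.Agent.S0206
import Mathlib

/-!
# Subgroups of `SL₂` in characteristic two with two opposite root elements

The count on the points of the projective line over the algebraic closure fixed by some non-trivial element.
-/

set_option autoImplicit false
set_option linter.unusedSectionVars false

namespace Cfsg.Agent.Linear.SL2Even

open Matrix MulAction Cfsg.Agent.Dickson

variable {F : Type*} [Field F] [CharP F 2]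

theorem two_zero : (2 : F) = 0 := by exact_mod_cast CharP.cast_eq_zero F 2

theorem neg_one_eq : (-1 : SL2 F) = 1 := by
  apply ext2 <;> simp [Matrix.SpecialLinearGroup.coe_neg, CharTwo.neg_eq]

theorem toPSL_inj {a b : SL2 F} (h : toPSL a = toPSL b) : a = b := by
  rcases toPSL_eq_iff.1 h with h | h
  · exact h
  · rw [h]; apply ext2 <;> simp [Matrix.SpecialLinearGroup.coe_neg, CharTwo.neg_eq]

variable {H : Subgroup (SL2 F)} [Finite H]

/-- The points. -/
abbrev Pt (F : Type*) [Field F] := Projectivization (AlgebraicClosure F) (Fin 2 → AlgebraicClosure F)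

/-- The action on the points over the algebraic closure. -/
noncomputable def act (H : Subgroup (SL2 F)) :
    H →* Matrix.ProjectiveSpecialLinearGroup (Fin 2) (AlgebraicClosure F) :=
  ((PSL2PrimeTo.pslMap' (algebraMap F (AlgebraicClosure F))).comp toPSL).comp H.subtype

theorem act_injective : Function.Injective (act H) := fun _ _ h =>
  Subtype.ext (toPSL_inj (PSL2PrimeTo.pslMap'_injective _ h))

noncomputable instance : MulAction H (Pt F) := MulAction.compHom _ (act H)

/-- The element over the algebraic closure. -/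
noncomputable def up (g : SL2 F) : SL2 (AlgebraicClosure F) :=
  Matrix.SpecialLinearGroup.map (algebraMap F (AlgebraicClosure F)) g

theorem up_apply (g : SL2 F) (i j : Fin 2) : up g i j = algebraMap F (AlgebraicClosure F) (g i j) := rfl

theorem smul_eq (g : H) (P : Pt F) : g • P = toPSL (up g.1) • P := rfl

theorem smul_mk_iff (g : H) {v : Fin 2 → AlgebraicClosure F} (hv : v ≠ 0) :
    g • (Projectivization.mk _ v hv : Pt F) = Projectivization.mk _ v hv ↔
      ∃ l : AlgebraicClosure F, (up g.1).1 *ᵥ v = l • v :=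
  PSL2PrimeTo.toPSL_smul_mk _ hv

theorem smul_mk (g : H) {v w : Fin 2 → AlgebraicClosure F} (hv : v ≠ 0) (hw : w ≠ 0)
    (h : ∃ l : AlgebraicClosure F, (up g.1).1 *ᵥ v = l • w) :
    g • (Projectivization.mk _ v hv : Pt F) = Projectivization.mk _ w hw := by
  rw [show g • (Projectivization.mk _ v hv : Pt F) = up g.1 • Projectivization.mk _ v hv from rfl,
    Projectivization.smul_mk, Projectivization.mk_eq_mk_iff']
  obtain ⟨l, hl⟩ := h
  exact ⟨l, hl.symm⟩

/-- The point `(x : 1)`. -/
noncomputable def pt (x : F) : Pt F :=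
  Projectivization.mk _ ![algebraMap F (AlgebraicClosure F) x, 1] (fun h => one_ne_zero (congrFun h 1))

/-- The point `(1 : 0)`. -/
noncomputable def inf : Pt F := Projectivization.mk _ ![1, 0] (fun h => one_ne_zero (congrFun h 0))

theorem smul_inf_iff (g : H) : g • (inf : Pt F) = inf ↔ g.1 1 0 = 0 := by
  rw [inf, smul_mk_iff]
  constructor
  · rintro ⟨l, hl⟩
    have := congrFun hl 1
    simpa [Matrix.mulVec, dotProduct, Fin.sum_univ_two, up_apply] using this
  · intro h
    refine ⟨algebraMap F _ (g.1 0 0), funext fun i => ?_⟩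
    fin_cases i <;> simp [Matrix.mulVec, dotProduct, Fin.sum_univ_two, up_apply, h]

theorem uel_smul_pt (x y : F) (hx : uel x ∈ H) : (⟨uel x, hx⟩ : H) • pt y = pt (x + y) := by
  refine smul_mk _ _ _ ⟨1, funext fun i => ?_⟩
  fin_cases i <;> simp [Matrix.mulVec, dotProduct, Fin.sum_univ_two, up_apply, add_comm]

theorem pt_ne_inf (x : F) : pt x ≠ inf := fun h => by
  rw [pt, inf, Projectivization.mk_eq_mk_iff'] at h
  obtain ⟨a, ha⟩ := h
  simpa using congrFun ha 1

theorem pt_injective : Function.Injective (pt : F → Pt F) := fun x y h => by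
  rw [pt, pt, Projectivization.mk_eq_mk_iff'] at h
  obtain ⟨a, ha⟩ := h
  have h1 := congrFun ha 1
  have h0 := congrFun ha 0
  simp at h1 h0
  rw [h1, one_mul] at h0
  exact ((algebraMap F _).injective h0).symm

/-- An involution fixes exactly one point. -/
theorem involution_fix {y : H} (hy : y ≠ 1) (h2 : y * y = 1) :
    ∃ P : Pt F, ∀ Q : Pt F, y • Q = Q ↔ Q = P := by
  haveI : CharP (AlgebraicClosure F) 2 := charP_of_injective_algebraMap (algebraMap F _).injective 2
  have htr : tr y.1 = 0 := by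
    have := tr_of_pow (p := 2) (g := y.1) (k := 1) (by rw [pow_one, pow_two]; exact congrArg Subtype.val h2)
    rwa [two_zero] at this
  have hd := det_eq (up y.1)
  have htE : up y.1 0 0 + up y.1 1 1 = 0 := by
    have := congrArg (algebraMap F (AlgebraicClosure F)) htr
    simpa [tr, up_apply] using this
  have hz : ((up y.1).1 - 1).det = 0 := by
    simp [Matrix.det_fin_two]
    linear_combination hd - htE + (CharTwo.two_eq_zero : (2 : AlgebraicClosure F) = 0)
  obtain ⟨v, hv, hv'⟩ := Matrix.exists_mulVec_eq_zero_iff.2 hz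
  rw [Matrix.sub_mulVec, Matrix.one_mulVec, sub_eq_zero] at hv'
  refine ⟨Projectivization.mk _ v hv, fun Q => ⟨fun hQ => ?_, fun hQ => ?_⟩⟩
  · induction Q using Projectivization.ind with | _ w hw =>
    obtain ⟨l, hl⟩ := (smul_mk_iff y hw).1 hQ
    have hroot := PSL2PrimeTo.eigen_root (up y.1) hw hl
    have hl1 : l = 1 := by
      rw [Matrix.trace_fin_two, show (up y.1).1 0 0 + (up y.1).1 1 1 = 0 from htE] at hroot
      have : (l - 1) ^ 2 = 0 := by
        linear_combination hroot - l * (CharTwo.two_eq_zero : (2 : AlgebraicClosure F) = 0)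
      exact sub_eq_zero.1 (eq_zero_of_pow_eq_zero this)
    rw [hl1, one_smul] at hl
    rw [Projectivization.mk_eq_mk_iff']
    by_contra hni
    push Not at hni
    have hli : LinearIndependent (AlgebraicClosure F) ![v, w] := by
      rw [LinearIndependent.pair_iff' hv]
      exact fun c => hni c
    have hspan : Submodule.span (AlgebraicClosure F) (Set.range ![v, w]) = ⊤ :=
      hli.span_eq_top_of_card_eq_finrank (by simp)
    refine hy (act_injective ?_)
    rw [map_one]
    have hone : up y.1 = 1 := by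
      refine Subtype.ext (Matrix.ext_of_mulVec_single fun i => ?_)
      have hmem : Pi.single i (1 : AlgebraicClosure F) ∈
          Submodule.span (AlgebraicClosure F) (Set.range ![v, w]) := hspan ▸ Submodule.mem_top
      rw [Matrix.SpecialLinearGroup.coe_one, Matrix.one_mulVec]
      refine Submodule.span_induction (p := fun z _ => (up y.1).1 *ᵥ z = z) ?_ ?_ ?_ ?_ hmem
      · rintro z ⟨j, rfl⟩
        fin_cases j
        exacts [hv', hl]
      · simp
      · intro a b _ _ ha hb; rw [Matrix.mulVec_add, ha, hb]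
      · intro c a _ ha; rw [Matrix.mulVec_smul, ha]
    show toPSL (up y.1) = 1
    rw [hone, map_one]
  · rw [hQ]; exact (smul_mk_iff y hv).2 ⟨1, by rw [one_smul]; exact hv'⟩

theorem fix_eq {y : H} (hy : y ≠ 1) (h2 : y * y = 1) {P Q : Pt F} (hP : y • P = P) (hQ : y • Q = Q) :
    P = Q := by
  obtain ⟨R, hR⟩ := involution_fix hy h2
  rw [(hR P).1 hP, (hR Q).1 hQ]

theorem odd_fix {x : H} (hx : x ≠ 1) (ho : Odd (orderOf x)) :
    Nat.card {P : Pt F | x • P = P} = 2 := by
  haveI : CharP (AlgebraicClosure F) 2 := charP_of_injective_algebraMap (algebraMap F _).injective 2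
  exact PSL2PrimeTo.card_fixed (p := 2) ((act H).comp (Subgroup.zpowers x).subtype)
    (act_injective.comp (Subgroup.zpowers x).subtype_injective)
    (by rw [Nat.card_zpowers]; exact fun h => (Nat.not_even_iff_odd.2 ho) (even_iff_two_dvd.2 h))
    (x := ⟨x, Subgroup.mem_zpowers x⟩) fun e => hx (congrArg Subtype.val e)

/-- Two involutions with different fixed points are conjugate. -/
theorem involution_conj {s t : H} (hs : s ≠ 1) (hss : s * s = 1) (ht : t ≠ 1) (htt : t * t = 1) {P Q : Pt F}
    (hP : s • P = P) (hQ : t • Q = Q) (hne : P ≠ Q) : ∃ g : H, g * s * g⁻¹ = t := by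
  set x := s * t with hx
  have hsinv : s⁻¹ = s := inv_eq_of_mul_eq_one_right hss
  have htinv : t⁻¹ = t := inv_eq_of_mul_eq_one_right htt
  have hxi : x⁻¹ = t * s := by rw [hx, _root_.mul_inv_rev, hsinv, htinv]
  have hsx : s * x * s⁻¹ = x⁻¹ := by
    rw [hxi, hx, hsinv, show s * (s * t) * s = (s * s) * (t * s) by simp only [mul_assoc], hss, one_mul]
  have htx : t * x * t⁻¹ = x⁻¹ := by
    rw [hxi, hx, htinv, show t * (s * t) * t = (t * s) * (t * t) by simp only [mul_assoc], htt, mul_one]
  rcases Nat.even_or_odd (orderOf x) with ⟨m, hm⟩ | ⟨m, hm⟩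
  · exfalso
    apply hne
    have hpos := orderOf_pos x
    set z := x ^ m with hz
    have hz2 : z * z = 1 := by rw [hz, ← pow_add, ← hm, pow_orderOf_eq_one]
    have hz1 : z ≠ 1 := fun e => by
      have := Nat.le_of_dvd (by omega) (orderOf_dvd_of_pow_eq_one (x := x) (n := m) e)
      omega
    have hzinv : z⁻¹ = z := inv_eq_of_mul_eq_one_right hz2
    have hcomm : ∀ r : H, r * x * r⁻¹ = x⁻¹ → r * z = z * r := fun r hr => by
      have : r * z * r⁻¹ = z := by rw [hz, ← conj_pow, hr, inv_pow, ← hz, hzinv]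
      exact mul_inv_eq_iff_eq_mul.1 this
    obtain ⟨R, hR⟩ := involution_fix hz1 hz2
    have key : ∀ r : H, r * z = z * r → r • R = R := fun r hr => (hR _).1 <| by
      rw [← mul_smul, ← hr, mul_smul, (hR R).2 rfl]
    rw [fix_eq hs hss hP (key s (hcomm s hsx)), fix_eq ht htt hQ (key t (hcomm t htx))]
  · refine ⟨x ^ m, ?_⟩
    have h1 : s * (x ^ m)⁻¹ = x ^ m * s := by
      rw [← inv_pow, ← hsx, conj_pow, ← mul_assoc, ← mul_assoc, hss, one_mul, hsinv]
    have h2 : x ^ (m + m) = x⁻¹ := by
      rw [eq_inv_iff_mul_eq_one, ← pow_succ, show m + m + 1 = orderOf x by omega, pow_orderOf_eq_one]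
    rw [mul_assoc, h1, ← mul_assoc, ← pow_add, h2, hxi, mul_assoc, hss, mul_one]

theorem arith_even {k N o m g : ℕ} (hk : 2 ≤ k) (hk2 : 2 ∣ k) (hm : 3 ≤ m) (hm2 : ¬ 2 ∣ m)
    (hg : g = N * (k * (k - 1))) (ho : o * m = g) (hN : k + 1 ≤ N) (he : o = N * (k - 2) + 2) :
    N = k + 1 ∨ (k = 2 ∧ o = 2) := by
  rcases Nat.lt_or_ge k 3 with h | h
  · right
    obtain rfl : k = 2 := by omega
    exact ⟨rfl, by simpa using he⟩
  left
  obtain ⟨u, rfl⟩ : ∃ u, k = u + 2 := ⟨k - 2, by omega⟩
  simp only [show u + 2 - 1 = u + 1 by omega, Nat.add_sub_cancel] at hg he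
  subst he
  rw [hg] at ho
  have hdvd : N ∣ 2 * m := by
    have h1 : N ∣ (N * u + 2) * m := by rw [ho]; exact dvd_mul_right N _
    rw [Nat.add_mul, Nat.mul_assoc] at h1
    exact (Nat.dvd_add_right (dvd_mul_right N _)).1 h1
  obtain ⟨t, ht⟩ := hdvd
  have h2 : (N * u + 2) * t = 2 * ((u + 2) * (u + 1)) := by
    refine Nat.eq_of_mul_eq_mul_left (show 0 < N by omega) ?_
    calc N * ((N * u + 2) * t) = (N * u + 2) * (N * t) := by ring
      _ = 2 * ((N * u + 2) * m) := by rw [← ht]; ring
      _ = _ := by rw [ho]; ring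
  have ht2 : t ≤ 2 := by
    by_contra h3
    have h4 : ((u + 3) * u + 2) * 3 ≤ (N * u + 2) * t :=
      Nat.mul_le_mul (Nat.add_le_add_right (Nat.mul_le_mul_right u (by omega)) 2) (by omega)
    rw [h2] at h4
    nlinarith
  interval_cases t
  · omega
  · exfalso
    rw [mul_one] at h2
    have hu4 : u ≤ 2 := by
      by_contra hu
      have hu' : u * (2 * u + 6) < N * u ∨ N * u ≤ u * (2 * u + 6) := lt_or_ge _ _
      have e : N * u + 2 = 2 * u * u + 6 * u + 4 := by rw [h2]; ring
      rcases hu' with h' | h'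
      · have : 2 * u + 6 < N := Nat.lt_of_mul_lt_mul_left (show u * (2 * u + 6) < u * N by linarith)
        have : u * (2 * u + 7) ≤ u * N := Nat.mul_le_mul_left u (by omega)
        nlinarith
      · nlinarith
    interval_cases u <;> omega
  · have e : N * u = (u + 3) * u := by linarith
    have := Nat.eq_of_mul_eq_mul_right (show 0 < u by omega) e
    omega

set_option maxHeartbeats 1600000 in
/-- The structure: either `SL₂` of a subfield up to the torus, or dihedral of twice odd order. -/
theorem main (h1 : uel (1 : F) ∈ H) {c : F} (hc0 : c ≠ 0) (hc : lel c ∈ H) :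
    (∃ K : Subfield F, (∀ x : F, uel x ∈ H ↔ x ∈ K) ∧ (∀ x : F, lel x ∈ H ↔ x ∈ K) ∧
      ∀ g ∈ H, g 1 0 = 0 ∨ g 0 0 / g 1 0 ∈ K) ∨
    ∃ (m : ℕ) (C : Subgroup H), 2 ≤ m ∧ Nat.card H = 2 * m ∧ IsCyclic C ∧ Nat.card C = m ∧
      ¬ 2 ∣ m ∧ Nonempty (H ≃* DihedralGroup m) := by
  classical
  haveI : CharP (AlgebraicClosure F) 2 := charP_of_injective_algebraMap (algebraMap F _).injective 2
  let s0 : H := ⟨uel 1, h1⟩
  let t0 : H := ⟨lel c, hc⟩
  have hs0 : s0 ≠ 1 := fun e => one_ne_zero (α := F) (by
    simpa [s0] using congrArg (fun g : H => g.1 0 1) e)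
  have ht0 : t0 ≠ 1 := fun e => hc0 (by simpa [t0] using congrArg (fun g : H => g.1 1 0) e)
  have hsq : ∀ x : F, uel x * uel x = (1 : SL2 F) := fun x => by
    rw [← uel_add, CharTwo.add_self_eq_zero, uel_zero]
  have hs02 : s0 * s0 = 1 := Subtype.ext (hsq 1)
  have ht02 : t0 * t0 = 1 := Subtype.ext (show lel c * lel c = 1 by
    rw [← lel_add, CharTwo.add_self_eq_zero, lel_zero])
  have hs0inf : s0 • (inf : Pt F) = inf := (smul_inf_iff s0).2 rfl
  have ht0p : t0 • pt (0 : F) = pt 0 := by
    refine (smul_mk_iff t0 _).2 ⟨1, funext fun i => ?_⟩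
    fin_cases i <;> simp [t0, Matrix.mulVec, dotProduct, Fin.sum_univ_two, up_apply]
  -- conjugates of the point at infinity
  have horb : ∀ y : H, y ≠ 1 → y * y = 1 → ∀ P : Pt F, y • P = P → P ∈ orbit H (inf : Pt F) := by
    intro y hy hy2 P hP
    by_cases hPi : P = inf
    · exact hPi ▸ mem_orbit_self _
    · obtain ⟨g, hg⟩ := involution_conj hs0 hs02 hy hy2 hs0inf hP (Ne.symm hPi)
      refine ⟨g, fix_eq hy hy2 ?_ hP⟩
      show y • g • (inf : Pt F) = g • inf
      rw [← mul_smul, ← hg, inv_mul_cancel_right, mul_smul, hs0inf]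
  have hpt0 : pt (0 : F) ∈ orbit H (inf : Pt F) := horb t0 ht0 ht02 _ ht0p
  -- all involutions are conjugate to `s0`
  have hconj : ∀ y : H, y ≠ 1 → y * y = 1 → ∃ g : H, g * s0 * g⁻¹ = y := by
    intro y hy hy2
    obtain ⟨P, hP⟩ := involution_fix hy hy2
    have hPy := (hP P).2 rfl
    by_cases hPi : P = inf
    · obtain ⟨g, hg⟩ := involution_conj hs0 hs02 ht0 ht02 hs0inf ht0p (pt_ne_inf 0).symm
      obtain ⟨g', hg'⟩ := involution_conj ht0 ht02 hy hy2 ht0p hPy (hPi ▸ pt_ne_inf 0)
      exact ⟨g' * g, by rw [← hg', ← hg]; group⟩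
    · exact involution_conj hs0 hs02 hy hy2 hs0inf hPy (Ne.symm hPi)
  -- the subfield
  set B := stabilizer H (inf : Pt F) with hB
  have hBmem : ∀ g : H, g ∈ B ↔ g.1 1 0 = 0 := fun g => mem_stabilizer_iff.trans (smul_inf_iff g)
  have hconjU : ∀ g : H, g ∈ B → ∀ x : F, g.1 * uel x * (g.1)⁻¹ = uel (x * g.1 0 0 ^ 2) := by
    intro g hg x
    have h10 := (hBmem g).1 hg
    have hd := det_eq g.1
    rw [h10] at hd
    apply ext2 <;> simp [mul_apply2, h10] <;> first
      | ring1
      | linear_combination hd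
      | linear_combination -hd
  have hX : ∀ x : F, x ≠ 0 → uel x ∈ H → ∃ g : H, g ∈ B ∧ g.1 0 0 ^ 2 = x := by
    intro x hx hxH
    have hy : (⟨uel x, hxH⟩ : H) ≠ 1 := fun e => hx (by simpa using congrArg (fun g : H => g.1 0 1) e)
    obtain ⟨g, hg⟩ := hconj _ hy (Subtype.ext (hsq x))
    have hgB : g ∈ B := by
      rw [hB, mem_stabilizer_iff]
      refine fix_eq hy (Subtype.ext (hsq x)) ?_ ((smul_inf_iff _).2 rfl)
      rw [← hg, ← mul_smul, inv_mul_cancel_right, mul_smul, hs0inf]
    refine ⟨g, hgB, ?_⟩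
    have h2 : g.1 * uel 1 * g.1⁻¹ = uel x := congrArg Subtype.val hg
    rw [hconjU g hgB, one_mul] at h2
    simpa using congrArg (fun z : SL2 F => z 0 1) h2
  have hBmul : ∀ g : H, g ∈ B → ∀ x : F, uel x ∈ H → uel (x * g.1 0 0 ^ 2) ∈ H := fun g hg x hx => by
    rw [← hconjU g hg x]; exact mul_mem (mul_mem g.2 hx) (inv_mem g.2)
  let K : Subfield F :=
    { carrier := {x | uel x ∈ H}
      zero_mem' := by simp [uel_zero]
      one_mem' := h1
      add_mem' := fun {x y} hx hy => by
        show uel (x + y) ∈ H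
        rw [uel_add]; exact mul_mem hx hy
      neg_mem' := fun {x} hx => by
        show uel (-x) ∈ H
        rwa [CharTwo.neg_eq]
      mul_mem' := fun {x y} hx hy => by
        show uel (x * y) ∈ H
        rcases eq_or_ne y 0 with rfl | hy0
        · rw [mul_zero, uel_zero]; exact one_mem _
        obtain ⟨g, hg, rfl⟩ := hX y hy0 hy
        exact hBmul g hg x hx
      inv_mem' := fun x hx => by
        show uel x⁻¹ ∈ H
        rcases eq_or_ne x 0 with rfl | hx0
        · rw [_root_.inv_zero, uel_zero]; exact one_mem _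
        obtain ⟨g, hg, rfl⟩ := hX x hx0 hx
        have h10 := (hBmem g).1 hg
        have := hBmul g⁻¹ (inv_mem hg) 1 h1
        have hd := det_eq g.1
        rw [h10, mul_zero, sub_zero] at hd
        rw [one_mul, Subgroup.coe_inv, inv00, eq_inv_of_mul_eq_one_right hd, inv_pow] at this
        exact this }
  have hKmem : ∀ x : F, x ∈ K ↔ uel x ∈ H := fun x => Iff.rfl
  haveI : Finite K := Finite.of_injective (fun x : K => (⟨uel x.1, x.2⟩ : H)) fun a b e =>
    Subtype.ext (by simpa using congrArg (fun g : H => g.1 0 1) e)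
  set k := Nat.card K with hk
  -- the order of `B`
  let φ : B →* Kˣ :=
    { toFun := fun g => Units.mk0 ⟨g.1.1 0 0 ^ 2, by
          have := hBmul g.1 g.2 1 h1
          rwa [one_mul] at this⟩ (fun e => by
        have h := congrArg Subtype.val e
        simp at h
        have hd := det_eq g.1.1
        rw [h, (hBmem g.1).1 g.2] at hd
        simp at hd)
      map_one' := Units.ext (Subtype.ext (by simp))
      map_mul' := fun a b => Units.ext (Subtype.ext (by
        simp [mul_apply2, (hBmem b.1).1 b.2, mul_pow])) }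
  have hφ : Function.Surjective φ := fun u => by
    obtain ⟨g, hg, hgx⟩ := hX (u : K).1 (fun e => u.ne_zero (Subtype.ext e)) (u : K).2
    exact ⟨⟨g, hg⟩, Units.ext (Subtype.ext hgx)⟩
  have hker : Nat.card φ.ker = k := by
    rw [hk]
    refine Nat.card_congr (Equiv.symm (Equiv.ofBijective
      (fun x : K => (⟨⟨⟨uel x.1, x.2⟩, (hBmem _).2 rfl⟩, MonoidHom.mem_ker.2 (Units.ext (Subtype.ext
        (show (1 : F) ^ 2 = 1 from one_pow 2)))⟩ : φ.ker)) ⟨fun a b e => ?_, fun g => ?_⟩))
    · exact Subtype.ext (by simpa using congrArg (fun z : φ.ker => z.1.1.1 0 1) e)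
    · have h00' : g.1.1.1 0 0 ^ 2 = 1 := congrArg (fun u : Kˣ => ((u : K) : F)) (MonoidHom.mem_ker.1 g.2)
      have h10 := (hBmem g.1.1).1 g.1.2
      have h00 : g.1.1.1 0 0 = 1 := by
        rcases sq_eq_one_iff.1 h00' with e | e
        · exact e
        · rw [e, CharTwo.neg_eq]
      have hd := det_eq g.1.1.1
      rw [h00, h10] at hd
      simp at hd
      have he : g.1.1.1 = uel (g.1.1.1 0 1) := by apply ext2 <;> simp [h00, h10, hd]
      have hmem : g.1.1.1 0 1 ∈ K := by rw [hKmem, ← he]; exact g.1.1.2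
      exact ⟨⟨_, hmem⟩, Subtype.ext (Subtype.ext (Subtype.ext he.symm))⟩
  have hcardB : Nat.card B = k * (k - 1) := by
    have := Subgroup.index_mul_card φ.ker
    rw [Subgroup.index_ker, MonoidHom.range_eq_top.2 hφ, Subgroup.card_top, Nat.card_units, hker, ← hk] at this
    rw [← this]; ring
  have hk2 : 2 ≤ k := Finite.one_lt_card
  have hkeven : 2 ∣ k := by
    rw [← hker]
    have : orderOf (⟨⟨s0, (hBmem s0).2 rfl⟩, MonoidHom.mem_ker.2 (Units.ext (Subtype.ext
        (show (1 : F) ^ 2 = 1 from one_pow 2)))⟩ : φ.ker) = 2 :=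
      orderOf_eq_prime (Subtype.ext (Subtype.ext (by rw [pow_two]; exact hs02)))
        (fun e => hs0 (congrArg (fun z : φ.ker => z.1.1) e))
    exact (dvd_of_eq this.symm).trans (orderOf_dvd_natCard _)
  -- the centralizer of `s0` and the number of involutions
  have hcs : Nat.card (Subgroup.centralizer ({s0} : Set H)) = k := by
    rw [← hker]
    refine Nat.card_congr
      { toFun := fun g => ⟨⟨g.1, ?_⟩, ?_⟩
        invFun := fun g => ⟨g.1.1, ?_⟩
        left_inv := fun g => rfl
        right_inv := fun g => rfl }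
    · have hcm := Subgroup.mem_centralizer_singleton_iff.1 g.2
      rw [mem_stabilizer_iff]
      refine fix_eq hs0 hs02 ?_ hs0inf
      rw [← mul_smul, ← hcm, mul_smul, hs0inf]
    · have hcm := Subgroup.mem_centralizer_singleton_iff.1 g.2
      have hgB : g.1 ∈ B := by
        rw [mem_stabilizer_iff]
        refine fix_eq hs0 hs02 ?_ hs0inf
        rw [← mul_smul, ← hcm, mul_smul, hs0inf]
      refine MonoidHom.mem_ker.2 (Units.ext (Subtype.ext ?_))
      have h2 : g.1.1 * uel 1 * g.1.1⁻¹ = uel 1 := by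
        rw [mul_inv_eq_iff_eq_mul]; exact congrArg Subtype.val hcm
      rw [hconjU g.1 hgB, one_mul] at h2
      show g.1.1 0 0 ^ 2 = 1
      simpa using congrArg (fun z : SL2 F => z 0 1) h2
    · refine Subgroup.mem_centralizer_singleton_iff.2 (Subtype.ext ?_)
      have h00' : g.1.1.1 0 0 ^ 2 = 1 := congrArg (fun u : Kˣ => ((u : K) : F)) (MonoidHom.mem_ker.1 g.2)
      have h2 := hconjU g.1.1 g.1.2 1
      rw [h00', one_mul] at h2
      exact mul_inv_eq_iff_eq_mul.1 h2
  set N := Nat.card (orbit H (inf : Pt F)) with hN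
  set n := Nat.card H with hn
  have hNB : N * (k * (k - 1)) = n := by
    rw [← hcardB, hN, hB]; exact Rotation.orbit_mul_st_gen _
  let I : Finset H := (Set.toFinite {y : H | y ≠ 1 ∧ y * y = 1}).toFinset
  have hI : I.card * k = n := by
    rw [← hcs, hn, ← Cfsg.Agent.KnownA.GL2.carrier_card_mul s0]
    congr 1
    rw [Nat.card_coe_set_eq, ← Set.ncard_coe_finset]
    congr 1
    ext y
    simp only [I, Set.Finite.coe_toFinset, Set.mem_setOf_eq, ConjClasses.mem_carrier_iff_mk_eq,
      ConjClasses.mk_eq_mk_iff_isConj]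
    constructor
    · rintro ⟨hy, hy2⟩
      obtain ⟨g, hg⟩ := hconj y hy hy2
      exact (isConj_iff.2 ⟨g, hg⟩).symm
    · intro h
      obtain ⟨g, rfl⟩ := isConj_iff.1 h.symm
      refine ⟨fun e => hs0 (conj_eq_one_iff.1 e), ?_⟩
      calc g * s0 * g⁻¹ * (g * s0 * g⁻¹) = g * (s0 * s0) * g⁻¹ := by group
        _ = 1 := by rw [hs02]; group
  -- the finite set of all special points
  let Ω : SubMulAction H (Pt F) :=
    { carrier := {P | ∃ x : H, x ≠ 1 ∧ x • P = P}
      smul_mem' := fun g P hP => by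
        obtain ⟨x, hx, hxP⟩ := hP
        refine ⟨g * x * g⁻¹, fun e => hx (conj_eq_one_iff.1 e), ?_⟩
        rw [← mul_smul, inv_mul_cancel_right, mul_smul, hxP] }
  have hfixfin : ∀ x : H, x ≠ 1 → {P : Pt F | x • P = P}.Finite := by
    intro x hx
    rcases Nat.even_or_odd (orderOf x) with ⟨m, hm⟩ | ho
    · have hpos := orderOf_pos x
      have hz2 : x ^ m * x ^ m = 1 := by rw [← pow_add, ← hm, pow_orderOf_eq_one]
      have hz1 : x ^ m ≠ 1 := fun e => by
        have := Nat.le_of_dvd (by omega) (orderOf_dvd_of_pow_eq_one (x := x) (n := m) e); omega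
      obtain ⟨R, hR⟩ := involution_fix hz1 hz2
      refine (Set.finite_singleton R).subset fun P hP => (hR P).1 ?_
      have : x ∈ stabilizer H P := hP
      exact pow_mem this m
    · exact Set.finite_coe_iff.1 (Nat.finite_of_card_ne_zero (by rw [odd_fix hx ho]; norm_num))
  haveI : Finite Ω := by
    have hsub : (Ω : Set (Pt F)) ⊆ ⋃ x : {x : H // x ≠ 1}, {P | x.1 • P = P} := fun P ⟨x, hx, hxP⟩ =>
      Set.mem_iUnion.2 ⟨⟨x, hx⟩, hxP⟩
    exact ((Set.finite_iUnion fun x : {x : H // x ≠ 1} => hfixfin x.1 x.2).subset hsub).to_subtype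
  -- every element of even order is an involution
  have heven : ∀ x : H, ¬ Odd (orderOf x) → x * x = 1 := by
    intro x hx
    rw [Nat.not_odd_iff_even] at hx
    obtain ⟨m, hm⟩ := hx
    have hpos := orderOf_pos x
    have hz2 : x ^ m * x ^ m = 1 := by rw [← pow_add, ← hm, pow_orderOf_eq_one]
    have hz1 : x ^ m ≠ 1 := fun e => by
      have := Nat.le_of_dvd (by omega) (orderOf_dvd_of_pow_eq_one (x := x) (n := m) e); omega
    obtain ⟨g, hg⟩ := hconj _ hz1 hz2
    -- `g⁻¹ x g` centralizes `s0`, so lies in the elementary abelian kernel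
    have hcen : g⁻¹ * x * g ∈ Subgroup.centralizer ({s0} : Set H) := by
      rw [Subgroup.mem_centralizer_singleton_iff]
      have hg2 : s0 = g⁻¹ * x ^ m * g := by rw [← hg]; group
      rw [hg2]
      calc g⁻¹ * x * g * (g⁻¹ * x ^ m * g) = g⁻¹ * (x * x ^ m) * g := by group
        _ = g⁻¹ * (x ^ m * x) * g := by rw [← pow_succ', pow_succ]
        _ = _ := by group
    have hcm := Subgroup.mem_centralizer_singleton_iff.1 hcen
    have hgB : g⁻¹ * x * g ∈ B := by
      rw [mem_stabilizer_iff]
      refine fix_eq hs0 hs02 ?_ hs0inf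
      rw [← mul_smul, ← hcm, mul_smul, hs0inf]
    set y := g⁻¹ * x * g with hy
    have h10 := (hBmem y).1 hgB
    have h2 : y.1 * uel 1 * y.1⁻¹ = uel 1 := by
      rw [mul_inv_eq_iff_eq_mul]; exact congrArg Subtype.val hcm
    rw [hconjU y hgB, one_mul] at h2
    have h00' : y.1 0 0 ^ 2 = 1 := by simpa using congrArg (fun z : SL2 F => z 0 1) h2
    have h00 : y.1 0 0 = 1 := by
      rcases sq_eq_one_iff.1 h00' with e | e
      · exact e
      · rw [e, CharTwo.neg_eq]
    have hd := det_eq y.1
    rw [h00, h10] at hd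
    simp at hd
    have he : y.1 = uel (y.1 0 1) := by apply ext2 <;> simp [h00, h10, hd]
    have hy2 : y * y = 1 := Subtype.ext (by rw [Subgroup.coe_mul, he, hsq]; rfl)
    calc x * x = g * (y * y) * g⁻¹ := by rw [hy]; group
      _ = 1 := by rw [hy2]; group
  -- Burnside
  haveI := Fintype.ofFinite H
  haveI := Fintype.ofFinite Ω
  haveI := Fintype.ofFinite (Quotient (orbitRel H Ω))
  let infΩ : Ω := ⟨inf, s0, hs0, hs0inf⟩
  let q0 : Quotient (orbitRel H Ω) := Quotient.mk'' infΩ
  have hout : ∀ P : Ω, P ∈ orbit H (Quotient.mk'' P : Quotient (orbitRel H Ω)).out := fun P =>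
    orbitRel_apply.1 ((orbitRel H Ω).symm (Quotient.exact (Quotient.out_eq (Quotient.mk'' P))))
  let o : Quotient (orbitRel H Ω) → ℕ := fun q => Nat.card (orbit H q.out)
  have hcoe : ∀ P : Ω, Nat.card (orbit H P) = Nat.card (orbit H (P : Pt F)) := fun P => by
    rw [Nat.card_coe_set_eq, Nat.card_coe_set_eq, ← SubMulAction.val_image_orbit, Set.ncard_image_of_injective _
      Subtype.val_injective]
  have ho0 : o q0 = N := by
    show Nat.card (orbit H q0.out) = N
    rw [← orbit_eq_iff.2 (hout infΩ), hcoe]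
  have hfix : ∀ x : H, x ≠ 1 → Nat.card (fixedBy Ω x) = if x * x = 1 then 1 else 2 := by
    intro x hx
    have hcongr : Nat.card (fixedBy Ω x) = Nat.card {P : Pt F | x • P = P} := Nat.card_congr
      { toFun := fun P => ⟨P.1.1, congrArg Subtype.val P.2⟩
        invFun := fun P => ⟨⟨P.1, x, hx, P.2⟩, Subtype.ext P.2⟩
        left_inv := fun P => rfl
        right_inv := fun P => rfl }
    rw [hcongr]
    split_ifs with h2
    · obtain ⟨R, hR⟩ := involution_fix hx h2
      rw [show {P : Pt F | x • P = P} = {R} from Set.ext fun P => hR P, Nat.card_coe_set_eq, Set.ncard_singleton]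
    · exact odd_fix hx (not_not.1 fun hno => h2 (heven x hno))
  have hburn : (∑ q, o q) + 2 * (n - 1) = Fintype.card (Quotient (orbitRel H Ω)) * n + I.card := by
    have hb := sum_card_fixedBy_eq_card_orbits_mul_card_group H Ω
    rw [← Finset.add_sum_erase _ _ (Finset.mem_univ (1 : H))] at hb
    have hone : Fintype.card (fixedBy Ω (1 : H)) = ∑ q, o q := by
      rw [← Nat.card_eq_fintype_card, Nat.card_congr (β := Ω) (show fixedBy Ω (1 : H) ≃ Ω from Equiv.subtypeUnivEquiv fun x => one_smul H x),
        Nat.card_congr (selfEquivSigmaOrbits H Ω), Nat.card_sigma]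
    have hsum : (∑ x ∈ (Finset.univ.erase 1 : Finset H), Fintype.card (fixedBy Ω x)) + I.card = 2 * (n - 1) := by
      have hIe : I.card = ∑ x ∈ (Finset.univ.erase 1 : Finset H), if x * x = 1 then 1 else 0 := by
        rw [← Finset.card_filter]
        congr 1
        ext y
        simp [I, and_comm]
      rw [hIe, ← Finset.sum_add_distrib, hn, Nat.card_eq_fintype_card]
      rw [Finset.sum_congr rfl (fun x hx => show _ = 2 by
        rw [← Nat.card_eq_fintype_card, hfix x (Finset.ne_of_mem_erase hx)]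
        split_ifs <;> rfl), Finset.sum_const, Finset.card_erase_of_mem (Finset.mem_univ _), Finset.card_univ,
        smul_eq_mul, mul_comm]
    rw [hone, ← Nat.card_eq_fintype_card (α := H), ← hn] at hb
    omega
  -- the other orbits
  have hother : ∀ q, q ≠ q0 → ∃ m, 3 ≤ m ∧ ¬ 2 ∣ m ∧ o q * m = n ∧ m = Nat.card (stabilizer H q.out) := by
    intro q hq
    have hoddst : ∀ x ∈ stabilizer H q.out, x * x = 1 → x = 1 := by
      intro x hx h2
      by_contra hx1
      refine hq ?_
      obtain ⟨g, hg⟩ := horb x hx1 h2 (q.out : Pt F) (congrArg Subtype.val hx)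
      rw [← Quotient.out_eq q]
      exact Quotient.sound (orbitRel_apply.2 ⟨g, Subtype.ext hg⟩)
    have h2m : ¬ 2 ∣ Nat.card (stabilizer H q.out) := fun hd => by
      haveI := Fact.mk Nat.prime_two
      obtain ⟨⟨x, hx⟩, ho⟩ := exists_prime_orderOf_dvd_card' 2 hd
      rw [Subgroup.orderOf_mk] at ho
      have h2 : x * x = 1 := by
        have := pow_orderOf_eq_one x
        rwa [ho, pow_two] at this
      rw [hoddst x hx h2, orderOf_one] at ho
      omega
    have h1m : 1 < Nat.card (stabilizer H q.out) := by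
      rw [Subgroup.one_lt_card_iff_ne_bot]
      obtain ⟨x, hx, hxP⟩ := q.out.2
      exact fun e => hx ((Subgroup.eq_bot_iff_forall _).1 e x (Subtype.ext hxP))
    exact ⟨_, by omega, h2m, Rotation.orbit_mul_st_gen _, rfl⟩
  set R := Fintype.card (Quotient (orbitRel H Ω)) with hR
  have hN2 : k + 1 ≤ N := by
    haveI := Fintype.ofFinite K
    let f : Option K → orbit H (inf : Pt F) := fun x => x.elim ⟨inf, mem_orbit_self _⟩ fun y =>
      ⟨pt (y.1 + 0), by
        rw [← uel_smul_pt y.1 0 y.2]
        exact mem_orbit_of_mem_orbit _ hpt0⟩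
    have hf : Function.Injective f := by
      rintro (_ | a) (_ | b) e <;> have e' := congrArg Subtype.val e <;> simp [f] at e'
      · rfl
      · exact absurd e'.symm (pt_ne_inf _)
      · exact absurd e' (pt_ne_inf _)
      · rw [Subtype.ext (pt_injective e')]
    haveI : Finite (orbit H (inf : Pt F)) := by
      have : orbit H (inf : Pt F) ⊆ (Ω : Set (Pt F)) := fun P ⟨g, hg⟩ => hg ▸ Ω.smul_mem' g infΩ.2
      exact ((Set.toFinite (Ω : Set (Pt F))).subset this).to_subtype
    have := Nat.card_le_card_of_injective f hf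
    rwa [Finite.card_option, ← hk] at this
  have hsplit := Finset.add_sum_erase Finset.univ o (Finset.mem_univ q0)
  set Rest := (Finset.univ.erase q0 : Finset (Quotient (orbitRel H Ω))) with hRest
  have hRc : R = Rest.card + 1 := by
    rw [hRest, Finset.card_erase_of_mem (Finset.mem_univ _), Finset.card_univ, ← hR]
    have : 0 < R := Fintype.card_pos_iff.2 ⟨q0⟩
    omega
  have hbound : 3 * (∑ q ∈ Rest, o q) ≤ Rest.card * n := by
    rw [Finset.mul_sum]
    refine (Finset.sum_le_sum fun q hq => ?_).trans (by rw [Finset.sum_const, smul_eq_mul])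
    obtain ⟨m, hm, -, hom, -⟩ := hother q (Finset.ne_of_mem_erase hq)
    rw [← hom, mul_comm 3]; exact Nat.mul_le_mul_left _ hm
  have hIk : I.card = N * (k - 1) := Nat.eq_of_mul_eq_mul_right (show 0 < k by omega)
    (hI.trans (by rw [← hNB]; ring))
  rw [← hsplit, ho0, hRc, Nat.add_mul, one_mul, hIk] at hburn
  have hn1 : 1 ≤ n := Nat.card_pos
  have hs1 : Rest.card = 1 := by
    rcases Nat.lt_trichotomy Rest.card 1 with hs | hs | hs
    · exfalso
      have h0 : Rest = ∅ := Finset.card_eq_zero.1 (by omega)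
      rw [h0, Finset.sum_empty, Finset.card_empty, zero_mul] at hburn
      obtain ⟨u, hu⟩ : ∃ u, k = u + 2 := ⟨k - 2, by omega⟩
      rw [hu, show u + 2 - 1 = u + 1 by omega] at hburn hNB
      obtain ⟨a, ha⟩ : ∃ a, n = a + 1 := ⟨n - 1, by omega⟩
      rw [ha, Nat.add_sub_cancel] at hburn
      nlinarith
    · exact hs
    · exfalso
      have h2n : 2 * n ≤ Rest.card * n := Nat.mul_le_mul_right n hs
      have hNn : N ≤ N * (k - 1) := Nat.le_mul_of_pos_right N (by omega)
      omega
  obtain ⟨q1, hq1⟩ := Finset.card_eq_one.1 hs1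
  rw [hq1, Finset.sum_singleton, Finset.card_singleton, one_mul] at hburn
  obtain ⟨m, hm, hm2, hom, hmdef⟩ := hother q1 (Finset.ne_of_mem_erase (hq1 ▸ Finset.mem_singleton_self q1 : q1 ∈ Rest))
  have heo : o q1 = N * (k - 2) + 2 := by
    have e : N * (k - 1) = N * (k - 2) + N := by
      rw [show k - 1 = k - 2 + 1 by omega, Nat.mul_add, mul_one]
    omega
  rcases arith_even hk2 hkeven hm hm2 hNB.symm hom hN2 heo with hNk | ⟨hk22, ho2⟩
  · -- the points of the orbit
    left
    haveI := Fintype.ofFinite K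
    haveI : Finite (orbit H (inf : Pt F)) := by
      refine Nat.finite_of_card_ne_zero ?_
      omega
    let f : Option K → orbit H (inf : Pt F) := fun x => x.elim ⟨inf, mem_orbit_self _⟩ fun y =>
      ⟨pt (y.1 + 0), by
        rw [← uel_smul_pt y.1 0 y.2]
        exact mem_orbit_of_mem_orbit _ hpt0⟩
    have hf : Function.Injective f := by
      rintro (_ | a) (_ | b) e <;> have e' := congrArg Subtype.val e <;> simp [f] at e'
      · rfl
      · exact absurd e'.symm (pt_ne_inf _)
      · exact absurd e' (pt_ne_inf _)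
      · rw [Subtype.ext (pt_injective e')]
    have hsurj := (hf.bijective_of_nat_card_le (by rw [Finite.card_option, ← hk, ← hN, hNk])).2
    have hthird : ∀ g ∈ H, g 1 0 = 0 ∨ g 0 0 / g 1 0 ∈ K := by
      intro g hg
      obtain ⟨x, hx⟩ := hsurj ⟨(⟨g, hg⟩ : H) • inf, mem_orbit _ _⟩
      have hx' := congrArg Subtype.val hx
      rcases x with _ | y
      · left
        exact (smul_inf_iff ⟨g, hg⟩).1 hx'.symm
      · right
        simp only [f, Option.elim, add_zero] at hx'
        rw [show (⟨g, hg⟩ : H) • (inf : Pt F) = up g • Projectivization.mk _ ![1, 0] _ from rfl,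
          Projectivization.smul_mk, pt, Projectivization.mk_eq_mk_iff'] at hx'
        obtain ⟨a, ha⟩ := hx'
        have e0 := congrFun ha 0
        have e1 := congrFun ha 1
        change a * (((up g).1 *ᵥ ![1, 0]) 0) = _ at e0
        change a * (((up g).1 *ᵥ ![1, 0]) 1) = _ at e1
        simp [Matrix.mulVec, dotProduct, Fin.sum_univ_two, up_apply] at e0 e1
        have h10 : g 1 0 ≠ 0 := fun h0 => by simp [h0] at e1
        have hy : y.1 = g 0 0 / g 1 0 := by
          rw [eq_div_iff h10]
          apply (algebraMap F (AlgebraicClosure F)).injective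
          rw [map_mul, ← e0]
          linear_combination (algebraMap F (AlgebraicClosure F) (g 0 0)) * e1
        rw [← hy]; exact y.2
    -- the lower root group
    obtain ⟨w, hw⟩ := hpt0
    have hw00 : w.1 0 0 = 0 := by
      have hw' : w • (inf : Pt F) = pt 0 := hw
      rw [show w • (inf : Pt F) = up w.1 • Projectivization.mk _ ![1, 0] _ from rfl,
        Projectivization.smul_mk, pt, Projectivization.mk_eq_mk_iff'] at hw'
      obtain ⟨a, ha⟩ := hw'
      have e0 := congrFun ha 0
      change a * _ = (((up w.1).1 *ᵥ ![1, 0]) 0) at e0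
      simpa [Matrix.mulVec, dotProduct, Fin.sum_univ_two, up_apply] using e0.symm
    set r := w.1 1 0 with hr
    have hsr : w.1 0 1 * r = 1 := by
      have := det_eq w.1
      rw [hw00, zero_mul, zero_sub, CharTwo.neg_eq] at this
      exact this
    have hr0 : r ≠ 0 := right_ne_zero_of_mul_eq_one hsr
    have hwu : ∀ x : F, w.1 * uel x * w.1⁻¹ = lel (r ^ 2 * x) := fun x => by
      apply ext2 <;> simp [mul_apply2, hw00, ← hr, CharTwo.neg_eq] <;> first
        | ring1
        | linear_combination hsr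
        | linear_combination (r * w.1 1 1) * (CharTwo.two_eq_zero : (2 : F) = 0)
    have hL : ∀ x : F, lel x ∈ H ↔ x / r ^ 2 ∈ K := by
      intro x
      rw [hKmem]
      have e : w.1 * uel (x / r ^ 2) * w.1⁻¹ = lel x := by
        rw [hwu, mul_div_cancel₀ x (pow_ne_zero 2 hr0)]
      constructor
      · intro h
        rw [← e] at h
        simpa [mul_assoc] using mul_mem (mul_mem (inv_mem w.2) h) w.2
      · intro h
        rw [← e]; exact mul_mem (mul_mem w.2 h) (inv_mem w.2)
    have hcK : c ∈ K := by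
      rcases hthird _ hc with h | h
      · simp at h; exact absurd h hc0
      · simp at h; exact h
    have hr2 : r ^ 2 ∈ K := by
      have := K.mul_mem hcK (K.inv_mem ((hL c).1 hc))
      rwa [inv_div, mul_div_cancel₀ _ hc0] at this
    refine ⟨K, fun x => Iff.rfl, fun x => ?_, hthird⟩
    rw [hL]
    refine ⟨fun h => ?_, fun h => K.div_mem h hr2⟩
    have := K.mul_mem h hr2
    rwa [div_mul_cancel₀ x (pow_ne_zero 2 hr0)] at this
  · -- dihedral
    right
    rw [ho2] at hom
    set C := stabilizer H q1.out with hC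
    have hcyc : IsCyclic C := by
      obtain ⟨⟨P, hP⟩, hPdef⟩ : ∃ P : Ω, q1.out = P := ⟨_, rfl⟩
      induction P using Projectivization.ind with | _ v hv =>
      have hcard2 : ¬ 2 ∣ Nat.card C := hmdef ▸ hm2
      haveI := PSL2PrimeTo.stab_cyclic (p := 2) ((act H).comp C.subtype) (act_injective.comp C.subtype_injective)
        hcard2 ⊤ hv (fun x _ => by
          have hx : (x : H) • q1.out = q1.out := x.2
          rw [hPdef] at hx
          exact congrArg Subtype.val hx)
      exact isCyclic_of_surjective (Subgroup.topEquiv : (⊤ : Subgroup C) ≃* C).toMonoidHom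
        (Subgroup.topEquiv).surjective
    have hidx : C.index = 2 := by
      rw [hC, index_stabilizer, ← Nat.card_coe_set_eq]; exact ho2
    have hnC : n = 2 * m := by omega
    refine ⟨m, C, by omega, hnC, hcyc, hmdef.symm, hm2, ?_⟩
    -- every element outside `C` is an involution
    haveI : C.Normal := Subgroup.normal_of_index_eq_two hidx
    obtain ⟨⟨r, hr⟩, hgen⟩ := hcyc.exists_generator
    have hro : orderOf r = m := by
      have := orderOf_injective C.subtype C.subtype_injective ⟨r, hr⟩
      rw [orderOf_eq_card_of_forall_mem_zpowers hgen] at this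
      exact this.trans hmdef.symm
    have hs0C : s0 ∉ C := fun h => by
      have h2 := orderOf_dvd_natCard (⟨s0, h⟩ : C)
      rw [Subgroup.orderOf_mk, orderOf_eq_prime (by rw [pow_two, hs02]) hs0, ← hmdef] at h2
      exact hm2 h2
    have hinv : s0 * r * (s0 * r) = 1 := by
      by_contra hne
      have hoddo : Odd (orderOf (s0 * r)) := not_not.1 fun hno => hne (heven _ hno)
      obtain ⟨j, hj⟩ := hoddo
      have hsq2 : (s0 * r) ^ 2 ∈ C := by rw [pow_two]; exact Subgroup.mul_self_mem_of_index_two hidx _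
      have hmem : s0 * r ∈ C := by
        have : (s0 * r) = ((s0 * r) ^ 2) ^ (j + 1) := by
          rw [← pow_mul, show 2 * (j + 1) = orderOf (s0 * r) + 1 by omega, pow_succ, pow_orderOf_eq_one, one_mul]
        rw [this]; exact pow_mem hsq2 _
      exact hs0C (by simpa using mul_mem hmem (inv_mem hr))
    have hsr1 : s0 * r ≠ 1 := fun e => hs0C (by
      rw [eq_inv_of_mul_eq_one_left e]; exact inv_mem hr)
    have hne : s0 ≠ s0 * r := fun e => by
      rw [eq_comm, mul_eq_left] at e
      rw [e, orderOf_one] at hro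
      omega
    obtain ⟨E⟩ := Cfsg.Agent.S0206.result s0 (s0 * r) (orderOf_eq_prime (by rw [pow_two, hs02]) hs0)
      (orderOf_eq_prime (by rw [pow_two, hinv]) hsr1) hne
    rw [show s0 * (s0 * r) = r by rw [← mul_assoc, hs02, one_mul], hro] at E
    have htop : Subgroup.closure ({s0, s0 * r} : Set H) = ⊤ := by
      refine Subgroup.eq_top_of_card_eq _ ?_
      rw [Nat.card_congr E.toEquiv, DihedralGroup.nat_card, ← hn, hnC]
    rw [htop] at E
    exact ⟨Subgroup.topEquiv.symm.trans E⟩

end Cfsg.Agent.Linear.SL2Even
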