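import Cfsg.Agent.Linear.PSL2Std
import Cfsg.Agent.Linear.SL2Subfield
import Cfsg.Agent.Linear.SL2SubfieldEven
import Cfsg.Agent.S0494
import Mathlib

/-!
# Dickson's list of the subgroups of `PSL₂(q)`
-/

set_option autoImplicit false
set_option linter.unusedSectionVars false

namespace Cfsg.Agent.Linear.PSL2Dickson

open Matrix Cfsg.Agent.Dickson Cfsg.Agent.Linear.PSL2Borel

section Sixty

variable {G : Type*} [Group G] [Finite G]

/-- A group of order 60 with ten Sylow 3-subgroups that are their own centralisers is simple. -/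
theorem simple_sixty (h : Nat.card G = 60) (h3 : Nat.card (Sylow 3 G) = 10)
    (hC : ∀ x y : G, orderOf x = 3 → Commute x y → y ^ 3 = 1) : IsSimpleGroup G := by
  haveI := Fact.mk Nat.prime_three
  haveI : Fact (Nat.Prime 5) := ⟨by norm_num⟩
  haveI : Nontrivial G := Finite.one_lt_card_iff_nontrivial.1 (by omega)
  obtain ⟨P⟩ : Nonempty (Sylow 3 G) := inferInstance
  have hP : Nat.card (P : Subgroup G) = 3 := by
    rw [P.card_eq_multiplicity, h, show 60 = 3 ^ 1 * 20 by norm_num,
      Nat.factorization_mul (by norm_num) (by norm_num), Finsupp.add_apply,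
      Nat.Prime.factorization_pow (by norm_num),
      Nat.factorization_eq_zero_of_not_dvd (by norm_num : ¬ 3 ∣ 20)]
    simp
  have hdvd : ∀ N : Subgroup G, Nat.card N ∣ 60 := fun N => h ▸ Subgroup.card_subgroup_dvd_card N
  -- the fixed points of `P` on a normal subgroup of order prime to 3
  have hmod : ∀ N : Subgroup G, N.Normal → ¬ 3 ∣ Nat.card N → Nat.card N % 3 = 1 := by
    intro N hN hN3
    haveI := hN
    letI : MulAction (P : Subgroup G) N := MulAction.compHom N
      ((MulAut.conjNormal (H := N)).comp (P : Subgroup G).subtype)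
    have hfix : Nat.card (MulAction.fixedPoints (P : Subgroup G) N) = 1 := by
      rw [Nat.card_eq_one_iff_exists]
      refine ⟨⟨1, fun x => map_one ((MulAut.conjNormal (H := N)) (x : G))⟩, fun y => ?_⟩
      obtain ⟨y, hy⟩ := y
      refine Subtype.ext ?_
      haveI : Nontrivial (P : Subgroup G) := Finite.one_lt_card_iff_nontrivial.1 (by omega)
      obtain ⟨x, hx⟩ := exists_ne (1 : (P : Subgroup G))
      have ho : orderOf (x : G) = 3 := by
        rw [Subgroup.orderOf_coe]
        have := orderOf_dvd_natCard x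
        rw [hP] at this
        exact ((Nat.dvd_prime Nat.prime_three).1 this).resolve_left (by rwa [orderOf_eq_one_iff])
      have hc : Commute (x : G) (y : G) := by
        have h1 : (x : G) * (y : G) * (x : G)⁻¹ = (y : G) := by
          rw [← MulAut.conjNormal_apply]
          exact congrArg Subtype.val (hy x)
        exact mul_inv_eq_iff_eq_mul.1 h1
      have hy3 : y ^ 3 = 1 := Subtype.ext (by simpa using hC _ _ ho hc)
      have h1 := orderOf_dvd_of_pow_eq_one hy3
      refine (orderOf_eq_one_iff.1 ?_)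
      refine ((Nat.dvd_prime Nat.prime_three).1 h1).resolve_right fun e => hN3 ?_
      exact e ▸ orderOf_dvd_natCard y
    have h2 := P.isPGroup'.card_modEq_card_fixedPoints N
    rw [hfix] at h2
    exact h2
  have hA : ∀ N : Subgroup G, N.Normal → 3 ∣ Nat.card N → Nat.card N = 30 ∨ Nat.card N = 60 := by
    intro N hN hN3
    haveI := hN
    obtain ⟨R⟩ : Nonempty (Sylow 3 N) := inferInstance
    -- every Sylow 3-subgroup lies in `N`
    have hle : ∀ S : Sylow 3 G, (S : Subgroup G) ≤ N := by
      intro S
      obtain ⟨z, hz⟩ := exists_prime_orderOf_dvd_card' 3 hN3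
      have hzp : IsPGroup 3 (Subgroup.zpowers (z : G)) :=
        IsPGroup.of_card (n := 1) (by rw [Nat.card_zpowers, Subgroup.orderOf_coe, hz, pow_one])
      obtain ⟨T, hT⟩ := hzp.exists_le_sylow
      have hTc : Nat.card (T : Subgroup G) = 3 := by rw [T.card_eq_multiplicity, ← P.card_eq_multiplicity, hP]
      have hTe : Subgroup.zpowers (z : G) = (T : Subgroup G) :=
        Subgroup.eq_of_le_of_card_ge hT (by rw [hTc, Nat.card_zpowers, Subgroup.orderOf_coe, hz])
      obtain ⟨g, hg⟩ := MulAction.exists_smul_eq G T S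
      rw [← hg, Sylow.coe_subgroup_smul, ← hTe]
      exact (Subgroup.pointwise_smul_le_pointwise_smul_iff.2 (Subgroup.zpowers_le.2 z.2)).trans
        (Subgroup.Normal.conj_smul_eq_self g N).le
    have h10 : 10 ∣ Nat.card N / 3 := by
      have e : Nat.card (Sylow 3 N) = 10 := by
        rw [← h3]
        refine (Nat.card_congr (Equiv.ofBijective (fun S : Sylow 3 G => S.subtype (hle S))
          ⟨fun S T e => Sylow.subtype_injective e, fun S => ?_⟩)).symm
        obtain ⟨T, hT⟩ := (S.isPGroup'.map N.subtype).exists_le_sylow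
        refine ⟨T, Sylow.ext (S.is_maximal' (T.subtype (hle T)).isPGroup' fun x hx => ?_)⟩
        exact hT (Subgroup.mem_map_of_mem N.subtype hx)
      have hR : Nat.card (R : Subgroup N) = 3 := by
        obtain ⟨k, hk⟩ := IsPGroup.iff_card.1 R.isPGroup'
        have h1 := R.card_eq_multiplicity
        have hd := hdvd N
        have hR3 : 3 ∣ Nat.card (R : Subgroup N) := R.dvd_card_of_dvd_card hN3
        have hR60 : Nat.card (R : Subgroup N) ∣ 60 := (Subgroup.card_subgroup_dvd_card _).trans hd
        rcases k with _ | _ | k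
        · rw [hk] at hR3; norm_num at hR3
        · simpa using hk
        · rw [hk] at hR60
          exact absurd ((pow_dvd_pow 3 (show 2 ≤ k + 1 + 1 by omega)).trans hR60) (by norm_num)
      have hi := (R : Subgroup N).index_mul_card
      rw [hR] at hi
      rw [← hi, Nat.mul_div_cancel _ (by norm_num), ← e]
      exact R.card_dvd_index
    have hd := hdvd N
    have hle := Nat.le_of_dvd (by norm_num) hd
    have hpos : 0 < Nat.card N := Nat.card_pos
    interval_cases Nat.card N <;> omega
  have hB : ∀ Q : Subgroup G, Q.Normal → Nat.card Q ≠ 5 := fun Q hQ e => by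
    have := hmod Q hQ (by rw [e]; norm_num)
    omega
  -- groups of order 10 or 30 have a normal Sylow 5-subgroup
  have hsyl5 : ∀ N : Subgroup G, N.Normal → Nat.card N = 10 ∨ Nat.card N = 30 → False := by
    intro N hN hc
    haveI := hN
    obtain ⟨Q⟩ : Nonempty (Sylow 5 N) := inferInstance
    have hQ : Nat.card (Q : Subgroup N) = 5 := by
      rw [Q.card_eq_multiplicity]
      rcases hc with e | e <;> rw [e]
      · rw [show 10 = 5 ^ 1 * 2 by norm_num, Nat.factorization_mul (by norm_num) (by norm_num),
          Finsupp.add_apply, Nat.Prime.factorization_pow (by norm_num),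
          Nat.factorization_eq_zero_of_not_dvd (by norm_num : ¬ 5 ∣ 2)]
        simp
      · rw [show 30 = 5 ^ 1 * 6 by norm_num, Nat.factorization_mul (by norm_num) (by norm_num),
          Finsupp.add_apply, Nat.Prime.factorization_pow (by norm_num),
          Nat.factorization_eq_zero_of_not_dvd (by norm_num : ¬ 5 ∣ 6)]
        simp
    have hn : Nat.card (Sylow 5 N) = 1 := by
      have hi := (Q : Subgroup N).index_mul_card
      rw [hQ] at hi
      have hd := Q.card_dvd_index
      have hm : Nat.card (Sylow 5 N) % 5 = 1 := card_sylow_modEq_one 5 N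
      rcases hc with e | e
      · have : Nat.card (Sylow 5 N) ≤ 2 := Nat.le_of_dvd (by omega) (by
          rwa [show (Q : Subgroup N).index = 2 by omega] at hd)
        omega
      · rw [show (Q : Subgroup N).index = 6 by omega] at hd
        have hle := Nat.le_of_dvd (by norm_num) hd
        by_contra h1
        have h6 : Nat.card (Sylow 5 N) = 6 := by omega
        -- then the elements of order 5 fill all but six places
        have hno : ∀ S : Sylow 3 G, (S : Subgroup G) ≤ N := by
          intro S
          obtain ⟨z, hz⟩ := exists_prime_orderOf_dvd_card' 3 (show 3 ∣ Nat.card N by rw [e]; norm_num)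
          have hzp : IsPGroup 3 (Subgroup.zpowers (z : G)) :=
            IsPGroup.of_card (n := 1) (by rw [Nat.card_zpowers, Subgroup.orderOf_coe, hz, pow_one])
          obtain ⟨T, hT⟩ := hzp.exists_le_sylow
          have hTc : Nat.card (T : Subgroup G) = 3 := by rw [T.card_eq_multiplicity, ← P.card_eq_multiplicity, hP]
          have hTe : Subgroup.zpowers (z : G) = (T : Subgroup G) :=
            Subgroup.eq_of_le_of_card_ge hT (by rw [hTc, Nat.card_zpowers, Subgroup.orderOf_coe, hz])
          obtain ⟨g, hg⟩ := MulAction.exists_smul_eq G T S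
          rw [← hg, Sylow.coe_subgroup_smul, ← hTe]
          exact (Subgroup.pointwise_smul_le_pointwise_smul_iff.2 (Subgroup.zpowers_le.2 z.2)).trans
            (Subgroup.Normal.conj_smul_eq_self g N).le
        classical
        haveI := Fintype.ofFinite N
        haveI := Fintype.ofFinite (Sylow 5 N)
        haveI := Fintype.ofFinite (Sylow 3 G)
        let A : Finset N := Finset.univ.filter fun x => orderOf x = 5
        let B : Finset N := Finset.univ.filter fun x => orderOf x = 3
        have hA24 : 24 ≤ A.card := by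
          have hsub : (Finset.univ : Finset (Sylow 5 N)).biUnion
              (fun S => Finset.univ.filter fun x => x ∈ S ∧ x ≠ 1) ⊆ A := by
            intro x hx
            simp only [Finset.mem_biUnion, Finset.mem_filter, Finset.mem_univ, true_and] at hx
            obtain ⟨S, hxS, hx1⟩ := hx
            simp only [A, Finset.mem_filter, Finset.mem_univ, true_and]
            have h := orderOf_dvd_natCard (⟨x, hxS⟩ : (S : Subgroup N))
            rw [Subgroup.orderOf_mk, S.card_eq_multiplicity, ← Q.card_eq_multiplicity, hQ] at h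
            exact ((Nat.dvd_prime (by norm_num)).1 h).resolve_left (by rwa [orderOf_eq_one_iff])
          refine le_trans ?_ (Finset.card_le_card hsub)
          rw [Finset.card_biUnion, Finset.sum_congr rfl (fun S _ => show _ = 4 from ?_), Finset.sum_const,
            Finset.card_univ, ← Nat.card_eq_fintype_card, h6]
          · norm_num
          · have hS : Nat.card (S : Subgroup N) = 5 := by
              rw [S.card_eq_multiplicity, ← Q.card_eq_multiplicity, hQ]
            rw [show (Finset.univ.filter fun x => x ∈ S ∧ x ≠ 1) =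
              (Finset.univ.filter fun x => x ∈ S).erase 1 by ext x; simp [and_comm],
              Finset.card_erase_of_mem (by simp [one_mem (S : Subgroup N)]), ← Fintype.card_subtype,
              ← Nat.card_eq_fintype_card]
            change Nat.card (S : Subgroup N) - 1 = 4
            omega
          · intro S _ T _ hne
            refine Finset.disjoint_left.2 fun x hxS hxT => hne (Sylow.ext ?_)
            simp only [Finset.mem_filter, Finset.mem_univ, true_and] at hxS hxT
            have hS : ∀ U : Sylow 5 N, x ∈ U → Subgroup.zpowers x = (U : Subgroup N) := fun U hU => by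
              refine Subgroup.eq_of_le_of_card_ge (Subgroup.zpowers_le.2 hU) ?_
              rw [U.card_eq_multiplicity, ← Q.card_eq_multiplicity, hQ, Nat.card_zpowers]
              have h := orderOf_dvd_natCard (⟨x, hU⟩ : (U : Subgroup N))
              rw [Subgroup.orderOf_mk, U.card_eq_multiplicity, ← Q.card_eq_multiplicity, hQ] at h
              exact (((Nat.dvd_prime (by norm_num)).1 h).resolve_left
                (by rw [orderOf_eq_one_iff]; exact hxS.2)).ge
            rw [← hS S hxS.1, ← hS T hxT.1]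
        have hB10 : 10 ≤ B.card := by
          haveI : Nontrivial (P : Subgroup G) := Finite.one_lt_card_iff_nontrivial.1 (by omega)
          have hex : ∀ S : Sylow 3 G, ∃ x : N, orderOf x = 3 ∧ Subgroup.zpowers (x : G) = S := by
            intro S
            have hS : Nat.card (S : Subgroup G) = 3 := by rw [S.card_eq_multiplicity, ← P.card_eq_multiplicity, hP]
            obtain ⟨⟨y, hy⟩, hyo⟩ := exists_prime_orderOf_dvd_card' 3 (dvd_of_eq hS.symm)
            rw [Subgroup.orderOf_mk] at hyo
            refine ⟨⟨y, hno S hy⟩, by rwa [Subgroup.orderOf_mk], ?_⟩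
            exact Subgroup.eq_of_le_of_card_ge (Subgroup.zpowers_le.2 hy) (by rw [hS, Nat.card_zpowers, hyo])
          choose f hf hf' using hex
          rw [← h3, Nat.card_eq_fintype_card, ← Finset.card_univ]
          refine Finset.card_le_card_of_injOn f (fun S _ => by simp [B, hf S]) ?_
          intro S _ T _ e
          exact Sylow.ext (by rw [← hf' S, ← hf' T, e])
        have hAB : Disjoint A B := Finset.disjoint_left.2 fun x hx hx' => by
          simp only [A, B, Finset.mem_filter] at hx hx'
          omega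
        have := Finset.card_le_univ (A ∪ B)
        rw [Finset.card_union_of_disjoint hAB, ← Nat.card_eq_fintype_card, e] at this
        omega
    haveI : Subsingleton (Sylow 5 N) := Finite.card_le_one_iff_subsingleton.1 hn.le
    haveI : (Q : Subgroup N).Normal := Q.normal_of_subsingleton
    haveI : (Q : Subgroup N).Characteristic := Q.characteristic_of_normal inferInstance
    have hQG : ((Q : Subgroup N).map N.subtype).Normal := ConjAct.normal_of_characteristic_of_normal
    exact hB _ hQG (by rw [Nat.card_congr (Subgroup.equivMapOfInjective _ _ N.subtype_injective).toEquiv.symm, hQ])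
  refine ⟨fun N hN => ?_⟩
  haveI := hN
  by_cases h3N : 3 ∣ Nat.card N
  · rcases hA N hN h3N with e | e
    · exact (hsyl5 N hN (Or.inr e)).elim
    · exact Or.inr (Subgroup.eq_top_of_card_eq _ (by rw [e, h]))
  · have hd := hdvd N
    have hm := hmod N hN h3N
    have hle := Nat.le_of_dvd (by norm_num) hd
    have hpos : 0 < Nat.card N := Nat.card_pos
    rcases (show Nat.card N = 1 ∨ Nat.card N = 4 ∨ Nat.card N = 10 by
      interval_cases Nat.card N <;> omega) with e | e | e
    · exact Or.inl (Subgroup.card_eq_one.1 e)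
    · exfalso
      have hq : Nat.card (G ⧸ N) = 15 := by
        have := Subgroup.card_eq_card_quotient_mul_card_subgroup N
        rw [h, e] at this
        omega
      obtain ⟨S⟩ : Nonempty (Sylow 3 (G ⧸ N)) := inferInstance
      have hS : Nat.card (S : Subgroup (G ⧸ N)) = 3 := by
        rw [S.card_eq_multiplicity, hq, show 15 = 3 ^ 1 * 5 by norm_num,
          Nat.factorization_mul (by norm_num) (by norm_num), Finsupp.add_apply,
          Nat.Prime.factorization_pow (by norm_num),
          Nat.factorization_eq_zero_of_not_dvd (by norm_num : ¬ 3 ∣ 5)]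
        simp
      have hi := (S : Subgroup (G ⧸ N)).index_mul_card
      rw [hS, hq] at hi
      have hd' := S.card_dvd_index
      have hm' : Nat.card (Sylow 3 (G ⧸ N)) % 3 = 1 := card_sylow_modEq_one 3 (G ⧸ N)
      rw [show (S : Subgroup (G ⧸ N)).index = 5 by omega] at hd'
      have hle' := Nat.le_of_dvd (by norm_num) hd'
      have hn : Nat.card (Sylow 3 (G ⧸ N)) = 1 := by interval_cases Nat.card (Sylow 3 (G ⧸ N)) <;> omega
      haveI : Subsingleton (Sylow 3 (G ⧸ N)) := Finite.card_le_one_iff_subsingleton.1 hn.le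
      haveI : (S : Subgroup (G ⧸ N)).Normal := S.normal_of_subsingleton
      have hc := ((S : Subgroup (G ⧸ N)).comap (QuotientGroup.mk' N)).index_mul_card
      rw [Subgroup.index_comap_of_surjective _ (QuotientGroup.mk'_surjective N), show (S : Subgroup (G ⧸ N)).index = 5 by omega, h] at hc
      have := hA ((S : Subgroup (G ⧸ N)).comap (QuotientGroup.mk' N)) (Subgroup.normal_comap _)
        (by rw [show Nat.card ((S : Subgroup (G ⧸ N)).comap (QuotientGroup.mk' N)) = 12 by omega]; norm_num)
      omega
    · exact (hsyl5 N hN (Or.inl e)).elim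

end Sixty

variable {F : Type*} [Field F]

local notation "SL" => Matrix.SpecialLinearGroup (Fin 2) F
local notation "PSL" => Matrix.ProjectiveSpecialLinearGroup (Fin 2) F

theorem map_equiv_iso (H : Subgroup SL) (φ : SL ≃* SL) :
    Nonempty ((H.map φ.toMonoidHom).map toPSL ≃* H.map toPSL) := by
  let ψ : PSL ≃* PSL := QuotientGroup.congr (Subgroup.center SL) (Subgroup.center SL) φ
    (Subgroup.characteristic_iff_map_eq.1 inferInstance φ)
  have e : (H.map φ.toMonoidHom).map toPSL = (H.map toPSL).map ψ.toMonoidHom := by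
    rw [Subgroup.map_map, Subgroup.map_map]
    rfl
  exact ⟨(MulEquiv.subgroupCongr e).trans (ψ.subgroupMap (H.map toPSL)).symm⟩

variable [Fintype F] (p : ℕ) [Fact p.Prime] [CharP F p]

/-- A subgroup of order divisible by `p` is in a Borel subgroup, or has opposite root elements. -/
theorem normal_form (H : Subgroup PSL) (hp : p ∣ Nat.card H) :
    (∃ g : PSL, H.map (MulAut.conj g).toMonoidHom ≤ borelP F) ∨
      ∃ (H3 : Subgroup SL) (c : F), c ≠ 0 ∧ uel 1 ∈ H3 ∧ lel c ∈ H3 ∧ (-1 : SL) ∈ H3 ∧
        Nonempty (H3.map toPSL ≃* H) := by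
  obtain ⟨c, b, hb0, hb⟩ := exists_conj_uel p H hp
  rcases borel_or_pair _ hb hb0 with h | ⟨t, d, hd, hu, hl⟩
  · exact Or.inl ⟨_, h⟩
  right
  set H1 := H.map (MulAut.conj (toPSL c)).toMonoidHom
  set H2 := (pre H1).map (MulAut.conj (uel t)).toMonoidHom
  let g : GL (Fin 2) F := Matrix.GeneralLinearGroup.mkOfDetNeZero !![b⁻¹, 0; 0, 1] (by
    simp [Matrix.det_fin_two, hb0])
  let θ : SL ≃* SL := MulEquiv.ofBijective (conjGL g) (Finite.injective_iff_bijective.1 (conjGL_injective g))
  have hneg : (-1 : SL) ∈ H2 := by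
    refine ⟨-1, ?_, by simp⟩
    show toPSL (-1 : SL) ∈ H1
    rw [toPSL_eq_one_iff.2 (Or.inr rfl)]
    exact one_mem _
  refine ⟨H2.map θ.toMonoidHom, d * b, mul_ne_zero hd hb0, ⟨uel b, hu, ?_⟩, ⟨lel d, hl, ?_⟩,
    ⟨-1, hneg, ?_⟩, ?_⟩
  · apply Subtype.ext
    change g.1 * (uel b).1 * (↑g⁻¹ : Matrix (Fin 2) (Fin 2) F) = (uel 1).1
    rw [Units.mul_inv_eq_iff_eq_mul]
    ext i j
    fin_cases i <;> fin_cases j <;> simp [g, uel, Matrix.mul_apply, Fin.sum_univ_two, hb0]
  · apply Subtype.ext
    change g.1 * (lel d).1 * (↑g⁻¹ : Matrix (Fin 2) (Fin 2) F) = (lel (d * b)).1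
    rw [Units.mul_inv_eq_iff_eq_mul]
    ext i j
    fin_cases i <;> fin_cases j <;> simp [g, lel, Matrix.mul_apply, Fin.sum_univ_two, hb0]
  · apply Subtype.ext
    change g.1 * (-1 : SL).1 * (↑g⁻¹ : Matrix (Fin 2) (Fin 2) F) = (-1 : SL).1
    rw [Units.mul_inv_eq_iff_eq_mul]
    simp
  · obtain ⟨e1⟩ := map_equiv_iso H2 θ
    obtain ⟨e2⟩ := map_equiv_iso (pre H1) (MulAut.conj (uel t))
    exact ⟨e1.trans (e2.trans ((MulEquiv.subgroupCongr
      (Subgroup.map_comap_eq_self_of_surjective toPSL_surjective H1)).trans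
      (Subgroup.equivMapOfInjective H _ (MulAut.conj (toPSL c)).injective).symm))⟩

/-- The centraliser of a non-trivial `p`-element is a `p`-group. -/
theorem pow_p_of_commute (h2 : p ≠ 2) {x y : PSL} (hx : orderOf x = p) (hc : Commute x y) : y ^ p = 1 := by
  obtain ⟨c, b, hb0, ⟨x', hx', hxe⟩⟩ := exists_conj_uel (F := F) p (Subgroup.zpowers x)
    (by rw [Nat.card_zpowers, hx])
  set φ := MulAut.conj (toPSL c)
  have hcx : Commute x' y := by
    obtain ⟨k, rfl⟩ := hx'
    exact hc.zpow_left k
  have hcy := hcx.map φ.toMonoidHom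
  rw [hxe] at hcy
  refine φ.injective ?_
  rw [map_pow, map_one]
  change φ.toMonoidHom y ^ p = 1
  obtain ⟨h, hh⟩ := toPSL_surjective (φ.toMonoidHom y)
  rw [← hh] at hcy ⊢
  have e : toPSL (uel b * h) = toPSL (h * uel b) := by rw [map_mul, map_mul]; exact hcy
  have htwo : (2 : F) ≠ 0 := two_ne_zero' h2
  have hd := det_eq h
  rcases toPSL_eq_iff.1 e with e | e
  · have e00 := congrArg (fun g : SL => g 0 0) e
    have e01 := congrArg (fun g : SL => g 0 1) e
    simp [mul_apply2] at e00 e01
    have h10 : h.1 1 0 = 0 := by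
      rcases e00 with e' | e'
      · exact absurd e' hb0
      · exact e'
    rw [h10, mul_zero, sub_zero] at hd
    have h11 : h.1 1 1 = h.1 0 0 := mul_left_cancel₀ hb0 (by linear_combination e01)
    have hs : h.1 0 0 * h.1 0 0 = 1 := by rw [h11] at hd; exact hd
    rcases mul_self_eq_one_iff.1 hs with a | a
    · have : h = uel (h.1 0 1) := by apply ext2 <;> simp [h10, h11, a]
      rw [this, ← map_pow, uel_pow, CharP.cast_eq_zero F p, zero_mul, uel_zero, map_one]
    · have : h = -uel (-(h.1 0 1)) := by apply ext2 <;> simp [h10, h11, a]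
      have hneg : toPSL h = toPSL (uel (-(h.1 0 1))) := toPSL_eq_iff.2 (Or.inr this)
      rw [hneg, ← map_pow, uel_pow, CharP.cast_eq_zero F p, zero_mul, uel_zero, map_one]
  · exfalso
    have e10 := congrArg (fun g : SL => g 1 0) e
    have e00 := congrArg (fun g : SL => g 0 0) e
    simp [mul_apply2, Matrix.mul_apply, Fin.sum_univ_two] at e10 e00
    have h10 : h.1 1 0 = 0 := mul_left_cancel₀ htwo (by linear_combination e10)
    have h00 : h.1 0 0 = 0 := mul_left_cancel₀ htwo (by linear_combination e00 - b * h10)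
    rw [h10, h00] at hd
    simp at hd

/-- A finite subfield as the image of a Galois field. -/
theorem exists_galois_hom (K : Subfield F) :
    ∃ (j : ℕ) (ι : GaloisField p j →+* F), ι.fieldRange = K := by
  haveI : Fintype K := Fintype.ofFinite K
  haveI : CharP K p := charP_of_injective_ringHom K.subtype.injective p |> fun h => by exact inferInstance
  obtain ⟨j, hp', hj⟩ := FiniteField.card K p
  haveI := Fintype.ofFinite (GaloisField p j)
  let e : GaloisField p j ≃+* K := FiniteField.ringEquivOfCardEq (hKK' := by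
    rw [hj, ← Nat.card_eq_fintype_card, GaloisField.card p j j.ne_zero])
  refine ⟨j, K.subtype.comp e.toRingHom, ?_⟩
  ext x
  constructor
  · rintro ⟨y, rfl⟩; exact (e y).2
  · intro hx; exact ⟨e.symm ⟨x, hx⟩, by simp⟩

theorem isStd_of_subfield {K : Subfield F} {H : Subgroup SL} (h1 : ∀ x : F, uel x ∈ H ↔ x ∈ K)
    (h2 : ∀ x : F, lel x ∈ H ↔ x ∈ K) (h3 : ∀ g ∈ H, g 1 0 = 0 ∨ g 0 0 / g 1 0 ∈ K)
    {j : ℕ} {ι : GaloisField p j →+* F} (hι : ι.fieldRange = K) : PSL2Std.IsStd ι H := by
  subst hι
  exact ⟨fun x => (h1 _).2 ⟨x, rfl⟩, fun x => (h2 _).2 ⟨x, rfl⟩, fun x hx => (h1 x).1 hx, h3⟩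

/-- The exceptional subgroup in characteristic 3. -/
theorem alt_five (hp3 : p = 3) {H : Subgroup SL} {c : H} (hc : (c : SL) = -1) (hg : Nat.card H = 120)
    (hN : Nat.card (Sylow p H) = 10) :
    Nonempty (H.map toPSL ≃* alternatingGroup (Fin 5)) := by
  subst hp3
  have hp : (3 : ℕ) ≠ 2 := by norm_num
  have hS : 1 < Nat.card (Sylow 3 H) := by omega
  set G := H.map toPSL
  let f : H →* G := toPSL.subgroupMap H
  have hf : Function.Surjective f := toPSL.subgroupMap_surjective H
  obtain ⟨hc1, -, hco⟩ := negOne_props hp hc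
  have hker : f.ker = Subgroup.zpowers c := by
    refine le_antisymm (fun x hx => ?_) (Subgroup.zpowers_le.2 (MonoidHom.mem_ker.2 (Subtype.ext ?_)))
    · rcases toPSL_eq_one_iff.1 (congrArg Subtype.val (MonoidHom.mem_ker.1 hx)) with e | e
      · rw [show x = 1 from Subtype.ext e]; exact one_mem _
      · rw [show x = c from Subtype.ext (e.trans hc.symm)]; exact Subgroup.mem_zpowers c
    · exact toPSL_eq_one_iff.2 (Or.inr hc)
  have hG : Nat.card G = 60 := by
    have := f.ker.index_mul_card
    rw [Subgroup.index_ker, MonoidHom.range_eq_top.2 hf, Subgroup.card_top, hker, Nat.card_zpowers, hco, hg] at this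
    omega
  have hC : ∀ x y : G, orderOf x = 3 → Commute x y → y ^ 3 = 1 := fun x y hx hxy =>
    Subtype.ext (pow_p_of_commute (F := F) 3 hp (by rwa [Subgroup.orderOf_coe]) (congrArg Subtype.val hxy.eq))
  have hsyl : Nat.card (Sylow 3 G) = 10 := by
    have hinj : Function.Injective fun P : Sylow 3 H => P.mapSurjective hf := by
      intro P Q e
      obtain ⟨x, hx, hx1⟩ := exists_mem_ne_one hS P
      have hxm : f x ∈ Q.mapSurjective hf := by
        rw [← show P.mapSurjective hf = Q.mapSurjective hf from e]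
        exact Subgroup.mem_map_of_mem f hx
      obtain ⟨y, hy, hyx⟩ := hxm
      have hy' : x = y := by
        rcases toPSL_eq_iff.1 (congrArg Subtype.val hyx).symm with e' | e'
        · exact Subtype.ext e'
        · exfalso
          have := congrArg tr e'
          rw [tr_neg, tr_of_mem_sylow P hx, tr_of_mem_sylow Q hy] at this
          exact two_ne_zero' (F := F) hp (mul_left_cancel₀ (two_ne_zero' (F := F) hp) (by linear_combination this))
      exact eq_of_mem hp hx (hy' ▸ hy) hx1
    have h10 : 10 ≤ Nat.card (Sylow 3 G) := hN ▸ Nat.card_le_card_of_injective _ hinj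
    obtain ⟨P⟩ : Nonempty (Sylow 3 G) := inferInstance
    have hP : Nat.card (P : Subgroup G) = 3 := by
      rw [P.card_eq_multiplicity, hG, show 60 = 3 ^ 1 * 20 by norm_num,
        Nat.factorization_mul (by norm_num) (by norm_num), Finsupp.add_apply,
        Nat.Prime.factorization_pow (by norm_num),
        Nat.factorization_eq_zero_of_not_dvd (by norm_num : ¬ 3 ∣ 20)]
      simp
    have hi := (P : Subgroup G).index_mul_card
    rw [hP, hG] at hi
    have hd := P.card_dvd_index
    rw [show (P : Subgroup G).index = 20 by omega] at hd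
    have hm : Nat.card (Sylow 3 G) % 3 = 1 := card_sylow_modEq_one 3 G
    have hle := Nat.le_of_dvd (by norm_num) hd
    interval_cases Nat.card (Sylow 3 G) <;> omega
  haveI := simple_sixty hG hsyl hC
  exact Cfsg.Agent.S0494.result hG

/-- Dickson's list. -/
theorem dickson (H : Subgroup PSL) :
    (∃ k : ℕ, (k ∣ (Fintype.card F + 1) / Nat.gcd 2 (Fintype.card F - 1) ∨
        k ∣ (Fintype.card F - 1) / Nat.gcd 2 (Fintype.card F - 1)) ∧
      ((IsCyclic H ∧ Nat.card H = k) ∨ (2 ≤ k ∧ Nat.card H = 2 * k ∧ Nonempty (H ≃* DihedralGroup k)))) ∨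
    (∃ g : PSL, H.map (MulAut.conj g).toMonoidHom ≤ borelP F) ∨
    (Nonempty (H ≃* alternatingGroup (Fin 4)) ∨ Nonempty (H ≃* Equiv.Perm (Fin 4)) ∨
      Nonempty (H ≃* alternatingGroup (Fin 5))) ∨
    (∃ (j : ℕ) (ι : GaloisField p j →+* F),
      Nonempty (H ≃* Matrix.ProjectiveSpecialLinearGroup (Fin 2) (GaloisField p j)) ∨
        (Nonempty (H ≃* Matrix.ProjGenLinGroup (Fin 2) (GaloisField p j)) ∧
          ∃ c : F, c ∉ ι.fieldRange ∧ c * c ∈ ι.fieldRange)) := by
  classical
  by_cases hpH : p ∣ Nat.card H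
  swap
  · rcases PSL2PrimeTo.classification p H hpH with h | h
    · exact Or.inl h
    · exact Or.inr (Or.inr (Or.inl h))
  rcases normal_form p H hpH with h | ⟨H3, c, hc0, hu, hl, hneg, ⟨E⟩⟩
  · exact Or.inr (Or.inl h)
  have fin : ∀ K : Subfield F, (∀ x : F, uel x ∈ H3 ↔ x ∈ K) → (∀ x : F, lel x ∈ H3 ↔ x ∈ K) →
      (∀ g ∈ H3, g 1 0 = 0 ∨ g 0 0 / g 1 0 ∈ K) → ∃ (j : ℕ) (ι : GaloisField p j →+* F),
      Nonempty (H ≃* Matrix.ProjectiveSpecialLinearGroup (Fin 2) (GaloisField p j)) ∨
        (Nonempty (H ≃* Matrix.ProjGenLinGroup (Fin 2) (GaloisField p j)) ∧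
          ∃ c : F, c ∉ ι.fieldRange ∧ c * c ∈ ι.fieldRange) := fun K h1 h2 h3 => by
    obtain ⟨j, ι, hι⟩ := exists_galois_hom p K
    refine ⟨j, ι, ?_⟩
    exact (PSL2Std.iso (isStd_of_subfield p h1 h2 h3 hι)).imp (fun h => h.map E.symm.trans)
      (fun h => ⟨h.1.map E.symm.trans, h.2⟩)
  by_cases h2 : p = 2
  · subst h2
    rcases SL2Even.main hu hc0 hl with ⟨K, h1, h2, h3⟩ | ⟨m, C, hm, hcard, hCc, hC, hodd, ⟨e⟩⟩
    · exact Or.inr (Or.inr (Or.inr (fin K h1 h2 h3)))
    · have e0 : H3 ≃* H3.map toPSL :=
        Subgroup.equivMapOfInjective H3 toPSL fun a b hab => SL2Even.toPSL_inj hab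
      let e1 : H3 ≃* H := e0.trans E
      obtain ⟨g, hg⟩ := hCc.exists_generator
      have ho : orderOf ((e1 (g : H3) : H) : PSL) = m := by
        rw [Subgroup.orderOf_coe, e1.orderOf_eq, Subgroup.orderOf_coe, orderOf_eq_card_of_forall_mem_zpowers hg, hC]
      refine Or.inl ⟨m, ?_, Or.inr ⟨hm, by rw [← Nat.card_congr e1.toEquiv, hcard], ⟨e1.symm.trans e⟩⟩⟩
      rcases PSL2Classes.orderOf_dvd 2 ((e1 (g : H3) : H) : PSL) with h | h | h <;> rw [ho] at h
      · rcases (Nat.dvd_prime Nat.prime_two).1 h with e | e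
        · omega
        · exact absurd ⟨1, e⟩ hodd
      · exact Or.inr h
      · exact Or.inl h
  -- odd characteristic
  let ub : H3 := ⟨uel 1, hu⟩
  let lc : H3 := ⟨lel c, hl⟩
  obtain ⟨P, hP⟩ := exists_sylow_mem (p := p) (x := ub) (by simp [ub, tr]; norm_num)
  obtain ⟨Q, hQ⟩ := exists_sylow_mem (p := p) (x := lc) (by simp [lc, tr]; norm_num)
  have hmP := mem_P_iff h2 one_ne_zero (ub := ub) rfl hP
  have hne : Q ≠ P := by
    rintro rfl
    exact hc0 (by simpa [lc] using ((hmP lc).mp hQ).1)
  have hS : 1 < Nat.card (Sylow p H3) := by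
    haveI : Nontrivial (Sylow p H3) := ⟨⟨_, _, hne⟩⟩
    exact Finite.one_lt_card
  rcases card_sylow_cases h2 hS one_ne_zero (ub := ub) rfl hP with hN | ⟨hp3, -, hg, hN, -⟩
  · obtain ⟨K, hK1, hK2, -⟩ := SL2Subfield.exists_subfield h2 one_ne_zero hc0 (ub := ub) (lc := lc) rfl rfl hP hQ hN
    simp only [div_one] at hK1
    simp only [mul_one] at hK2
    refine Or.inr (Or.inr (Or.inr (fin K hK1 hK2 fun g hg => ?_)))
    by_cases h10 : g 1 0 = 0
    · exact Or.inl h10
    right
    let x : H3 := ⟨g, hg⟩
    have hxP : x • P ≠ P := fun e => by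
      have hn : x ∈ Subgroup.normalizer ((P : Subgroup H3) : Set H3) := Sylow.smul_eq_iff_mem_normalizer.mp e
      rw [← borel_eq_normalizer h2 one_ne_zero (ub := ub) rfl hP] at hn
      exact h10 (mem_borel.mp hn)
    obtain ⟨u, hu', hue⟩ := transitive_of_card h2 hN hne hxP
    have hz : u⁻¹ * (x * ub * x⁻¹) * u ∈ Q := by
      rw [← mem_smul_iff, hue]
      exact conj_mem_smul x hP
    have hcomm := comm_of_mem h2 hQ hz
    have e00 := congrArg (fun g : SL => g 0 0) hcomm
    have hu1 := (hmP u).mp hu'
    have hu11 : (u : SL) 1 1 = 1 := by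
      have := det_eq (u : SL)
      rw [hu1.1, hu1.2] at this
      linear_combination this
    set y := (u : SL) 0 1
    have hyK : y ∈ K := by
      refine (hK1 y).1 ?_
      have : (uel y : SL) = (u : SL) := by apply ext2 <;> simp [hu1.1, hu1.2, hu11, y]
      rw [this]; exact u.2
    have hd := det_eq g
    have key : c * ((g 0 0 - y * g 1 0) * (g 0 0 - y * g 1 0)) = 0 := by
      simp [lc, ub, x, mul_apply2, hu1.1, hu1.2, hu11] at e00
      show c * (((g : SL) 0 0 - (u : SL) 0 1 * (g : SL) 1 0) * ((g : SL) 0 0 - (u : SL) 0 1 * (g : SL) 1 0)) = 0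
      linear_combination c * e00.resolve_right hc0
    have hgy := sub_eq_zero.mp (mul_self_eq_zero.mp ((mul_eq_zero.mp key).resolve_left hc0))
    rwa [hgy, mul_div_cancel_right₀ _ h10]
  · obtain ⟨e⟩ := alt_five p hp3 (c := ⟨-1, hneg⟩) rfl hg hN
    exact Or.inr (Or.inr (Or.inl (Or.inr (Or.inr ⟨E.symm.trans e⟩))))

end Cfsg.Agent.Linear.PSL2Dickson
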