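import Cfsg.Agent.Linear.Card

/-! # `PGL_n / PSL_n` is cyclic of order `gcd(n, q-1)` -/

namespace Cfsg.Agent.Linear

open Matrix

variable {F : Type*} [Field F] [Fintype F]

theorem exists_PGL_quotient (n : ℕ) [NeZero n] :
    ∃ g : ProjGenLinGroup (Fin n) F →* Multiplicative (ZMod (Nat.gcd n (Fintype.card F - 1))),
      Function.Surjective g ∧
        g.ker = (ProjectiveSpecialLinearGroup.toPGL :
          ProjectiveSpecialLinearGroup (Fin n) F →* ProjGenLinGroup (Fin n) F).range := by
  let R : Subgroup Fˣ := (powMonoidHom n).range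
  have hcard : Nat.card (Multiplicative (ZMod (Nat.gcd n (Fintype.card F - 1))))
      = Nat.card (Fˣ ⧸ R) := by
    rw [Nat.card_congr Multiplicative.toAdd, Nat.card_zmod, ← Subgroup.index_eq_card,
      IsCyclic.index_powMonoidHom_range, Nat.card_units, Nat.card_eq_fintype_card, Nat.gcd_comm]
  have : IsCyclic (Fˣ ⧸ R) := isCyclic_of_surjective _ (QuotientGroup.mk'_surjective R)
  let e : Fˣ ⧸ R ≃* Multiplicative (ZMod (Nat.gcd n (Fintype.card F - 1))) :=
    mulEquivOfCyclicCardEq hcard.symm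
  have hdet : ∀ u : Fˣ, GeneralLinearGroup.det (GeneralLinearGroup.scalar (Fin n) u) = u ^ n := by
    intro u
    ext
    simp [GeneralLinearGroup.coe_scalar, det_diagonal]
  let φ : GL (Fin n) F →* Fˣ ⧸ R := (QuotientGroup.mk' R).comp GeneralLinearGroup.det
  have hφ : φ.comp (GeneralLinearGroup.scalar (Fin n)) = 1 := by
    ext u
    rw [MonoidHom.comp_apply, MonoidHom.comp_apply, hdet, MonoidHom.one_apply,
      QuotientGroup.mk'_apply, QuotientGroup.eq_one_iff]
    exact ⟨u, rfl⟩
  refine ⟨e.toMonoidHom.comp (ProjGenLinGroup.lift φ hφ), ?_, ?_⟩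
  · refine e.surjective.comp fun x => ?_
    obtain ⟨u, rfl⟩ := QuotientGroup.mk_surjective x
    obtain ⟨A, hA⟩ := GeneralLinearGroup.det_surjective (n := Fin n) u
    exact ⟨ProjGenLinGroup.mk A, by simp [φ, hA]⟩
  · ext x
    induction x using ProjGenLinGroup.induction_on with | mk A =>
    simp only [MonoidHom.mem_ker, MonoidHom.comp_apply, MulEquiv.coe_toMonoidHom,
      EmbeddingLike.map_eq_one_iff, ProjGenLinGroup.lift_mk, φ, QuotientGroup.mk'_apply,
      QuotientGroup.eq_one_iff, MonoidHom.mem_range]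
    constructor
    · rintro ⟨k, hk⟩
      have hd : GeneralLinearGroup.det (A * GeneralLinearGroup.scalar (Fin n) k⁻¹) = 1 := by
        rw [map_mul, hdet, ← hk]
        simp
      obtain ⟨t, ht⟩ : ∃ t : SpecialLinearGroup (Fin n) F,
          SpecialLinearGroup.toGL t = A * GeneralLinearGroup.scalar (Fin n) k⁻¹ :=
        ⟨⟨(A * GeneralLinearGroup.scalar (Fin n) k⁻¹).1, congrArg Units.val hd⟩, Units.ext rfl⟩
      refine ⟨QuotientGroup.mk t, ?_⟩
      refine (ProjectiveSpecialLinearGroup.toPGL_mk _).trans ?_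
      rw [ht]
      simp
    · rintro ⟨y, hy⟩
      obtain ⟨s, rfl⟩ := QuotientGroup.mk_surjective y
      rw [ProjectiveSpecialLinearGroup.toPGL_mk, ProjGenLinGroup.mk_eq_mk_iff] at hy
      obtain ⟨u, rfl⟩ := hy
      refine ⟨u, ?_⟩
      rw [map_mul, hdet, powMonoidHom_apply]
      have : GeneralLinearGroup.det (SpecialLinearGroup.toGL s) = 1 := Units.ext (by simp)
      rw [this, one_mul]

end Cfsg.Agent.Linear
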