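import Cfsg.Agent.Linear.PSL2Dickson
import Cfsg.Agent.Linear.Torus
import Cfsg.Agent.Linear.PSL2Subfield
import Cfsg.Agent.Linear.PSL2ClassSizes
import Cfsg.Agent.Linear.Quotient
import Cfsg.Agent.Linear.SLNormal
import Cfsg.Agent.Core.BurnsidePQ
import Cfsg.Agent.S0206
import Cfsg.Agent.S0804
import Cfsg.Prelude.Def_CaseTheorems
import Mathlib

/-!
# Consequences of Dickson's list
-/

set_option autoImplicit false
set_option linter.unusedSectionVars false

namespace Cfsg.Agent.Linear.PSL2Dickson

open Matrix Cfsg.Agent.Dickson Cfsg.Agent.Linear.PSL2Borel Cfsg.Agent.KnownA.GL2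

variable {F : Type*} [Field F] [Fintype F]

local notation "SL" => Matrix.SpecialLinearGroup (Fin 2) F
local notation "PSL" => Matrix.ProjectiveSpecialLinearGroup (Fin 2) F

theorem gcd_two_cases (q : ℕ) (hq : 1 ≤ q) :
    (q % 2 = 0 ∧ Nat.gcd 2 (q - 1) = 1) ∨ (q % 2 = 1 ∧ Nat.gcd 2 (q - 1) = 2) := by
  rcases Nat.mod_two_eq_zero_or_one q with h | h
  · refine Or.inl ⟨h, ?_⟩
    rw [Nat.gcd_comm]
    exact Nat.Coprime.symm (Nat.prime_two.coprime_iff_not_dvd.2 (by omega))
  · exact Or.inr ⟨h, Nat.gcd_eq_left (by omega)⟩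

/-- The degree of a subfield. -/
theorem exists_degree {K : Type*} [Field K] [Fintype K] (ι : K →+* F) :
    ∃ m : ℕ, 1 ≤ m ∧ Fintype.card K ^ m = Fintype.card F ∧ (m = 1 → ι.fieldRange = ⊤) := by
  letI := ι.toAlgebra
  haveI : FiniteDimensional K F := Module.Finite.of_finite
  have h := Module.card_eq_pow_finrank (K := K) (V := F)
  refine ⟨Module.finrank K F, Module.finrank_pos, h.symm, fun hm => ?_⟩
  rw [hm, pow_one] at h
  refine eq_top_iff.2 fun x _ => ?_
  exact ((Fintype.bijective_iff_injective_and_card ι).2 ⟨ι.injective, h.symm⟩).2 x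

/-- The orders of the elements of `PSL₂(K)` and `PGL₂(K)`. -/
theorem orderOf_psl_le {K : Type*} [Field K] [Fintype K] (y : Matrix.ProjectiveSpecialLinearGroup (Fin 2) K) :
    Nat.gcd 2 (Fintype.card K - 1) * orderOf y ≤
      if Fintype.card K % 2 = 0 then Fintype.card K + 1 else 2 * Fintype.card K := by
  obtain ⟨p, hchar⟩ := CharP.exists K
  obtain ⟨n, hp, hn⟩ := FiniteField.card K p
  haveI : Fact p.Prime := ⟨hp⟩
  have hpk : p ≤ Fintype.card K := hn ▸ Nat.le_self_pow n.pos.ne' p
  have hk : 2 ≤ Fintype.card K := Fintype.one_lt_card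
  have hy := PSL2Classes.orderOf_dvd p y
  rcases gcd_two_cases (Fintype.card K) (by omega) with ⟨h2, hd⟩ | ⟨h2, hd⟩ <;> rw [hd] at hy ⊢
  · rw [if_pos h2, one_mul]
    simp only [Nat.div_one] at hy
    rcases hy with h | h | h
    · have := Nat.le_of_dvd hp.pos h; omega
    · have := Nat.le_of_dvd (by omega) h; omega
    · have := Nat.le_of_dvd (by omega) h; omega
  · rw [if_neg (by omega)]
    rcases hy with h | h | h
    · have := Nat.le_of_dvd hp.pos h; omega
    · have := Nat.le_of_dvd (by omega) h; omega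
    · have := Nat.le_of_dvd (by omega) h; omega

theorem orderOf_pgl_le {K : Type*} [Field K] [Fintype K] (z : Matrix.ProjGenLinGroup (Fin 2) K) :
    orderOf z ≤ if Fintype.card K % 2 = 0 then Fintype.card K + 1 else 2 * Fintype.card K := by
  have hq := Cfsg.Agent.Linear.exists_PGL_quotient (F := K) 2
  set d := Nat.gcd 2 (Fintype.card K - 1) with hd
  obtain ⟨g, -, hker⟩ := hq
  have hd0 : 0 < d := Nat.gcd_pos_of_pos_left _ (by norm_num)
  haveI : NeZero d := ⟨hd0.ne'⟩
  have hz : z ^ d ∈ g.ker := by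
    rw [MonoidHom.mem_ker, map_pow]
    have := pow_card_eq_one' (x := g z)
    rwa [show Nat.card (Multiplicative (ZMod d)) = d by
      rw [Nat.card_congr Multiplicative.toAdd, Nat.card_zmod]] at this
  rw [hker] at hz
  obtain ⟨y, hy⟩ := hz
  refine le_trans (Nat.le_of_dvd (Nat.mul_pos hd0 (orderOf_pos y)) ?_) (orderOf_psl_le y)
  refine orderOf_dvd_of_pow_eq_one ?_
  rw [pow_mul, ← hy, ← map_pow, pow_orderOf_eq_one, map_one]

theorem card_pgl_le {K : Type*} [Field K] [Fintype K] :
    Nat.card (Matrix.ProjectiveSpecialLinearGroup (Fin 2) K) ≤ Fintype.card K * (Fintype.card K ^ 2 - 1) ∧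
    Nat.card (Matrix.ProjGenLinGroup (Fin 2) K) ≤ Fintype.card K * (Fintype.card K ^ 2 - 1) := by
  refine ⟨?_, (Cfsg.Agent.Linear.card_PGL_two (F := K)).le⟩
  rw [← Cfsg.Agent.Linear.card_PSL_two (F := K)]
  exact Nat.le_mul_of_pos_left _ (Nat.gcd_pos_of_pos_left _ (by norm_num))

theorem card_four_five :
    Nat.card (alternatingGroup (Fin 4)) = 12 ∧ Nat.card (Equiv.Perm (Fin 4)) = 24 ∧
      Nat.card (alternatingGroup (Fin 5)) = 60 := by
  refine ⟨?_, ?_, ?_⟩
  · have := two_mul_card_alternatingGroup (α := Fin 4)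
    rw [Fintype.card_perm, Fintype.card_fin, show Nat.factorial 4 = 24 from rfl] at this
    rw [Nat.card_eq_fintype_card]; omega
  · rw [Nat.card_eq_fintype_card, Fintype.card_perm, Fintype.card_fin]; rfl
  · have := two_mul_card_alternatingGroup (α := Fin 5)
    rw [Fintype.card_perm, Fintype.card_fin, show Nat.factorial 5 = 120 from rfl] at this
    rw [Nat.card_eq_fintype_card]; omega

theorem orderOf_alt_four (x : alternatingGroup (Fin 4)) : orderOf x ≤ 3 := by
  have h : ∀ y : alternatingGroup (Fin 4), y ^ 2 = 1 ∨ y ^ 3 = 1 := by decide +kernel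
  rcases h x with h | h <;> have := Nat.le_of_dvd (by norm_num) (orderOf_dvd_of_pow_eq_one h) <;> omega

theorem orderOf_perm_four (x : Equiv.Perm (Fin 4)) : orderOf x ≤ 4 := by
  have h : ∀ y : Equiv.Perm (Fin 4), y ^ 4 = 1 ∨ y ^ 3 = 1 := by decide +kernel
  rcases h x with h | h <;> have := Nat.le_of_dvd (by norm_num) (orderOf_dvd_of_pow_eq_one h) <;> omega

theorem orderOf_alt_five (x : alternatingGroup (Fin 5)) : orderOf x ≤ 5 := by
  have h : ∀ y : alternatingGroup (Fin 5), y ^ 2 = 1 ∨ y ^ 3 = 1 ∨ y ^ 5 = 1 := by decide +kernel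
  rcases h x with h | h | h <;> have := Nat.le_of_dvd (by norm_num) (orderOf_dvd_of_pow_eq_one h) <;> omega

theorem no_six_alt_four (H : Subgroup (alternatingGroup (Fin 4))) : Nat.card H ≠ 6 := by
  classical
  intro h
  have hi : H.index = 2 := by
    have := H.index_mul_card
    rw [h, card_four_five.1] at this
    omega
  have hsub : (Finset.univ.image fun x : alternatingGroup (Fin 4) => x * x) ⊆
      Finset.univ.filter (· ∈ H) := fun y hy => by
    obtain ⟨x, -, rfl⟩ := Finset.mem_image.1 hy
    simpa using Subgroup.mul_self_mem_of_index_two hi x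
  have h9 : (Finset.univ.image fun x : alternatingGroup (Fin 4) => x * x).card = 9 := by decide +kernel
  have := Finset.card_le_card hsub
  rw [h9, ← Fintype.card_subtype, ← Nat.card_eq_fintype_card] at this
  omega

variable (p : ℕ) [Fact p.Prime] [CharP F p]

/-- The list in the form of the textbooks. -/
theorem card_psl_pos : 0 < Nat.card PSL := Nat.card_pos

/-- Borel subgroups are small. -/
theorem index_le_of_borel {M : Subgroup PSL} {g : PSL} (h : M.map (MulAut.conj g).toMonoidHom ≤ borelP F) :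
    Fintype.card F + 1 ≤ M.index := by
  have h1 := Subgroup.index_dvd_of_le h
  rw [index_borelP] at h1
  rw [← Subgroup.index_map_equiv M (MulAut.conj g)]
  exact Nat.le_of_dvd (Nat.pos_of_ne_zero Subgroup.index_ne_zero_of_finite) h1

include p in
/-- The subgroups of index at most `q`. -/
theorem index_bound (hq : Fintype.card F ∉ ({2, 3, 5, 7, 9, 11} : Finset ℕ)) {M : Subgroup PSL}
    (hM : M ≠ ⊤) : Fintype.card F + 1 ≤ M.index := by
  simp only [Finset.mem_insert, Finset.mem_singleton, not_or] at hq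
  set q := Fintype.card F with hqdef
  have hq2 : 2 ≤ q := Fintype.one_lt_card
  have hG := Cfsg.Agent.Linear.card_PSL_two (F := F)
  rw [← hqdef] at hG
  have hsq : q ^ 2 - 1 = (q + 1) * (q - 1) := PSL2ClassSizes.sq_sub_one_eq q
  -- it is enough to bound the order
  suffices hgoal : Nat.gcd 2 (q - 1) * Nat.card M ≤ q * (q - 1) by
    refine Nat.le_of_mul_le_mul_right ?_ (Nat.mul_pos (Nat.gcd_pos_of_pos_left (q - 1) (show 0 < 2 by norm_num))
      (Nat.card_pos (α := M)))
    calc (q + 1) * (Nat.gcd 2 (q - 1) * Nat.card M) ≤ (q + 1) * (q * (q - 1)) := Nat.mul_le_mul_left _ hgoal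
      _ = q * (q ^ 2 - 1) := by rw [hsq]; ring
      _ = Nat.gcd 2 (q - 1) * (M.index * Nat.card M) := by rw [Subgroup.index_mul_card, hG]
      _ = M.index * (Nat.gcd 2 (q - 1) * Nat.card M) := by ring
  rcases dickson p M with ⟨k, hk, hc⟩ | ⟨g, hg⟩ | hexc | ⟨j, ι, hiso⟩
  · have hk0 : Nat.gcd 2 (q - 1) * k ≤ q + 1 := by
      rcases hk with h | h
      · calc _ ≤ Nat.gcd 2 (q - 1) * ((q + 1) / Nat.gcd 2 (q - 1)) := by
              refine Nat.mul_le_mul_left _ (Nat.le_of_dvd (Nat.div_pos ?_ (Nat.gcd_pos_of_pos_left _ (by norm_num))) h)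
              have := Nat.gcd_le_left (q - 1) (show 0 < 2 by norm_num)
              omega
          _ ≤ q + 1 := Nat.mul_div_le _ _
      · calc _ ≤ Nat.gcd 2 (q - 1) * ((q - 1) / Nat.gcd 2 (q - 1)) := by
              refine Nat.mul_le_mul_left _ (Nat.le_of_dvd (Nat.div_pos ?_ (Nat.gcd_pos_of_pos_left _ (by norm_num))) h)
              have := Nat.gcd_le_left (q - 1) (show 0 < 2 by norm_num)
              omega
          _ ≤ q + 1 := (Nat.mul_div_le _ _).trans (by omega)
    have h2 : Nat.card M ≤ 2 * k := by rcases hc with ⟨-, h⟩ | ⟨-, h, -⟩ <;> omega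
    calc Nat.gcd 2 (q - 1) * Nat.card M ≤ Nat.gcd 2 (q - 1) * (2 * k) := Nat.mul_le_mul_left _ h2
      _ = 2 * (Nat.gcd 2 (q - 1) * k) := by ring
      _ ≤ 2 * (q + 1) := Nat.mul_le_mul_left _ hk0
      _ ≤ q * (q - 1) := by
        obtain ⟨r, hr⟩ : ∃ r, q = r + 4 := ⟨q - 4, by omega⟩
        rw [hr, show r + 4 - 1 = r + 3 by omega]; nlinarith
  · have hi := index_le_of_borel hg
    rw [← hqdef] at hi
    refine Nat.le_of_mul_le_mul_left ?_ (show 0 < q + 1 by omega)
    calc (q + 1) * (Nat.gcd 2 (q - 1) * Nat.card M) ≤ M.index * (Nat.gcd 2 (q - 1) * Nat.card M) :=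
          Nat.mul_le_mul_right _ hi
      _ = Nat.gcd 2 (q - 1) * (M.index * Nat.card M) := by ring
      _ = q * (q ^ 2 - 1) := by rw [Subgroup.index_mul_card, hG]
      _ = (q + 1) * (q * (q - 1)) := by rw [hsq]; ring
  · obtain ⟨a4, s4, a5⟩ := card_four_five
    have hcard : Nat.card M = 12 ∨ Nat.card M = 24 ∨ Nat.card M = 60 := by
      rcases hexc with ⟨⟨e⟩⟩ | ⟨⟨e⟩⟩ | ⟨⟨e⟩⟩ <;> rw [Nat.card_congr e.toEquiv] <;> omega
    have hd' : Nat.gcd 2 (q - 1) * Nat.card M ∣ q * (q ^ 2 - 1) := by
      rw [← hG]; exact Nat.mul_dvd_mul_left _ (Subgroup.card_subgroup_dvd_card M)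
    have hne : Nat.gcd 2 (q - 1) * Nat.card M ≠ q * (q ^ 2 - 1) := fun e => hM
      (Subgroup.eq_top_of_card_eq _ (Nat.eq_of_mul_eq_mul_left (Nat.gcd_pos_of_pos_left _ (by norm_num))
        (e.trans hG.symm)))
    rcases gcd_two_cases q (by omega) with ⟨h2, hd⟩ | ⟨h2, hd⟩ <;> rw [hd] at hd' hne ⊢
    · by_cases h16 : q < 10
      · have hq48 : q = 4 ∨ q = 8 ∨ q = 6 := by omega
        rcases hq48 with rfl' | rfl' | rfl' <;> rcases hcard with e | e | e <;> rw [rfl', e] at hd' hne <;>
          first | (norm_num at hd'; done) | (norm_num at hne; done) | (rw [rfl', e] <;> norm_num)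
      · calc 1 * Nat.card M ≤ 90 := by omega
          _ = 10 * 9 := rfl
          _ ≤ q * (q - 1) := Nat.mul_le_mul (by omega) (by omega)
    · calc 2 * Nat.card M ≤ 13 * 12 := by omega
        _ ≤ q * (q - 1) := Nat.mul_le_mul (by omega) (by omega)
  · haveI := Fintype.ofFinite (GaloisField p j)
    obtain ⟨m, hm, hcard, hm1⟩ := exists_degree ι
    rw [← hqdef] at hcard
    set k := Fintype.card (GaloisField p j) with hk
    have hk2 : 2 ≤ k := Fintype.one_lt_card
    have hle : Nat.card M ≤ k * (k ^ 2 - 1) := by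
      rcases hiso with ⟨⟨e⟩⟩ | ⟨⟨e⟩, -⟩ <;> rw [Nat.card_congr e.toEquiv]
      · exact card_pgl_le.1
      · exact card_pgl_le.2
    by_cases h1 : m = 1
    · exfalso
      rcases hiso with ⟨⟨e⟩⟩ | ⟨-, c, hc, -⟩
      · refine hM (Subgroup.eq_top_of_card_eq _ (Nat.eq_of_mul_eq_mul_left
          (Nat.gcd_pos_of_pos_left (q - 1) (show 0 < 2 by norm_num)) ?_))
        have hkq : k = q := by rwa [h1, pow_one] at hcard
        rw [hG, Nat.card_congr e.toEquiv, ← hkq, Cfsg.Agent.Linear.card_PSL_two (F := GaloisField p j)]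
      · exact hc (by rw [hm1 h1]; trivial)
    · have hkq : k * k ≤ q := by
        rw [← hcard, ← pow_two]
        exact Nat.pow_le_pow_right (by omega) (by omega)
      have hd2 : Nat.gcd 2 (q - 1) ≤ k := le_trans (Nat.gcd_le_left _ (by norm_num)) hk2
      calc Nat.gcd 2 (q - 1) * Nat.card M ≤ k * (k * (k ^ 2 - 1)) := Nat.mul_le_mul hd2 hle
        _ = (k * k) * (k * k - 1) := by rw [pow_two]; ring
        _ ≤ q * (q - 1) := Nat.mul_le_mul hkq (by omega)

/-- A matrix of determinant one. -/
def mk2 (a b c d : F) (h : a * d - b * c = 1) : SL := ⟨!![a, b; c, d], by rw [Matrix.det_fin_two_of]; exact h⟩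

@[simp] theorem mk2_00 (a b c d : F) (h : a * d - b * c = 1) : mk2 a b c d h 0 0 = a := rfl
@[simp] theorem mk2_01 (a b c d : F) (h : a * d - b * c = 1) : mk2 a b c d h 0 1 = b := rfl
@[simp] theorem mk2_10 (a b c d : F) (h : a * d - b * c = 1) : mk2 a b c d h 1 0 = c := rfl
@[simp] theorem mk2_11 (a b c d : F) (h : a * d - b * c = 1) : mk2 a b c d h 1 1 = d := rfl

/-- A torus with an inverting element. -/
theorem exists_torus (plus : Bool) (hq : 3 ≤ Fintype.card F) :
    ∃ c w : SL, w * c * w⁻¹ = c⁻¹ ∧ w * w = -1 ∧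
      orderOf c = (if plus then Fintype.card F + 1 else Fintype.card F - 1) ∧
      orderOf (toPSL c) = (if plus then Fintype.card F + 1 else Fintype.card F - 1) /
        Nat.gcd 2 (Fintype.card F - 1) := by
  obtain ⟨p, hchar⟩ := CharP.exists F
  obtain ⟨f, hp, hpf⟩ := FiniteField.card F p
  haveI : Fact p.Prime := ⟨hp⟩
  set N := (if plus then Fintype.card F + 1 else Fintype.card F - 1) with hN
  obtain ⟨C, hC, hcard⟩ := Cfsg.Agent.Linear.exists_cyclic_SL2 (F := F) plus
  rw [← hN] at hcard
  -- a generator with an inverting element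
  have main : ∃ c w : SL, w * c * w⁻¹ = c⁻¹ ∧ w * w = -1 ∧ orderOf c = N := by
    cases plus
    · obtain ⟨a, ha⟩ := IsCyclic.exists_generator (α := Fˣ)
      have hao : orderOf a = Fintype.card F - 1 := by
        rw [orderOf_eq_card_of_forall_mem_zpowers ha, Nat.card_units, Nat.card_eq_fintype_card]
      let φ : Fˣ →* SL := MonoidHom.mk' (fun u => mk2 (u : F) 0 0 ((u⁻¹ : Fˣ) : F) (by simp)) (fun u v => by
          apply ext2 <;> simp [mul_apply2, mul_comm])
      have hφ : Function.Injective φ := fun u v e => Units.ext (by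
        simpa [φ] using congrArg (fun g : SL => g 0 0) e)
      refine ⟨φ a, mk2 0 1 (-1) 0 (by simp), ?_, ?_, ?_⟩
      · apply ext2 <;> simp [φ, mul_apply2]
      · apply ext2 <;> simp [mul_apply2]
      · rw [orderOf_injective φ hφ, hao, hN]; rfl
    · obtain ⟨⟨c, hc⟩, hgen⟩ := hC.exists_generator
      have ho : orderOf c = Fintype.card F + 1 := by
        have := orderOf_injective C.subtype C.subtype_injective ⟨c, hc⟩
        rw [orderOf_eq_card_of_forall_mem_zpowers hgen, hcard, hN] at this
        simpa using this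
      have hell : ∀ l : F, l ^ 2 - PSL2Classes.tr c * l + 1 ≠ 0 := fun l hl => by
        by_cases hd : PSL2Classes.tr c - 2 * l = 0
        · have h2p : c ^ (2 * p) = 1 := by
            rw [mul_comm, pow_mul]
            rcases PSL2Classes.pow_char p hl hd with h | h <;> rw [h] <;> simp
          have hdvd := orderOf_dvd_of_pow_eq_one h2p
          rw [ho] at hdvd
          have hcop : (Fintype.card F + 1).Coprime p := by
            refine ((hp.coprime_iff_not_dvd).2 fun hd => hp.one_lt.ne' (Nat.dvd_one.1 ?_)).symm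
            have h1 : p ∣ Fintype.card F := hpf ▸ dvd_pow_self p f.pos.ne'
            exact (Nat.dvd_add_right h1).1 hd
          have := Nat.le_of_dvd (by norm_num) (hcop.dvd_of_dvd_mul_right hdvd)
          omega
        · have hdvd := orderOf_dvd_of_pow_eq_one (PSL2Classes.pow_card_pred hl hd)
          rw [ho] at hdvd
          have := Nat.le_of_dvd (by omega) hdvd
          omega
      have hns : ¬ IsScalar c.1 := fun hs => by
        have h1 : c ^ 2 = 1 := by rcases scalar_SL_cases hs with rfl | rfl <;> simp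
        have := Nat.le_of_dvd (by norm_num) (orderOf_dvd_of_pow_eq_one h1)
        omega
      obtain ⟨δ, u, hu⟩ := PSL2Classes.exists_nf hns
      obtain ⟨a, s, has⟩ := PSL2ClassSizes.exists_norm_eq hell (-1)
      generalize ht : PSL2Classes.tr c = t at hu has
      have hδ : (δ : F) ≠ 0 := δ.ne_zero
      let w0 : SL := mk2 a ((s + a * t) / δ) (s * δ) (-a) (by field_simp; linear_combination -has)
      have hnf : nfS t δ = mk2 0 (-(1 / (δ : F))) (δ : F) t (by field_simp; ring) := by
        apply ext2 <;> simp [nfS, Kmat]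
      have h0 : w0 * nfS t δ * w0⁻¹ = (nfS t δ)⁻¹ := by
        rw [mul_inv_eq_iff_eq_mul, hnf]
        apply ext2 <;> simp [w0, mul_apply2] <;> field_simp <;> ring
      have h1 : w0 * w0 = -1 := by
        apply ext2 <;> simp [w0, mul_apply2] <;> field_simp <;> first
          | ring1
          | linear_combination has
      refine ⟨c, u * w0 * u⁻¹, ?_, ?_, by rw [hN]; simpa using ho⟩
      · rw [hu]
        calc _ = u * (w0 * nfS t δ * w0⁻¹) * u⁻¹ := by group
          _ = _ := by rw [h0]; group
      · calc _ = u * (w0 * w0) * u⁻¹ := by group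
          _ = -1 := by rw [h1]; simp
  obtain ⟨c, w, h1, h2, h3⟩ := main
  refine ⟨c, w, h1, h2, h3, ?_⟩
  have hNpos : 0 < N := by cases plus <;> simp only [hN] <;> simp <;> omega
  rcases gcd_two_cases (Fintype.card F) (by omega) with ⟨hev, hd⟩ | ⟨hodd, hd⟩ <;> rw [hd]
  · rw [Nat.div_one, ← h3]
    have htwo : (2 : F) = 0 := PSL2Classes.two_eq_zero_of_even hev
    refine orderOf_injective toPSL (fun a b e => ?_) c
    rcases toPSL_eq_iff.1 e with h | h
    · exact h
    · rw [h, PSL2ClassSizes.neg_eq_self htwo]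
  · have hNeven : 2 ∣ N := by cases plus <;> simp only [hN] <;> simp <;> omega
    have htwo : (2 : F) ≠ 0 := PSL2Classes.two_ne_zero_of_odd hodd
    obtain ⟨M, hM⟩ := hNeven
    have hcM : c ^ M = -1 := by
      refine (PSL2Classes.sq_eq_one htwo ?_).resolve_left fun e => ?_
      · rw [← pow_add, ← two_mul, ← hM, ← h3, pow_orderOf_eq_one]
      · have := Nat.le_of_dvd (by omega) (orderOf_dvd_of_pow_eq_one e)
        omega
    rw [hM, Nat.mul_div_cancel_left _ (by norm_num)]
    refine Nat.dvd_antisymm (orderOf_dvd_of_pow_eq_one (by rw [← map_pow, hcM]; exact toPSL_eq_one_iff.2 (Or.inr rfl))) ?_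
    have hpp := pow_orderOf_eq_one (toPSL c)
    rw [← map_pow, toPSL_eq_one_iff] at hpp
    have : c ^ (2 * orderOf (toPSL c)) = 1 := by
      rw [mul_comm, pow_mul]
      rcases hpp with e | e <;> rw [e] <;> simp
    have hd' := orderOf_dvd_of_pow_eq_one this
    rw [h3, hM] at hd'
    exact Nat.dvd_of_mul_dvd_mul_left (by norm_num) hd'

include p in
/-- The torus normalisers are maximal dihedral subgroups. -/
theorem exists_maximal_dihedral (plus : Bool)
    (hq : if plus then Fintype.card F ∉ ({2, 7, 9} : Finset ℕ)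
      else Fintype.card F ∉ ({2, 3, 5, 7, 9, 11} : Finset ℕ)) :
    ∃ H : Subgroup PSL, IsCoatom H ∧ Nonempty (H ≃*
      DihedralGroup ((if plus then Fintype.card F + 1 else Fintype.card F - 1) /
        Nat.gcd 2 (Fintype.card F - 1))) := by
  classical
  set q := Fintype.card F with hqdef
  have hq3 : 3 ≤ q := by
    have : 2 ≤ q := Fintype.one_lt_card
    cases plus <;> simp at hq <;> omega
  have hG := Cfsg.Agent.Linear.card_PSL_two (F := F)
  rw [← hqdef] at hG
  obtain ⟨c, w, hwc, hww, hco, hn⟩ := exists_torus (F := F) plus hq3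
  rw [← hqdef] at hco hn
  set n := (if plus then q + 1 else q - 1) / Nat.gcd 2 (q - 1) with hndef
  have hsmall : (q % 2 = 0 ∧ n = (if plus then q + 1 else q - 1)) ∨
      (q % 2 = 1 ∧ 2 * n = (if plus then q + 1 else q - 1)) := by
    rcases gcd_two_cases q (by omega) with ⟨h, hd⟩ | ⟨h, hd⟩
    · left; rw [hndef, hd, Nat.div_one]; exact ⟨h, rfl⟩
    · right; rw [hndef, hd]; cases plus <;> simp <;> omega
  have hn2 : 2 ≤ n := by cases plus <;> simp at hq hsmall <;> omega
  set x := toPSL c
  set y := toPSL w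
  have hy2 : y * y = 1 := by rw [← map_mul, hww]; exact toPSL_eq_one_iff.2 (Or.inr rfl)
  have hyx : y * x * y⁻¹ = x⁻¹ := by rw [← map_inv, ← map_mul, ← map_mul, hwc, map_inv]
  have hyn : ∀ k : ℤ, y ≠ x ^ k := fun k e => by
    rw [← map_zpow] at e
    have hcomm : Commute w c := by
      rcases toPSL_eq_iff.1 e with h | h
      · rw [h]; exact (Commute.refl c).zpow_left k
      · rw [h]; exact ((Commute.refl c).zpow_left k).neg_left
    have h1 : c⁻¹ = c := by rw [← hwc, hcomm.eq, mul_inv_cancel_right]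
    have h2 : c ^ 2 = 1 := by rw [pow_two]; nth_rewrite 1 [← h1]; exact inv_mul_cancel c
    have := Nat.le_of_dvd (by norm_num) (orderOf_dvd_of_pow_eq_one h2)
    rw [hco] at this
    cases plus <;> simp at hq this <;> omega
  have hy1 : y ≠ 1 := fun e => hyn 0 (by rw [e, zpow_zero])
  have hyo : orderOf y = 2 := orderOf_eq_prime (by rw [pow_two, hy2]) hy1
  have hyinv : y⁻¹ = y := inv_eq_of_mul_eq_one_right hy2
  have hyxo : orderOf (y * x) = 2 := by
    refine orderOf_eq_prime ?_ fun e => hyn (-1) (by rw [_root_.zpow_neg_one]; exact eq_inv_of_mul_eq_one_left e)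
    rw [pow_two]
    calc y * x * (y * x) = (y * x * y⁻¹) * x := by rw [hyinv]; group
      _ = 1 := by rw [hyx, inv_mul_cancel]
  have hne : y ≠ y * x := fun e => by
    have : x = 1 := left_eq_mul.1 e
    rw [this, orderOf_one] at hn
    omega
  obtain ⟨eH⟩ := Cfsg.Agent.S0206.result y (y * x) hyo hyxo hne
  rw [← mul_assoc, hy2, one_mul, hn] at eH
  set H := Subgroup.closure ({y, y * x} : Set PSL)
  have hyH : y ∈ H := Subgroup.subset_closure (by simp)
  have hxH : x ∈ H := by
    have : y * (y * x) ∈ H := mul_mem hyH (Subgroup.subset_closure (by simp))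
    rwa [← mul_assoc, hy2, one_mul] at this
  have hHcard : Nat.card H = 2 * n := by rw [Nat.card_congr eH.toEquiv, DihedralGroup.nat_card]
  refine ⟨H, ⟨?_, ?_⟩, ⟨eH⟩⟩
  · intro e
    rw [e, Subgroup.card_top] at hHcard
    rw [hHcard, PSL2ClassSizes.sq_sub_one_eq] at hG
    have hn' : n ≤ q + 1 := by cases plus <;> simp at hsmall <;> omega
    have h1 : Nat.gcd 2 (q - 1) * (2 * n) ≤ 2 * (2 * (q + 1)) :=
      Nat.mul_le_mul (Nat.gcd_le_left _ (by norm_num)) (by omega)
    rw [hG] at h1
    have h2 : 3 * ((q + 1) * 2) ≤ q * ((q + 1) * (q - 1)) :=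
      Nat.mul_le_mul hq3 (Nat.mul_le_mul_left _ (by omega))
    omega
  intro M hM
  by_contra htop
  have hlt : 2 * n < Nat.card M := by
    rw [← hHcard]
    exact Set.ncard_lt_ncard (show (H : Set PSL) ⊂ M from hM)
  have hdvd : 2 * n ∣ Nat.card M := hHcard ▸ Subgroup.card_dvd_of_le hM.le
  have hMG : Nat.gcd 2 (q - 1) * Nat.card M ∣ q * (q ^ 2 - 1) := by
    rw [← hG]; exact Nat.mul_dvd_mul_left _ (Subgroup.card_subgroup_dvd_card M)
  have hMne : Nat.gcd 2 (q - 1) * Nat.card M ≠ q * (q ^ 2 - 1) := fun e => htop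
    (Subgroup.eq_top_of_card_eq _ (Nat.eq_of_mul_eq_mul_left (Nat.gcd_pos_of_pos_left _ (by norm_num))
      (e.trans hG.symm)))
  let xM : M := ⟨x, hM.le hxH⟩
  have hxMo : orderOf xM = n := by rw [Subgroup.orderOf_mk]; exact hn
  rcases dickson p M with ⟨k, hk, hc⟩ | ⟨g, hg⟩ | hexc | ⟨j, ι, hiso⟩
  · rcases hc with ⟨hcy, -⟩ | ⟨hk2, hMc, -⟩
    · haveI : IsCyclic H := by
        haveI := hcy
        exact isCyclic_of_injective (Subgroup.inclusion hM.le) (Subgroup.inclusion_injective hM.le)
      exact DihedralGroup.not_isCyclic (show n ≠ 1 by omega) (eH.isCyclic.1 inferInstance)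
    · have hnk : n ∣ k := Nat.dvd_of_mul_dvd_mul_left (show 0 < 2 by norm_num) (hMc ▸ hdvd)
      rw [← hqdef] at hk
      have hkn : n < k := by omega
      rcases gcd_two_cases q (by omega) with ⟨h, hd⟩ | ⟨h, hd⟩ <;> rw [hd] at hk <;>
        rcases hk with hk | hk <;>
        have hk' := Nat.le_of_dvd (by omega) hk <;>
        cases plus <;> simp [h] at hq hsmall hk' <;>
        (try omega)
      all_goals
        have hnd := hnk.trans hk
        try simp only [Nat.div_one] at hnd
      · have h2 : n ∣ 2 := by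
          have := Nat.dvd_sub hnd (dvd_refl n)
          rwa [show q + 1 - n = 2 by omega] at this
        have := Nat.le_of_dvd (by norm_num) h2
        omega
      · have h2 : n ∣ 1 := by
          have := Nat.dvd_sub hnd (dvd_refl n)
          rwa [show (q + 1) / 2 - n = 1 by omega] at this
        have := Nat.le_of_dvd (by norm_num) h2
        omega
  · -- a Borel subgroup
    obtain ⟨s, rfl⟩ := toPSL_surjective g
    have hB : ∀ z : SL, toPSL z ∈ H → (s * z * s⁻¹ : SL) 1 0 = 0 := fun z hz => by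
      refine toPSL_mem_borelP.1 ?_
      rw [map_mul, map_mul, map_inv]
      exact hg ⟨toPSL z, hM.le hz, rfl⟩
    have hA := hB c hxH
    have hBw := hB w hyH
    have hAB : (s * w * s⁻¹) * (s * c * s⁻¹) = (s * c * s⁻¹)⁻¹ * (s * w * s⁻¹) := by
      calc _ = s * (w * c * w⁻¹) * w * s⁻¹ := by group
        _ = _ := by rw [hwc]; group
    generalize hAdef : s * c * s⁻¹ = A at hA hAB
    generalize hBdef : s * w * s⁻¹ = B at hBw hAB
    have h00 := congrArg (fun g : SL => g 0 0) hAB
    simp [mul_apply2, hA, hBw] at h00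
    have hdB := det_eq B
    rw [hBw, mul_zero, sub_zero] at hdB
    have hdA := det_eq A
    rw [hA, mul_zero, sub_zero] at hdA
    have hB0 : B 0 0 ≠ 0 := left_ne_zero_of_mul_eq_one hdB
    have h11 : A.1 1 1 = A.1 0 0 := mul_left_cancel₀ hB0 (by linear_combination -h00)
    rw [h11] at hdA
    have hpow : toPSL A ^ p = 1 := by
      have hu : ∀ b : F, toPSL (uel b) ^ p = 1 := fun b => by
        rw [← map_pow, uel_pow, CharP.cast_eq_zero F p, zero_mul, uel_zero, map_one]
      rcases mul_self_eq_one_iff.1 hdA with a | a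
      · have : A = uel (A.1 0 1) := by apply ext2 <;> simp [hA, h11, a]
        rw [this]; exact hu _
      · have : A = -uel (-(A.1 0 1)) := by apply ext2 <;> simp [hA, h11, a]
        rw [toPSL_eq_iff.2 (Or.inr this)]; exact hu _
    have hxp : x ^ p = 1 := by
      rw [← hAdef, map_mul, map_mul, map_inv, conj_pow, conj_eq_one_iff] at hpow
      exact hpow
    have h1 := orderOf_dvd_of_pow_eq_one hxp
    rw [hn] at h1
    rcases (Nat.dvd_prime (Fact.out : p.Prime)).1 h1 with e | e
    · omega
    · obtain ⟨f, -, hf⟩ := FiniteField.card F p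
      have hpq : p ∣ q := hqdef ▸ hf ▸ dvd_pow_self p f.pos.ne'
      have hpn : p ∣ (if plus then q + 1 else q - 1) := by
        rw [← e]; rcases hsmall with ⟨-, h⟩ | ⟨-, h⟩
        · exact dvd_of_eq h
        · exact ⟨2, by rw [← h]; ring⟩
      have hp1 : p ∣ 1 := by
        cases plus <;> simp at hpn
        · have := Nat.dvd_sub hpq hpn
          rwa [show q - (q - 1) = 1 by omega] at this
        · exact (Nat.dvd_add_right hpq).1 hpn
      exact (Fact.out : p.Prime).one_lt.ne' (Nat.dvd_one.1 hp1)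
  · obtain ⟨a4, s4, a5⟩ := card_four_five
    rcases hexc with ⟨⟨e⟩⟩ | ⟨⟨e⟩⟩ | ⟨⟨e⟩⟩ <;> have hb := Nat.card_congr e.toEquiv
    · rw [a4] at hb
      have hn3 := orderOf_alt_four (e xM)
      rw [e.orderOf_eq, hxMo] at hn3
      have hn6 : n ≠ 3 := fun h3 => by
        refine no_six_alt_four (((H.subgroupOf M)).map e.toMonoidHom) ?_
        rw [Nat.card_congr (Subgroup.equivMapOfInjective _ _ e.injective).toEquiv.symm,
          Nat.card_congr (Subgroup.subgroupOfEquivOfLe hM.le).toEquiv, hHcard, h3]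
      have : q = 3 := by cases plus <;> simp at hq hsmall <;> omega
      rw [hb, this] at hMne
      exact hMne (by norm_num)
    · rw [s4] at hb
      have hn4 := orderOf_perm_four (e xM)
      rw [e.orderOf_eq, hxMo] at hn4
      have : q = 3 ∨ q = 4 ∨ q = 5 := by cases plus <;> simp at hq hsmall <;> omega
      rcases this with h | h | h <;> rw [hb, h] at hMG <;> norm_num at hMG
    · rw [a5] at hb
      have hn5 := orderOf_alt_five (e xM)
      rw [e.orderOf_eq, hxMo] at hn5
      have : q = 3 ∨ q = 4 ∨ q = 5 ∨ q = 6 := by cases plus <;> simp at hq hsmall <;> omega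
      rcases this with h | h | h | h <;> rw [hb, h] at hMG hMne <;>
        first | (norm_num at hMG; done) | (norm_num at hMne; done)
  · haveI := Fintype.ofFinite (GaloisField p j)
    obtain ⟨m, hm, hcard, hm1⟩ := exists_degree ι
    rw [← hqdef] at hcard
    set k := Fintype.card (GaloisField p j) with hkdef
    have hk2 : 2 ≤ k := Fintype.one_lt_card
    have hB : n ≤ (if k % 2 = 0 then k + 1 else 2 * k) ∧ Nat.card M ≤ k * (k ^ 2 - 1) := by
      rcases hiso with ⟨⟨e⟩⟩ | ⟨⟨e⟩, -⟩
      · refine ⟨?_, (Nat.card_congr e.toEquiv).trans_le card_pgl_le.1⟩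
        have h := orderOf_psl_le (e xM)
        rw [e.orderOf_eq, hxMo, ← hkdef] at h
        exact le_trans (Nat.le_mul_of_pos_left _ (Nat.gcd_pos_of_pos_left _ (by norm_num))) h
      · refine ⟨?_, (Nat.card_congr e.toEquiv).trans_le card_pgl_le.2⟩
        have h := orderOf_pgl_le (e xM)
        rw [e.orderOf_eq, hxMo, ← hkdef] at h
        exact h
    by_cases h1 : m = 1
    · rcases hiso with ⟨⟨e⟩⟩ | ⟨-, c, hc, -⟩
      · refine hMne ?_
        have hkq : k = q := by rwa [h1, pow_one] at hcard
        rw [Nat.card_congr e.toEquiv, ← hkq, Cfsg.Agent.Linear.card_PSL_two (F := GaloisField p j)]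
      · exact hc (by rw [hm1 h1]; trivial)
    have hkq : k * k ≤ q := by
      rw [← hcard, ← pow_two]
      exact Nat.pow_le_pow_right (by omega) (by omega)
    obtain ⟨hB1, hB2⟩ := hB
    have hpar : q % 2 = k % 2 := by
      rw [← hcard, Nat.pow_mod]
      rcases Nat.mod_two_eq_zero_or_one k with h | h <;> rw [h]
      · simp [Nat.pos_iff_ne_zero.1 hm]
      · simp
    by_cases hk5 : 5 ≤ k
    · have : 5 * k ≤ q := le_trans (Nat.mul_le_mul_right k hk5) hkq
      cases plus <;> simp at hsmall <;> split_ifs at hB1 <;> omega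
    by_cases hk4 : k = 4
    · rw [hk4] at hB1 hkq hpar
      norm_num at hB1
      cases plus <;> simp at hsmall <;> omega
    by_cases hk3 : k = 3
    · rw [hk3] at hB1 hkq hpar hcard
      norm_num at hB1
      have : q = 9 := by
        by_contra hne
        rcases m with _ | _ | _ | m
        · omega
        · omega
        · norm_num at hcard; omega
        · have : 27 ≤ q := by
            rw [← hcard]
            calc 27 = 3 ^ 3 := rfl
              _ ≤ _ := Nat.pow_le_pow_right (by norm_num) (by omega)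
          cases plus <;> simp at hsmall <;> omega
      cases plus <;> simp [this] at hq
    have hk : k = 2 := by omega
    rw [hk] at hB1 hB2 hkq hpar
    norm_num [-Nat.card_eq_fintype_card] at hB1 hB2
    cases plus <;> simp at hsmall <;> omega

include p in
theorem isSolvable_of_borel {M : Subgroup PSL} {g : PSL} (h : M.map (MulAut.conj g).toMonoidHom ≤ borelP F) :
    Group.IsSolvable M := by
  let f : borelSL F →* Fˣ := MonoidHom.toHomUnits
    { toFun := fun x => x.1 0 0
      map_one' := by simp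
      map_mul' := fun a b => by simp [mul_apply2, show b.1.1 1 0 = 0 from b.2] }
  haveI : Group.IsSolvable f.ker := Group.isSolvable_of_comm fun a b => by
    have ha : a.1.1 0 0 = 1 := by simpa [f] using congrArg Units.val (MonoidHom.mem_ker.1 a.2)
    have hb : b.1.1 0 0 = 1 := by simpa [f] using congrArg Units.val (MonoidHom.mem_ker.1 b.2)
    have hu : ∀ x : borelSL F, x.1 0 0 = 1 → (x : SL) = uel (x.1 0 1) := fun x hx => by
      have hd := det_eq x.1
      have h10 : x.1.1 1 0 = 0 := x.2
      rw [h10, hx] at hd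
      simp at hd
      apply ext2 <;> simp [h10, hx, hd]
    refine Subtype.ext (Subtype.ext ?_)
    show a.1.1 * b.1.1 = b.1.1 * a.1.1
    rw [hu _ ha, hu _ hb, ← uel_add, ← uel_add, add_comm]
  haveI : Group.IsSolvable (borelSL F) := Group.isSolvable_of_ker_le_range f.ker.subtype f (by simp)
  haveI : Group.IsSolvable (borelP F) :=
    Group.isSolvable_of_surjective (toPSL.subgroupMap_surjective (borelSL F))
  exact Group.isSolvable_of_isSolvable_injective
    (f := (Subgroup.inclusion h).comp ((MulAut.conj g).subgroupMap M).toMonoidHom)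
    ((Subgroup.inclusion_injective h).comp ((MulAut.conj g).subgroupMap M).injective)

theorem not_solvable_alt_five : ¬ Group.IsSolvable (alternatingGroup (Fin 5)) := fun h => by
  haveI := h
  exact Equiv.Perm.fin_5_not_solvable (Group.isSolvable_of_ker_le_range (alternatingGroup (Fin 5)).subtype
    (Equiv.Perm.sign : Equiv.Perm (Fin 5) →* ℤˣ) (by rw [Subgroup.range_subtype]; rfl))

theorem not_solvable_psl {K : Type*} [Field K] [Fintype K] (h : 4 ≤ Fintype.card K) :
    ¬ Group.IsSolvable (Matrix.ProjectiveSpecialLinearGroup (Fin 2) K) := fun hs => by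
  haveI := hs
  haveI := psl_simple_finite (F := K) 2 le_rfl (by omega)
  have hcomm := IsSimpleGroup.comm_iff_isSolvable.2 hs
  let u : Matrix.SpecialLinearGroup (Fin 2) K := uel 1
  let l : Matrix.SpecialLinearGroup (Fin 2) K := lel 1
  have e := hcomm (toPSL u) (toPSL l)
  rw [← map_mul, ← map_mul, toPSL_eq_iff] at e
  rcases e with e | e
  · have := congrArg (fun g : Matrix.SpecialLinearGroup (Fin 2) K => g 0 0) e
    simp [u, l, mul_apply2] at this
  · have h1 := congrArg (fun g : Matrix.SpecialLinearGroup (Fin 2) K => g 0 1) e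
    have h2 := congrArg (fun g : Matrix.SpecialLinearGroup (Fin 2) K => g 0 0) e
    simp [u, l, mul_apply2, Matrix.mul_apply, Fin.sum_univ_two] at h1 h2
    have h20 : (2 : K) = 0 := by linear_combination h1
    exact one_ne_zero (α := K) (by linear_combination h2 - h20)

include p in
theorem not_minimal_of_subfield {K : Type*} [Field K] [Fintype K] {m : ℕ} (hm : 2 ≤ m)
    (hk : 4 ≤ Fintype.card K) (hK : Fintype.card K ^ m = Fintype.card F) :
    ¬ Cfsg.IsMinimalSimple PSL := fun h => by
  obtain ⟨ι⟩ := nonempty_ringHom_of_card_pow (by omega : 1 ≤ m) hK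
  obtain ⟨H, ⟨e⟩⟩ := exists_subgroup_psl ι
  have hne : H ≠ ⊤ := fun he => by
    have hc := Nat.card_congr e.toEquiv
    rw [he, Subgroup.card_top] at hc
    have h1 := (card_pgl_le (K := K)).1
    rw [← hc] at h1
    have hG := Cfsg.Agent.Linear.card_PSL_two (F := F)
    have hd : Nat.gcd 2 (Fintype.card F - 1) ≤ 2 := Nat.gcd_le_left _ (by norm_num)
    have hkq : Fintype.card K * Fintype.card K ≤ Fintype.card F := by
      rw [← hK, ← pow_two]; exact Nat.pow_le_pow_right (by omega) hm
    have h2 : Fintype.card F * (Fintype.card F ^ 2 - 1) ≤ 2 * (Fintype.card K * (Fintype.card K ^ 2 - 1)) :=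
      hG ▸ Nat.mul_le_mul hd h1
    have h3 : (Fintype.card K * Fintype.card K) * ((Fintype.card K * Fintype.card K) ^ 2 - 1) ≤
        Fintype.card F * (Fintype.card F ^ 2 - 1) :=
      Nat.mul_le_mul hkq (Nat.sub_le_sub_right (Nat.pow_le_pow_left hkq 2) 1)
    generalize Fintype.card K = a at *
    have h4 : a ^ 2 - 1 < (a * a) ^ 2 - 1 := by
      have : a ^ 2 < (a * a) ^ 2 := Nat.pow_lt_pow_left (by nlinarith) (by norm_num)
      have : 1 ≤ a ^ 2 := Nat.one_le_pow _ _ (by omega)
      omega
    have h5 : 2 * (a * (a ^ 2 - 1)) ≤ (a * a) * (a ^ 2 - 1) := by nlinarith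
    have h6 : (a * a) * (a ^ 2 - 1) < (a * a) * ((a * a) ^ 2 - 1) := Nat.mul_lt_mul_of_pos_left h4 (by nlinarith)
    omega
  haveI := h.2.2 H hne
  exact not_solvable_psl hk (Group.isSolvable_of_surjective (f := e.toMonoidHom) e.surjective)

theorem five_dvd_iff (q : ℕ) (hq : 1 ≤ q) : 5 ∣ q * (q ^ 2 - 1) ↔ q % 5 = 0 ∨ q % 5 = 1 ∨ q % 5 = 4 := by
  rw [Nat.prime_five.dvd_mul, ← Nat.modEq_iff_dvd' (Nat.one_le_pow _ _ hq), Nat.ModEq, Nat.pow_mod,
    Nat.dvd_iff_mod_eq_zero]
  have : q % 5 < 5 := Nat.mod_lt _ (by norm_num)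
  interval_cases h : q % 5 <;> simp

theorem mod_five_two (r : ℕ) (hr : Odd r) : 2 ^ r % 5 = 2 ∨ 2 ^ r % 5 = 3 := by
  obtain ⟨k, rfl⟩ := hr
  induction k with
  | zero => left; rfl
  | succ k ih =>
    rw [show 2 * (k + 1) + 1 = (2 * k + 1) + 2 by ring, pow_add, Nat.mul_mod]
    rcases ih with h | h <;> rw [h] <;> decide

theorem mod_five_three (r : ℕ) (hr : Odd r) : 3 ^ r % 5 = 2 ∨ 3 ^ r % 5 = 3 := by
  obtain ⟨k, rfl⟩ := hr
  induction k with
  | zero => right; rfl
  | succ k ih =>
    rw [show 2 * (k + 1) + 1 = (2 * k + 1) + 2 by ring, pow_add, Nat.mul_mod]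
    rcases ih with h | h <;> rw [h] <;> decide

include p in
/-- Thompson's minimal simple groups `PSL₂(q)`. -/
theorem minimal_iff {q : ℕ} (hF : Fintype.card F = q) :
    Cfsg.IsMinimalSimple PSL ↔ ((∃ r : ℕ, r.Prime ∧ q = 2 ^ r) ∨ (∃ r : ℕ, r.Prime ∧ r ≠ 2 ∧ q = 3 ^ r) ∨
      (q.Prime ∧ 5 < q ∧ (q % 5 = 2 ∨ q % 5 = 3)) ∨ q = 5) := by
  classical
  subst hF
  obtain ⟨f, hp, hpf⟩ := FiniteField.card F p
  have hf1 : 1 ≤ (f : ℕ) := f.pos
  have hG := Cfsg.Agent.Linear.card_PSL_two (F := F)
  constructor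
  · intro h
    have hge : 4 ≤ Fintype.card F := by
      by_contra hlt
      have h23 : Fintype.card F = 2 ∨ Fintype.card F = 3 := by
        have := Fintype.one_lt_card (α := F); omega
      have hdvd : Nat.card PSL ∣ 2 ^ 3 * 3 ^ 1 := by
        refine (Dvd.intro_left _ rfl : Nat.card PSL ∣ Nat.gcd 2 (Fintype.card F - 1) * Nat.card PSL).trans ?_
        rw [hG]; rcases h23 with e | e <;> rw [e] <;> norm_num
      have hsol : Group.IsSolvable PSL :=
        Cfsg.Agent.Core.isSolvable_of_card_dvd_two_primes Nat.prime_two Nat.prime_three hdvd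
      haveI := h.1
      exact h.2.1 ⟨⟨IsSimpleGroup.comm_iff_isSolvable.2 hsol⟩⟩
    have hA5 : 5 ∣ Fintype.card F * (Fintype.card F ^ 2 - 1) → Fintype.card F = 4 ∨ Fintype.card F = 5 := by
      intro h5
      obtain ⟨H, ⟨e⟩⟩ := (Cfsg.Agent.S0804.result (F := F) rfl).2 h5
      have hc := (Nat.card_congr e.toEquiv).trans card_four_five.2.2
      by_cases he : H = ⊤
      · rw [he, Subgroup.card_top] at hc
        rw [hc, PSL2ClassSizes.sq_sub_one_eq] at hG
        by_contra hne
        have h6 : 6 ≤ Fintype.card F := by omega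
        have h42 : 7 * 5 ≤ (Fintype.card F + 1) * (Fintype.card F - 1) := Nat.mul_le_mul (by omega) (by omega)
        have : 6 * 35 ≤ Fintype.card F * ((Fintype.card F + 1) * (Fintype.card F - 1)) := Nat.mul_le_mul h6 h42
        have hd : Nat.gcd 2 (Fintype.card F - 1) ≤ 2 := Nat.gcd_le_left _ (by norm_num)
        have := Nat.mul_le_mul_right 60 hd
        omega
      · exfalso
        haveI := h.2.2 H he
        exact not_solvable_alt_five (Group.isSolvable_of_surjective (f := e.toMonoidHom) e.surjective)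
    have hsub : ∀ a b : ℕ, (f : ℕ) = a * b → 2 ≤ b → 4 ≤ p ^ a → False := by
      intro a b hab hb hpa
      have ha : a ≠ 0 := fun e => by rw [e, zero_mul] at hab; omega
      haveI := Fintype.ofFinite (GaloisField p a)
      have hc : Fintype.card (GaloisField p a) = p ^ a := by
        rw [← Nat.card_eq_fintype_card, GaloisField.card p a ha]
      refine not_minimal_of_subfield p (K := GaloisField p a) hb (by rw [hc]; exact hpa) ?_ h
      rw [hc, ← pow_mul, ← hab, hpf]
    rcases Nat.lt_or_ge (f : ℕ) 2 with hf | hf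
    · have hqp : Fintype.card F = p := by rw [hpf, show (f : ℕ) = 1 by omega, pow_one]
      right; right
      by_cases h5 : Fintype.card F = 5
      · exact Or.inr h5
      refine Or.inl ⟨hqp ▸ hp, ?_, ?_⟩
      · have h5p := hp.two_le
        by_contra hlt
        have : p = 4 := by omega
        rw [this] at hp
        norm_num at hp
      · have h5d : ¬ 5 ∣ Fintype.card F * (Fintype.card F ^ 2 - 1) := fun hd => by
          rcases hA5 hd with e | e
          · rw [hqp] at e; rw [e] at hp; norm_num at hp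
          · exact h5 e
        rw [five_dvd_iff _ (by omega)] at h5d
        omega
    · have hpp : p = 2 ∨ p = 3 := by
        by_contra hne
        have : 4 ≤ p ^ 1 := by
          rw [pow_one]
          by_contra hlt
          have := hp.two_le
          omega
        exact hsub 1 f (one_mul _).symm hf this
      have hfp : (f : ℕ).Prime := by
        by_contra hnp
        obtain ⟨a, ha, ha1, haf⟩ := Nat.exists_dvd_of_not_prime2 hf hnp
        obtain ⟨b, hb⟩ := ha
        refine hsub a b hb ?_ ?_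
        · rcases b with _ | _ | b <;> omega
        · calc 4 = 2 ^ 2 := rfl
            _ ≤ p ^ a := le_trans (Nat.pow_le_pow_left hp.two_le 2) (Nat.pow_le_pow_right hp.pos ha1)
      rcases hpp with e | e
      · exact Or.inl ⟨f, hfp, by rw [hpf, e]⟩
      · refine Or.inr (Or.inl ⟨f, hfp, fun hf2 => ?_, by rw [hpf, e]⟩)
        have h9 : Fintype.card F = 9 := by rw [hpf, e, hf2]; norm_num
        rcases hA5 (by rw [h9]; norm_num) with h' | h' <;> omega
  · intro h
    have hge : 4 ≤ Fintype.card F := by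
      rcases h with ⟨r, hr, e⟩ | ⟨r, hr, -, e⟩ | ⟨-, h5, -⟩ | e
      · rw [e]; exact le_trans (show 4 ≤ 2 ^ 2 by norm_num) (Nat.pow_le_pow_right (by norm_num) hr.two_le)
      · rw [e]; exact le_trans (show 4 ≤ 3 ^ 2 by norm_num) (Nat.pow_le_pow_right (by norm_num) hr.two_le)
      · omega
      · omega
    refine ⟨psl_simple_finite 2 le_rfl (by omega), fun hc => not_solvable_psl hge
      (Group.isSolvable_of_comm fun a b => hc.is_comm.comm a b), fun M hM => ?_⟩
    rcases dickson p M with ⟨k, -, hc⟩ | ⟨g, hg⟩ | hexc | ⟨j, ι, hiso⟩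
    · rcases hc with ⟨hcy, -⟩ | ⟨-, -, ⟨e⟩⟩
      · haveI := hcy
        exact Group.isSolvable_of_comm fun a b => IsCyclic.commGroup.mul_comm a b
      · haveI : Group.IsSolvable (DihedralGroup k) := isSolvable_dihedral k
        exact Group.isSolvable_of_isSolvable_injective (f := e.toMonoidHom) e.injective
    · exact isSolvable_of_borel p hg
    · rcases hexc with ⟨⟨e⟩⟩ | ⟨⟨e⟩⟩ | ⟨⟨e⟩⟩
      · exact Cfsg.Agent.Core.isSolvable_of_card_dvd_two_primes (a := 3) (b := 1) Nat.prime_two Nat.prime_three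
          (by rw [Nat.card_congr e.toEquiv, card_four_five.1]; norm_num)
      · exact Cfsg.Agent.Core.isSolvable_of_card_dvd_two_primes (a := 3) (b := 1) Nat.prime_two Nat.prime_three
          (by rw [Nat.card_congr e.toEquiv, card_four_five.2.1]; norm_num)
      · exfalso
        have h5 := (Cfsg.Agent.S0804.result (F := F) rfl).1 ⟨M, ⟨e⟩⟩
        rw [five_dvd_iff _ (by omega)] at h5
        have hq45 : Fintype.card F = 4 ∨ Fintype.card F = 5 := by
          rcases h with ⟨r, hr, hq⟩ | ⟨r, hr, hr2, hq⟩ | ⟨-, -, h23⟩ | hq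
          · rcases hr.eq_two_or_odd' with rfl | ho
            · left; simpa using hq
            · have := mod_five_two r ho; rw [hq] at h5; omega
          · have := mod_five_three r (hr.eq_two_or_odd'.resolve_left hr2); rw [hq] at h5; omega
          · omega
          · right; exact hq
        refine hM (Subgroup.eq_top_of_card_eq _ ?_)
        rw [Nat.card_congr e.toEquiv, card_four_five.2.2]
        rcases hq45 with hq | hq <;> rw [hq] at hG
        · rw [show Nat.gcd 2 (4 - 1) = 1 from rfl, one_mul] at hG; exact hG.symm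
        · rw [show Nat.gcd 2 (5 - 1) = 2 from rfl] at hG
          norm_num [-Nat.card_eq_fintype_card] at hG
          omega
    · haveI := Fintype.ofFinite (GaloisField p j)
      obtain ⟨m, hm, hcard, hm1⟩ := exists_degree ι
      by_cases h1 : m = 1
      · exfalso
        rcases hiso with ⟨⟨e⟩⟩ | ⟨-, c, hc, -⟩
        · refine hM (Subgroup.eq_top_of_card_eq _ (Nat.eq_of_mul_eq_mul_left
            (Nat.gcd_pos_of_pos_left (Fintype.card F - 1) (show 0 < 2 by norm_num)) ?_))
          have hkq : Fintype.card (GaloisField p j) = Fintype.card F := by rwa [h1, pow_one] at hcard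
          rw [hG, Nat.card_congr e.toEquiv, ← hkq, Cfsg.Agent.Linear.card_PSL_two (F := GaloisField p j)]
        · exact hc (by rw [hm1 h1]; trivial)
      have hk23 : Fintype.card (GaloisField p j) = 2 ∨ Fintype.card (GaloisField p j) = 3 := by
        generalize Fintype.card (GaloisField p j) = k at hcard
        rcases h with ⟨r, hr, hq⟩ | ⟨r, hr, -, hq⟩ | ⟨hqp, -⟩ | hq
        · rw [hq] at hcard
          have hkd : k ∣ 2 ^ r := hcard ▸ dvd_pow_self k (by omega)
          obtain ⟨a, -, rfl⟩ := (Nat.dvd_prime_pow Nat.prime_two).1 hkd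
          rw [← pow_mul] at hcard
          have hdv : m ∣ r := Dvd.intro_left a (Nat.pow_right_injective le_rfl hcard)
          rcases (Nat.dvd_prime hr).1 hdv with rfl | rfl
          · omega
          · have := Nat.pow_right_injective le_rfl hcard
            have : a = 1 := Nat.eq_of_mul_eq_mul_right hr.pos (by omega)
            left; rw [this, pow_one]
        · rw [hq] at hcard
          have hkd : k ∣ 3 ^ r := hcard ▸ dvd_pow_self k (by omega)
          obtain ⟨a, -, rfl⟩ := (Nat.dvd_prime_pow Nat.prime_three).1 hkd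
          rw [← pow_mul] at hcard
          have hdv : m ∣ r := Dvd.intro_left a (Nat.pow_right_injective (by norm_num) hcard)
          rcases (Nat.dvd_prime hr).1 hdv with rfl | rfl
          · omega
          · have := Nat.pow_right_injective (a := 3) (by norm_num) hcard
            have : a = 1 := Nat.eq_of_mul_eq_mul_right hr.pos (by omega)
            right; rw [this, pow_one]
        · exact absurd (hcard ▸ hqp) (Nat.Prime.not_prime_pow (by omega))
        · rw [hq] at hcard
          exact absurd (hcard ▸ Nat.prime_five) (Nat.Prime.not_prime_pow (by omega))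
      have hdvd : Nat.card M ∣ 2 ^ 3 * 3 ^ 1 := by
        rcases hiso with ⟨⟨e⟩⟩ | ⟨⟨e⟩, -⟩ <;> rw [Nat.card_congr e.toEquiv]
        · refine (Dvd.intro_left _ rfl : _ ∣ Nat.gcd 2 (Fintype.card (GaloisField p j) - 1) * _).trans ?_
          rw [Cfsg.Agent.Linear.card_PSL_two (F := GaloisField p j)]
          rcases hk23 with e | e <;> rw [e] <;> norm_num
        · rw [Cfsg.Agent.Linear.card_PGL_two (F := GaloisField p j)]
          rcases hk23 with e | e <;> rw [e] <;> norm_num
      exact Cfsg.Agent.Core.isSolvable_of_card_dvd_two_primes Nat.prime_two Nat.prime_three hdvd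
where
  isSolvable_dihedral (k : ℕ) : Group.IsSolvable (DihedralGroup k) := by
    let f : DihedralGroup k →* Multiplicative (ZMod 2) := MonoidHom.mk'
      (fun x => Multiplicative.ofAdd (match x with | .r _ => (0 : ZMod 2) | .sr _ => 1))
      (by rintro (a | a) (b | b) <;> simp <;> rfl)
    haveI : Group.IsSolvable f.ker := Group.isSolvable_of_comm fun a b => by
      obtain ⟨a | a, ha⟩ := a <;> obtain ⟨b | b, hb⟩ := b <;>
        first
        | (simp [f, MonoidHom.mem_ker] at ha; done)
        | (simp [f, MonoidHom.mem_ker] at hb; done)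
        | (exact Subtype.ext (by simp [add_comm]))
    exact Group.isSolvable_of_ker_le_range f.ker.subtype f (by simp)

end Cfsg.Agent.Linear.PSL2Dickson
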