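import Cfsg.Agent.Linear.PSL2Dickson
import Mathlib

/-!
# Subfield subgroups of `PSL₂(q)` up to conjugation in `PGL₂(q)`
-/

set_option autoImplicit false
set_option linter.unusedSectionVars false

namespace Cfsg.Agent.Linear.PSL2Ext

open Matrix Cfsg.Agent.Dickson

variable {F : Type*} [Field F]

local notation "SL" => Matrix.SpecialLinearGroup (Fin 2) F
local notation "PSL" => Matrix.ProjectiveSpecialLinearGroup (Fin 2) F

/-- The matrices with entries in a subfield. -/
def entriesIn (L : Subfield F) : Subgroup (Matrix.SpecialLinearGroup (Fin 2) F) where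
  carrier := {g | ∀ i j, g.1 i j ∈ L}
  one_mem' := fun i j => by
    fin_cases i <;> fin_cases j <;> simp [L.one_mem, L.zero_mem]
  mul_mem' := fun {a b} ha hb i j => by
    rw [mul_apply2]
    exact L.add_mem (L.mul_mem (ha _ _) (hb _ _)) (L.mul_mem (ha _ _) (hb _ _))
  inv_mem' := fun {a} ha i j => by
    fin_cases i <;> fin_cases j
    · simpa using ha 1 1
    · simpa using ha 0 1
    · simpa using ha 1 0
    · simpa using ha 0 0

/-- `PSL₂` of a subfield. -/
def stdP (L : Subfield F) : Subgroup (Matrix.ProjectiveSpecialLinearGroup (Fin 2) F) :=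
  (entriesIn L).map toPSL

/-- The elements that are multiples of matrices over a subfield. -/
def extP (L : Subfield F) : Subgroup (Matrix.ProjectiveSpecialLinearGroup (Fin 2) F) where
  carrier := {x | ∃ (g : Matrix.SpecialLinearGroup (Fin 2) F) (c : F),
    toPSL g = x ∧ c ≠ 0 ∧ ∀ i j, c * g.1 i j ∈ L}
  one_mem' := ⟨1, 1, map_one _, one_ne_zero, fun i j => by
    fin_cases i <;> fin_cases j <;> simp [L.one_mem, L.zero_mem]⟩
  mul_mem' := by
    rintro _ _ ⟨g, c, rfl, hc, hg⟩ ⟨h, d, rfl, hd, hh⟩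
    refine ⟨g * h, c * d, map_mul _ _ _, mul_ne_zero hc hd, fun i j => ?_⟩
    rw [mul_apply2, (fun a b e f => by ring : ∀ a b e f : F,
      c * d * (a * b + e * f) = (c * a) * (d * b) + (c * e) * (d * f))]
    exact L.add_mem (L.mul_mem (hg _ _) (hh _ _)) (L.mul_mem (hg _ _) (hh _ _))
  inv_mem' := by
    rintro _ ⟨g, c, rfl, hc, hg⟩
    refine ⟨g⁻¹, c, map_inv _ _, hc, fun i j => ?_⟩
    fin_cases i <;> fin_cases j
    · simpa using hg 1 1
    · simpa using hg 0 1
    · simpa using hg 1 0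
    · simpa using hg 0 0

theorem sq_mem {L : Subfield F} {g : SL} {c : F} (h : ∀ i j, c * g.1 i j ∈ L) : c * c ∈ L := by
  have hd := det_eq g
  have : c * c = (c * g.1 0 0) * (c * g.1 1 1) - (c * g.1 0 1) * (c * g.1 1 0) := by
    linear_combination -(c * c) * hd
  rw [this]
  exact L.sub_mem (L.mul_mem (h _ _) (h _ _)) (L.mul_mem (h _ _) (h _ _))

theorem stdP_le_extP (L : Subfield F) : stdP L ≤ extP L := by
  rintro _ ⟨g, hg, rfl⟩
  exact ⟨g, 1, rfl, one_ne_zero, fun i j => by rw [one_mul]; exact hg i j⟩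

theorem extP_mono {L L' : Subfield F} (h : L ≤ L') : extP L ≤ extP L' := by
  rintro _ ⟨g, c, rfl, hc, hg⟩
  exact ⟨g, c, rfl, hc, fun i j => h (hg i j)⟩

theorem uel_mem_extP {L : Subfield F} {x : F} : toPSL (uel x) ∈ extP L ↔ x ∈ L := by
  refine ⟨?_, fun hx => ⟨uel x, 1, rfl, one_ne_zero, fun i j => ?_⟩⟩
  · rintro ⟨g, c, hg, hc, hgc⟩
    have h00 := hgc 0 0
    have h01 := hgc 0 1
    rcases toPSL_eq_iff.1 hg with rfl | rfl
    · simp at h00 h01
      have := L.div_mem h01 h00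
      rwa [mul_div_cancel_left₀ _ hc] at this
    · simp at h00 h01
      have := L.div_mem h01 h00
      rwa [mul_div_cancel_left₀ _ hc] at this
  · fin_cases i <;> fin_cases j <;> simp [hx, L.one_mem, L.zero_mem]

theorem extP_ne_top {L : Subfield F} (hL : L ≠ ⊤) : extP L ≠ ⊤ := fun h =>
  hL (eq_top_iff.2 fun x _ => uel_mem_extP.1 (h ▸ Subgroup.mem_top _))

theorem le_of_extP_le {L L' : Subfield F} (h : stdP L ≤ extP L') : L ≤ L' := fun x hx =>
  uel_mem_extP.1 (h (Subgroup.mem_map_of_mem _ fun i j => by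
    fin_cases i <;> fin_cases j <;> simp [hx, L.one_mem, L.zero_mem]))

theorem entriesIn_eq_range (L : Subfield F) :
    entriesIn L = (Matrix.SpecialLinearGroup.map (L.subtype : L →+* F)).range := by
  refine le_antisymm (fun g hg => ?_) ?_
  · have hd : (Matrix.of fun i j => (⟨g.1 i j, hg i j⟩ : L)).det = 1 := by
      refine L.subtype.injective ?_
      rw [RingHom.map_det, map_one]
      exact g.2
    exact ⟨⟨_, hd⟩, Subtype.ext (Matrix.ext fun i j => rfl)⟩
  · rintro _ ⟨g, rfl⟩ i j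
    exact (g.1 i j).2

theorem nonempty_stdP_equiv (L : Subfield F) :
    Nonempty (stdP L ≃* Matrix.ProjectiveSpecialLinearGroup (Fin 2) L) := by
  have hrange : stdP L = (PSL2PrimeTo.pslMap' (L.subtype : L →+* F)).range := by
    rw [stdP, entriesIn_eq_range, MonoidHom.map_range]
    ext y
    constructor
    · rintro ⟨x, rfl⟩; exact ⟨toPSL x, rfl⟩
    · rintro ⟨x, rfl⟩
      obtain ⟨x, rfl⟩ := toPSL_surjective x
      exact ⟨x, rfl⟩
  exact ⟨(MulEquiv.subgroupCongr hrange).trans (MonoidHom.ofInjective (PSL2PrimeTo.pslMap'_injective _)).symm⟩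

variable [Fintype F]

theorem isSquare_of_mem {L : Subfield F} {c : F} (hc : c ∉ L) (hc2 : c * c ∈ L) (x : L) :
    IsSquare (x : F) := by
  classical
  by_cases hx : IsSquare x
  · obtain ⟨e, rfl⟩ := hx
    exact ⟨(e : F), rfl⟩
  · have hdns : ¬ IsSquare (⟨c * c, hc2⟩ : L) := by
      rintro ⟨e, he⟩
      rcases mul_self_eq_mul_self_iff.1 (congrArg Subtype.val he) with h | h
      · exact hc (h ▸ e.2)
      · exact hc (h ▸ L.neg_mem e.2)
    haveI := Fintype.ofFinite L
    obtain ⟨e, he⟩ := Cfsg.Agent.KnownA.GL2.not_isSquare_mul hx hdns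
    have hc0 : c ≠ 0 := fun h => hc (h ▸ L.zero_mem)
    refine ⟨(e : F) / c, ?_⟩
    have := congrArg Subtype.val he
    simp at this
    rw [div_mul_div_comm, eq_div_iff (mul_ne_zero hc0 hc0), ← this]

/-- With a square root of a non-square of `L`, the extended group is `PGL₂(L)`. -/
theorem nonempty_extP_equiv {L : Subfield F} {c : F} (hc : c ∉ L) (hc2 : c * c ∈ L) :
    Nonempty (extP L ≃* Matrix.ProjGenLinGroup (Fin 2) L) := by
  have hsq : ∀ x : L, IsSquare (L.subtype x) := isSquare_of_mem hc hc2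
  obtain ⟨f, hf, ⟨E⟩⟩ := PSL2Std.exists_pgl_hom (L.subtype : L →+* F) hsq
  have hrange : extP L = f.range := by
    refine le_antisymm ?_ ?_
    · rintro _ ⟨g, d, rfl, hd, hg⟩
      let G : Matrix (Fin 2) (Fin 2) L := Matrix.of fun i j => ⟨d * g.1 i j, hg i j⟩
      have hmap : G.map L.subtype = d • g.1 := by ext i j; rfl
      have hdet : G.det ≠ 0 := fun h0 => by
        have h1 : L.subtype G.det = d ^ 2 := by
          rw [RingHom.map_det, RingHom.mapMatrix_apply, hmap, Matrix.det_smul, g.2, Fintype.card_fin, mul_one]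
        rw [h0, map_zero] at h1
        exact pow_ne_zero 2 hd h1.symm
      exact ⟨Matrix.GeneralLinearGroup.mkOfDetNeZero G hdet, hf _ g d hd hmap⟩
    · rintro _ ⟨G, rfl⟩
      obtain ⟨s, hs⟩ := hsq G.1.det
      have hd0 : L.subtype G.1.det ≠ 0 :=
        (map_ne_zero _).2 (Matrix.GeneralLinearGroup.det_ne_zero G)
      have hs0 : s ≠ 0 := fun h => hd0 (by rw [hs, h, mul_zero])
      let g : SL := ⟨s⁻¹ • G.1.map L.subtype, by
        rw [Matrix.det_smul, Fintype.card_fin, ← RingHom.mapMatrix_apply, ← RingHom.map_det, hs]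
        field_simp⟩
      have hmap : G.1.map L.subtype = s • g.1 := by
        rw [show g.1 = s⁻¹ • G.1.map L.subtype from rfl, smul_smul, mul_inv_cancel₀ hs0, one_smul]
      refine ⟨g, s, (hf G g s hs0 hmap).symm, hs0, fun i j => ?_⟩
      have := congrFun (congrFun hmap i) j
      simp at this
      rw [← this]
      exact (G.1 i j).2
  exact ⟨(MulEquiv.subgroupCongr hrange).trans E⟩

/-- Conjugation by an element of `GL₂`. -/
noncomputable def glAut (g : GL (Fin 2) F) :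
    Matrix.ProjectiveSpecialLinearGroup (Fin 2) F ≃* Matrix.ProjectiveSpecialLinearGroup (Fin 2) F :=
  QuotientGroup.congr (Subgroup.center _) (Subgroup.center _)
    (MulEquiv.ofBijective (conjGL g) (Finite.injective_iff_bijective.1 (conjGL_injective g)))
    (Subgroup.characteristic_iff_map_eq.1 inferInstance _)

theorem glAut_toPSL (g : GL (Fin 2) F) (x : SL) : glAut g (toPSL x) = toPSL (conjGL g x) := rfl

theorem glAut_mul (g h : GL (Fin 2) F) (x : PSL) : glAut (g * h) x = glAut g (glAut h x) := by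
  obtain ⟨x, rfl⟩ := toPSL_surjective x
  rw [glAut_toPSL, glAut_toPSL, glAut_toPSL]
  congr 1
  refine Subtype.ext ?_
  change (g * h).1 * x.1 * (g * h)⁻¹.1 = g.1 * (h.1 * x.1 * h⁻¹.1) * g⁻¹.1
  rw [_root_.mul_inv_rev, Units.val_mul, Units.val_mul]
  simp only [mul_assoc]

theorem glAut_toGL (s : SL) (x : PSL) :
    glAut (Matrix.SpecialLinearGroup.toGL s) x = MulAut.conj (toPSL s) x := by
  obtain ⟨x, rfl⟩ := toPSL_surjective x
  rw [glAut_toPSL, MulAut.conj_apply, ← map_inv, ← map_mul, ← map_mul]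
  congr 1

theorem map_glAut_mul (g h : GL (Fin 2) F) (H : Subgroup PSL) :
    H.map (glAut (g * h)).toMonoidHom = (H.map (glAut h).toMonoidHom).map (glAut g).toMonoidHom := by
  rw [Subgroup.map_map]
  congr 1
  exact MonoidHom.ext fun x => glAut_mul g h x

theorem map_glAut_inv (g : GL (Fin 2) F) (H : Subgroup PSL) :
    (H.map (glAut g).toMonoidHom).map (glAut g⁻¹).toMonoidHom = H := by
  rw [← map_glAut_mul, inv_mul_cancel]
  ext x
  constructor
  · rintro ⟨y, hy, rfl⟩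
    obtain ⟨z, rfl⟩ := toPSL_surjective y
    change toPSL (conjGL (1 : GL (Fin 2) F) z) ∈ H
    rwa [show conjGL (1 : GL (Fin 2) F) z = z from Subtype.ext (by show (1 : GL (Fin 2) F).1 * z.1 * _ = _; simp)]
  · intro hx
    obtain ⟨z, rfl⟩ := toPSL_surjective x
    refine ⟨toPSL z, hx, ?_⟩
    change toPSL (conjGL (1 : GL (Fin 2) F) z) = toPSL z
    rw [show conjGL (1 : GL (Fin 2) F) z = z from Subtype.ext (by show (1 : GL (Fin 2) F).1 * z.1 * _ = _; simp)]

open Cfsg.Agent.Linear.PSL2Borel Cfsg.Agent.Linear.PSL2Dickson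

variable (p : ℕ) [Fact p.Prime] [CharP F p]

/-- The normal form, with the conjugating matrix. -/
theorem normal_form' (H : Subgroup PSL) (hp : p ∣ Nat.card H) :
    (∃ g : PSL, H.map (MulAut.conj g).toMonoidHom ≤ borelP F) ∨
      ∃ (P : GL (Fin 2) F) (H3 : Subgroup SL) (c : F), c ≠ 0 ∧ uel 1 ∈ H3 ∧ lel c ∈ H3 ∧ (-1 : SL) ∈ H3 ∧
        H.map (glAut P).toMonoidHom = H3.map toPSL := by
  obtain ⟨c, b, hb0, hb⟩ := exists_conj_uel p H hp
  rcases borel_or_pair _ hb hb0 with h | ⟨t, d, hd, hu, hl⟩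
  · exact Or.inl ⟨_, h⟩
  right
  set H1 := H.map (MulAut.conj (toPSL c)).toMonoidHom with hH1
  set H2 := (pre H1).map (MulAut.conj (uel t)).toMonoidHom
  let g : GL (Fin 2) F := Matrix.GeneralLinearGroup.mkOfDetNeZero !![b⁻¹, 0; 0, 1] (by
    simp [Matrix.det_fin_two, hb0])
  have hneg : (-1 : SL) ∈ H2 := by
    refine ⟨-1, ?_, by simp⟩
    show toPSL (-1 : SL) ∈ H1
    rw [toPSL_eq_one_iff.2 (Or.inr rfl)]
    exact one_mem _
  refine ⟨g * Matrix.SpecialLinearGroup.toGL (uel t) * Matrix.SpecialLinearGroup.toGL c, H2.map (conjGL g),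
    d * b, mul_ne_zero hd hb0, ⟨uel b, hu, ?_⟩, ⟨lel d, hl, ?_⟩, ⟨-1, hneg, ?_⟩, ?_⟩
  · apply Subtype.ext
    change g.1 * (uel b).1 * (↑g⁻¹ : Matrix (Fin 2) (Fin 2) F) = (uel 1).1
    rw [Units.mul_inv_eq_iff_eq_mul]
    ext i j
    fin_cases i <;> fin_cases j <;> simp [g, uel, Matrix.mul_apply, Fin.sum_univ_two, hb0]
  · apply Subtype.ext
    change g.1 * (lel d).1 * (↑g⁻¹ : Matrix (Fin 2) (Fin 2) F) = (lel (d * b)).1
    rw [Units.mul_inv_eq_iff_eq_mul]
    ext i j
    fin_cases i <;> fin_cases j <;> simp [g, lel, Matrix.mul_apply, Fin.sum_univ_two, hb0]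
  · apply Subtype.ext
    change g.1 * (-1 : SL).1 * (↑g⁻¹ : Matrix (Fin 2) (Fin 2) F) = (-1 : SL).1
    rw [Units.mul_inv_eq_iff_eq_mul]
    simp
  · have e1 : H.map (glAut (Matrix.SpecialLinearGroup.toGL c)).toMonoidHom = H1 := by
      rw [hH1]
      congr 1
      exact MonoidHom.ext fun x => glAut_toGL c x
    have e2 : H1.map (glAut (Matrix.SpecialLinearGroup.toGL (uel t))).toMonoidHom = H2.map toPSL := by
      conv_lhs => rw [← Subgroup.map_comap_eq_self_of_surjective toPSL_surjective H1]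
      rw [Subgroup.map_map, Subgroup.map_map]
      congr 1
    have e3 : (H2.map toPSL).map (glAut g).toMonoidHom = (H2.map (conjGL g)).map toPSL := by
      generalize H2 = X
      rw [Subgroup.map_map, Subgroup.map_map]
      congr 1
    rw [mul_assoc, map_glAut_mul, map_glAut_mul, e1, e2, e3]

/-- The image of a subgroup with the root groups of a subfield. -/
theorem map_eq_of_std {K : Subfield F} {H3 : Subgroup SL} (h1 : ∀ x : F, uel x ∈ H3 ↔ x ∈ K)
    (h2 : ∀ x : F, lel x ∈ H3 ↔ x ∈ K) (h3 : ∀ g ∈ H3, g 1 0 = 0 ∨ g 0 0 / g 1 0 ∈ K) :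
    H3.map toPSL = stdP K ∨ (H3.map toPSL = extP K ∧ ∃ c : F, c ∉ K ∧ c * c ∈ K) := by
  classical
  haveI := Fintype.ofFinite K
  have hr : (K.subtype : K →+* F).fieldRange = K := by
    ext x
    exact ⟨fun ⟨y, hy⟩ => hy ▸ y.2, fun hx => ⟨⟨x, hx⟩, rfl⟩⟩
  have hstd : PSL2Std.IsStd (K.subtype : K →+* F) H3 := by
    refine ⟨fun x => (h1 _).2 x.2, fun x => (h2 _).2 x.2, fun x hx => ?_, fun g hg => ?_⟩
    · rw [hr]; exact (h1 x).1 hx
    · rw [hr]; exact h3 g hg
  have hle : entriesIn K ≤ H3 := by rw [entriesIn_eq_range]; exact PSL2Std.sl_le hstd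
  have hsc : ∀ g ∈ H3, ∃ c : F, c ≠ 0 ∧ ∀ i j, c * g.1 i j ∈ K := fun g hg => by
    obtain ⟨c, hc0, -, hc⟩ := PSL2Std.exists_scalar hstd hg
    rw [hr] at hc
    exact ⟨c, hc0, hc⟩
  by_cases hall : ∀ g ∈ H3, g ∈ entriesIn K
  · exact Or.inl (by rw [le_antisymm hall hle]; rfl)
  right
  push Not at hall
  obtain ⟨g0, hg0, hg0n⟩ := hall
  obtain ⟨c0, hc00, hc0g⟩ := hsc g0 hg0
  have key : ∀ (g : SL) (c : F), c ≠ 0 → (∀ i j, c * g.1 i j ∈ K) → g ∉ entriesIn K → c ∉ K := by
    intro g c hc0 hc hn hm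
    refine hn fun i j => ?_
    have := K.div_mem (hc i j) hm
    rwa [mul_div_cancel_left₀ _ hc0] at this
  have hc0K := key g0 c0 hc00 hc0g hg0n
  refine ⟨le_antisymm ?_ ?_, c0, hc0K, sq_mem hc0g⟩
  · rintro _ ⟨g, hg, rfl⟩
    obtain ⟨c, hc0, hc⟩ := hsc g hg
    exact ⟨g, c, rfl, hc0, hc⟩
  · rintro _ ⟨g, c, rfl, hc0, hc⟩
    refine Subgroup.mem_map_of_mem _ ?_
    by_cases hgE : g ∈ entriesIn K
    · exact hle hgE
    have hcK := key g c hc0 hc hgE
    have hns : ∀ (e : F) (he : e * e ∈ K), e ∉ K → ¬ IsSquare (⟨e * e, he⟩ : K) := by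
      rintro e he hn ⟨r, hr⟩
      rcases mul_self_eq_mul_self_iff.1 (congrArg Subtype.val hr) with h | h
      · exact hn (h ▸ r.2)
      · exact hn (h ▸ K.neg_mem r.2)
    obtain ⟨e, he⟩ := Cfsg.Agent.KnownA.GL2.not_isSquare_mul (hns c (sq_mem hc) hcK) (hns c0 (sq_mem hc0g) hc0K)
    have hcc : c * c0 ∈ K := by
      have he' : (c * c0) * (c * c0) = (e : F) * e := by
        have := congrArg Subtype.val he
        simp at this
        linear_combination this
      rcases mul_self_eq_mul_self_iff.1 he' with h | h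
      · rw [h]; exact e.2
      · rw [h]; exact K.neg_mem e.2
    have hmem : g * g0⁻¹ ∈ entriesIn K := by
      intro i j
      have h1 : c * c0 * (g * g0⁻¹).1 i j ∈ K := by
        have hinv : ∀ k l, c0 * (g0⁻¹).1 k l ∈ K := fun k l => by
          fin_cases k <;> fin_cases l
          · simpa using hc0g 1 1
          · simpa using hc0g 0 1
          · simpa using hc0g 1 0
          · simpa using hc0g 0 0
        rw [mul_apply2, (fun a b e f => by ring : ∀ a b e f : F,
          c * c0 * (a * b + e * f) = (c * a) * (c0 * b) + (c * e) * (c0 * f))]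
        exact K.add_mem (K.mul_mem (hc _ _) (hinv _ _)) (K.mul_mem (hc _ _) (hinv _ _))
      have := K.div_mem h1 hcc
      rwa [mul_div_cancel_left₀ _ (mul_ne_zero hc0 hc00)] at this
    have := mul_mem (hle hmem) hg0
    rwa [inv_mul_cancel_right] at this

/-- Dickson's list, with the position of the subgroup. -/
theorem dickson' (H : Subgroup PSL) :
    (∃ k : ℕ, (k ∣ (Fintype.card F + 1) / Nat.gcd 2 (Fintype.card F - 1) ∨
        k ∣ (Fintype.card F - 1) / Nat.gcd 2 (Fintype.card F - 1)) ∧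
      ((IsCyclic H ∧ Nat.card H = k) ∨ (2 ≤ k ∧ Nat.card H = 2 * k ∧ Nonempty (H ≃* DihedralGroup k)))) ∨
    (∃ g : PSL, H.map (MulAut.conj g).toMonoidHom ≤ borelP F) ∨
    ((¬ p ∣ Nat.card H ∧ (Nonempty (H ≃* alternatingGroup (Fin 4)) ∨ Nonempty (H ≃* Equiv.Perm (Fin 4)) ∨
      Nonempty (H ≃* alternatingGroup (Fin 5)))) ∨ (p = 3 ∧ Nonempty (H ≃* alternatingGroup (Fin 5)))) ∨
    (∃ (P : GL (Fin 2) F) (L : Subfield F),
      (H.map (glAut P).toMonoidHom = stdP L ∧
          Nonempty (H ≃* Matrix.ProjectiveSpecialLinearGroup (Fin 2) L)) ∨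
        (H.map (glAut P).toMonoidHom = extP L ∧ Nonempty (H ≃* Matrix.ProjGenLinGroup (Fin 2) L) ∧
          ∃ c : F, c ∉ L ∧ c * c ∈ L)) := by
  classical
  by_cases hpH : p ∣ Nat.card H
  swap
  · rcases PSL2PrimeTo.classification p H hpH with h | h
    · exact Or.inl h
    · exact Or.inr (Or.inr (Or.inl (Or.inl ⟨hpH, h⟩)))
  rcases normal_form' p H hpH with h | ⟨P, H3, c, hc0, hu, hl, hneg, hP⟩
  · exact Or.inr (Or.inl h)
  let E : H ≃* H3.map toPSL := ((glAut P).subgroupMap H).trans (MulEquiv.subgroupCongr hP)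
  have fin : ∀ K : Subfield F, (∀ x : F, uel x ∈ H3 ↔ x ∈ K) → (∀ x : F, lel x ∈ H3 ↔ x ∈ K) →
      (∀ g ∈ H3, g 1 0 = 0 ∨ g 0 0 / g 1 0 ∈ K) → ∃ (P : GL (Fin 2) F) (L : Subfield F),
      (H.map (glAut P).toMonoidHom = stdP L ∧
          Nonempty (H ≃* Matrix.ProjectiveSpecialLinearGroup (Fin 2) L)) ∨
        (H.map (glAut P).toMonoidHom = extP L ∧ Nonempty (H ≃* Matrix.ProjGenLinGroup (Fin 2) L) ∧
          ∃ c : F, c ∉ L ∧ c * c ∈ L) := fun K h1 h2 h3 => by
    refine ⟨P, K, ?_⟩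
    rcases map_eq_of_std h1 h2 h3 with e | ⟨e, d, hd, hd2⟩
    · obtain ⟨i⟩ := nonempty_stdP_equiv K
      exact Or.inl ⟨hP.trans e, ⟨E.trans ((MulEquiv.subgroupCongr e).trans i)⟩⟩
    · obtain ⟨i⟩ := nonempty_extP_equiv hd hd2
      exact Or.inr ⟨hP.trans e, ⟨E.trans ((MulEquiv.subgroupCongr e).trans i)⟩, d, hd, hd2⟩
  by_cases h2 : p = 2
  · subst h2
    rcases SL2Even.main hu hc0 hl with ⟨K, h1, h2, h3⟩ | ⟨m, C, hm, hcard, hCc, hC, hodd, ⟨e⟩⟩
    · exact Or.inr (Or.inr (Or.inr (fin K h1 h2 h3)))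
    · have e0 : H3 ≃* H3.map toPSL :=
        Subgroup.equivMapOfInjective H3 toPSL fun a b hab => SL2Even.toPSL_inj hab
      let e1 : H3 ≃* H := e0.trans E.symm
      obtain ⟨g, hg⟩ := hCc.exists_generator
      have ho : orderOf ((e1 (g : H3) : H) : PSL) = m := by
        rw [Subgroup.orderOf_coe, e1.orderOf_eq, Subgroup.orderOf_coe, orderOf_eq_card_of_forall_mem_zpowers hg, hC]
      refine Or.inl ⟨m, ?_, Or.inr ⟨hm, by rw [← Nat.card_congr e1.toEquiv, hcard], ⟨e1.symm.trans e⟩⟩⟩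
      rcases PSL2Classes.orderOf_dvd 2 ((e1 (g : H3) : H) : PSL) with h | h | h <;> rw [ho] at h
      · rcases (Nat.dvd_prime Nat.prime_two).1 h with e | e
        · omega
        · exact absurd ⟨1, e⟩ hodd
      · exact Or.inr h
      · exact Or.inl h
  -- odd characteristic
  let ub : H3 := ⟨uel 1, hu⟩
  let lc : H3 := ⟨lel c, hl⟩
  obtain ⟨P', hP'⟩ := exists_sylow_mem (p := p) (x := ub) (by simp [ub, tr]; norm_num)
  obtain ⟨Q, hQ⟩ := exists_sylow_mem (p := p) (x := lc) (by simp [lc, tr]; norm_num)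
  have hmP := mem_P_iff h2 one_ne_zero (ub := ub) rfl hP'
  have hne : Q ≠ P' := by
    rintro rfl
    exact hc0 (by simpa [lc] using ((hmP lc).mp hQ).1)
  have hS : 1 < Nat.card (Sylow p H3) := by
    haveI : Nontrivial (Sylow p H3) := ⟨⟨_, _, hne⟩⟩
    exact Finite.one_lt_card
  rcases card_sylow_cases h2 hS one_ne_zero (ub := ub) rfl hP' with hN | ⟨hp3, -, hg, hN, -⟩
  · obtain ⟨K, hK1, hK2, -⟩ :=
      SL2Subfield.exists_subfield h2 one_ne_zero hc0 (ub := ub) (lc := lc) rfl rfl hP' hQ hN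
    simp only [div_one] at hK1
    simp only [mul_one] at hK2
    refine Or.inr (Or.inr (Or.inr (fin K hK1 hK2 fun g hg => ?_)))
    by_cases h10 : g 1 0 = 0
    · exact Or.inl h10
    right
    let x : H3 := ⟨g, hg⟩
    have hxP : x • P' ≠ P' := fun e => by
      have hn : x ∈ Subgroup.normalizer ((P' : Subgroup H3) : Set H3) := Sylow.smul_eq_iff_mem_normalizer.mp e
      rw [← borel_eq_normalizer h2 one_ne_zero (ub := ub) rfl hP'] at hn
      exact h10 (mem_borel.mp hn)
    obtain ⟨u, hu', hue⟩ := transitive_of_card h2 hN hne hxP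
    have hz : u⁻¹ * (x * ub * x⁻¹) * u ∈ Q := by
      rw [← mem_smul_iff, hue]
      exact conj_mem_smul x hP'
    have hcomm := comm_of_mem h2 hQ hz
    have e00 := congrArg (fun g : SL => g 0 0) hcomm
    have hu1 := (hmP u).mp hu'
    have hu11 : (u : SL) 1 1 = 1 := by
      have := det_eq (u : SL)
      rw [hu1.1, hu1.2] at this
      linear_combination this
    have hyK : (u : SL) 0 1 ∈ K := by
      refine (hK1 _).1 ?_
      have : (uel ((u : SL) 0 1) : SL) = (u : SL) := by apply ext2 <;> simp [hu1.1, hu1.2, hu11]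
      rw [this]; exact u.2
    have key : c * ((g 0 0 - (u : SL) 0 1 * g 1 0) * (g 0 0 - (u : SL) 0 1 * g 1 0)) = 0 := by
      simp [lc, ub, x, mul_apply2, hu1.1, hu1.2, hu11] at e00
      linear_combination c * e00.resolve_right hc0
    have hgy := sub_eq_zero.mp (mul_self_eq_zero.mp ((mul_eq_zero.mp key).resolve_left hc0))
    rwa [hgy, mul_div_cancel_right₀ _ h10]
  · obtain ⟨e⟩ := alt_five p hp3 (c := ⟨-1, hneg⟩) rfl hg hN
    exact Or.inr (Or.inr (Or.inl (Or.inr ⟨hp3, ⟨E.trans e⟩⟩)))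

end Cfsg.Agent.Linear.PSL2Ext
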