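import Cfsg.Agent.Linear.PSL2MaxExc
import Cfsg.Agent.S0206
import Mathlib

/-!
# The maximal subgroups of `PSL₂(q)`
-/

set_option autoImplicit false
set_option linter.unusedSectionVars false

namespace Cfsg.Agent.Linear.PSL2Max

open scoped Pointwise
open Matrix Cfsg.Agent.Dickson Cfsg.Agent.Linear.PSL2Borel Cfsg.Agent.Linear.PSL2Dickson
  Cfsg.Agent.Linear.PSL2Ext Cfsg.Agent.KnownA.GL2

theorem center_map_equiv {G H : Type*} [Group G] [Group H] (e : G ≃* H) :
    (Subgroup.center G).map e.toMonoidHom = Subgroup.center H := by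
  ext x
  constructor
  · rintro ⟨y, hy, rfl⟩
    rw [Subgroup.mem_center_iff]
    intro z
    obtain ⟨w, rfl⟩ := e.surjective z
    show e w * e y = e y * e w
    rw [← map_mul, ← map_mul, Subgroup.mem_center_iff.1 hy w]
  · intro hx
    refine ⟨e.symm x, ?_, e.apply_symm_apply x⟩
    rw [SetLike.mem_coe, Subgroup.mem_center_iff]
    intro z
    apply e.injective
    rw [map_mul, map_mul, MulEquiv.apply_symm_apply]
    exact Subgroup.mem_center_iff.1 hx (e z)

/-- `PGL₂` along a ring isomorphism. -/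
noncomputable def pglCongr {K K' : Type*} [Field K] [Field K'] (e : K ≃+* K') :
    Matrix.ProjGenLinGroup (Fin 2) K ≃* Matrix.ProjGenLinGroup (Fin 2) K' :=
  QuotientGroup.congr _ _ (Units.mapEquiv e.mapMatrix.toMulEquiv) (center_map_equiv _)

variable {F : Type*} [Field F] [Fintype F]

local notation "SL" => Matrix.SpecialLinearGroup (Fin 2) F
local notation "PSL" => Matrix.ProjectiveSpecialLinearGroup (Fin 2) F

variable (p : ℕ) [Fact p.Prime] [CharP F p]

include p in
theorem exists_type0 (L : Subfield F) :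
    ∃ (K : Type) (_ : Field K) (_ : Fintype K), Nonempty (K ≃+* L) ∧ Fintype.card K = Nat.card L := by
  obtain ⟨j, ι, hι⟩ := exists_galois_hom p L
  haveI := Fintype.ofFinite (GaloisField p j)
  let e : GaloisField p j ≃+* L := (RingEquiv.ofBijective ι.rangeRestrictField
    ι.rangeRestrictField_bijective).trans (RingEquiv.subfieldCongr hι)
  exact ⟨GaloisField p j, inferInstance, inferInstance, ⟨e⟩, by
    rw [← Nat.card_eq_fintype_card]; exact Nat.card_congr e.toEquiv⟩

include p in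
/-- The maximal subgroups of `PSL₂(q)`. -/
theorem maximal_cases (hq : 4 ≤ Fintype.card F) {M : Subgroup PSL} (hM : IsCoatom M) :
    (∃ k, (k = np F ∨ k = nm F) ∧ Nat.card M = 2 * k ∧ Nonempty (M ≃* DihedralGroup k)) ∨
    M.index = Fintype.card F + 1 ∨
    ((Fintype.card F = p ∧ 5 ≤ p ∧ (p % 8 = 3 ∨ p % 8 = 5) ∧ ¬ (p % 10 = 1 ∨ p % 10 = 9) ∧
        Nonempty (M ≃* alternatingGroup (Fin 4))) ∨
      (Fintype.card F = p ∧ 5 ≤ p ∧ (p % 8 = 1 ∨ p % 8 = 7) ∧ Nonempty (M ≃* Equiv.Perm (Fin 4))) ∨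
      ((Fintype.card F % 10 = 1 ∨ Fintype.card F % 10 = 9) ∧
        (Fintype.card F = p ∨ (Fintype.card F = p ^ 2 ∧ (p % 10 = 3 ∨ p % 10 = 7))) ∧
        Nonempty (M ≃* alternatingGroup (Fin 5)))) ∨
    (∃ (P : GL (Fin 2) F) (L : Subfield F) (r : ℕ), r.Prime ∧ Nat.card L ^ r = Fintype.card F ∧ L ≠ ⊤ ∧
      M.map (glAut P).toMonoidHom = extP L ∧
      ((Fintype.card F % 2 = 0 ∨ Odd r) → Nonempty (M ≃* Matrix.ProjectiveSpecialLinearGroup (Fin 2) L)) ∧
      ((Fintype.card F % 2 = 1 ∧ r = 2) → Nonempty (M ≃* Matrix.ProjGenLinGroup (Fin 2) L))) := by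
  rcases dickson' p M with ⟨k, hk, hc⟩ | ⟨g, hg⟩ | hexc | ⟨P, L, h⟩
  · exact Or.inl ⟨k, coatom_dihedral p hq hM hk hc⟩
  · exact Or.inr (Or.inl (index_of_borel p hM hg))
  · refine Or.inr (Or.inr (Or.inl ?_))
    rcases hexc with ⟨hp, h | h | h⟩ | ⟨h3, h⟩ <;> obtain ⟨e⟩ := h
    · obtain ⟨a, b, c, d⟩ := exc_a4 p hM hp e
      exact Or.inl ⟨a, b, c, d, ⟨e⟩⟩
    · obtain ⟨a, b, c⟩ := exc_s4 p hM hp e
      exact Or.inr (Or.inl ⟨a, b, c, ⟨e⟩⟩)
    · obtain ⟨a, b⟩ := exc_a5 p hM (Or.inl hp) e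
      exact Or.inr (Or.inr ⟨a, b, ⟨e⟩⟩)
    · obtain ⟨a, b⟩ := exc_a5 p hM (Or.inr h3) e
      exact Or.inr (Or.inr ⟨a, b, ⟨e⟩⟩)
  · obtain ⟨r, hr⟩ := coatom_subfield p hM h
    exact Or.inr (Or.inr (Or.inr ⟨P, L, r, hr⟩))

theorem psl_two_dihedral {K : Type*} [Field K] [Fintype K] (hk : Fintype.card K = 2) :
    Nonempty (Matrix.ProjectiveSpecialLinearGroup (Fin 2) K ≃* DihedralGroup 3) := by
  haveI := Fact.mk Nat.prime_two
  haveI := Fact.mk Nat.prime_three
  have h2 : (2 : K) = 0 := PSL2Classes.two_eq_zero_of_even (by rw [hk])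
  set u := toPSL (uel (1 : K) : SL2 K)
  set v := toPSL (lel (1 : K) : SL2 K)
  have hne : ∀ g : SL2 K, g.1 0 1 ≠ 0 ∨ g.1 1 0 ≠ 0 → toPSL g ≠ 1 := by
    intro g hg e
    rcases toPSL_eq_one_iff.1 e with rfl | rfl <;> simp at hg
  have hu : orderOf u = 2 := orderOf_eq_prime (by
    rw [← map_pow, pow_two, ← uel_add, show (1 : K) + 1 = 0 by rw [← h2]; norm_num, uel_zero, map_one])
    (hne _ (by simp))
  have hv : orderOf v = 2 := orderOf_eq_prime (by
    rw [← map_pow, pow_two, ← lel_add, show (1 : K) + 1 = 0 by rw [← h2]; norm_num, lel_zero, map_one])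
    (hne _ (by simp))
  have huv : orderOf (u * v) = 3 := orderOf_eq_prime (by
    rw [← map_mul, ← map_pow]
    refine toPSL_eq_one_iff.2 (Or.inl ?_)
    rw [show (3 : ℕ) = 2 + 1 from rfl, pow_succ, pow_two]
    apply ext2 <;> simp [mul_apply2] <;> first
      | linear_combination (6 : K) * h2
      | linear_combination (4 : K) * h2
      | linear_combination (2 : K) * h2
      | linear_combination h2) (by rw [← map_mul]; exact hne _ (by simp [mul_apply2]))
  have hne' : u ≠ v := fun e => by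
    have hv2 : v * v = 1 := by
      have h := pow_orderOf_eq_one v
      generalize orderOf v = n at hv h
      subst hv
      rwa [pow_two] at h
    rw [e, hv2, orderOf_one] at huv
    omega
  obtain ⟨e⟩ := Cfsg.Agent.S0206.result u v hu hv hne'
  rw [huv] at e
  have hG := Cfsg.Agent.Linear.card_PSL_two (F := K)
  rw [hk] at hG
  norm_num [-Nat.card_eq_fintype_card] at hG
  have htop : Subgroup.closure ({u, v} : Set (Matrix.ProjectiveSpecialLinearGroup (Fin 2) K)) = ⊤ := by
    refine Subgroup.eq_top_of_card_eq _ ?_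
    rw [Nat.card_congr e.toEquiv, DihedralGroup.nat_card]
    exact hG.symm
  exact ⟨(Subgroup.topEquiv.symm.trans (MulEquiv.subgroupCongr htop.symm)).trans e⟩

include p in
/-- Maximal subgroups in even characteristic. -/
theorem maximal_even (heven : Even (Fintype.card F)) (hq : 4 ≤ Fintype.card F) {M : Subgroup PSL} (hM : IsCoatom M) :
    Nat.card M = Fintype.card F * (Fintype.card F - 1) ∨
    Nonempty (M ≃* DihedralGroup (Fintype.card F - 1)) ∨
    Nonempty (M ≃* DihedralGroup (Fintype.card F + 1)) ∨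
    (∃ (F₀ : Type) (_ : Field F₀) (_ : Fintype F₀) (r : ℕ), r.Prime ∧ Fintype.card F₀ ≠ 2 ∧
        Fintype.card F = Fintype.card F₀ ^ r ∧ Nonempty (M ≃* Matrix.ProjectiveSpecialLinearGroup (Fin 2) F₀)) := by
  have hev : Fintype.card F % 2 = 0 := Nat.even_iff.1 heven
  rcases parity (F := F) with ⟨-, hd, hnm, hnp⟩ | ⟨h, -⟩
  swap
  · omega
  rcases maximal_cases p hq hM with ⟨k, hk, -, he⟩ | hb | hexc | ⟨P, L, r, hr, hLr, hL, hmap, hi, -⟩
  · rcases hk with rfl | rfl
    · exact Or.inr (Or.inr (Or.inl (hnp ▸ he)))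
    · exact Or.inr (Or.inl (hnm ▸ he))
  · left
    have := card_mul_of_index hb
    rwa [hd, one_mul] at this
  · exfalso
    rcases hexc with ⟨h, h5, -⟩ | ⟨h, h5, -⟩ | ⟨h, -⟩
    · have := (Fact.out : p.Prime).eq_two_or_odd; omega
    · have := (Fact.out : p.Prime).eq_two_or_odd; omega
    · omega
  · obtain ⟨e⟩ := hi (Or.inl hev)
    obtain ⟨K, _, _, ⟨eK⟩, hK⟩ := exists_type0 p L
    let e' : M ≃* Matrix.ProjectiveSpecialLinearGroup (Fin 2) K := e.trans (Cfsg.Agent.Linear.pslCongr eK).symm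
    by_cases h2 : Fintype.card K = 2
    swap
    · exact Or.inr (Or.inr (Or.inr ⟨K, inferInstance, inferInstance, r, hr, h2, (hK.symm ▸ hLr).symm, ⟨e'⟩⟩))
    obtain ⟨d⟩ := psl_two_dihedral h2
    let ed : M ≃* DihedralGroup 3 := e'.trans d
    haveI := Fact.mk Nat.prime_three
    have hc : Nat.card M = 2 * 3 := by rw [Nat.card_congr ed.toEquiv, DihedralGroup.nat_card]
    have hp2 : p = 2 := by
      obtain ⟨f, hp, hf⟩ := FiniteField.card F p
      have h2d : 2 ∣ p ^ (f : ℕ) := hf ▸ (Nat.dvd_of_mod_eq_zero hev)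
      exact ((Nat.prime_dvd_prime_iff_eq Nat.prime_two hp).1 (Nat.prime_two.dvd_of_dvd_pow h2d)).symm
    set x : PSL := ((ed.symm (DihedralGroup.r 1) : M) : PSL) with hx
    have hxo : orderOf x = 3 := by
      rw [hx, Subgroup.orderOf_coe, ed.symm.orderOf_eq, DihedralGroup.orderOf_r_one]
    have hidx : ((Subgroup.zpowers x).subgroupOf M).index = 2 := by
      have h1 := ((Subgroup.zpowers x).subgroupOf M).index_mul_card
      rw [Nat.card_congr (Subgroup.subgroupOfEquivOfLe (Subgroup.zpowers_le.2 (SetLike.coe_mem _))).toEquiv,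
        Nat.card_zpowers, hxo, hc] at h1
      omega
    have hle : M ≤ Subgroup.normalizer (Subgroup.zpowers x : Set PSL) :=
      (Subgroup.normal_subgroupOf_iff_le_normalizer (Subgroup.zpowers_le.2 (SetLike.coe_mem _))).1
        (Subgroup.normal_of_index_eq_two hidx)
    have h := coatom_card_lower p hq hM (fun e => by rw [e, orderOf_one] at hxo; omega)
      (by rw [hxo, hp2]; norm_num) hle
    rw [hc, hnm] at h
    exact Or.inr (Or.inl (by rw [show Fintype.card F - 1 = 3 by omega]; exact ⟨ed⟩))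

/-- Klein four-groups have big normalisers. -/
theorem klein_normalizer (h2 : (2 : F) ≠ 0) {V : Subgroup PSL} (hV : IsKleinFour V) :
    12 ≤ Nat.card (Subgroup.normalizer (V : Set PSL)) := by
  classical
  set N := Subgroup.normalizer (V : Set PSL)
  have hcard := Cfsg.Agent.Linear.twelve_mul_card_kleinFour (F := F) h2
  have hconj : ∀ c : PSL, IsKleinFour (V.map (MulAut.conj c).toMonoidHom) := fun c =>
    ⟨(Nat.card_congr ((MulAut.conj c).subgroupMap V).toEquiv).symm.trans hV.card_four,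
      (Monoid.exponent_eq_of_mulEquiv ((MulAut.conj c).subgroupMap V)).symm.trans hV.exponent_two⟩
  have hinj : Function.Injective fun x : PSL ⧸ N =>
      (⟨V.map (MulAut.conj x.out).toMonoidHom, hconj _⟩ :
        {W : Subgroup PSL // IsKleinFour W}) := by
    intro x y e
    have e' := congrArg Subtype.val e
    rw [← QuotientGroup.out_eq' x, ← QuotientGroup.out_eq' y, QuotientGroup.eq]
    refine Subgroup.mem_normalizer_fintype fun v hv => ?_
    have hm : y.out * v * (y.out)⁻¹ ∈ V.map (MulAut.conj x.out).toMonoidHom := by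
      rw [show V.map (MulAut.conj x.out).toMonoidHom = V.map (MulAut.conj y.out).toMonoidHom from e']
      exact Subgroup.mem_map_of_mem (MulAut.conj y.out).toMonoidHom hv
    obtain ⟨u, hu, hue⟩ := hm
    have : u = (x.out)⁻¹ * y.out * v * ((x.out)⁻¹ * y.out)⁻¹ := by
      have h' : x.out * u * (x.out)⁻¹ = y.out * v * (y.out)⁻¹ := hue
      calc u = (x.out)⁻¹ * (x.out * u * (x.out)⁻¹) * x.out := by group
        _ = _ := by rw [h']; group
    show (x.out)⁻¹ * y.out * v * ((x.out)⁻¹ * y.out)⁻¹ ∈ V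
    rw [← this]; exact hu
  have h1 := Nat.card_le_card_of_injective _ hinj
  rw [← Subgroup.index_eq_card] at h1
  have h3 := N.index_mul_card
  have hpos : 0 < N.index := Nat.pos_of_ne_zero Subgroup.index_ne_zero_of_finite
  refine Nat.le_of_mul_le_mul_left ?_ hpos
  rw [h3, ← hcard, mul_comm]
  exact Nat.mul_le_mul_left _ h1

/-- The Klein group in `DihedralGroup 4`. -/
def kleinD4 : Subgroup (DihedralGroup 4) where
  carrier := {x | x * x = 1 ∧ (x = 1 ∨ x = DihedralGroup.r 2 ∨ x = DihedralGroup.sr 0 ∨ x = DihedralGroup.sr 2)}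
  one_mem' := by simp
  mul_mem' := by
    rintro a b ⟨-, ha⟩ ⟨-, hb⟩
    rcases ha with rfl | rfl | rfl | rfl <;> rcases hb with rfl | rfl | rfl | rfl <;>
      exact ⟨by decide, by decide⟩
  inv_mem' := by
    rintro a ⟨-, ha⟩
    rcases ha with rfl | rfl | rfl | rfl <;> exact ⟨by decide, by decide⟩

theorem exists_klein_normal {k : ℕ} (hk : k = 2 ∨ k = 4) :
    ∃ V : Subgroup (DihedralGroup k), V.Normal ∧ IsKleinFour V := by
  rcases hk with rfl | rfl
  · refine ⟨⊤, inferInstance, ⟨?_, ?_⟩⟩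
    · rw [Subgroup.card_top, DihedralGroup.nat_card]
    · rw [Monoid.exponent_eq_of_mulEquiv Subgroup.topEquiv, DihedralGroup.exponent]; rfl
  · refine ⟨kleinD4, ⟨fun a ha g => ?_⟩, ⟨?_, ?_⟩⟩
    · obtain ⟨-, ha⟩ := ha
      rcases ha with rfl | rfl | rfl | rfl <;> revert g <;>
        exact fun g => ⟨by revert g; decide, by revert g; decide⟩
    · have hset : (kleinD4 : Set (DihedralGroup 4)) =
          ↑({1, DihedralGroup.r 2, DihedralGroup.sr 0, DihedralGroup.sr 2} : Finset (DihedralGroup 4)) := by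
        ext x
        simp only [Finset.coe_insert, Finset.coe_singleton, Set.mem_insert_iff, Set.mem_singleton_iff]
        exact ⟨fun h => h.2, fun h => ⟨by rcases h with rfl | rfl | rfl | rfl <;> decide, h⟩⟩
      show Nat.card ((kleinD4 : Set (DihedralGroup 4))) = 4
      rw [hset, Nat.card_coe_set_eq, Set.ncard_coe_finset]
      rfl
    · have hdvd : Monoid.exponent kleinD4 ∣ 2 := Monoid.exponent_dvd_of_forall_pow_eq_one fun x =>
        Subtype.ext (by rw [SubmonoidClass.coe_pow, pow_two]; exact x.2.1)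
      refine ((Nat.dvd_prime Nat.prime_two).1 hdvd).resolve_left fun h => ?_
      have hs : Subsingleton kleinD4 := Monoid.exp_eq_one_iff.1 h
      have := congrArg Subtype.val (hs.elim (⟨DihedralGroup.r 2, ⟨by decide, Or.inr (Or.inl rfl)⟩⟩ : kleinD4) 1)
      exact absurd this (by decide)

/-- `D₂` and `D₄` are not maximal. -/
theorem no_small_dihedral (h2 : (2 : F) ≠ 0) (hq : 4 ≤ Fintype.card F) {M : Subgroup PSL} (hM : IsCoatom M)
    {k : ℕ} (hk : k = 2 ∨ k = 4) (e : M ≃* DihedralGroup k) : False := by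
  obtain ⟨V0, hVn, hV⟩ := exists_klein_normal hk
  set W : Subgroup M := V0.map e.symm.toMonoidHom
  have hWn : W.Normal := hVn.map _ e.symm.surjective
  set V : Subgroup PSL := W.map M.subtype
  have eV : V0 ≃* V := (e.symm.subgroupMap V0).trans (Subgroup.equivMapOfInjective W _ M.subtype_injective)
  have hVk : IsKleinFour V := ⟨(Nat.card_congr eV.toEquiv).symm.trans hV.card_four,
    (Monoid.exponent_eq_of_mulEquiv eV).symm.trans hV.exponent_two⟩
  have hMN : M ≤ Subgroup.normalizer (V : Set PSL) := fun y hy => by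
    refine Subgroup.mem_normalizer_fintype ?_
    rintro _ ⟨w, hw, rfl⟩
    exact ⟨_, hWn.conj_mem w hw ⟨y, hy⟩, rfl⟩
  have hc : Nat.card M ≤ 8 := by
    rw [Nat.card_congr e.toEquiv, DihedralGroup.nat_card]; omega
  have h12 := klein_normalizer h2 hVk
  have hVne : V ≠ ⊥ := fun h => by
    have h4 := hVk.card_four
    rw [h, Subgroup.card_bot] at h4
    omega
  have hVtop : V ≠ ⊤ := fun h => hM.1 (top_le_iff.1 (h ▸ Subgroup.map_subtype_le W))
  rcases hMN.lt_or_eq with hlt | heq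
  · exact normalizer_ne_top hq hVne hVtop (hM.2 _ hlt)
  · rw [← heq] at h12; omega

/-- A small dihedral normaliser of a Sylow subgroup inside a bigger proper subgroup is not maximal. -/
theorem no_sylow_dihedral (hq : 4 ≤ Fintype.card F) {M : Subgroup PSL} (hM : IsCoatom M) {r : ℕ} [Fact r.Prime]
    (e : M ≃* DihedralGroup r) (hr2 : ¬ r ^ 2 ∣ Nat.card PSL)
    {H : Subgroup PSL} (hH : H ≠ ⊤) (hrH : r ∣ Nat.card H)
    (hn : Nat.card (Sylow r H) * (2 * r) ≤ Nat.card H) (hbig : 2 * r < Nat.card H) : False := by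
  have hr := (Fact.out : r.Prime)
  have hMc : Nat.card M = 2 * r := by rw [Nat.card_congr e.toEquiv, DihedralGroup.nat_card]
  set x : PSL := ((e.symm (DihedralGroup.r 1) : M) : PSL) with hx
  have hxo : orderOf x = r := by
    rw [hx, Subgroup.orderOf_coe, e.symm.orderOf_eq, DihedralGroup.orderOf_r_one]
  have hxM : x ∈ M := SetLike.coe_mem _
  have hidx : ((Subgroup.zpowers x).subgroupOf M).index = 2 := by
    have h1 := ((Subgroup.zpowers x).subgroupOf M).index_mul_card
    rw [Nat.card_congr (Subgroup.subgroupOfEquivOfLe (Subgroup.zpowers_le.2 hxM)).toEquiv,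
      Nat.card_zpowers, hxo, hMc] at h1
    exact Nat.eq_of_mul_eq_mul_right hr.pos h1
  have hle : M ≤ Subgroup.normalizer (Subgroup.zpowers x : Set PSL) :=
    (Subgroup.normal_subgroupOf_iff_le_normalizer (Subgroup.zpowers_le.2 hxM)).1
      (Subgroup.normal_of_index_eq_two hidx)
  have hx1 : x ≠ 1 := fun h => hr.one_lt.ne (by rw [← hxo, h, orderOf_one])
  have hMN : M = Subgroup.normalizer (Subgroup.zpowers x : Set PSL) := by
    rcases hle.lt_or_eq with hlt | h
    · exact absurd (hM.2 _ hlt) (normalizer_ne_top hq (by rwa [Ne, Subgroup.zpowers_eq_bot]) (zpowers_ne_top hq x))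
    · exact h
  -- the Sylow subgroups
  have hsyl : ∀ (y : PSL), orderOf y = r → ∃ S : Sylow r PSL, (S : Subgroup PSL) = Subgroup.zpowers y := by
    intro y hy
    have hpg : IsPGroup r (Subgroup.zpowers y) := IsPGroup.of_card (n := 1) (by rw [Nat.card_zpowers, hy, pow_one])
    obtain ⟨S, hS⟩ := hpg.exists_le_sylow
    refine ⟨S, (Subgroup.eq_of_le_of_card_ge hS ?_).symm⟩
    obtain ⟨i, hi⟩ := IsPGroup.iff_card.1 S.isPGroup'
    rw [Nat.card_zpowers, hy, hi]
    rcases i with _ | _ | i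
    · rw [pow_zero]; exact hr.pos
    · rw [pow_one]
    · exact absurd ((pow_dvd_pow r (show 2 ≤ i + 1 + 1 by omega)).trans
        (hi ▸ Subgroup.card_subgroup_dvd_card (S : Subgroup PSL))) hr2
  obtain ⟨⟨y, hyH⟩, hy⟩ := exists_prime_orderOf_dvd_card' r hrH
  rw [Subgroup.orderOf_mk] at hy
  obtain ⟨S, hS⟩ := hsyl x hxo
  obtain ⟨T, hT⟩ := hsyl y hy
  obtain ⟨g, hg⟩ := MulAction.exists_smul_eq PSL S T
  have hgM : M.map (MulAut.conj g).toMonoidHom = Subgroup.normalizer (Subgroup.zpowers y : Set PSL) := by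
    have h1 : MulAut.conj g • (S : Subgroup PSL) = (T : Subgroup PSL) := by
      rw [← Sylow.coe_subgroup_smul, hg]
    rw [hMN, ← hS, ← hT, ← h1, Subgroup.map_equiv_normalizer_eq]
    rfl
  -- the normaliser inside `H`
  have hyT : Subgroup.zpowers y ≤ H := Subgroup.zpowers_le.2 hyH
  obtain ⟨U, hU⟩ : ∃ U : Sylow r H, (U : Subgroup H) = (Subgroup.zpowers y).subgroupOf H :=
    ⟨T.subtype (hT ▸ hyT), by rw [Sylow.coe_subtype, hT]⟩
  set NH := Subgroup.normalizer ((U : Subgroup H) : Set H)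
  have hNH : 2 * r ≤ Nat.card NH := by
    have h1 := NH.index_mul_card
    rw [show NH.index = Nat.card (Sylow r H) from (Sylow.card_eq_index_normalizer U).symm] at h1
    refine Nat.le_of_mul_le_mul_left ?_ (Nat.card_pos (α := Sylow r H))
    rw [h1]; exact hn
  have hNle : NH.map H.subtype ≤ Subgroup.normalizer (Subgroup.zpowers y : Set PSL) := by
    rintro _ ⟨z, hz, rfl⟩
    refine Subgroup.mem_normalizer_fintype fun v hv => ?_
    have hvU : (⟨v, hyT hv⟩ : H) ∈ (U : Subgroup H) := by rw [hU]; exact hv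
    have := (Subgroup.mem_normalizer_iff.1 hz _).1 hvU
    rw [hU] at this
    exact this
  have hNeq : NH.map H.subtype = Subgroup.normalizer (Subgroup.zpowers y : Set PSL) := by
    refine Subgroup.eq_of_le_of_card_ge hNle ?_
    have hc1 : Nat.card (M.map (MulAut.conj g).toMonoidHom) = 2 * r :=
      (Nat.card_congr ((MulAut.conj g).subgroupMap M).toEquiv).symm.trans hMc
    rw [← hgM, hc1,
      ← Nat.card_congr (Subgroup.equivMapOfInjective NH _ H.subtype_injective).toEquiv]
    exact hNH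
  have hfin : M.map (MulAut.conj g).toMonoidHom ≤ H := by
    rw [hgM, ← hNeq]; exact Subgroup.map_subtype_le NH
  have := not_le_of_card hM hfin hH
  omega

theorem card_sylow_three_perm_four {H : Subgroup PSL} (hH : Nat.card H = 24) [Fact (Nat.Prime 3)] :
    Nat.card (Sylow 3 H) ≤ 4 := by
  obtain ⟨P⟩ : Nonempty (Sylow 3 H) := inferInstance
  have hP : Nat.card (P : Subgroup H) = 3 := by
    rw [P.card_eq_multiplicity, hH, show 24 = 3 ^ 1 * 8 by norm_num,
      Nat.factorization_mul (by norm_num) (by norm_num), Finsupp.add_apply,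
      Nat.Prime.factorization_pow (by norm_num), Nat.factorization_eq_zero_of_not_dvd (by norm_num : ¬ 3 ∣ 8)]
    simp
  have hi := (P : Subgroup H).index_mul_card
  rw [hP, hH] at hi
  have hd := P.card_dvd_index
  rw [show (P : Subgroup H).index = 8 by omega] at hd
  have hm : Nat.card (Sylow 3 H) % 3 = 1 := card_sylow_modEq_one 3 H
  have hle := Nat.le_of_dvd (by norm_num) hd
  generalize Nat.card (Sylow 3 H) = N at hd hm hle ⊢
  interval_cases N <;> omega

theorem card_sylow_five {H : Subgroup PSL} (hH : Nat.card H = 60) [Fact (Nat.Prime 5)] :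
    Nat.card (Sylow 5 H) ≤ 6 := by
  obtain ⟨P⟩ : Nonempty (Sylow 5 H) := inferInstance
  have hP : Nat.card (P : Subgroup H) = 5 := by
    rw [P.card_eq_multiplicity, hH, show 60 = 5 ^ 1 * 12 by norm_num,
      Nat.factorization_mul (by norm_num) (by norm_num), Finsupp.add_apply,
      Nat.Prime.factorization_pow (by norm_num), Nat.factorization_eq_zero_of_not_dvd (by norm_num : ¬ 5 ∣ 12)]
    simp
  have hi := (P : Subgroup H).index_mul_card
  rw [hP, hH] at hi
  have hd := P.card_dvd_index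
  rw [show (P : Subgroup H).index = 12 by omega] at hd
  have hm : Nat.card (Sylow 5 H) % 5 = 1 := card_sylow_modEq_one 5 H
  have hle := Nat.le_of_dvd (by norm_num) hd
  generalize Nat.card (Sylow 5 H) = N at hd hm hle ⊢
  interval_cases N <;> omega

include p in
/-- The small exceptions among the dihedral groups. -/
theorem dihedral_exceptions (hodd : Fintype.card F % 2 = 1) (hq : 5 ≤ Fintype.card F) {M : Subgroup PSL}
    (hM : IsCoatom M) {k : ℕ} (e : M ≃* DihedralGroup k) :
    (k = nm F → 13 ≤ Fintype.card F) ∧ (k = np F → Fintype.card F ≠ 7 ∧ Fintype.card F ≠ 9) := by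
  have h2 : (2 : F) ≠ 0 := PSL2Classes.two_ne_zero_of_odd hodd
  rcases parity (F := F) with ⟨h, -⟩ | ⟨-, -, hnm, hnp⟩
  · omega
  haveI : Fact (Nat.Prime 3) := ⟨Nat.prime_three⟩
  haveI : Fact (Nat.Prime 5) := ⟨by norm_num⟩
  have hG := Cfsg.Agent.Linear.card_PSL_two (F := F)
  have no7 : Fintype.card F = 7 → k = 3 → False := by
    intro h7 hk
    subst hk
    rw [h7] at hG
    norm_num [-Nat.card_eq_fintype_card] at hG
    obtain ⟨H, ⟨eH⟩⟩ := (Cfsg.Agent.S0803.result h7).2 (by norm_num)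
    have hH : Nat.card H = 24 := (Nat.card_congr eH.toEquiv).trans card_four_five.2.1
    refine no_sylow_dihedral (by omega) hM e ?_ (H := H) (fun h => ?_) (by omega) ?_ (by omega)
    · rw [show Nat.card PSL = 168 by omega]; norm_num
    · rw [h, Subgroup.card_top] at hH; omega
    · have := card_sylow_three_perm_four hH; omega
  have no5 : (Fintype.card F = 9 ∨ Fintype.card F = 11) → k = 5 → False := by
    intro h9 hk
    subst hk
    obtain ⟨H, ⟨eH⟩⟩ := (Cfsg.Agent.S0804.result (F := F) rfl).2 (by rcases h9 with h | h <;> rw [h] <;> norm_num)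
    have hH : Nat.card H = 60 := (Nat.card_congr eH.toEquiv).trans card_four_five.2.2
    have hcard : Nat.card PSL = 360 ∨ Nat.card PSL = 660 := by
      rcases h9 with h | h <;> rw [h] at hG <;> norm_num [-Nat.card_eq_fintype_card] at hG <;> omega
    refine no_sylow_dihedral (by omega) hM e ?_ (H := H) (fun h => ?_) (by omega) ?_ (by omega)
    · rcases hcard with h | h <;> rw [h] <;> norm_num
    · rw [h, Subgroup.card_top] at hH; omega
    · have := card_sylow_five hH; omega
  refine ⟨fun hk => ?_, fun hk => ⟨fun h7 => ?_, fun h9 => ?_⟩⟩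
  · by_contra hlt
    obtain ⟨n, hp, hn⟩ := FiniteField.card F p
    have hcases : Fintype.card F = 5 ∨ Fintype.card F = 7 ∨ Fintype.card F = 9 ∨ Fintype.card F = 11 := by omega
    rcases hcases with h | h | h | h
    · exact no_small_dihedral h2 (by omega) hM (Or.inl (by omega)) e
    · exact no7 h (by omega)
    · exact no_small_dihedral h2 (by omega) hM (Or.inr (by omega)) e
    · exact no5 (Or.inr h) (by omega)
  · exact no_small_dihedral h2 (by omega) hM (Or.inr (by omega)) e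
  · exact no5 (Or.inl h9) (by omega)

include p in
/-- Maximal subgroups in odd characteristic. -/
theorem maximal_odd (hodd : Odd (Fintype.card F)) (h5 : 5 ≤ Fintype.card F) {M : Subgroup PSL} (hM : IsCoatom M) :
    2 * Nat.card M = Fintype.card F * (Fintype.card F - 1) ∨
    (13 ≤ Fintype.card F ∧ (∃ k : ℕ, 2 * k = Fintype.card F - 1 ∧ Nonempty (M ≃* DihedralGroup k))) ∨
    (Fintype.card F ≠ 7 ∧ Fintype.card F ≠ 9 ∧ (∃ k : ℕ, 2 * k = Fintype.card F + 1 ∧ Nonempty (M ≃* DihedralGroup k))) ∨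
    (∃ (F₀ : Type) (_ : Field F₀) (_ : Fintype F₀), Fintype.card F = Fintype.card F₀ ^ 2 ∧
        Nonempty (M ≃* Matrix.ProjGenLinGroup (Fin 2) F₀)) ∨
    (∃ (F₀ : Type) (_ : Field F₀) (_ : Fintype F₀) (r : ℕ), r.Prime ∧ Odd r ∧ Fintype.card F = Fintype.card F₀ ^ r ∧
        Nonempty (M ≃* Matrix.ProjectiveSpecialLinearGroup (Fin 2) F₀)) ∨
    ((Fintype.card F % 10 = 1 ∨ Fintype.card F % 10 = 9) ∧
        (Fintype.card F = p ∨ (Fintype.card F = p ^ 2 ∧ (p % 10 = 3 ∨ p % 10 = 7))) ∧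
        Nonempty (M ≃* alternatingGroup (Fin 5))) ∨
    (Fintype.card F = p ∧ (p % 8 = 3 ∨ p % 8 = 5) ∧ ¬ (p % 10 = 1 ∨ p % 10 = 9) ∧
        Nonempty (M ≃* alternatingGroup (Fin 4))) ∨
    (Fintype.card F = p ∧ (p % 8 = 1 ∨ p % 8 = 7) ∧ Nonempty (M ≃* Equiv.Perm (Fin 4))) := by
  have hodd' : Fintype.card F % 2 = 1 := Nat.odd_iff.1 hodd
  rcases parity (F := F) with ⟨h, -⟩ | ⟨-, hd, hnm, hnp⟩
  · omega
  rcases maximal_cases p (by omega) hM with ⟨k, hk, -, ⟨e⟩⟩ | hb | hexc | ⟨P, L, r, hr, hLr, hL, hmap, hi, hi'⟩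
  · obtain ⟨a, b⟩ := dihedral_exceptions p hodd' h5 hM e
    rcases hk with rfl | rfl
    · exact Or.inr (Or.inr (Or.inl ⟨(b rfl).1, (b rfl).2, _, hnp, ⟨e⟩⟩))
    · exact Or.inr (Or.inl ⟨a rfl, _, hnm, ⟨e⟩⟩)
  · left
    have := card_mul_of_index hb
    rwa [hd] at this
  · rcases hexc with ⟨a, -, b, c, d⟩ | ⟨a, -, b, c⟩ | h
    · exact Or.inr (Or.inr (Or.inr (Or.inr (Or.inr (Or.inr (Or.inl ⟨a, b, c, d⟩))))))
    · exact Or.inr (Or.inr (Or.inr (Or.inr (Or.inr (Or.inr (Or.inr ⟨a, b, c⟩))))))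
    · exact Or.inr (Or.inr (Or.inr (Or.inr (Or.inr (Or.inl h)))))
  · obtain ⟨K, _, _, ⟨eK⟩, hK⟩ := exists_type0 p L
    rcases hr.eq_two_or_odd' with rfl | hro
    · obtain ⟨e⟩ := hi' ⟨hodd', rfl⟩
      exact Or.inr (Or.inr (Or.inr (Or.inl ⟨K, inferInstance, inferInstance, (hK.symm ▸ hLr).symm,
        ⟨e.trans (pglCongr eK).symm⟩⟩)))
    · obtain ⟨e⟩ := hi (Or.inr hro)
      exact Or.inr (Or.inr (Or.inr (Or.inr (Or.inl ⟨K, inferInstance, inferInstance, r, hr, hro,
        (hK.symm ▸ hLr).symm, ⟨e.trans (Cfsg.Agent.Linear.pslCongr eK).symm⟩⟩))))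

/-- Subgroups of dihedral groups have a cyclic part of index at most two. -/
theorem card_le_of_dihedral {k : ℕ} (H : Subgroup (DihedralGroup k)) [Finite H] {B : ℕ}
    (hB : ∀ x : H, orderOf x ≤ B) : Nat.card H ≤ 2 * B := by
  classical
  let f : H →* Multiplicative (ZMod 2) := MonoidHom.mk'
    (fun x => Multiplicative.ofAdd (match x.1 with | .r _ => (0 : ZMod 2) | .sr _ => 1))
    (by rintro ⟨a | a, ha⟩ ⟨b | b, hb⟩ <;> simp <;> rfl)
  have hker : ∀ x : f.ker, (x.1.1 : DihedralGroup k) ∈ Subgroup.zpowers (DihedralGroup.r 1 : DihedralGroup k) := by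
    rintro ⟨⟨a | a, ha⟩, hx⟩
    · exact ⟨(a.cast : ℤ), by simp⟩
    · simp [f, MonoidHom.mem_ker] at hx
  let φ : f.ker →* Subgroup.zpowers (DihedralGroup.r 1 : DihedralGroup k) :=
    (H.subtype.comp f.ker.subtype).codRestrict _ hker
  have hφ : Function.Injective φ := fun a b e => Subtype.ext (Subtype.ext (congrArg Subtype.val e :))
  haveI : IsCyclic f.ker := isCyclic_of_injective φ hφ
  obtain ⟨g, hg⟩ := IsCyclic.exists_generator (α := f.ker)
  have hk : Nat.card f.ker ≤ B := by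
    rw [← orderOf_eq_card_of_forall_mem_zpowers hg, ← Subgroup.orderOf_coe]; exact hB _
  have hi : f.ker.index ≤ 2 := by
    rw [Subgroup.index_ker]
    refine le_of_le_of_eq (Subgroup.card_le_card_group f.range) ?_
    rw [Nat.card_congr Multiplicative.toAdd, Nat.card_zmod]
  rw [← f.ker.index_mul_card]
  exact Nat.mul_le_mul hi hk

end Cfsg.Agent.Linear.PSL2Max
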