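import Cfsg.Agent.Linear.PSL2Ext
import Cfsg.Agent.Linear.PSL2DicksonApps
import Cfsg.Agent.Linear.Congr
import Mathlib

/-!
# Tori, Borel subgroups and subfields for the maximal subgroups of `PSL₂(q)`
-/

set_option autoImplicit false
set_option linter.unusedSectionVars false

namespace Cfsg.Agent.Linear.PSL2Max

open Matrix Cfsg.Agent.Dickson Cfsg.Agent.Linear.PSL2Borel Cfsg.Agent.Linear.PSL2Dickson
  Cfsg.Agent.Linear.PSL2Ext Cfsg.Agent.KnownA.GL2

variable {F : Type*} [Field F] [Fintype F]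

local notation "SL" => Matrix.SpecialLinearGroup (Fin 2) F
local notation "PSL" => Matrix.ProjectiveSpecialLinearGroup (Fin 2) F

variable (p : ℕ) [Fact p.Prime] [CharP F p]

/-- The number `(q - 1) / d`. -/
def nm (F : Type*) [Fintype F] : ℕ := (Fintype.card F - 1) / Nat.gcd 2 (Fintype.card F - 1)

/-- The number `(q + 1) / d`. -/
def np (F : Type*) [Fintype F] : ℕ := (Fintype.card F + 1) / Nat.gcd 2 (Fintype.card F - 1)

theorem parity :
    (Fintype.card F % 2 = 0 ∧ Nat.gcd 2 (Fintype.card F - 1) = 1 ∧ nm F = Fintype.card F - 1 ∧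
        np F = Fintype.card F + 1) ∨
      (Fintype.card F % 2 = 1 ∧ Nat.gcd 2 (Fintype.card F - 1) = 2 ∧ 2 * nm F = Fintype.card F - 1 ∧
        2 * np F = Fintype.card F + 1) := by
  have h1 : 1 ≤ Fintype.card F := Fintype.card_pos
  rcases gcd_two_cases (Fintype.card F) h1 with ⟨h, hd⟩ | ⟨h, hd⟩
  · exact Or.inl ⟨h, hd, by rw [nm, hd, Nat.div_one], by rw [np, hd, Nat.div_one]⟩
  · exact Or.inr ⟨h, hd, by rw [nm, hd]; omega, by rw [np, hd]; omega⟩

include p in
theorem not_dvd_of_dvd {k : ℕ} (hk : k ∣ np F ∨ k ∣ nm F) : ¬ p ∣ k := by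
  intro hpk
  obtain ⟨f, hp, hf⟩ := FiniteField.card F p
  have hpq : p ∣ Fintype.card F := hf ▸ dvd_pow_self p f.pos.ne'
  have h1 : 1 ≤ Fintype.card F := Fintype.card_pos
  have hnp : np F ∣ Fintype.card F + 1 := by
    rcases parity (F := F) with ⟨-, -, -, h⟩ | ⟨-, -, -, h⟩
    · exact dvd_of_eq h
    · exact ⟨2, by omega⟩
  have hnm : nm F ∣ Fintype.card F - 1 := by
    rcases parity (F := F) with ⟨-, -, h, -⟩ | ⟨-, -, h, -⟩
    · exact dvd_of_eq h
    · exact ⟨2, by omega⟩
  have hp1 : p ∣ 1 := by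
    rcases hk with h | h
    · exact (Nat.dvd_add_right hpq).1 ((hpk.trans h).trans hnp)
    · have := Nat.dvd_sub hpq ((hpk.trans h).trans hnm)
      rwa [show Fintype.card F - (Fintype.card F - 1) = 1 by omega] at this
  exact hp.one_lt.ne' (Nat.dvd_one.1 hp1)

/-- Inverting elements. -/
theorem exists_inverter {g : SL} (hns : ¬ IsScalar g.1)
    (hd : ∀ l : F, l ^ 2 - PSL2Classes.tr g * l + 1 = 0 → PSL2Classes.tr g - 2 * l ≠ 0) :
    ∃ w : SL, w * g * w⁻¹ = g⁻¹ ∧ w * w = -1 := by
  obtain ⟨δ, u, hu⟩ := PSL2Classes.exists_nf hns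
  obtain ⟨a, s, has⟩ : ∃ a s : F, a ^ 2 + a * s * PSL2Classes.tr g + s ^ 2 = -1 := by
    by_cases h : ∀ l : F, l ^ 2 - PSL2Classes.tr g * l + 1 ≠ 0
    · exact PSL2ClassSizes.exists_norm_eq h (-1)
    push Not at h
    obtain ⟨l, hl⟩ := h
    have hne : 2 * l - PSL2Classes.tr g ≠ 0 := fun e => hd l hl (by linear_combination -e)
    obtain ⟨s, hs⟩ : ∃ s, s * (2 * l - PSL2Classes.tr g) = 2 := ⟨_, div_mul_cancel₀ _ hne⟩
    refine ⟨1 - l * s, s, ?_⟩
    linear_combination (-1 : F) * hs + s ^ 2 * hl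
  generalize ht : PSL2Classes.tr g = t at hu has
  have hδ : (δ : F) ≠ 0 := δ.ne_zero
  let w0 : SL := mk2 a ((s + a * t) / δ) (s * δ) (-a) (by field_simp; linear_combination -has)
  have hnf : nfS t δ = mk2 0 (-(1 / (δ : F))) (δ : F) t (by field_simp; ring) := by
    apply ext2 <;> simp [nfS, Kmat]
  have h0 : w0 * nfS t δ * w0⁻¹ = (nfS t δ)⁻¹ := by
    rw [mul_inv_eq_iff_eq_mul, hnf]
    apply ext2 <;> simp [w0, mul_apply2] <;> field_simp <;> ring
  have h1 : w0 * w0 = -1 := by
    apply ext2 <;> simp [w0, mul_apply2] <;> field_simp <;> first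
      | ring1
      | linear_combination has
  refine ⟨u * w0 * u⁻¹, ?_, ?_⟩
  · rw [hu]
    calc _ = u * (w0 * nfS t δ * w0⁻¹) * u⁻¹ := by group
      _ = _ := by rw [h0]; group
  · calc _ = u * (w0 * w0) * u⁻¹ := by group
      _ = -1 := by rw [h1]; simp

include p in
/-- The normaliser of a cyclic group of order prime to `p` contains a dihedral group of order `2 (q-1)/d`. -/
theorem normalizer_lower {x : PSL} (hx : x ≠ 1) (hxp : ¬ p ∣ orderOf x) :
    2 * nm F ≤ Nat.card (Subgroup.normalizer (Subgroup.zpowers x : Set PSL)) := by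
  classical
  obtain ⟨g, rfl⟩ := toPSL_surjective x
  have hns : ¬ IsScalar g.1 := PSL2Classes.not_scalar_of_toPSL hx
  have hnd : ∀ l : F, l ^ 2 - PSL2Classes.tr g * l + 1 = 0 → PSL2Classes.tr g - 2 * l ≠ 0 := by
    intro l hl hd
    have hpow : toPSL g ^ p = 1 := by
      rw [← map_pow, toPSL_eq_one_iff]
      exact PSL2Classes.pow_char p hl hd
    rcases (Nat.dvd_prime (Fact.out : p.Prime)).1 (orderOf_dvd_of_pow_eq_one hpow) with e | e
    · exact hx (orderOf_eq_one_iff.1 e)
    · exact hxp (dvd_of_eq e.symm)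
  obtain ⟨w, hw, hww⟩ := exists_inverter hns hnd
  set C := Subgroup.centralizer ({g} : Set SL)
  have hC : Fintype.card F - 1 ≤ Nat.card C := by
    rcases PSL2ClassSizes.card_centralizer_cases hns with ⟨-, h⟩ | ⟨-, h⟩ | ⟨⟨l, hl, hd⟩, -⟩
    · rw [h]; omega
    · rw [h]
    · exact absurd hd (hnd l hl)
  set T := C.map toPSL
  set N := Subgroup.normalizer (Subgroup.zpowers (toPSL g) : Set PSL)
  -- the order of the image of the centraliser
  have hT : nm F ≤ Nat.card T := by
    have hmul : Nat.card T * Nat.card ((toPSL : SL →* PSL).subgroupMap C).ker = Nat.card C := by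
      rw [← ((toPSL : SL →* PSL).subgroupMap C).ker.index_mul_card, Subgroup.index_ker,
        MonoidHom.range_eq_top.2 ((toPSL : SL →* PSL).subgroupMap_surjective C), Subgroup.card_top]
    have hker : Nat.card ((toPSL : SL →* PSL).subgroupMap C).ker ≤ Nat.gcd 2 (Fintype.card F - 1) := by
      rw [← Cfsg.Agent.Linear.card_center_SL (F := F) 2]
      refine Nat.card_le_card_of_injective
        (fun z => (⟨z.1.1, ?_⟩ : Subgroup.center SL)) (fun a b e => ?_)
      · refine mem_center_SL2_iff.2 (toPSL_eq_one_iff.1 ?_)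
        exact congrArg Subtype.val (MonoidHom.mem_ker.1 z.2)
      · exact Subtype.ext (Subtype.ext (congrArg (fun y : Subgroup.center SL => (y : SL)) e))
    calc nm F ≤ Nat.card C / Nat.gcd 2 (Fintype.card F - 1) := Nat.div_le_div_right hC
      _ ≤ Nat.card T := Nat.div_le_of_le_mul (by
          rw [← hmul, mul_comm (Nat.gcd _ _)]; exact Nat.mul_le_mul_left _ hker)
  have hTN : T ≤ N := by
    rintro _ ⟨z, hz, rfl⟩
    have hc : toPSL z * toPSL g = toPSL g * toPSL z := by
      rw [← map_mul, ← map_mul, Subgroup.mem_centralizer_singleton_iff.1 hz]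
    refine Subgroup.mem_normalizer_fintype ?_
    rintro _ ⟨i, rfl⟩
    refine ⟨i, ?_⟩
    show toPSL g ^ i = toPSL z * toPSL g ^ i * (toPSL z)⁻¹
    rw [(Commute.zpow_right hc i).eq, mul_inv_cancel_right]
  have hwN : toPSL w ∈ N := by
    refine Subgroup.mem_normalizer_fintype ?_
    rintro _ ⟨i, rfl⟩
    refine ⟨-i, ?_⟩
    show toPSL g ^ (-i) = toPSL w * toPSL g ^ i * (toPSL w)⁻¹
    rw [← conj_zpow, ← map_inv toPSL w, ← map_mul, ← map_mul, hw, map_inv, _root_.inv_zpow, ← _root_.zpow_neg]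
  have hwT : toPSL w ∉ T := by
    rintro ⟨z, hz, e⟩
    have hzg : z * g * z⁻¹ = g := by
      rw [Subgroup.mem_centralizer_singleton_iff.1 hz, mul_inv_cancel_right]
    have hinv : g⁻¹ = g := by
      rcases toPSL_eq_iff.1 e with rfl | rfl
      · exact hw.symm.trans hzg
      · rw [← hw]
        conv_rhs => rw [← hzg]
        rw [show (-w) * g * (-w)⁻¹ = w * g * w⁻¹ from ?_]
        apply ext2 <;> simp [mul_apply2]
    have hgg : g * g = 1 := by nth_rewrite 1 [← hinv]; exact inv_mul_cancel g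
    rcases parity (F := F) with ⟨hev, -⟩ | ⟨hodd, -⟩
    · have h2 := PSL2Classes.two_eq_zero_of_even hev
      have hsq : toPSL g ^ 2 = 1 := by rw [pow_two, ← map_mul, hgg, map_one]
      rcases (Nat.dvd_prime Nat.prime_two).1 (orderOf_dvd_of_pow_eq_one hsq) with e | e
      · exact hx (orderOf_eq_one_iff.1 e)
      · refine hxp ?_
        rw [e]
        exact dvd_of_eq ((CharP.ringChar_of_prime_eq_zero Nat.prime_two (by exact_mod_cast h2)).symm.trans
          (ringChar.eq F p)).symm
    · exact hns (PSL2ClassSizes.isScalar_of_eq (PSL2Classes.sq_eq_one (PSL2Classes.two_ne_zero_of_odd hodd) hgg))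
  have hlt : Nat.card T < Nat.card N := Set.ncard_lt_ncard
    (show (T : Set PSL) ⊂ N from Set.ssubset_iff_of_subset hTN |>.2 ⟨_, hwN, hwT⟩)
  have hdvd := Subgroup.card_dvd_of_le hTN
  obtain ⟨c, hc⟩ := hdvd
  rw [hc] at hlt ⊢
  have hc2 : 2 ≤ c := by
    by_contra hcon
    interval_cases c <;> omega
  calc 2 * nm F ≤ c * Nat.card T := Nat.mul_le_mul hc2 hT
    _ = Nat.card T * c := mul_comm _ _

theorem normalizer_ne_top (hq : 4 ≤ Fintype.card F) {V : Subgroup PSL} (hV : V ≠ ⊥) (hV' : V ≠ ⊤) :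
    Subgroup.normalizer (V : Set PSL) ≠ ⊤ := by
  intro h
  haveI := psl_simple_finite (F := F) 2 le_rfl (by omega)
  rcases (Subgroup.normalizer_eq_top_iff.1 h).eq_bot_or_eq_top with e | e
  · exact hV e
  · exact hV' e

theorem zpowers_ne_top (hq : 4 ≤ Fintype.card F) (x : PSL) : Subgroup.zpowers x ≠ ⊤ := by
  intro h
  refine not_solvable_psl (K := F) hq (Group.isSolvable_of_comm fun a b => ?_)
  obtain ⟨i, rfl⟩ := (h ▸ Subgroup.mem_top a : a ∈ Subgroup.zpowers x)
  obtain ⟨j, rfl⟩ := (h ▸ Subgroup.mem_top b : b ∈ Subgroup.zpowers x)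
  exact (Commute.zpow_zpow_self x i j).eq

theorem borelP_ne_top : borelP F ≠ ⊤ := fun h => by
  have h2 : 2 ≤ Fintype.card F := Fintype.one_lt_card
  have := index_borelP (F := F)
  rw [h, Subgroup.index_top] at this
  omega

theorem card_mul_of_index {M : Subgroup PSL} (hi : M.index = Fintype.card F + 1) :
    Nat.gcd 2 (Fintype.card F - 1) * Nat.card M = Fintype.card F * (Fintype.card F - 1) := by
  refine Nat.eq_of_mul_eq_mul_left (show 0 < Fintype.card F + 1 by omega) ?_
  calc (Fintype.card F + 1) * (Nat.gcd 2 (Fintype.card F - 1) * Nat.card M)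
      = Nat.gcd 2 (Fintype.card F - 1) * (M.index * Nat.card M) := by rw [hi]; ring
    _ = Fintype.card F * (Fintype.card F ^ 2 - 1) := by
        rw [Subgroup.index_mul_card, Cfsg.Agent.Linear.card_PSL_two (F := F)]
    _ = _ := by rw [PSL2ClassSizes.sq_sub_one_eq]; ring

include p in
/-- Subgroups of order prime to `p` in a Borel subgroup are commutative. -/
theorem comm_of_borel {H : Subgroup PSL} {g : PSL} (h : H.map (MulAut.conj g).toMonoidHom ≤ borelP F)
    (hH : ¬ p ∣ Nat.card H) (a b : PSL) (ha : a ∈ H) (hb : b ∈ H) : a * b = b * a := by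
  obtain ⟨A, hA⟩ := toPSL_surjective (MulAut.conj g a)
  obtain ⟨B, hB⟩ := toPSL_surjective (MulAut.conj g b)
  have hA0 := toPSL_mem_borelP.1 (hA ▸ h ⟨a, ha, rfl⟩)
  have hB0 := toPSL_mem_borelP.1 (hB ▸ h ⟨b, hb, rfl⟩)
  have hdA := det_eq A
  have hdB := det_eq B
  rw [hA0, mul_zero, sub_zero] at hdA
  rw [hB0, mul_zero, sub_zero] at hdB
  obtain ⟨z, hz⟩ : ∃ z : F, A * B * A⁻¹ * B⁻¹ = uel z := by
    refine ⟨(A * B * A⁻¹ * B⁻¹).1 0 1, ?_⟩
    apply ext2 <;> simp [mul_apply2, hA0, hB0]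
    · linear_combination (B.1 0 0 * B.1 1 1) * hdA + hdB
    · linear_combination (B.1 0 0 * B.1 1 1) * hdA + hdB
  have hcomm : a * b * a⁻¹ * b⁻¹ ∈ H := mul_mem (mul_mem (mul_mem ha hb) (inv_mem ha)) (inv_mem hb)
  have hp : (a * b * a⁻¹ * b⁻¹) ^ p = 1 := by
    refine (MulAut.conj g).injective ?_
    rw [map_pow, map_one, map_mul, map_mul, map_mul, map_inv, map_inv, ← hA, ← hB, ← map_inv, ← map_inv,
      ← map_mul, ← map_mul, ← map_mul, hz, ← map_pow, uel_pow, CharP.cast_eq_zero F p, zero_mul, uel_zero, map_one]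
  have h1 : orderOf (⟨_, hcomm⟩ : H) ∣ p := by
    rw [Subgroup.orderOf_mk]; exact orderOf_dvd_of_pow_eq_one hp
  rcases (Nat.dvd_prime (Fact.out : p.Prime)).1 h1 with e | e
  · have := congrArg Subtype.val (orderOf_eq_one_iff.1 e)
    simpa [mul_inv_eq_one, mul_inv_eq_iff_eq_mul] using this
  · exact absurd (e ▸ orderOf_dvd_natCard _) hH

include p in
theorem index_of_borel {M : Subgroup PSL} (hM : IsCoatom M) {g : PSL}
    (h : M.map (MulAut.conj g).toMonoidHom ≤ borelP F) : M.index = Fintype.card F + 1 := by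
  have hc : IsCoatom (M.map (MulAut.conj g).toMonoidHom) := ((MulAut.conj g).mapSubgroup.isCoatom_iff M).2 hM
  have he : M.map (MulAut.conj g).toMonoidHom = borelP F := by
    rcases h.lt_or_eq with hlt | e
    · exact absurd (hc.2 _ hlt) borelP_ne_top
    · exact e
  rw [← Subgroup.index_map_equiv M (MulAut.conj g), ← index_borelP]
  exact congrArg Subgroup.index he

include p in
/-- A maximal subgroup with a normal cyclic subgroup is the normaliser of that subgroup. -/
theorem coatom_card_lower (hq : 4 ≤ Fintype.card F) {M : Subgroup PSL} (hM : IsCoatom M) {x : PSL} (hx : x ≠ 1)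
    (hxp : ¬ p ∣ orderOf x) (hMN : M ≤ Subgroup.normalizer (Subgroup.zpowers x : Set PSL)) :
    2 * nm F ≤ Nat.card M := by
  rcases hMN.lt_or_eq with hlt | e
  · exact absurd (hM.2 _ hlt) (normalizer_ne_top hq (by rwa [Ne, Subgroup.zpowers_eq_bot]) (zpowers_ne_top hq x))
  · exact le_of_le_of_eq (normalizer_lower p hx hxp) (by rw [e])

include p in
/-- The dihedral maximal subgroups. -/
theorem coatom_dihedral (hq : 4 ≤ Fintype.card F) {M : Subgroup PSL} (hM : IsCoatom M) {k : ℕ}
    (hk : k ∣ np F ∨ k ∣ nm F) (hc : (IsCyclic M ∧ Nat.card M = k) ∨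
      (2 ≤ k ∧ Nat.card M = 2 * k ∧ Nonempty (M ≃* DihedralGroup k))) :
    (k = np F ∨ k = nm F) ∧ Nat.card M = 2 * k ∧ Nonempty (M ≃* DihedralGroup k) := by
  have hbot : M ≠ ⊥ := by
    rintro rfl
    have h1 : ∀ H : Subgroup PSL, H ≠ ⊥ → H = ⊤ := fun H hH => hM.2 H (bot_lt_iff_ne_bot.2 hH)
    haveI : Nontrivial PSL := (Cfsg.Agent.Linear.psl_simple_finite (F := F) 2 le_rfl (by omega)).toNontrivial
    obtain ⟨x, hx⟩ := exists_ne (1 : PSL)
    exact zpowers_ne_top hq x (h1 _ (by rwa [Ne, Subgroup.zpowers_eq_bot]))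
  have hnmnp : 2 ≤ nm F ∧ 3 ≤ np F ∧ np F < 2 * nm F ∧ nm F < np F := by
    rcases parity (F := F) with ⟨-, -, h1, h2⟩ | ⟨-, -, h1, h2⟩ <;> omega
  have hk' : k ≤ np F := by
    rcases hk with h | h
    · exact Nat.le_of_dvd (by omega) h
    · exact (Nat.le_of_dvd (by omega) h).trans hnmnp.2.2.2.le
  rcases hc with ⟨hcy, hcard⟩ | ⟨hk2, hcard, ⟨e⟩⟩
  · exfalso
    obtain ⟨g, hg⟩ := hcy.exists_generator
    have hgo : orderOf (g : PSL) = k := by
      rw [Subgroup.orderOf_coe, orderOf_eq_card_of_forall_mem_zpowers hg, hcard]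
    have hg1 : (g : PSL) ≠ 1 := fun e => hbot (Subgroup.card_eq_one.1 (by
      rw [hcard, ← hgo, e, orderOf_one]))
    have hle : M ≤ Subgroup.normalizer (Subgroup.zpowers (g : PSL) : Set PSL) := by
      refine le_trans (fun y hy => ?_) Subgroup.le_normalizer
      obtain ⟨i, hi⟩ := hg ⟨y, hy⟩
      exact ⟨i, by simpa using congrArg Subtype.val hi⟩
    have := coatom_card_lower p hq hM hg1 (by rw [hgo]; exact not_dvd_of_dvd p hk) hle
    omega
  · set x : PSL := ((e.symm (DihedralGroup.r 1) : M) : PSL) with hxdef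
    have hxo : orderOf x = k := by
      rw [hxdef, Subgroup.orderOf_coe, e.symm.orderOf_eq, DihedralGroup.orderOf_r_one]
    have hx1 : x ≠ 1 := fun h => by rw [h, orderOf_one] at hxo; omega
    have hle : M ≤ Subgroup.normalizer (Subgroup.zpowers x : Set PSL) := by
      intro y hy
      refine Subgroup.mem_normalizer_fintype ?_
      rintro _ ⟨i, rfl⟩
      show y * x ^ i * y⁻¹ ∈ _
      rw [← conj_zpow]
      refine Subgroup.zpow_mem _ ?_ i
      obtain ⟨j, hj⟩ : ∃ j : ℤ, e ⟨y, hy⟩ * DihedralGroup.r 1 * (e ⟨y, hy⟩)⁻¹ =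
          (DihedralGroup.r 1 : DihedralGroup k) ^ j := by
        rcases e ⟨y, hy⟩ with a | a
        · exact ⟨1, by simp⟩
        · exact ⟨-1, by simp⟩
      refine ⟨j, ?_⟩
      have := congrArg (fun z => ((e.symm z : M) : PSL)) hj
      simp only [map_mul, map_inv, map_zpow, MulEquiv.symm_apply_apply, Subgroup.coe_mul, Subgroup.coe_inv,
        Subgroup.coe_zpow] at this
      exact this.symm
    have h := coatom_card_lower p hq hM hx1 (by rw [hxo]; exact not_dvd_of_dvd p hk) hle
    refine ⟨?_, hcard, ⟨e⟩⟩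
    rcases hk with hd | hd
    · obtain ⟨c, hc⟩ := hd
      rcases c with _ | _ | c
      · omega
      · left; simpa using hc.symm
      · exfalso
        have : k * 2 ≤ k * (c + 1 + 1) := Nat.mul_le_mul_left k (by omega)
        omega
    · have := Nat.le_of_dvd (by omega) hd
      omega

/-- Degrees of intermediate fields. -/
theorem exists_intermediate (L : Subfield F) {a b : ℕ} (ha : 2 ≤ a) (hb : 2 ≤ b)
    (h : Nat.card L ^ (a * b) = Fintype.card F) : ∃ L' : Subfield F, L < L' ∧ L' ≠ ⊤ := by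
  classical
  haveI := Fintype.ofFinite L
  rw [Nat.card_eq_fintype_card] at h
  obtain ⟨p, hchar⟩ := CharP.exists F
  obtain ⟨f, hp, hf⟩ := FiniteField.card F p
  haveI : Fact p.Prime := ⟨hp⟩
  haveI : CharP L p := inferInstance
  obtain ⟨j, -, hj⟩ := FiniteField.card L p
  set Q := Fintype.card L ^ a with hQ
  have hk2 : 2 ≤ Fintype.card L := Fintype.one_lt_card
  have hja : (j : ℕ) * a ≠ 0 := Nat.mul_ne_zero j.pos.ne' (by omega)
  haveI := Fintype.ofFinite (GaloisField p (j * a))
  have hcard : Fintype.card (GaloisField p (j * a)) = Q := by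
    rw [← Nat.card_eq_fintype_card, GaloisField.card p _ hja, hQ, hj, pow_mul]
  obtain ⟨ι⟩ := nonempty_ringHom_of_card_pow (F := F) (K := GaloisField p (j * a)) (m := b) (by omega)
    (by rw [hcard, hQ, ← pow_mul, h])
  have hQ1 : 1 < Q := Nat.one_lt_pow (by omega) (by omega)
  have hL : L ≤ ι.fieldRange := by
    intro x hx
    by_contra hn
    have hroots : ∀ y ∈ insert x (Finset.univ.image ι), y ^ Q = y := by
      intro y hy
      rcases Finset.mem_insert.1 hy with rfl | hy
      · have := congrArg Subtype.val (FiniteField.pow_card_pow (K := L) a ⟨y, hx⟩)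
        simpa [← hQ] using this
      · obtain ⟨z, -, rfl⟩ := Finset.mem_image.1 hy
        rw [← map_pow, ← hcard, FiniteField.pow_card]
    have hsub : (insert x (Finset.univ.image ι)).card ≤
        (Polynomial.X ^ Q - Polynomial.X : Polynomial F).natDegree := by
      refine le_trans ?_ (Polynomial.card_roots' _)
      refine le_trans (Finset.card_le_card ?_) (Multiset.toFinset_card_le _)
      intro y hy
      rw [Multiset.mem_toFinset, Polynomial.mem_roots (FiniteField.X_pow_card_sub_X_ne_zero F hQ1)]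
      simp [hroots y hy]
    rw [Finset.card_insert_of_notMem (fun hm => hn (by
      obtain ⟨z, -, hz⟩ := Finset.mem_image.1 hm
      exact ⟨z, hz⟩)), Finset.card_image_of_injective _ ι.injective, Finset.card_univ, hcard,
      FiniteField.X_pow_card_sub_X_natDegree_eq F hQ1] at hsub
    omega
  have hrc : Nat.card ι.fieldRange = Q := by
    rw [← hcard, ← Nat.card_eq_fintype_card]
    exact Nat.card_congr (Equiv.ofInjective _ ι.injective).symm
  refine ⟨ι.fieldRange, lt_of_le_of_ne hL fun e => ?_, fun e => ?_⟩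
  · rw [← e, Nat.card_eq_fintype_card, hQ] at hrc
    have : Fintype.card L ^ 1 < Fintype.card L ^ a := Nat.pow_lt_pow_right (by omega) (by omega)
    rw [pow_one] at this
    omega
  · rw [e] at hrc
    have h1 : Nat.card (⊤ : Subfield F) = Fintype.card F := by
      rw [← Nat.card_eq_fintype_card]
      exact Nat.card_congr Subfield.topEquiv.toEquiv
    rw [h1, ← h, hQ] at hrc
    have := Nat.pow_lt_pow_right (show 1 < Fintype.card L by omega) (show a < a * b by nlinarith)
    omega

/-- The degree over a subfield. -/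
theorem degree (L : Subfield F) :
    ∃ m : ℕ, 1 ≤ m ∧ Nat.card L ^ m = Fintype.card F ∧ (m = 1 → L = ⊤) := by
  haveI := Fintype.ofFinite L
  obtain ⟨m, hm, hc, h1⟩ := exists_degree (L.subtype : L →+* F)
  refine ⟨m, hm, by rw [Nat.card_eq_fintype_card]; exact hc, fun e => ?_⟩
  rw [eq_top_iff]
  intro x _
  obtain ⟨y, rfl⟩ := (h1 e ▸ trivial : x ∈ (L.subtype : L →+* F).fieldRange)
  exact y.2

include p in
/-- Square roots of non-squares of a subfield. -/
theorem odd_degree_no_root (L : Subfield F) {m : ℕ} (hm : Odd m) (h : Nat.card L ^ m = Fintype.card F)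
    {c : F} (hc2 : c * c ∈ L) : c ∈ L := by
  classical
  haveI := Fintype.ofFinite L
  rw [Nat.card_eq_fintype_card] at h
  by_cases h2 : ringChar L = 2
  · obtain ⟨r, hr⟩ := (FiniteField.isSquare_of_char_two h2 (⟨c * c, hc2⟩ : L))
    rcases mul_self_eq_mul_self_iff.1 (congrArg Subtype.val hr) with e | e
    · rw [e]; exact r.2
    · rw [e]; exact L.neg_mem r.2
  by_contra hc
  set d : L := ⟨c * c, hc2⟩
  have hd0 : d ≠ 0 := fun e => hc (by
    have : c * c = 0 := congrArg Subtype.val e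
    rw [mul_self_eq_zero.1 this]; exact L.zero_mem)
  have hdns : ¬ IsSquare d := by
    rintro ⟨r, hr⟩
    rcases mul_self_eq_mul_self_iff.1 (congrArg Subtype.val hr) with e | e
    · exact hc (e ▸ r.2)
    · exact hc (e ▸ L.neg_mem r.2)
  have hk : Fintype.card L % 2 = 1 := by
    by_contra hh
    exact h2 (FiniteField.even_card_iff_char_two.2 (by omega))
  have hdk : d ^ (Fintype.card L / 2) = -1 := by
    rcases FiniteField.pow_dichotomy h2 hd0 with e | e
    · exact absurd ((FiniteField.isSquare_iff h2 hd0).2 e) hdns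
    · exact e
  have hck : c ^ Fintype.card L = -c := by
    have := congrArg Subtype.val hdk
    simp [d] at this
    rw [show Fintype.card L = 2 * (Fintype.card L / 2) + 1 by omega, pow_succ, pow_mul, pow_two, this,
      neg_one_mul]
  have hpow : ∀ i : ℕ, c ^ (Fintype.card L ^ i) = (-1) ^ i * c := by
    intro i
    induction i with
    | zero => simp
    | succ i ih =>
      rw [pow_succ, pow_mul, ih, mul_pow, hck, ← pow_mul, mul_comm i, pow_mul,
        (Nat.odd_iff.2 hk).neg_one_pow, pow_succ]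
      ring
  have := hpow m
  rw [h, FiniteField.pow_card, hm.neg_one_pow, neg_one_mul] at this
  have h20 : (2 : F) ≠ 0 := fun e => by
    have : (2 : L) = 0 := L.subtype.injective (by rw [map_ofNat, map_zero, e])
    exact h2 (CharP.ringChar_of_prime_eq_zero Nat.prime_two (by exact_mod_cast this))
  exact hc (by
    have : c = 0 := (mul_eq_zero.1 (show (2 : F) * c = 0 by linear_combination this)).resolve_left h20
    rw [this]; exact L.zero_mem)

/-- In degree two every element of the subfield is a square. -/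
theorem even_degree_root (L : Subfield F) (hodd : Fintype.card F % 2 = 1)
    (h : Nat.card L ^ 2 = Fintype.card F) : ∃ c : F, c ∉ L ∧ c * c ∈ L := by
  classical
  haveI := Fintype.ofFinite L
  rw [Nat.card_eq_fintype_card] at h
  have hk : Fintype.card L % 2 = 1 := by
    rw [← h, Nat.pow_mod] at hodd
    rcases Nat.mod_two_eq_zero_or_one (Fintype.card L) with e | e
    · rw [e] at hodd; simp at hodd
    · exact e
  obtain ⟨d, hd⟩ := FiniteField.exists_nonsquare (F := L) (fun e => by
    have := FiniteField.even_card_iff_char_two.1 e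
    omega)
  have hd0 : d ≠ 0 := fun e => hd (e ▸ IsSquare.zero)
  have hchar : ringChar F ≠ 2 := fun e => by
    have := FiniteField.even_card_iff_char_two.1 e
    omega
  obtain ⟨c, hc⟩ : IsSquare ((d : L) : F) := by
    rw [FiniteField.isSquare_iff hchar (fun e => hd0 (Subtype.ext e))]
    obtain ⟨t, ht⟩ : ∃ t, Fintype.card F / 2 = (Fintype.card L - 1) * t := by
      refine ⟨(Fintype.card L + 1) / 2, ?_⟩
      obtain ⟨u, hu⟩ : ∃ u, Fintype.card L = 2 * u + 1 := ⟨Fintype.card L / 2, by omega⟩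
      rw [← h, hu, show (2 * u + 1 + 1) / 2 = u + 1 by omega, show 2 * u + 1 - 1 = 2 * u by omega]
      have : (2 * u + 1) ^ 2 = 2 * (2 * u * (u + 1)) + 1 := by ring
      omega
    have h1 : d ^ (Fintype.card L - 1) = 1 := FiniteField.pow_card_sub_one_eq_one d hd0
    rw [ht, pow_mul, show ((d : L) : F) ^ (Fintype.card L - 1) = 1 from by
      simpa using congrArg Subtype.val h1, one_pow]
  exact ⟨c, fun hm => hd ⟨⟨c, hm⟩, Subtype.ext hc⟩, hc ▸ d.2⟩

theorem extP_eq_stdP {L : Subfield F} (h : ∀ c : F, c * c ∈ L → c ∈ L) : extP L = stdP L := by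
  refine le_antisymm ?_ (stdP_le_extP L)
  rintro _ ⟨g, c, rfl, hc, hg⟩
  refine Subgroup.mem_map_of_mem _ fun i j => ?_
  have := L.div_mem (hg i j) (h c (sq_mem hg))
  rwa [mul_div_cancel_left₀ _ hc] at this

theorem stdP_top : stdP (⊤ : Subfield F) = ⊤ := by
  rw [eq_top_iff]
  intro x _
  obtain ⟨g, rfl⟩ := toPSL_surjective x
  exact Subgroup.mem_map_of_mem _ fun i j => trivial

/-- A maximal subgroup inside a proper extended subfield group. -/
theorem eq_extP_of_le {M : Subgroup PSL} (hM : IsCoatom M) {P : GL (Fin 2) F} {L : Subfield F}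
    (hle : M.map (glAut P).toMonoidHom ≤ extP L) (hL : L ≠ ⊤) : M.map (glAut P).toMonoidHom = extP L := by
  have hc : IsCoatom (M.map (glAut P).toMonoidHom) := ((glAut P).mapSubgroup.isCoatom_iff M).2 hM
  rcases hle.lt_or_eq with hlt | e
  · exact absurd (hc.2 _ hlt) (extP_ne_top hL)
  · exact e

include p in
/-- The maximal subfield subgroups. -/
theorem coatom_subfield {M : Subgroup PSL} (hM : IsCoatom M) {P : GL (Fin 2) F} {L : Subfield F}
    (h : (M.map (glAut P).toMonoidHom = stdP L ∧ Nonempty (M ≃* Matrix.ProjectiveSpecialLinearGroup (Fin 2) L)) ∨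
      (M.map (glAut P).toMonoidHom = extP L ∧ Nonempty (M ≃* Matrix.ProjGenLinGroup (Fin 2) L) ∧
        ∃ c : F, c ∉ L ∧ c * c ∈ L)) :
    ∃ r : ℕ, r.Prime ∧ Nat.card L ^ r = Fintype.card F ∧ L ≠ ⊤ ∧ M.map (glAut P).toMonoidHom = extP L ∧
      ((Fintype.card F % 2 = 0 ∨ Odd r) → Nonempty (M ≃* Matrix.ProjectiveSpecialLinearGroup (Fin 2) L)) ∧
      ((Fintype.card F % 2 = 1 ∧ r = 2) → Nonempty (M ≃* Matrix.ProjGenLinGroup (Fin 2) L)) := by
  classical
  have hc : IsCoatom (M.map (glAut P).toMonoidHom) := ((glAut P).mapSubgroup.isCoatom_iff M).2 hM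
  have hL : L ≠ ⊤ := by
    rintro rfl
    rcases h with ⟨e, -⟩ | ⟨-, -, c, hc', -⟩
    · exact hc.1 (e.trans stdP_top)
    · exact hc' trivial
  have hle : M.map (glAut P).toMonoidHom ≤ extP L := by
    rcases h with ⟨e, -⟩ | ⟨e, -⟩
    · exact e.trans_le (stdP_le_extP L)
    · exact e.le
  have he := eq_extP_of_le hM hle hL
  obtain ⟨m, hm1, hm, hmtop⟩ := degree L
  have hm2 : 2 ≤ m := by
    by_contra h'
    exact hL (hmtop (by omega))
  have hmp : m.Prime := by
    by_contra hnp
    obtain ⟨a, ha, ha2, ham⟩ := Nat.exists_dvd_of_not_prime2 hm2 hnp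
    obtain ⟨b, hb⟩ := ha
    obtain ⟨L', hlt, hL'⟩ := exists_intermediate L ha2 (by
      rcases b with _ | _ | b <;> omega) (hb ▸ hm)
    have e := eq_extP_of_le hM (hle.trans (extP_mono hlt.le)) hL'
    refine hlt.not_ge (le_of_extP_le ?_)
    calc stdP L' ≤ extP L' := stdP_le_extP L'
      _ = extP L := e.symm.trans he
  refine ⟨m, hmp, hm, hL, he, fun hodd => ?_, fun hev => ?_⟩
  · rcases h with ⟨-, hi⟩ | ⟨-, -, c, hc1, hc2⟩
    · exact hi
    · exfalso
      rcases hodd with hq | hr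
      · haveI := Fintype.ofFinite L
        have hk : ringChar L = 2 := by
          refine FiniteField.even_card_iff_char_two.2 ?_
          rw [← hm, Nat.card_eq_fintype_card, Nat.pow_mod] at hq
          rcases Nat.mod_two_eq_zero_or_one (Fintype.card L) with e | e
          · exact e
          · rw [e] at hq; simp at hq
        obtain ⟨r, hr⟩ := FiniteField.isSquare_of_char_two hk (⟨c * c, hc2⟩ : L)
        rcases mul_self_eq_mul_self_iff.1 (congrArg Subtype.val hr) with e | e
        · exact hc1 (e ▸ r.2)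
        · exact hc1 (e ▸ L.neg_mem r.2)
      · exact hc1 (odd_degree_no_root p L hr hm hc2)
  · obtain ⟨c, hc1, hc2⟩ := even_degree_root L hev.1 (hev.2 ▸ hm)
    obtain ⟨i⟩ := nonempty_extP_equiv hc1 hc2
    exact ⟨((glAut P).subgroupMap M).trans ((MulEquiv.subgroupCongr he).trans i)⟩

end Cfsg.Agent.Linear.PSL2Max
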