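import Cfsg.Agent.Dickson.Basic
import Cfsg.Agent.SmallOrder.PGL2Spectrum
import Mathlib

/-!
# Pairs in `SL₂` are determined by three traces
-/

set_option autoImplicit false
set_option linter.unusedSectionVars false

namespace Cfsg.Agent.Linear.PSL2Pairs

open Matrix Cfsg.Agent.Dickson

variable {K : Type*} [Field K]

local notation "M2" => Matrix (Fin 2) (Fin 2) K

/-- The commutator determinant: non-zero for absolutely irreducible pairs. -/
def cdet (g h : SL2 K) : K := (g.1 * h.1 - h.1 * g.1).det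

theorem cdet_eq (g h : SL2 K) :
    cdet g h = tr g * tr h * tr (g * h) + 4 - tr g ^ 2 - tr h ^ 2 - tr (g * h) ^ 2 := by
  have hg := det_eq g
  have hh := det_eq h
  simp only [cdet, tr, Matrix.det_fin_two, Matrix.sub_apply, Matrix.mul_apply, Fin.sum_univ_two, mul_apply2,
    Matrix.SpecialLinearGroup.coe_mul]
  linear_combination
    (4 * (h.1 0 0 * h.1 1 1 - h.1 0 1 * h.1 1 0) - (h.1 0 0 + h.1 1 1) ^ 2) * hg +
      (4 - (g.1 0 0 + g.1 1 1) ^ 2) * hh

theorem mulVec_indep {g : M2} {v : Fin 2 → K} (hv : v ≠ 0) (hne : ∀ l : K, g *ᵥ v ≠ l • v) :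
    v 0 * (g *ᵥ v) 1 - v 1 * (g *ᵥ v) 0 ≠ 0 := by
  intro h
  generalize hw : g *ᵥ v = w at h hne
  by_cases h0 : v 0 = 0
  · have h1 : v 1 ≠ 0 := fun h1 => hv (funext fun i => by fin_cases i <;> assumption)
    refine hne (w 1 / v 1) (funext fun i => ?_)
    fin_cases i
    · rw [h0, zero_mul, zero_sub, neg_eq_zero] at h
      simp [h0, (mul_eq_zero.1 h).resolve_left h1]
    · simp [h1]
  · refine hne (w 0 / v 0) (funext fun i => ?_)
    fin_cases i
    · simp [h0]
    · simp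
      field_simp
      linear_combination h

/-- The equation of the model pairs. -/
def conic (t u s a c : K) : K := a ^ 2 + c ^ 2 + a * c * t - a * u - c * (u * t - s) + 1

/-- Every pair with non-zero commutator determinant is conjugate to each of its models. -/
theorem exists_conj_model {g h : SL2 K} (hne : cdet g h ≠ 0) {a c : K}
    (hE : conic (tr g) (tr h) (tr (g * h)) a c = 0) :
    ∃ P : GL (Fin 2) K, g.1 * P.1 = P.1 * !![0, -1; 1, tr g] ∧
      h.1 * P.1 = P.1 * !![a, tr (g * h) + c - tr g * (tr h - a); c, tr h - a] := by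
  have hg := det_eq g
  have hh := det_eq h
  have hdet : (h.1 - a • (1 : M2) - c • g.1).det = 0 := by
    simp [Matrix.det_fin_two, conic, tr, mul_apply2, Matrix.mul_apply, Fin.sum_univ_two] at hE ⊢
    linear_combination hE + hh + c ^ 2 * hg
  obtain ⟨v, hv, hvM⟩ := Matrix.exists_mulVec_eq_zero_iff.2 hdet
  set w := g.1 *ᵥ v with hw
  have hhv : h.1 *ᵥ v = a • v + c • w := by
    rw [Matrix.sub_mulVec, Matrix.sub_mulVec, Matrix.smul_mulVec, Matrix.smul_mulVec, Matrix.one_mulVec,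
      sub_sub, sub_eq_zero] at hvM
    exact hvM
  have hnl : ∀ l : K, g.1 *ᵥ v ≠ l • v := by
    intro l hl
    apply hne
    refine Matrix.exists_mulVec_eq_zero_iff.1 ⟨v, hv, ?_⟩
    rw [Matrix.sub_mulVec, ← Matrix.mulVec_mulVec, ← Matrix.mulVec_mulVec, hl, hhv, hw, hl,
      Matrix.mulVec_add, Matrix.mulVec_smul, Matrix.mulVec_smul, Matrix.mulVec_smul, Matrix.mulVec_smul, hl, hhv,
      hw, hl]
    module
  have hD := mulVec_indep hv hnl
  let P : GL (Fin 2) K := Matrix.GeneralLinearGroup.mkOfDetNeZero !![v 0, w 0; v 1, w 1] (by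
    rw [Matrix.det_fin_two_of, mul_comm (w 0)]; exact hD)
  have hw0 : w 0 = g.1 0 0 * v 0 + g.1 0 1 * v 1 := by simp [hw, Matrix.mulVec, dotProduct, Fin.sum_univ_two]
  have hw1 : w 1 = g.1 1 0 * v 0 + g.1 1 1 * v 1 := by simp [hw, Matrix.mulVec, dotProduct, Fin.sum_univ_two]
  have e0 := congrFun hhv 0
  have e1 := congrFun hhv 1
  simp [Matrix.mulVec, dotProduct, Fin.sum_univ_two, hw0, hw1] at e0 e1
  refine ⟨P, ?_, ?_⟩
  · ext i j
    fin_cases i <;> fin_cases j <;>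
      simp [P, Matrix.mul_apply, Fin.sum_univ_two, hw0, hw1, tr] <;> first
      | ring1
      | linear_combination -(v 0) * hg
      | linear_combination -(v 1) * hg
  · ext i j
    fin_cases i <;> fin_cases j <;>
      simp [P, Matrix.mul_apply, Fin.sum_univ_two, hw0, hw1, tr, mul_apply2]
    · linear_combination e0
    · linear_combination (-(g.1 0 0) + (g.1 0 0 + g.1 1 1)) * e0 - g.1 0 1 * e1 + c * v 0 * hg
    · linear_combination e1
    · linear_combination -(g.1 1 0) * e0 + (-(g.1 1 1) + (g.1 0 0 + g.1 1 1)) * e1 + c * v 1 * hg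

/-- The models of a pair. -/
theorem exists_model {g h : SL2 K} (hne : cdet g h ≠ 0) :
    ∃ a c : K, conic (tr g) (tr h) (tr (g * h)) a c = 0 := by
  have hg := det_eq g
  have hh := det_eq h
  -- a vector which is not an eigenvector of `g`
  obtain ⟨v, hv, hnl⟩ : ∃ v : Fin 2 → K, v ≠ 0 ∧ ∀ l : K, g.1 *ᵥ v ≠ l • v := by
    by_contra hall
    push Not at hall
    obtain ⟨l0, h0⟩ := hall ![1, 0] (fun e => one_ne_zero (congrFun e 0))
    obtain ⟨l1, h1⟩ := hall ![0, 1] (fun e => one_ne_zero (congrFun e 1))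
    obtain ⟨l2, h2⟩ := hall ![1, 1] (fun e => one_ne_zero (congrFun e 0))
    have a0 := congrFun h0 1
    have b0 := congrFun h1 0
    have c0 := congrFun h2 0
    have c1 := congrFun h2 1
    simp [Matrix.mulVec, dotProduct, Fin.sum_univ_two] at a0 b0 c0 c1
    apply hne
    simp [cdet, Matrix.det_fin_two, Matrix.mul_apply, Fin.sum_univ_two, a0, b0]
    rw [show g.1 0 0 = g.1 1 1 by linear_combination c0 - c1 - b0 + a0]
    ring
  have hD := mulVec_indep hv hnl
  set D := v 0 * (g.1 *ᵥ v) 1 - v 1 * (g.1 *ᵥ v) 0 with hDdef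
  obtain ⟨a, ha⟩ : ∃ a, a * D = (h.1 *ᵥ v) 0 * (g.1 *ᵥ v) 1 - (h.1 *ᵥ v) 1 * (g.1 *ᵥ v) 0 :=
    ⟨_, div_mul_cancel₀ _ hD⟩
  obtain ⟨c, hc⟩ : ∃ c, c * D = v 0 * (h.1 *ᵥ v) 1 - v 1 * (h.1 *ᵥ v) 0 := ⟨_, div_mul_cancel₀ _ hD⟩
  refine ⟨a, c, ?_⟩
  have hzero : (h.1 - a • (1 : M2) - c • g.1).det = 0 := by
    refine Matrix.exists_mulVec_eq_zero_iff.1 ⟨v, hv, ?_⟩
    rw [Matrix.sub_mulVec, Matrix.sub_mulVec, Matrix.smul_mulVec, Matrix.smul_mulVec, Matrix.one_mulVec]
    generalize h.1 *ᵥ v = wh at ha hc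
    generalize g.1 *ᵥ v = wg at ha hc hDdef
    ext i
    refine mul_left_cancel₀ hD ?_
    fin_cases i
    · show D * (wh 0 - a * v 0 - c * wg 0) = D * 0
      linear_combination -(v 0) * ha - wg 0 * hc + wh 0 * hDdef
    · show D * (wh 1 - a * v 1 - c * wg 1) = D * 0
      linear_combination -(v 1) * ha - wg 1 * hc + wh 1 * hDdef
  simp [Matrix.det_fin_two] at hzero
  simp [conic, tr, mul_apply2, Matrix.mul_apply, Fin.sum_univ_two]
  linear_combination hzero - hh - c ^ 2 * hg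

/-- Pairs with the same three traces are conjugate. -/
theorem exists_conj {g h g' h' : SL2 K} (hne : cdet g h ≠ 0) (e1 : tr g' = tr g) (e2 : tr h' = tr h)
    (e3 : tr (g' * h') = tr (g * h)) :
    ∃ P : GL (Fin 2) K, g'.1 * P.1 = P.1 * g.1 ∧ h'.1 * P.1 = P.1 * h.1 := by
  obtain ⟨a, c, hE⟩ := exists_model hne
  have hne' : cdet g' h' ≠ 0 := by rwa [cdet_eq, e1, e2, e3, ← cdet_eq]
  obtain ⟨Q, hQ1, hQ2⟩ := exists_conj_model hne hE
  obtain ⟨R, hR1, hR2⟩ := exists_conj_model hne' (a := a) (c := c) (by rwa [e1, e2, e3])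
  rw [e1] at hR1
  rw [e1, e2, e3] at hR2
  refine ⟨R * Q⁻¹, ?_, ?_⟩
  · rw [Units.val_mul, ← mul_assoc, hR1, mul_assoc, mul_assoc]
    congr 1
    rw [Units.eq_inv_mul_iff_mul_eq, ← mul_assoc, ← hQ1, mul_assoc, Units.mul_inv, mul_one]
  · rw [Units.val_mul, ← mul_assoc, hR2, mul_assoc, mul_assoc]
    congr 1
    rw [Units.eq_inv_mul_iff_mul_eq, ← mul_assoc, ← hQ2, mul_assoc, Units.mul_inv, mul_one]

/-- The commutant of such a pair consists of the scalars. -/
theorem commutant {g h : SL2 K} (hne : cdet g h ≠ 0) {z : M2} (hzg : z * g.1 = g.1 * z)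
    (hzh : z * h.1 = h.1 * z) : ∃ w : K, z = w • (1 : M2) := by
  obtain ⟨a, c, hE⟩ := exists_model hne
  obtain ⟨P, hP1, -⟩ := exists_conj_model hne hE
  obtain ⟨Z, hZ⟩ : ∃ Z, Z = P⁻¹.1 * z * P.1 := ⟨_, rfl⟩
  have hcomm : Z * !![0, -1; 1, tr g] = !![0, -1; 1, tr g] * Z := by
    have h' : !![0, -1; 1, tr g] = P⁻¹.1 * (g.1 * P.1) := by rw [hP1, ← mul_assoc, Units.inv_mul, one_mul]
    rw [hZ, h']
    simp only [mul_assoc]
    rw [← mul_assoc P.1 P⁻¹.1, Units.mul_inv, one_mul, ← mul_assoc P.1 P⁻¹.1, Units.mul_inv, one_mul,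
      ← mul_assoc z, hzg, mul_assoc]
  have a00 := congrFun (congrFun hcomm 0) 0
  have a10 := congrFun (congrFun hcomm 1) 0
  simp [Matrix.mul_apply, Fin.sum_univ_two] at a00 a10
  have hZe : Z = Z 0 0 • (1 : M2) + Z 1 0 • !![0, -1; 1, tr g] := by
    ext i j
    fin_cases i <;> fin_cases j <;> simp [a00]
    linear_combination a10
  have hz : z = Z 0 0 • (1 : M2) + Z 1 0 • g.1 := by
    have : z = P.1 * Z * P⁻¹.1 := by
      rw [hZ]
      simp only [mul_assoc]
      rw [Units.mul_inv, mul_one, ← mul_assoc P.1, Units.mul_inv, one_mul]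
    rw [this]
    conv_lhs => rw [hZe]
    rw [mul_add, add_mul, mul_smul_comm, mul_smul_comm, smul_mul_assoc, smul_mul_assoc, mul_one, Units.mul_inv,
      ← hP1, mul_assoc g.1, Units.mul_inv, mul_one]
  refine ⟨Z 0 0, ?_⟩
  suffices Z 1 0 = 0 by rwa [this, zero_smul, add_zero] at hz
  by_contra h0
  rw [hz, add_mul, mul_add, smul_mul_assoc, smul_mul_assoc, mul_smul_comm, mul_smul_comm, one_mul, mul_one] at hzh
  have : g.1 * h.1 = h.1 * g.1 := smul_right_injective M2 h0 (add_left_cancel hzh)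
  exact hne (by rw [cdet, this, sub_self, Matrix.det_zero])

/-- A pair with traces `0`, `u`, `s` in a subfield can be written over it. -/
theorem exists_conj_into [Finite K] (h2 : (2 : K) ≠ 0) (L : Subfield K) {g h : SL2 K} (hne : cdet g h ≠ 0)
    (hg0 : tr g = 0) (hu : tr h ∈ L) (hs : tr (g * h) ∈ L) :
    ∃ P : GL (Fin 2) K, (∀ i j, (P⁻¹.1 * g.1 * P.1) i j ∈ L) ∧ ∀ i j, (P⁻¹.1 * h.1 * P.1) i j ∈ L := by
  haveI := Fintype.ofFinite L
  have hL2 : Fintype.card L % 2 = 1 := by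
    by_contra hev
    have h0 : (2 : L) = 0 := by
      have hr : ringChar L = 2 := FiniteField.even_card_iff_char_two.2 (by omega)
      haveI := ringChar.charP L
      have := CharP.cast_eq_zero L (ringChar L)
      rw [hr] at this
      exact_mod_cast this
    exact h2 (by simpa [map_ofNat] using congrArg L.subtype h0)
  set u := tr h with hudef
  set s := tr (g * h) with hsdef
  obtain ⟨x, y, hxy⟩ : ∃ x y : L, x ^ 2 + y ^ 2 =
      (⟨u, hu⟩ / 2) ^ 2 + (⟨s, hs⟩ / 2) ^ 2 - 1 := by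
    set r : L := (⟨u, hu⟩ / 2) ^ 2 + (⟨s, hs⟩ / 2) ^ 2 - 1
    obtain ⟨x, y, hxy⟩ := FiniteField.exists_root_sum_quadratic
      (f := (Polynomial.X ^ 2 : Polynomial L)) (g := Polynomial.X ^ 2 - Polynomial.C r)
      (Polynomial.degree_X_pow 2) (Polynomial.degree_X_pow_sub_C (by norm_num) r) hL2
    refine ⟨x, y, ?_⟩
    simp at hxy
    linear_combination hxy
  have hxy' := congrArg (fun z : L => (z : K)) hxy
  push_cast at hxy'
  have hE : conic (tr g) (tr h) (tr (g * h)) ((x : K) + u / 2) ((y : K) - s / 2) = 0 := by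
    simp only [conic, hg0, ← hudef, ← hsdef]
    have hx2 : (((2 : L)) : K) = 2 := map_ofNat L.subtype 2
    rw [hx2] at hxy'
    field_simp at hxy' ⊢
    linear_combination hxy'
  obtain ⟨P, hP1, hP2⟩ := exists_conj_model hne hE
  have h2L : (2 : K) ∈ L := by
    rw [show (2 : K) = 1 + 1 by norm_num]; exact L.add_mem L.one_mem L.one_mem
  refine ⟨P, fun i j => ?_, fun i j => ?_⟩
  · rw [mul_assoc, hP1, ← mul_assoc, Units.inv_mul, one_mul, hg0]
    fin_cases i <;> fin_cases j <;> simp [L.zero_mem, L.one_mem, L.neg_mem L.one_mem]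
  · rw [mul_assoc, hP2, ← mul_assoc, Units.inv_mul, one_mul, hg0, zero_mul, sub_zero]
    have ha : (x : K) + u / 2 ∈ L := L.add_mem x.2 (L.div_mem hu h2L)
    have hc : (y : K) - s / 2 ∈ L := L.sub_mem y.2 (L.div_mem hs h2L)
    fin_cases i <;> fin_cases j
    · exact ha
    · exact L.add_mem hs hc
    · exact hc
    · exact L.sub_mem hu ha

end Cfsg.Agent.Linear.PSL2Pairs
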