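import Cfsg.Agent.Linear.PSL2MaxBase
import Cfsg.Agent.Linear.PSL2Pairs
import Cfsg.Agent.S0802
import Cfsg.Agent.S0803
import Cfsg.Agent.S0804
import Mathlib

/-!
# The exceptional maximal subgroups of `PSL₂(q)`
-/

set_option autoImplicit false
set_option linter.unusedSectionVars false

namespace Cfsg.Agent.Linear.PSL2Max

open Matrix Cfsg.Agent.Dickson Cfsg.Agent.Linear.PSL2Borel Cfsg.Agent.Linear.PSL2Dickson
  Cfsg.Agent.Linear.PSL2Ext Cfsg.Agent.KnownA.GL2

variable {F : Type*} [Field F] [Fintype F]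

local notation "SL" => Matrix.SpecialLinearGroup (Fin 2) F
local notation "PSL" => Matrix.ProjectiveSpecialLinearGroup (Fin 2) F

theorem linear_eq_pm_one {g : SL} (hg : toPSL g ≠ 1) {a b : F} {h : SL}
    (h1 : a • g.1 + b • (1 : Matrix (Fin 2) (Fin 2) F) = h.1) (h2 : h = 1 ∨ h = -1) : a = 0 := by
  by_contra ha
  refine PSL2Classes.not_scalar_of_toPSL hg ?_
  have e01 := congrFun (congrFun h1 0) 1
  have e10 := congrFun (congrFun h1 1) 0
  have e00 := congrFun (congrFun h1 0) 0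
  have e11 := congrFun (congrFun h1 1) 1
  rcases h2 with rfl | rfl <;> simp at e01 e10 e00 e11 <;>
  · refine ⟨?_, ?_, ?_⟩
    all_goals first
      | exact (e01.resolve_left ha)
      | exact (e10.resolve_left ha)
      | exact mul_left_cancel₀ ha (by linear_combination e00 - e11)

theorem tr_order_two (h2 : (2 : F) ≠ 0) {g : SL} (h : orderOf (toPSL g) = 2) : tr g = 0 := by
  have hne : toPSL g ≠ 1 := fun e => by rw [e, orderOf_one] at h; omega
  have hpow := pow_orderOf_eq_one (toPSL g)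
  rw [h, ← map_pow, toPSL_eq_one_iff] at hpow
  refine linear_eq_pm_one hne (b := -1) (h := g ^ 2) ?_ hpow
  rw [Matrix.SpecialLinearGroup.coe_pow, pow_two, SmallOrder.cayley2, g.2]
  simp [tr, Matrix.trace_fin_two, sub_eq_add_neg]

theorem tr_order_three {g : SL} (h : orderOf (toPSL g) = 3) : tr g * tr g = 1 := by
  have hne : toPSL g ≠ 1 := fun e => by rw [e, orderOf_one] at h; omega
  have hpow := pow_orderOf_eq_one (toPSL g)
  rw [h, ← map_pow, toPSL_eq_one_iff] at hpow
  have hd := det_eq g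
  refine sub_eq_zero.1 (linear_eq_pm_one hne (b := -tr g) (h := g ^ 3) ?_ hpow)
  rw [Matrix.SpecialLinearGroup.coe_pow, pow_succ, pow_two]
  ext i j
  fin_cases i <;> fin_cases j <;>
    simp [tr, Matrix.mul_apply, Fin.sum_univ_two] <;> first
    | linear_combination (g.1 0 0) * hd + (g.1 1 1) * hd
    | linear_combination (g.1 0 1) * hd
    | linear_combination (g.1 1 0) * hd
    | linear_combination (g.1 0 0) * hd
    | linear_combination (g.1 1 1) * hd
    | linear_combination (g.1 0 0 * 2 + g.1 1 1) * hd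
    | linear_combination (g.1 1 1 * 2 + g.1 0 0) * hd

theorem tr_order_five {g : SL} (h : orderOf (toPSL g) = 5) : (tr g ^ 2) ^ 2 - 3 * tr g ^ 2 + 1 = 0 := by
  have hne : toPSL g ≠ 1 := fun e => by rw [e, orderOf_one] at h; omega
  have hpow := pow_orderOf_eq_one (toPSL g)
  rw [h, ← map_pow, toPSL_eq_one_iff] at hpow
  refine linear_eq_pm_one hne (b := -(tr g ^ 3 - 2 * tr g)) (h := g ^ 5) ?_ hpow
  have hc : g.1 * g.1 = tr g • g.1 - 1 := by
    rw [SmallOrder.cayley2, g.2, one_smul, Matrix.trace_fin_two]; rfl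
  rw [Matrix.SpecialLinearGroup.coe_pow]
  have hmul : ∀ a b : F, (a • g.1 + b • (1 : Matrix (Fin 2) (Fin 2) F)) * g.1 =
      (a * tr g + b) • g.1 + (-a) • (1 : Matrix (Fin 2) (Fin 2) F) := by
    intro a b
    rw [add_mul, smul_mul_assoc, smul_mul_assoc, one_mul, hc]
    module
  have h1 : g.1 ^ 2 = tr g • g.1 + (-1 : F) • (1 : Matrix (Fin 2) (Fin 2) F) := by
    rw [pow_two, hc]; module
  rw [show g.1 ^ 5 = g.1 ^ 2 * g.1 * g.1 * g.1 by rw [← pow_succ, ← pow_succ, ← pow_succ], h1, hmul, hmul, hmul]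
  congr 1 <;> congr 1 <;> ring

theorem closure_alt_four {a b : alternatingGroup (Fin 4)} (ha : orderOf a = 2) (hb : orderOf b = 3)
    {H : Subgroup (alternatingGroup (Fin 4))} (h1 : a ∈ H) (h2 : b ∈ H) : H = ⊤ := by
  have d2 : 2 ∣ Nat.card H := by
    have h := orderOf_dvd_natCard (⟨a, h1⟩ : H)
    rwa [Subgroup.orderOf_mk, ha] at h
  have d3 : 3 ∣ Nat.card H := by
    have h := orderOf_dvd_natCard (⟨b, h2⟩ : H)
    rwa [Subgroup.orderOf_mk, hb] at h
  have d12 := Subgroup.card_subgroup_dvd_card H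
  rw [card_four_five.1] at d12
  have hle := Nat.le_of_dvd (by norm_num) d12
  have hne := no_six_alt_four H
  refine Subgroup.eq_top_of_card_eq _ ?_
  rw [card_four_five.1]
  obtain ⟨c, hc⟩ : 6 ∣ Nat.card H := Nat.Coprime.mul_dvd_of_dvd_of_dvd (by norm_num : Nat.Coprime 2 3) d2 d3
  have hpos : 0 < Nat.card H := Nat.card_pos
  rw [hc] at hle hne hpos ⊢
  omega

theorem closure_alt_five {a b : alternatingGroup (Fin 5)} (ha : orderOf a = 2) (hb : orderOf b = 3)
    (hab : orderOf (a * b) = 5) {H : Subgroup (alternatingGroup (Fin 5))} (h1 : a ∈ H) (h2 : b ∈ H) : H = ⊤ := by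
  have d2 : 2 ∣ Nat.card H := by
    have h := orderOf_dvd_natCard (⟨a, h1⟩ : H)
    rwa [Subgroup.orderOf_mk, ha] at h
  have d3 : 3 ∣ Nat.card H := by
    have h := orderOf_dvd_natCard (⟨b, h2⟩ : H)
    rwa [Subgroup.orderOf_mk, hb] at h
  have d5 : 5 ∣ Nat.card H := by
    have h := orderOf_dvd_natCard (⟨a * b, mul_mem h1 h2⟩ : H)
    rwa [Subgroup.orderOf_mk, hab] at h
  have d60 := Subgroup.card_subgroup_dvd_card H
  rw [card_four_five.2.2] at d60
  have hle := Nat.le_of_dvd (by norm_num) d60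
  have h30 : 30 ∣ Nat.card H := Nat.Coprime.mul_dvd_of_dvd_of_dvd (by norm_num : Nat.Coprime 6 5)
    (Nat.Coprime.mul_dvd_of_dvd_of_dvd (by norm_num : Nat.Coprime 2 3) d2 d3) d5
  refine Subgroup.eq_top_of_card_eq _ ?_
  rw [card_four_five.2.2]
  by_contra hne
  have hi : H.index = 2 := by
    have := H.index_mul_card
    obtain ⟨c, hc⟩ := h30
    rw [hc] at hle hne this
    rw [card_four_five.2.2] at this
    have hc1 : c = 1 := by
      have : c ≠ 0 := fun h => by rw [h, mul_zero] at hc; exact Nat.card_pos.ne' hc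
      omega
    rw [hc1] at this
    omega
  haveI := Subgroup.normal_of_index_eq_two hi
  haveI : IsSimpleGroup (alternatingGroup (Fin 5)) := alternatingGroup.isSimpleGroup (by simp)
  rcases (inferInstance : H.Normal).eq_bot_or_eq_top with e | e
  · rw [e, Subgroup.card_bot] at h30; norm_num at h30
  · rw [e, Subgroup.index_top] at hi; omega

/-- The standard lifts of generators of `A₄`. -/
theorem a4_lifts (h2 : (2 : F) ≠ 0) :
    ∃ a b : alternatingGroup (Fin 4), orderOf a = 2 ∧ orderOf b = 3 ∧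
      ∀ f : alternatingGroup (Fin 4) →* PSL, Function.Injective f →
        ∃ g h : SL, toPSL g = f a ∧ toPSL h = f b ∧ tr g = 0 ∧ tr h = 1 ∧ tr (g * h) = 1 := by
  haveI := Fact.mk Nat.prime_two
  haveI := Fact.mk Nat.prime_three
  obtain ⟨a, b, ha, ha1, hb, hb1, hab, hab1⟩ : ∃ a b : alternatingGroup (Fin 4),
      a ^ 2 = 1 ∧ a ≠ 1 ∧ b ^ 3 = 1 ∧ b ≠ 1 ∧ (a * b) ^ 3 = 1 ∧ a * b ≠ 1 := by decide +kernel
  refine ⟨a, b, orderOf_eq_prime ha ha1, orderOf_eq_prime hb hb1, fun f hf => ?_⟩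
  obtain ⟨g, hg⟩ := toPSL_surjective (f a)
  obtain ⟨h, hh⟩ := toPSL_surjective (f b)
  have ho : ∀ x, orderOf (f x) = orderOf x := orderOf_injective f hf
  have htg : tr g = 0 := tr_order_two h2 (by rw [hg, ho, orderOf_eq_prime ha ha1])
  -- adjust the signs
  obtain ⟨h, hh, hth⟩ : ∃ h : SL, toPSL h = f b ∧ tr h = 1 := by
    rcases mul_self_eq_one_iff.1 (tr_order_three (g := h) (by rw [hh, ho, orderOf_eq_prime hb hb1])) with e | e
    · exact ⟨h, hh, e⟩
    · exact ⟨-h, (toPSL_eq_iff.2 (Or.inr rfl)).trans hh, by rw [tr_neg, e, neg_neg]⟩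
  rcases mul_self_eq_one_iff.1 (tr_order_three (g := g * h) (by
    rw [map_mul, hg, hh, ← map_mul, ho, orderOf_eq_prime hab hab1])) with e | e
  · exact ⟨g, h, hg, hh, htg, hth, e⟩
  · exact ⟨-g, h, (toPSL_eq_iff.2 (Or.inr rfl)).trans hg, hh, by rw [tr_neg, htg, neg_zero], hth,
      by rw [neg_mul, tr_neg, e, neg_neg]⟩

theorem conjGL_eq_of {P : GL (Fin 2) F} {g g' : SL} (h : g'.1 * P.1 = P.1 * g.1) : conjGL P g = g' := by
  refine Subtype.ext ?_
  change P.1 * g.1 * (↑P⁻¹ : Matrix (Fin 2) (Fin 2) F) = g'.1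
  rw [Units.mul_inv_eq_iff_eq_mul, h]

/-- All subgroups `A₄` are conjugate in `PGL₂`. -/
theorem a4_conj (h2 : (2 : F) ≠ 0) (f f' : alternatingGroup (Fin 4) →* PSL) (hf : Function.Injective f)
    (hf' : Function.Injective f') : ∃ P : GL (Fin 2) F, ∀ x, glAut P (f x) = f' x := by
  obtain ⟨a, b, ha, hb, hall⟩ := a4_lifts (F := F) h2
  obtain ⟨g, h, hg, hh, t1, t2, t3⟩ := hall f hf
  obtain ⟨g', h', hg', hh', s1, s2, s3⟩ := hall f' hf'
  have hne : PSL2Pairs.cdet g h ≠ 0 := by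
    rw [PSL2Pairs.cdet_eq, t1, t2, t3]; norm_num; exact h2
  obtain ⟨P, e1, e2⟩ := PSL2Pairs.exists_conj hne (s1.trans t1.symm) (s2.trans t2.symm) (s3.trans t3.symm)
  refine ⟨P, fun x => ?_⟩
  have htop := closure_alt_four ha hb
    (H := MonoidHom.eqLocus ((glAut P).toMonoidHom.comp f) f')
    (show glAut P (f a) = f' a by rw [← hg, ← hg', glAut_toPSL, conjGL_eq_of e1])
    (show glAut P (f b) = f' b by rw [← hh, ← hh', glAut_toPSL, conjGL_eq_of e2])
  exact (htop ▸ Subgroup.mem_top x : x ∈ MonoidHom.eqLocus ((glAut P).toMonoidHom.comp f) f')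

theorem glAut_inv_toPSL (P : GL (Fin 2) F) (g : SL) (L : Subfield F)
    (h : ∀ i j, (P⁻¹.1 * g.1 * P.1) i j ∈ L) : glAut P⁻¹ (toPSL g) ∈ stdP L := by
  rw [glAut_toPSL]
  refine Subgroup.mem_map_of_mem _ fun i j => ?_
  change (P⁻¹.1 * g.1 * (↑(P⁻¹)⁻¹ : Matrix (Fin 2) (Fin 2) F)) i j ∈ L
  rw [inv_inv]
  exact h i j

/-- `A₄` is defined over every subfield. -/
theorem a4_into (h2 : (2 : F) ≠ 0) (L : Subfield F) (f : alternatingGroup (Fin 4) →* PSL)
    (hf : Function.Injective f) :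
    ∃ P : GL (Fin 2) F, ∀ x, glAut P (f x) ∈ stdP L := by
  obtain ⟨a, b, ha, hb, hall⟩ := a4_lifts (F := F) h2
  obtain ⟨g, h, hg, hh, t1, t2, t3⟩ := hall f hf
  have hne : PSL2Pairs.cdet g h ≠ 0 := by
    rw [PSL2Pairs.cdet_eq, t1, t2, t3]; norm_num; exact h2
  obtain ⟨P, e1, e2⟩ := PSL2Pairs.exists_conj_into h2 L hne t1 (t2 ▸ L.one_mem) (t3 ▸ L.one_mem)
  refine ⟨P⁻¹, fun x => ?_⟩
  have htop := closure_alt_four ha hb (H := (stdP L).comap ((glAut P⁻¹).toMonoidHom.comp f))
    (show glAut P⁻¹ (f a) ∈ stdP L by rw [← hg]; exact glAut_inv_toPSL P g L e1)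
    (show glAut P⁻¹ (f b) ∈ stdP L by rw [← hh]; exact glAut_inv_toPSL P h L e2)
  exact (htop ▸ Subgroup.mem_top x : x ∈ (stdP L).comap ((glAut P⁻¹).toMonoidHom.comp f))

/-- `A₅` is defined over every subfield containing the trace of an element of order 5. -/
theorem a5_into (h2 : (2 : F) ≠ 0) (L : Subfield F)
    (hL : ∀ t : F, (t ^ 2) ^ 2 - 3 * t ^ 2 + 1 = 0 → t ∈ L) (f : alternatingGroup (Fin 5) →* PSL)
    (hf : Function.Injective f) :
    ∃ P : GL (Fin 2) F, ∀ x, glAut P (f x) ∈ stdP L := by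
  haveI := Fact.mk Nat.prime_two
  haveI := Fact.mk Nat.prime_three
  haveI : Fact (Nat.Prime 5) := ⟨by norm_num⟩
  obtain ⟨a, b, ha, ha1, hb, hb1, hab, hab1⟩ : ∃ a b : alternatingGroup (Fin 5),
      a ^ 2 = 1 ∧ a ≠ 1 ∧ b ^ 3 = 1 ∧ b ≠ 1 ∧ (a * b) ^ 5 = 1 ∧ a * b ≠ 1 := by decide +kernel
  obtain ⟨g, hg⟩ := toPSL_surjective (f a)
  obtain ⟨h, hh⟩ := toPSL_surjective (f b)
  have ho : ∀ x, orderOf (f x) = orderOf x := orderOf_injective f hf
  have t1 : tr g = 0 := tr_order_two h2 (by rw [hg, ho, orderOf_eq_prime ha ha1])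
  have t2 := tr_order_three (g := h) (by rw [hh, ho, orderOf_eq_prime hb hb1])
  have t3 := tr_order_five (g := g * h) (by
    rw [map_mul, hg, hh, ← map_mul, ho, orderOf_eq_prime hab hab1])
  have hne : PSL2Pairs.cdet g h ≠ 0 := by
    rw [PSL2Pairs.cdet_eq, t1]
    intro e
    have hτ : tr (g * h) ^ 2 = 3 := by linear_combination -e - t2
    rw [hτ] at t3
    norm_num at t3
  obtain ⟨P, e1, e2⟩ := PSL2Pairs.exists_conj_into h2 L hne t1 (by
    rcases mul_self_eq_one_iff.1 t2 with e | e <;> rw [e]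
    · exact L.one_mem
    · exact L.neg_mem L.one_mem) (hL _ t3)
  refine ⟨P⁻¹, fun x => ?_⟩
  have htop := closure_alt_five (orderOf_eq_prime ha ha1) (orderOf_eq_prime hb hb1) (orderOf_eq_prime hab hab1)
    (H := (stdP L).comap ((glAut P⁻¹).toMonoidHom.comp f))
    (show glAut P⁻¹ (f a) ∈ stdP L by rw [← hg]; exact glAut_inv_toPSL P g L e1)
    (show glAut P⁻¹ (f b) ∈ stdP L by rw [← hh]; exact glAut_inv_toPSL P h L e2)
  exact (htop ▸ Subgroup.mem_top x : x ∈ (stdP L).comap ((glAut P⁻¹).toMonoidHom.comp f))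

/-- An element normalising a copy of `A₄` over `L` is a multiple of a matrix over `L`. -/
theorem normalizer_descend (h2 : (2 : F) ≠ 0) (L : Subfield F) (f : alternatingGroup (Fin 4) →* PSL)
    (hf : Function.Injective f) (hfL : ∀ x, f x ∈ stdP L) {y : PSL}
    (hy : ∀ x, ∃ x', y * f x * y⁻¹ = f x') : y ∈ extP L := by
  obtain ⟨a, b, -, -, hall⟩ := a4_lifts (F := F) h2
  obtain ⟨g, h, hg, hh, t1, t2, t3⟩ := hall f hf
  obtain ⟨z, rfl⟩ := toPSL_surjective y
  have hLmem : ∀ k : SL, (∃ x, toPSL k = f x) → k ∈ entriesIn L := by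
    rintro k ⟨x, hk⟩
    obtain ⟨k', hk', e⟩ := hfL x
    rcases toPSL_eq_iff.1 (hk.trans e.symm) with rfl | rfl
    · exact hk'
    · intro i j
      simpa using L.neg_mem (hk' i j)
  have hgL := hLmem g ⟨a, hg⟩
  have hhL := hLmem h ⟨b, hh⟩
  have hgL' : z * g * z⁻¹ ∈ entriesIn L := hLmem _ (by
    rw [map_mul, map_mul, map_inv, hg]; exact hy a)
  have hhL' : z * h * z⁻¹ ∈ entriesIn L := hLmem _ (by
    rw [map_mul, map_mul, map_inv, hh]; exact hy b)
  rw [entriesIn_eq_range] at hgL hhL hgL' hhL'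
  obtain ⟨g0, hg0⟩ := hgL
  obtain ⟨h0, hh0⟩ := hhL
  obtain ⟨g1, hg1⟩ := hgL'
  obtain ⟨h1, hh1⟩ := hhL'
  set φ := (Matrix.SpecialLinearGroup.map (L.subtype : L →+* F) : _ →* SL)
  have htr : ∀ k : SL2 L, tr (φ k) = L.subtype (tr k) := fun k => by simp [φ, tr]
  have hne : PSL2Pairs.cdet g h ≠ 0 := by
    rw [PSL2Pairs.cdet_eq, t1, t2, t3]; norm_num; exact h2
  have hne0 : PSL2Pairs.cdet g0 h0 ≠ 0 := fun e => hne (by
    have e' := congrArg L.subtype e
    rw [PSL2Pairs.cdet_eq] at e'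
    rw [PSL2Pairs.cdet_eq, ← hg0, ← hh0, ← map_mul, htr, htr, htr]
    simpa [map_ofNat, show ((4 : L) : F) = 4 from map_ofNat L.subtype 4] using e')
  have hinj := L.subtype.injective
  obtain ⟨P, eg, eh⟩ := PSL2Pairs.exists_conj hne0 (g' := g1) (h' := h1)
    (hinj (by rw [← htr, ← htr, hg1, hg0, tr_conj]))
    (hinj (by rw [← htr, ← htr, hh1, hh0, tr_conj]))
    (hinj (by
      rw [← htr, ← htr, map_mul, map_mul, hg1, hh1, hg0, hh0,
        show z * g * z⁻¹ * (z * h * z⁻¹) = z * (g * h) * z⁻¹ by group, tr_conj]))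
  set Q : GL (Fin 2) F := Matrix.GeneralLinearGroup.map (L.subtype : L →+* F) P
  have hQ : Q.1 = P.1.map L.subtype := rfl
  have hg2 : (z * g * z⁻¹).1 * Q.1 = Q.1 * g.1 := by
    rw [← hg1, ← hg0, hQ]
    change g1.1.map L.subtype * _ = _ * g0.1.map L.subtype
    rw [← Matrix.map_mul, ← Matrix.map_mul, eg]
  have hh2 : (z * h * z⁻¹).1 * Q.1 = Q.1 * h.1 := by
    rw [← hh1, ← hh0, hQ]
    change h1.1.map L.subtype * _ = _ * h0.1.map L.subtype
    rw [← Matrix.map_mul, ← Matrix.map_mul, eh]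
  have hcomm : ∀ k : SL, (z * k * z⁻¹).1 * Q.1 = Q.1 * k.1 →
      (Q⁻¹.1 * z.1) * k.1 = k.1 * (Q⁻¹.1 * z.1) := fun k hk => by
    rw [mul_assoc, Units.inv_mul_eq_iff_eq_mul, ← mul_assoc, ← mul_assoc, ← hk,
      mul_assoc _ Q.1, Units.mul_inv, mul_one, ← Matrix.SpecialLinearGroup.coe_mul,
      ← Matrix.SpecialLinearGroup.coe_mul, inv_mul_cancel_right]
  obtain ⟨w, hw⟩ := PSL2Pairs.commutant hne (hcomm g hg2) (hcomm h hh2)
  have hz : z.1 = w • Q.1 := by
    rw [Units.inv_mul_eq_iff_eq_mul, mul_smul_comm, mul_one] at hw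
    exact hw
  have hw0 : w ≠ 0 := fun e => by
    have := z.2
    rw [hz, e, zero_smul, Matrix.det_zero] at this
    exact zero_ne_one this
  refine ⟨z, w⁻¹, rfl, inv_ne_zero hw0, fun i j => ?_⟩
  rw [hz, Matrix.smul_apply, smul_eq_mul, inv_mul_cancel_left₀ hw0, hQ, Matrix.map_apply]
  exact (P.1 i j).2

variable (p : ℕ) [Fact p.Prime] [CharP F p]

theorem card_bot : Nat.card (⊥ : Subfield F) = p := Subfield.card_bot F p

theorem bot_eq_top_iff : (⊥ : Subfield F) = ⊤ ↔ Fintype.card F = p := by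
  constructor
  · intro h
    rw [← card_bot (F := F) p, h, ← Nat.card_eq_fintype_card]
    exact (Nat.card_congr Subfield.topEquiv.toEquiv).symm
  · intro h
    obtain ⟨m, -, hm, h1⟩ := degree (⊥ : Subfield F)
    rw [card_bot p, h] at hm
    refine h1 (Nat.pow_right_injective (Fact.out : p.Prime).two_le ?_)
    show p ^ m = p ^ 1
    rw [pow_one, hm]

theorem card_extP_lower (L : Subfield F) :
    Nat.card (Matrix.ProjectiveSpecialLinearGroup (Fin 2) L) ≤ Nat.card (extP L) := by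
  obtain ⟨e⟩ := nonempty_stdP_equiv L
  rw [← Nat.card_congr e.toEquiv]
  exact Subgroup.card_le_of_le (stdP_le_extP L)

theorem sixty_le_psl {K : Type*} [Field K] [Fintype K] (h : 4 ≤ Fintype.card K) :
    60 ≤ Nat.card (Matrix.ProjectiveSpecialLinearGroup (Fin 2) K) ∧
      (7 ≤ Fintype.card K → 60 < Nat.card (Matrix.ProjectiveSpecialLinearGroup (Fin 2) K)) := by
  have hG := Cfsg.Agent.Linear.card_PSL_two (F := K)
  rw [PSL2ClassSizes.sq_sub_one_eq] at hG
  generalize Nat.card (Matrix.ProjectiveSpecialLinearGroup (Fin 2) K) = N at hG ⊢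
  rcases gcd_two_cases (Fintype.card K) (by omega) with ⟨h2, hd⟩ | ⟨h2, hd⟩ <;> rw [hd] at hG
  · have : 4 * (5 * 3) ≤ Fintype.card K * ((Fintype.card K + 1) * (Fintype.card K - 1)) :=
      Nat.mul_le_mul h (Nat.mul_le_mul (by omega) (by omega))
    refine ⟨by omega, fun h7 => ?_⟩
    have : 7 * (8 * 6) ≤ Fintype.card K * ((Fintype.card K + 1) * (Fintype.card K - 1)) :=
      Nat.mul_le_mul h7 (Nat.mul_le_mul (by omega) (by omega))
    omega
  · have : 5 * (6 * 4) ≤ Fintype.card K * ((Fintype.card K + 1) * (Fintype.card K - 1)) :=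
      Nat.mul_le_mul (by omega) (Nat.mul_le_mul (by omega) (by omega))
    refine ⟨by omega, fun h7 => ?_⟩
    have : 7 * (8 * 6) ≤ Fintype.card K * ((Fintype.card K + 1) * (Fintype.card K - 1)) :=
      Nat.mul_le_mul h7 (Nat.mul_le_mul (by omega) (by omega))
    omega

include p in
/-- A maximal exceptional subgroup inside a subfield subgroup forces the subfield to be everything. -/
theorem top_of_le {M : Subgroup PSL} (hM : IsCoatom M) {P : GL (Fin 2) F} {L : Subfield F}
    (hle : M.map (glAut P).toMonoidHom ≤ extP L)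
    (hcard : Nat.card M < Nat.card (Matrix.ProjectiveSpecialLinearGroup (Fin 2) L)) : L = ⊤ := by
  by_contra hL
  have e := eq_extP_of_le hM hle hL
  have h1 := card_extP_lower L
  rw [← e] at h1
  have h2 : Nat.card (M.map (glAut P).toMonoidHom) = Nat.card M :=
    (Nat.card_congr ((glAut P).subgroupMap M).toEquiv).symm
  omega

/-- A maximal subgroup cannot be moved into a bigger proper subgroup. -/
theorem not_le_of_card {M H : Subgroup PSL} (hM : IsCoatom M) {φ : PSL ≃* PSL}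
    (hle : M.map φ.toMonoidHom ≤ H) (hH : H ≠ ⊤) : Nat.card M = Nat.card H := by
  have hc : IsCoatom (M.map φ.toMonoidHom) := (φ.mapSubgroup.isCoatom_iff M).2 hM
  rcases hle.lt_or_eq with hlt | e
  · exact absurd (hc.2 _ hlt) hH
  · rw [← e]; exact Nat.card_congr (φ.subgroupMap M).toEquiv

theorem five_le_of_not_dvd {M : Subgroup PSL} (h : 6 ∣ Nat.card M) (hp : ¬ p ∣ Nat.card M) : 5 ≤ p := by
  have := (Fact.out : p.Prime).two_le
  by_contra hlt
  interval_cases p
  · exact hp ((show 2 ∣ 6 by norm_num).trans h)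
  · exact hp ((show 3 ∣ 6 by norm_num).trans h)
  · exact absurd (Fact.out : Nat.Prime 4) (by norm_num)

include p in
theorem two_ne (h : 3 ≤ p) : (2 : F) ≠ 0 := two_ne_zero' (p := p) (by omega)

include p in
/-- Maximal subgroups `A₄`. -/
theorem exc_a4 {M : Subgroup PSL} (hM : IsCoatom M) (hp : ¬ p ∣ Nat.card M)
    (e : M ≃* alternatingGroup (Fin 4)) :
    Fintype.card F = p ∧ 5 ≤ p ∧ (p % 8 = 3 ∨ p % 8 = 5) ∧ ¬ (p % 10 = 1 ∨ p % 10 = 9) := by
  have hc : Nat.card M = 12 := (Nat.card_congr e.toEquiv).trans card_four_five.1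
  have hp5 := five_le_of_not_dvd p (M := M) (by rw [hc]; norm_num) hp
  have h2 : (2 : F) ≠ 0 := two_ne p (by omega)
  let f : alternatingGroup (Fin 4) →* PSL := M.subtype.comp e.symm.toMonoidHom
  have hf : Function.Injective f := Subtype.val_injective.comp e.symm.injective
  have hfx : ∀ (P : GL (Fin 2) F) (H : Subgroup PSL), (∀ x, glAut P (f x) ∈ H) →
      M.map (glAut P).toMonoidHom ≤ H := by
    rintro P H hH _ ⟨y, hy, rfl⟩
    have := hH (e ⟨y, hy⟩)
    simpa [f] using this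
  obtain ⟨P, hP⟩ := a4_into h2 ⊥ f hf
  haveI := Fintype.ofFinite (⊥ : Subfield F)
  have hq : Fintype.card F = p := by
    refine (bot_eq_top_iff p).1 (top_of_le p hM ((hfx P _ hP).trans (stdP_le_extP _)) ?_)
    have := (sixty_le_psl (K := (⊥ : Subfield F)) (by
      rw [← Nat.card_eq_fintype_card, card_bot p]; omega)).1
    omega
  have key : ∀ (H : Subgroup PSL) (f' : alternatingGroup (Fin 4) →* PSL), Function.Injective f' →
      (∀ x, f' x ∈ H) → H ≠ ⊤ → Nat.card H ≠ 12 → False := by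
    intro H f' hf' hmem hH h12
    obtain ⟨Q, hQ⟩ := a4_conj h2 f f' hf hf'
    exact h12 ((not_le_of_card hM (hfx Q H fun x => by rw [hQ]; exact hmem x) hH).symm.trans hc)
  have hG := Cfsg.Agent.Linear.card_PSL_two (F := F)
  rw [hq] at hG
  refine ⟨hq, hp5, ?_, ?_⟩
  · by_contra hcon
    have hodd : p % 2 = 1 := (Fact.out : p.Prime).eq_two_or_odd.resolve_left (by omega)
    have h8 : p ^ 2 % 16 = 1 := by
      have : p % 16 = 1 ∨ p % 16 = 7 ∨ p % 16 = 9 ∨ p % 16 = 15 := by omega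
      rw [Nat.pow_mod]; rcases this with h | h | h | h <;> rw [h]
    obtain ⟨H, ⟨eH⟩⟩ := (Cfsg.Agent.S0803.result hq).2 h8
    have hH24 : Nat.card H = 24 := (Nat.card_congr eH.toEquiv).trans card_four_five.2.1
    refine key H (H.subtype.comp (eH.symm.toMonoidHom.comp (alternatingGroup (Fin 4)).subtype))
      (Subtype.val_injective.comp (eH.symm.injective.comp Subtype.val_injective)) (fun x => SetLike.coe_mem _)
      (fun htop => ?_) (by omega)
    rw [htop, Subgroup.card_top] at hH24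
    have : 7 * (7 ^ 2 - 1) ≤ p * (p ^ 2 - 1) :=
      Nat.mul_le_mul (by omega) (Nat.sub_le_sub_right (Nat.pow_le_pow_left (by omega) 2) 1)
    have hd : Nat.gcd 2 (p - 1) ≤ 2 := Nat.gcd_le_left _ (by norm_num)
    have := Nat.mul_le_mul_right (Nat.card PSL) hd
    omega
  · intro h10
    obtain ⟨H, ⟨eH⟩⟩ := (Cfsg.Agent.S0804.result hq).2
      ((five_dvd_iff p (by omega)).2 (by omega))
    have hH60 : Nat.card H = 60 := (Nat.card_congr eH.toEquiv).trans card_four_five.2.2
    obtain ⟨H4, ⟨e4⟩⟩ := Cfsg.Agent.Linear.exists_A4_in_A5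
    refine key H (H.subtype.comp (eH.symm.toMonoidHom.comp (H4.subtype.comp e4.symm.toMonoidHom)))
      (Subtype.val_injective.comp (eH.symm.injective.comp (Subtype.val_injective.comp e4.symm.injective)))
      (fun x => SetLike.coe_mem _) (fun htop => ?_) (by omega)
    rw [htop, Subgroup.card_top] at hH60
    have : 9 * (9 ^ 2 - 1) ≤ p * (p ^ 2 - 1) :=
      Nat.mul_le_mul (by omega) (Nat.sub_le_sub_right (Nat.pow_le_pow_left (by omega) 2) 1)
    have hd : Nat.gcd 2 (p - 1) ≤ 2 := Nat.gcd_le_left _ (by norm_num)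
    have := Nat.mul_le_mul_right (Nat.card PSL) hd
    omega

include p in
/-- Maximal subgroups `S₄`. -/
theorem exc_s4 {M : Subgroup PSL} (hM : IsCoatom M) (hp : ¬ p ∣ Nat.card M) (e : M ≃* Equiv.Perm (Fin 4)) :
    Fintype.card F = p ∧ 5 ≤ p ∧ (p % 8 = 1 ∨ p % 8 = 7) := by
  have hc : Nat.card M = 24 := (Nat.card_congr e.toEquiv).trans card_four_five.2.1
  have hp5 := five_le_of_not_dvd p (M := M) (by rw [hc]; norm_num) hp
  have h2 : (2 : F) ≠ 0 := two_ne p (by omega)
  let f : alternatingGroup (Fin 4) →* PSL :=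
    M.subtype.comp (e.symm.toMonoidHom.comp (alternatingGroup (Fin 4)).subtype)
  have hf : Function.Injective f :=
    Subtype.val_injective.comp (e.symm.injective.comp Subtype.val_injective)
  obtain ⟨P, hP⟩ := a4_into h2 ⊥ f hf
  have hle : M.map (glAut P).toMonoidHom ≤ extP (⊥ : Subfield F) := by
    rintro _ ⟨y, hy, rfl⟩
    refine normalizer_descend h2 ⊥ ((glAut P).toMonoidHom.comp f) ((glAut P).injective.comp hf) hP fun x => ?_
    refine ⟨⟨e ⟨y, hy⟩ * x * (e ⟨y, hy⟩)⁻¹,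
      (inferInstance : (alternatingGroup (Fin 4)).Normal).conj_mem _ x.2 _⟩, ?_⟩
    simp [f]
  haveI := Fintype.ofFinite (⊥ : Subfield F)
  have hq : Fintype.card F = p := by
    refine (bot_eq_top_iff p).1 (top_of_le p hM hle ?_)
    have := (sixty_le_psl (K := (⊥ : Subfield F)) (by
      rw [← Nat.card_eq_fintype_card, card_bot p]; omega)).1
    omega
  refine ⟨hq, hp5, ?_⟩
  have h16 := (Cfsg.Agent.S0803.result hq).1 ⟨M, ⟨e⟩⟩
  have hr : p % 16 < 16 := Nat.mod_lt _ (by norm_num)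
  rw [Nat.pow_mod] at h16
  interval_cases hpr : p % 16 <;> omega

include p in
/-- Maximal subgroups `A₅`. -/
theorem exc_a5 {M : Subgroup PSL} (hM : IsCoatom M) (hp : ¬ p ∣ Nat.card M ∨ p = 3)
    (e : M ≃* alternatingGroup (Fin 5)) :
    (Fintype.card F % 10 = 1 ∨ Fintype.card F % 10 = 9) ∧
      (Fintype.card F = p ∨ (Fintype.card F = p ^ 2 ∧ (p % 10 = 3 ∨ p % 10 = 7))) := by
  classical
  have hc : Nat.card M = 60 := (Nat.card_congr e.toEquiv).trans card_four_five.2.2
  obtain ⟨n, hpp, hn⟩ := FiniteField.card F p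
  have hp3 : p = 3 ∨ 7 ≤ p := by
    rcases hp with hp | hp
    · have h5 := five_le_of_not_dvd p (M := M) (by rw [hc]; norm_num) hp
      rw [hc] at hp
      have : p ≠ 5 := fun e => hp (by rw [e]; norm_num)
      have : p ≠ 6 := fun e => by rw [e] at hpp; norm_num at hpp
      omega
    · exact Or.inl hp
  have h2 : (2 : F) ≠ 0 := two_ne p (by omega)
  have hodd : Fintype.card F % 2 = 1 := by
    rw [hn, Nat.pow_mod, hpp.eq_two_or_odd.resolve_left (by omega), one_pow]; rfl
  have h5 := (Cfsg.Agent.S0804.result (F := F) rfl).1 ⟨M, ⟨e⟩⟩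
  rw [five_dvd_iff _ Fintype.card_pos] at h5
  have h50 : Fintype.card F % 5 ≠ 0 := by
    rw [hn]
    intro h
    have := (Nat.prime_dvd_prime_iff_eq (by norm_num) hpp).1 ((by norm_num : Nat.Prime 5).dvd_of_dvd_pow (Nat.dvd_of_mod_eq_zero h))
    omega
  refine ⟨by omega, ?_⟩
  let f : alternatingGroup (Fin 5) →* PSL := M.subtype.comp e.symm.toMonoidHom
  have hf : Function.Injective f := Subtype.val_injective.comp e.symm.injective
  have key : ∀ L : Subfield F, (∀ t : F, (t ^ 2) ^ 2 - 3 * t ^ 2 + 1 = 0 → t ∈ L) → 7 ≤ Nat.card L → L = ⊤ := by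
    intro L hL h7
    obtain ⟨P, hP⟩ := a5_into h2 L hL f hf
    haveI := Fintype.ofFinite L
    refine top_of_le p hM (P := P) (le_trans ?_ (stdP_le_extP L)) ?_
    · rintro _ ⟨y, hy, rfl⟩
      have := hP (e ⟨y, hy⟩)
      simpa [f] using this
    · rw [Nat.card_eq_fintype_card] at h7
      have := (sixty_le_psl (K := L) (by omega)).2 h7
      omega
  -- the field of the roots of `x ^ (p ^ 2) = x`
  have hroot : ∀ t : F, (t ^ 2) ^ 2 - 3 * t ^ 2 + 1 = 0 → t ^ (p ^ 2) = t := by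
    intro t ht
    obtain ⟨ε, hε, he⟩ : ∃ ε : F, (ε = 1 ∨ ε = -1) ∧ t ^ 2 + ε * t - 1 = 0 := by
      rcases mul_eq_zero.1 (show (t ^ 2 + 1 * t - 1) * (t ^ 2 + (-1) * t - 1) = 0 by linear_combination ht) with h | h
      · exact ⟨1, Or.inl rfl, h⟩
      · exact ⟨-1, Or.inr rfl, h⟩
    have hfrob : ∀ y : F, y ^ 2 + ε * y - 1 = 0 → (y ^ p) ^ 2 + ε * y ^ p - 1 = 0 := by
      intro y hy
      have hεp : ε ^ p = ε := by
        rcases hε with rfl | rfl
        · exact one_pow _
        · exact Odd.neg_one_pow (Nat.odd_iff.2 (hpp.eq_two_or_odd.resolve_left (by omega)))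
      have := congrArg (fun z => frobenius F p z) hy
      simp [frobenius_def, mul_pow, sub_pow_char, add_pow_char, hεp, zero_pow hpp.ne_zero] at this
      rw [← pow_mul, ← this, ← pow_mul, mul_comm p 2]
    have hfix : t ^ p = t ∨ t ^ p = -ε - t := by
      rcases mul_eq_zero.1 (show (t ^ p - t) * (t ^ p - (-ε - t)) = 0 by
        linear_combination hfrob t he - he) with h | h
      · exact Or.inl (sub_eq_zero.1 h)
      · exact Or.inr (sub_eq_zero.1 h)
    rw [pow_two, pow_mul]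
    rcases hfix with h | h
    · rw [h, h]
    · have hεp : (-ε) ^ p = -ε := by
        rcases hε with rfl | rfl
        · exact Odd.neg_one_pow (Nat.odd_iff.2 (hpp.eq_two_or_odd.resolve_left (by omega)))
        · rw [neg_neg]; exact one_pow _
      rw [h, sub_pow_char, hεp, h]; ring
  have hn2 : (n : ℕ) ≤ 2 := by
    by_contra hn3
    let L : Subfield F := (iterateFrobenius F p 2).eqLocusField (RingHom.id F)
    have hmem : ∀ t, t ∈ L ↔ t ^ (p ^ 2) = t := fun t => by
      show iterateFrobenius F p 2 t = RingHom.id F t ↔ _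
      rw [iterateFrobenius_def]; rfl
    have hLne : L ≠ ⊤ := by
      intro h
      have hall : ∀ t : F, t ^ (p ^ 2) = t := fun t => (hmem t).1 (h ▸ trivial)
      have h1 : 1 < p ^ 2 := Nat.one_lt_pow (by norm_num) hpp.one_lt
      have hsub : (Finset.univ : Finset F).card ≤
          (Polynomial.X ^ (p ^ 2) - Polynomial.X : Polynomial F).natDegree := by
        refine le_trans ?_ (Polynomial.card_roots' _)
        refine le_trans (Finset.card_le_card ?_) (Multiset.toFinset_card_le _)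
        intro y _
        rw [Multiset.mem_toFinset, Polynomial.mem_roots (FiniteField.X_pow_card_sub_X_ne_zero F h1)]
        simp [hall y]
      rw [FiniteField.X_pow_card_sub_X_natDegree_eq F h1, Finset.card_univ, hn] at hsub
      have := Nat.pow_lt_pow_right hpp.one_lt (show 2 < (n : ℕ) by omega)
      omega
    refine hLne (key L (fun t ht => (hmem t).2 (hroot t ht)) ?_)
    obtain ⟨m, hm, hLm, -⟩ := degree L
    rcases hp3 with e3 | h7
    · -- `L` has nine elements: `n` is even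
      have hev : Even (n : ℕ) := by
        by_contra hodd'
        have := mod_five_three (n : ℕ) (Nat.not_even_iff_odd.1 hodd')
        rw [hn, e3] at h5 h50
        omega
      obtain ⟨c, hc⟩ := hev
      haveI := Fintype.ofFinite (GaloisField p 2)
      have hcard : Fintype.card (GaloisField p 2) = p ^ 2 := by
        rw [← Nat.card_eq_fintype_card, GaloisField.card p 2 (by norm_num)]
      obtain ⟨ι⟩ := nonempty_ringHom_of_card_pow (F := F) (K := GaloisField p 2) (m := c) (by omega)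
        (by rw [hcard, ← pow_mul, hn]; congr 1; omega)
      have hsub : ∀ z, ι z ∈ L := fun z => (hmem _).2 (by rw [← map_pow, ← hcard, FiniteField.pow_card])
      have := Nat.card_le_card_of_injective (fun z => (⟨ι z, hsub z⟩ : L))
        (fun a b h => ι.injective (congrArg Subtype.val h))
      rw [Nat.card_eq_fintype_card, hcard, e3] at this
      omega
    · have := Nat.card_le_card_of_injective (Subfield.inclusion (bot_le : (⊥ : Subfield F) ≤ L))
        (Subfield.inclusion (bot_le : (⊥ : Subfield F) ≤ L)).injective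
      rw [card_bot p] at this
      omega
  rcases (show (n : ℕ) = 1 ∨ (n : ℕ) = 2 by have := n.pos; omega) with h1 | h1
  · left; rw [hn, h1, pow_one]
  · refine Or.inr ⟨by rw [hn, h1], ?_⟩
    by_contra hcon
    have hp10 : p % 10 = 1 ∨ p % 10 = 9 := by
      rw [hn, h1, Nat.pow_mod] at h50
      have : p % 2 = 1 := hpp.eq_two_or_odd.resolve_left (by omega)
      have hr : p % 10 < 10 := Nat.mod_lt _ (by norm_num)
      have : p % 10 ≠ 5 := fun h => h50 (by
        rw [show p % 5 = 0 by omega])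
      omega
    haveI : Fact (Nat.Prime 5) := ⟨by norm_num⟩
    haveI := Fintype.ofFinite (⊥ : Subfield F)
    -- a trace of an element of order five over the prime field
    have h5d : 5 ∣ Nat.card (Matrix.ProjectiveSpecialLinearGroup (Fin 2) (⊥ : Subfield F)) := by
      have hG := Cfsg.Agent.Linear.card_PSL_two (F := (⊥ : Subfield F))
      rw [← Nat.card_eq_fintype_card, card_bot p] at hG
      have hd : 5 ∣ p * (p ^ 2 - 1) := (five_dvd_iff p hpp.pos).2 (by omega)
      rw [← hG] at hd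
      refine (Nat.Coprime.dvd_of_dvd_mul_left ?_ hd)
      refine (Nat.prime_five.coprime_iff_not_dvd).2 fun h => ?_
      have := Nat.le_of_dvd (Nat.gcd_pos_of_pos_left _ (by norm_num)) h
      have := Nat.gcd_le_left (p - 1) (show 0 < 2 by norm_num)
      omega
    obtain ⟨y, hy⟩ := exists_prime_orderOf_dvd_card' 5 h5d
    obtain ⟨g, rfl⟩ := toPSL_surjective y
    have hg := tr_order_five hy
    obtain ⟨τ, hτL, hτ⟩ : ∃ τ : F, τ ∈ (⊥ : Subfield F) ∧ (τ ^ 2) ^ 2 - 3 * τ ^ 2 + 1 = 0 :=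
      ⟨(⊥ : Subfield F).subtype (tr g), (tr g).2, by
        simpa [map_ofNat, show ((3 : (⊥ : Subfield F)) : F) = 3 from map_ofNat (⊥ : Subfield F).subtype 3] using
          congrArg (⊥ : Subfield F).subtype hg⟩
    have hbot : (⊥ : Subfield F) = ⊤ := by
      refine key ⊥ (fun t ht => ?_) (by rw [card_bot p]; omega)
      have hτ0 : τ ≠ 0 := fun h => by rw [h] at hτ; simp at hτ
      rcases mul_eq_zero.1 (show (t ^ 2 - τ ^ 2) * (τ ^ 2 * t ^ 2 - 1) = 0 by
        linear_combination τ ^ 2 * ht - t ^ 2 * hτ) with h | h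
      · rcases sq_eq_sq_iff_eq_or_eq_neg.1 (sub_eq_zero.1 h) with rfl | rfl
        · exact hτL
        · exact (⊥ : Subfield F).neg_mem hτL
      · have h' : (τ * t) * (τ * t) = 1 := by linear_combination h
        have hinv : τ⁻¹ ∈ (⊥ : Subfield F) := (⊥ : Subfield F).inv_mem hτL
        rcases mul_self_eq_one_iff.1 h' with e1 | e1
        · rw [eq_inv_of_mul_eq_one_right e1]; exact hinv
        · rw [show t = -τ⁻¹ by field_simp; linear_combination e1]
          exact (⊥ : Subfield F).neg_mem hinv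
    have := (bot_eq_top_iff p).1 hbot
    rw [hn, h1] at this
    nlinarith [hpp.two_le]

end Cfsg.Agent.Linear.PSL2Max
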