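import Cfsg.Agent.Linear.PSL2MaxApps
import Mathlib

/-!
# Existence of the exceptional and subfield maximal subgroups of `PSL₂(q)`
-/

set_option autoImplicit false
set_option linter.unusedSectionVars false

namespace Cfsg.Agent.Linear.PSL2Max

open Matrix Cfsg.Agent.Dickson Cfsg.Agent.Linear.PSL2Borel Cfsg.Agent.Linear.PSL2Dickson
  Cfsg.Agent.Linear.PSL2Ext

variable {F : Type*} [Field F] [Fintype F]

local notation "SL" => Matrix.SpecialLinearGroup (Fin 2) F
local notation "PSL" => Matrix.ProjectiveSpecialLinearGroup (Fin 2) F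

variable (p : ℕ) [Fact p.Prime] [CharP F p]

include p in
/-- The possible proper overgroups of a subgroup that is neither almost cyclic nor triangular. -/
theorem overgroup_cases {H : Subgroup PSL} (hnc : ∃ a ∈ H, ∃ b ∈ H, a * b ≠ b * a)
    (hborel : ∀ g : PSL, ¬ H.map (MulAut.conj g).toMonoidHom ≤ borelP F) {B : ℕ}
    (hB : ∀ x ∈ H, orderOf x ≤ B) (hbig : 2 * B < Nat.card H) {M : Subgroup PSL} (hHM : H ≤ M) (hM : M ≠ ⊤) :
    (Nonempty (M ≃* alternatingGroup (Fin 4)) ∨ Nonempty (M ≃* Equiv.Perm (Fin 4)) ∨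
      Nonempty (M ≃* alternatingGroup (Fin 5))) ∨
    ∃ (P : GL (Fin 2) F) (L : Subfield F), L ≠ ⊤ ∧ M.map (glAut P).toMonoidHom ≤ extP L ∧
      Nat.card M ≤ Nat.card L * (Nat.card L ^ 2 - 1) := by
  rcases dickson' p M with ⟨k, -, hc⟩ | ⟨g, hg⟩ | hexc | ⟨P, L, h⟩
  · exfalso
    rcases hc with ⟨hcy, -⟩ | ⟨-, -, ⟨e⟩⟩
    · obtain ⟨a, ha, b, hb, hab⟩ := hnc
      obtain ⟨g, hg⟩ := hcy.exists_generator
      obtain ⟨i, hi⟩ := hg ⟨a, hHM ha⟩
      obtain ⟨j, hj⟩ := hg ⟨b, hHM hb⟩
      refine hab ?_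
      rw [show a = ((g ^ i : M) : PSL) from (congrArg Subtype.val hi).symm,
        show b = ((g ^ j : M) : PSL) from (congrArg Subtype.val hj).symm, ← Subgroup.coe_mul, ← Subgroup.coe_mul,
        (Commute.zpow_zpow_self g i j).eq]
    · let f : H →* DihedralGroup k := e.toMonoidHom.comp (Subgroup.inclusion hHM)
      have hf : Function.Injective f := e.injective.comp (Subgroup.inclusion_injective hHM)
      haveI : Finite f.range := Finite.of_equiv H (MonoidHom.ofInjective hf).toEquiv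
      have hle := card_le_of_dihedral f.range (B := B) (fun z => by
        obtain ⟨x, hx⟩ := z.2
        rw [← Subgroup.orderOf_coe, ← hx, orderOf_injective f hf, ← Subgroup.orderOf_coe]
        exact hB _ x.2)
      rw [← Nat.card_congr (MonoidHom.ofInjective hf).toEquiv] at hle
      omega
  · exact absurd ((Subgroup.map_mono hHM).trans hg) (hborel g)
  · left
    rcases hexc with ⟨-, h⟩ | ⟨-, h⟩
    · exact h
    · exact Or.inr (Or.inr h)
  · right
    haveI := Fintype.ofFinite L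
    have hb := card_pgl_le (K := L)
    rw [← Nat.card_eq_fintype_card] at hb
    refine ⟨P, L, ?_, ?_, ?_⟩
    · rintro rfl
      rcases h with ⟨e, -⟩ | ⟨-, -, c, hc, -⟩
      · rw [stdP_top] at e
        exact hM (Subgroup.map_injective (glAut P).injective
          (e.trans (Subgroup.map_top_of_surjective _ (glAut P).surjective).symm))
      · exact hc trivial
    · rcases h with ⟨e, -⟩ | ⟨e, -⟩
      · exact e.trans_le (stdP_le_extP L)
      · exact e.le
    · rcases h with ⟨-, ⟨e⟩⟩ | ⟨-, ⟨e⟩, -⟩ <;> rw [Nat.card_congr e.toEquiv]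
      · exact hb.1
      · exact hb.2

theorem exists_maximal_ge {H : Subgroup PSL} (hH : H ≠ ⊤) : ∃ M : Subgroup PSL, IsCoatom M ∧ H ≤ M := by
  rcases eq_top_or_exists_le_coatom H with h | h
  · exact absurd h hH
  · exact h

theorem isCoatom_of_overgroups {H : Subgroup PSL} (hH : H ≠ ⊤)
    (h : ∀ M : Subgroup PSL, H ≤ M → M ≠ ⊤ → M = H) : IsCoatom H :=
  ⟨hH, fun M hM => by
    by_contra hne
    exact hM.ne (h M hM.le hne).symm⟩

theorem ne_top_of_card {H : Subgroup PSL} {n : ℕ} (hc : Nat.card H = n) (hn : n < Nat.card PSL) : H ≠ ⊤ := by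
  intro h
  rw [h, Subgroup.card_top] at hc
  omega

theorem nc_of_equiv {G : Type*} [Group G] {H : Subgroup PSL} (e : H ≃* G) (h : ∃ a b : G, a * b ≠ b * a) :
    ∃ a ∈ H, ∃ b ∈ H, a * b ≠ b * a := by
  obtain ⟨a, b, hab⟩ := h
  refine ⟨e.symm a, SetLike.coe_mem _, e.symm b, SetLike.coe_mem _, fun he => hab ?_⟩
  apply e.symm.injective
  rw [map_mul, map_mul]
  exact Subtype.ext he

theorem orders_of_equiv {G : Type*} [Group G] {H : Subgroup PSL} (e : H ≃* G) {B : ℕ} (h : ∀ x : G, orderOf x ≤ B) :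
    ∀ x ∈ H, orderOf x ≤ B := fun x hx => by
  rw [← Subgroup.orderOf_mk x hx, ← e.orderOf_eq]
  exact h _

include p in
theorem not_borel_of_prime_to {H : Subgroup PSL} (hH : ¬ p ∣ Nat.card H) (hnc : ∃ a ∈ H, ∃ b ∈ H, a * b ≠ b * a)
    (g : PSL) : ¬ H.map (MulAut.conj g).toMonoidHom ≤ borelP F := fun h => by
  obtain ⟨a, ha, b, hb, hab⟩ := hnc
  exact hab (comm_of_borel p h hH a b ha hb)

theorem prime_card_subfield {p : ℕ} [Fact p.Prime] [CharP F p] (hq : Fintype.card F = p) (L : Subfield F) :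
    L = ⊤ :=
  top_le_iff.1 (((bot_eq_top_iff p).2 hq).symm.le.trans bot_le)

/-- `S₄` is maximal in `PSL₂(p)` for `p ≡ ±1 (mod 8)`. -/
theorem exists_s4 (hq : Fintype.card F = p) (hp : p % 8 = 1 ∨ p % 8 = 7) :
    ∃ H : Subgroup PSL, IsCoatom H ∧ Nonempty (H ≃* Equiv.Perm (Fin 4)) := by
  have hpp := (Fact.out : p.Prime)
  have hp7 : 7 ≤ p := by have := hpp.two_le; omega
  have h16 : p ^ 2 % 16 = 1 := by
    have : p % 16 = 1 ∨ p % 16 = 7 ∨ p % 16 = 9 ∨ p % 16 = 15 := by omega
    rw [Nat.pow_mod]; rcases this with h | h | h | h <;> rw [h]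
  obtain ⟨H, ⟨e⟩⟩ := (Cfsg.Agent.S0803.result hq).2 h16
  have hc : Nat.card H = 24 := (Nat.card_congr e.toEquiv).trans card_four_five.2.1
  have hnc := nc_of_equiv e (by decide)
  have hp24 : ¬ p ∣ Nat.card H := by
    rw [hc]; intro h
    have := Nat.le_of_dvd (by norm_num) h
    interval_cases p <;> revert h hpp <;> norm_num
  have hbig := (sixty_le_psl (K := F) (by omega)).1
  refine ⟨H, isCoatom_of_overgroups (ne_top_of_card hc (by omega)) fun M hHM hM => ?_, ⟨e⟩⟩
  rcases overgroup_cases p hnc (not_borel_of_prime_to p hp24 hnc) (orders_of_equiv e orderOf_perm_four)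
    (by omega) hHM hM with h | ⟨P, L, hL, -⟩
  swap
  · exact absurd (prime_card_subfield hq L) hL
  have hdvd := Subgroup.card_dvd_of_le hHM
  rw [hc] at hdvd
  refine (Subgroup.eq_of_le_of_card_ge hHM ?_).symm
  rcases h with ⟨⟨f⟩⟩ | ⟨⟨f⟩⟩ | ⟨⟨f⟩⟩ <;> rw [Nat.card_congr f.toEquiv] at hdvd ⊢
  · rw [card_four_five.1] at hdvd; norm_num at hdvd
  · rw [hc, card_four_five.2.1]
  · rw [card_four_five.2.2] at hdvd; norm_num at hdvd

/-- Subgroups `A₄` of `PSL₂(p)` are maximal for `p ≡ ±3 (mod 8)`, `p ≢ ±1 (mod 10)`. -/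
theorem a4_coatom (hq : Fintype.card F = p) (h5 : 5 ≤ p) (h8 : p % 8 = 3 ∨ p % 8 = 5)
    (h10 : p % 10 ≠ 1 ∧ p % 10 ≠ 9) {H : Subgroup PSL} (e : H ≃* alternatingGroup (Fin 4)) : IsCoatom H := by
  have hpp := (Fact.out : p.Prime)
  have hc : Nat.card H = 12 := (Nat.card_congr e.toEquiv).trans card_four_five.1
  have hnc := nc_of_equiv e (by decide +kernel)
  have hp12 : ¬ p ∣ Nat.card H := by
    rw [hc]; intro h
    have := Nat.le_of_dvd (by norm_num) h
    interval_cases p <;> revert h hpp <;> norm_num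
  have hbig := (sixty_le_psl (K := F) (by omega)).1
  refine isCoatom_of_overgroups (ne_top_of_card hc (by omega)) fun M hHM hM => ?_
  rcases overgroup_cases p hnc (not_borel_of_prime_to p hp12 hnc) (orders_of_equiv e orderOf_alt_four)
    (by omega) hHM hM with h | ⟨P, L, hL, -⟩
  swap
  · exact absurd (prime_card_subfield hq L) hL
  rcases h with h | h | h
  · obtain ⟨f⟩ := h
    refine (Subgroup.eq_of_le_of_card_ge hHM ?_).symm
    rw [Nat.card_congr f.toEquiv, hc, card_four_five.1]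
  · exfalso
    have h16 := (Cfsg.Agent.S0803.result hq).1 ⟨M, h⟩
    rw [Nat.pow_mod] at h16
    have : p % 16 = 3 ∨ p % 16 = 5 ∨ p % 16 = 11 ∨ p % 16 = 13 := by omega
    rcases this with h | h | h | h <;> rw [h] at h16 <;> norm_num at h16
  · exfalso
    obtain ⟨f⟩ := h
    rcases (five_dvd_iff p (by omega)).1 ((Cfsg.Agent.S0804.result hq).1 ⟨M, ⟨f⟩⟩) with h | h
    · have h5' : p = 5 := ((Nat.prime_dvd_prime_iff_eq Nat.prime_five hpp).1 (Nat.dvd_of_mod_eq_zero h)).symm
      refine hM (Subgroup.eq_top_of_card_eq _ ?_)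
      have hG := Cfsg.Agent.Linear.card_PSL_two (F := F)
      rw [hq, h5'] at hG
      norm_num [-Nat.card_eq_fintype_card] at hG
      rw [Nat.card_congr f.toEquiv, card_four_five.2.2]
      omega
    · have := hpp.eq_two_or_odd
      omega

/-- `A₄` is maximal in `PSL₂(p)` for `p ≡ ±3 (mod 8)`, `p ≢ ±1 (mod 10)`. -/
theorem exists_a4 (hq : Fintype.card F = p) (h5 : 5 ≤ p) (h8 : p % 8 = 3 ∨ p % 8 = 5)
    (h10 : p % 10 ≠ 1 ∧ p % 10 ≠ 9) :
    ∃ H : Subgroup PSL, IsCoatom H ∧ Nonempty (H ≃* alternatingGroup (Fin 4)) := by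
  obtain ⟨H, ⟨e⟩⟩ := Cfsg.Agent.Linear.exists_A4 (F := F) (two_ne p (by omega))
  exact ⟨H, a4_coatom p hq h5 h8 h10 e, ⟨e⟩⟩

/-- `A₅` is maximal in `PSL₂(q)` for the listed `q`. -/
theorem exists_a5 (h : (Fintype.card F = p ∧ (p % 10 = 1 ∨ p % 10 = 9)) ∨
      (Fintype.card F = p ^ 2 ∧ (p % 10 = 3 ∨ p % 10 = 7))) :
    ∃ H : Subgroup PSL, IsCoatom H ∧ Nonempty (H ≃* alternatingGroup (Fin 5)) := by
  have hpp := (Fact.out : p.Prime)
  have hq9 : 9 ≤ Fintype.card F := by
    rcases h with ⟨e, h⟩ | ⟨e, h⟩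
    · have := hpp.two_le; omega
    · rw [e]; exact le_trans (by norm_num) (Nat.pow_le_pow_left (show 3 ≤ p by omega) 2)
  have h5 : Fintype.card F % 5 = 1 ∨ Fintype.card F % 5 = 4 := by
    rcases h with ⟨e, h⟩ | ⟨e, h⟩
    · omega
    · rw [e, Nat.pow_mod]
      rcases (show p % 5 = 2 ∨ p % 5 = 3 by omega) with h | h <;> rw [h] <;> norm_num
  obtain ⟨H, ⟨e⟩⟩ := (Cfsg.Agent.S0804.result (F := F) rfl).2
    ((five_dvd_iff _ (by omega)).2 (Or.inr h5))
  have hc : Nat.card H = 60 := (Nat.card_congr e.toEquiv).trans card_four_five.2.2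
  have hnc := nc_of_equiv e (by decide +kernel)
  have hborel : ∀ g : PSL, ¬ H.map (MulAut.conj g).toMonoidHom ≤ borelP F := fun g hg => by
    haveI := isSolvable_of_borel p hg
    exact not_solvable_alt_five (Group.isSolvable_of_surjective (f := e.toMonoidHom) e.surjective)
  have hbig := (sixty_le_psl (K := F) (by omega)).2 (by omega)
  refine ⟨H, isCoatom_of_overgroups (ne_top_of_card hc (by omega)) fun M hHM hM => ?_, ⟨e⟩⟩
  have hdvd := Subgroup.card_dvd_of_le hHM
  rw [hc] at hdvd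
  rcases overgroup_cases p hnc hborel (orders_of_equiv e orderOf_alt_five) (by omega) hHM hM with
    h' | ⟨P, L, hL, hle, hcard⟩
  · refine (Subgroup.eq_of_le_of_card_ge hHM ?_).symm
    rcases h' with ⟨⟨f⟩⟩ | ⟨⟨f⟩⟩ | ⟨⟨f⟩⟩ <;> rw [Nat.card_congr f.toEquiv] at hdvd ⊢
    · rw [card_four_five.1] at hdvd; norm_num at hdvd
    · rw [card_four_five.2.1] at hdvd; norm_num at hdvd
    · rw [hc, card_four_five.2.2]
  exfalso
  rcases h with ⟨hq, -⟩ | ⟨hq, hp10⟩
  · exact hL (prime_card_subfield hq L)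
  -- the only proper subfield is the prime field
  haveI := Fintype.ofFinite L
  obtain ⟨m, hm1, hm, hmtop⟩ := degree L
  obtain ⟨j, hj⟩ : ∃ j, Nat.card L = p ^ j := by
    obtain ⟨j, -, hj⟩ := FiniteField.card L p
    exact ⟨j, by rw [Nat.card_eq_fintype_card, hj]⟩
  rw [hj, ← pow_mul, hq] at hm
  have hjm := Nat.pow_right_injective hpp.two_le hm
  have hj1 : j = 1 := by
    rcases (Nat.dvd_prime Nat.prime_two).1 ⟨m, hjm.symm⟩ with e | e
    · exact e
    · exact absurd (hmtop (by rw [e] at hjm; omega)) hL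
  rw [hj, hj1, pow_one] at hcard
  obtain ⟨H5, hH5⟩ : ∃ x : H, orderOf x = 5 := by
    haveI : Fact (Nat.Prime 5) := ⟨by norm_num⟩
    exact exists_prime_orderOf_dvd_card' 5 (by rw [hc]; norm_num)
  by_cases h3 : p = 3
  · subst h3
    have := Nat.le_of_dvd (Nat.card_pos (α := M)) hdvd
    norm_num at hcard
    omega
  -- `5 ∤ |PGL₂(p)|`
  have h5M : 5 ∣ Nat.card (extP L) := by
    refine ((show 5 ∣ 60 by norm_num).trans hdvd).trans ?_
    rw [Nat.card_congr ((glAut P).subgroupMap M).toEquiv]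
    exact Subgroup.card_dvd_of_le hle
  obtain ⟨c, hc, hc2⟩ := even_degree_root L (by
    rw [hq, Nat.pow_mod, hpp.eq_two_or_odd.resolve_left (by omega), one_pow]; rfl) (by
    rw [hj, hj1, pow_one, hq])
  obtain ⟨i⟩ := nonempty_extP_equiv hc hc2
  rw [Nat.card_congr i.toEquiv, Cfsg.Agent.Linear.card_PGL_two (F := L), ← Nat.card_eq_fintype_card, hj, hj1,
    pow_one, five_dvd_iff p hpp.one_le] at h5M
  have := hpp.eq_two_or_odd
  omega

theorem char_two_root {L : Subfield F} (h2 : (2 : F) = 0) {c : F} (hc : c * c ∈ L) : c ∈ L := by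
  haveI := Fintype.ofFinite L
  have hL2 : (2 : L) = 0 := L.subtype.injective (by rw [map_ofNat, map_zero, h2])
  have hr : ringChar L = 2 := CharP.ringChar_of_prime_eq_zero Nat.prime_two (by exact_mod_cast hL2)
  obtain ⟨r, hr⟩ := FiniteField.isSquare_of_char_two hr (⟨c * c, hc⟩ : L)
  rcases mul_self_eq_mul_self_iff.1 (congrArg Subtype.val hr) with e | e
  · rw [e]; exact r.2
  · rw [e]; exact L.neg_mem r.2

/-- Squares of traces of subgroups inside an extended subfield group. -/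
theorem tr_sq_mem {P : GL (Fin 2) F} {L : Subfield F} {g : SL} (h : glAut P (toPSL g) ∈ extP L) :
    tr g * tr g ∈ L := by
  rw [glAut_toPSL] at h
  obtain ⟨k, c, hk, hc, hkL⟩ := h
  have htr : tr (conjGL P g) = tr g := by
    have : (conjGL P g).1 = P.1 * g.1 * (↑P⁻¹ : Matrix (Fin 2) (Fin 2) F) := rfl
    have h1 := Matrix.trace_units_conj P g.1
    rw [← this, Matrix.trace_fin_two, Matrix.trace_fin_two] at h1
    exact h1
  have hk' : tr k * tr k = tr g * tr g := by
    rcases toPSL_eq_iff.1 hk with rfl | rfl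
    · rw [htr]
    · rw [tr_neg, neg_mul_neg, htr]
  rw [← hk']
  have h1 : c * tr k ∈ L := by
    rw [show tr k = k.1 0 0 + k.1 1 1 from rfl, mul_add]
    exact L.add_mem (hkL 0 0) (hkL 1 1)
  have h2 := L.div_mem (L.mul_mem h1 h1) (sq_mem hkL)
  rwa [show c * tr k * (c * tr k) / (c * c) = tr k * tr k by field_simp] at h2

theorem le_of_sq {L L' : Subfield F} (h : ∀ y ∈ L, y * y ∈ L') : L ≤ L' := by
  intro y hy
  by_cases h2 : (2 : F) = 0
  · exact char_two_root h2 (h y hy)
  · have h1 := h (y + 1) (L.add_mem hy L.one_mem)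
    have := L'.div_mem (L'.sub_mem (L'.sub_mem h1 (h y hy)) L'.one_mem)
      (show (2 : F) ∈ L' from ofNat_mem L' 2)
    rwa [show ((y + 1) * (y + 1) - y * y - 1) / 2 = y by field_simp; ring] at this

include p in
/-- Subfield subgroups of prime degree are maximal. -/
theorem extP_coatom {L : Subfield F} {r : ℕ} (hr : r.Prime) (hdeg : Nat.card L ^ r = Fintype.card F)
    (h2 : p = 2 → 4 ≤ Nat.card L) : IsCoatom (extP L) := by
  have hpp := (Fact.out : p.Prime)
  haveI := Fintype.ofFinite L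
  have hk2 : 2 ≤ Nat.card L := by rw [Nat.card_eq_fintype_card]; exact Fintype.one_lt_card
  have hLtop : L ≠ ⊤ := fun e => by
    have h1 : Nat.card L = Fintype.card F := by
      rw [e, ← Nat.card_eq_fintype_card]
      exact Nat.card_congr Subfield.topEquiv.toEquiv
    rw [← h1] at hdeg
    have := Nat.pow_right_injective hk2 (show Nat.card L ^ r = Nat.card L ^ 1 by rw [pow_one, hdeg])
    exact hr.one_lt.ne' this
  obtain ⟨j, hj0, hj⟩ : ∃ j, 1 ≤ j ∧ Nat.card L = p ^ j := by
    obtain ⟨j, -, hj⟩ := FiniteField.card L p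
    exact ⟨j, j.pos, by rw [Nat.card_eq_fintype_card, hj]⟩
  have hu : toPSL (uel (1 : F)) ∈ extP L := uel_mem_extP.2 L.one_mem
  have hl : ∀ x ∈ L, toPSL (uel x * lel 1 : SL) ∈ stdP L := fun x hx =>
    Subgroup.mem_map_of_mem _ fun i k => by
      rw [mul_apply2]
      fin_cases i <;> fin_cases k <;> simp [hx, L.one_mem, L.zero_mem, L.add_mem L.one_mem hx]
  have hl1 : toPSL (lel (1 : F) : SL) ∈ extP L := stdP_le_extP L (Subgroup.mem_map_of_mem _ fun i k => by
    fin_cases i <;> fin_cases k <;> simp [L.one_mem, L.zero_mem])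
  refine isCoatom_of_overgroups (extP_ne_top hLtop) fun M hHM hM => ?_
  have hou : orderOf (toPSL (uel (1 : F))) = p := by
    refine orderOf_eq_prime ?_ ?_
    · rw [← map_pow, uel_pow, CharP.cast_eq_zero F p, zero_mul, uel_zero, map_one]
    · intro e
      rcases toPSL_eq_one_iff.1 e with h | h <;>
        simpa using congrArg (fun g : SL => g.1 0 1) h
  have hpM : p ∣ Nat.card M := by
    have := orderOf_dvd_natCard (⟨_, hHM hu⟩ : M)
    rwa [Subgroup.orderOf_mk, hou] at this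
  have hqM : Nat.card (Matrix.ProjectiveSpecialLinearGroup (Fin 2) L) ∣ Nat.card M := by
    obtain ⟨e⟩ := nonempty_stdP_equiv L
    rw [← Nat.card_congr e.toEquiv]
    exact Subgroup.card_dvd_of_le ((stdP_le_extP L).trans hHM)
  have hG := Cfsg.Agent.Linear.card_PSL_two (F := L)
  rw [← Nat.card_eq_fintype_card (α := L)] at hG
  rcases dickson' p M with ⟨k, hk, hc⟩ | ⟨g, hg⟩ | hexc | ⟨P, L', h⟩
  · exfalso
    have hpk : ¬ p ∣ k := PSL2Max.not_dvd_of_dvd p hk
    rcases hc with ⟨-, hcard⟩ | ⟨-, hcard, -⟩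
    · exact hpk (hcard ▸ hpM)
    rw [hcard] at hpM hqM
    have hp2 : p = 2 := (Nat.prime_dvd_prime_iff_eq hpp Nat.prime_two).1 ((hpp.dvd_mul.1 hpM).resolve_right hpk)
    have h4 : 4 ∣ Nat.card L := by
      have := h2 hp2
      rw [hj, hp2] at this ⊢
      rcases j with _ | _ | j
      · omega
      · norm_num at this
      · exact ⟨2 ^ j, by ring⟩
    have hgcd : Nat.gcd 2 (Nat.card L - 1) = 1 := by
      obtain ⟨t, ht⟩ := h4
      rw [ht, Nat.gcd_rec, show (4 * t - 1) % 2 = 1 by omega, Nat.gcd_one_left]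
    rw [hgcd, one_mul] at hG
    have h4k : 4 ∣ 2 * k := (h4.trans (hG ▸ dvd_mul_right _ _)).trans hqM
    exact hpk (hp2 ▸ (by omega))
  · exfalso
    obtain ⟨G, rfl⟩ := toPSL_surjective g
    have h1 := hg ⟨_, hHM hu, rfl⟩
    have h3 := hg ⟨_, hHM hl1, rfl⟩
    change toPSL G * toPSL (uel 1) * (toPSL G)⁻¹ ∈ borelP F at h1
    change toPSL G * toPSL (lel 1) * (toPSL G)⁻¹ ∈ borelP F at h3
    rw [← map_inv, ← map_mul, ← map_mul, toPSL_mem_borelP] at h1 h3
    have hd := det_eq G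
    simp [mul_apply2] at h1 h3
    have e10 : G.1 1 0 = 0 := mul_self_eq_zero.1 (by linear_combination -h1)
    have e11 : G.1 1 1 = 0 := mul_self_eq_zero.1 (by linear_combination h3)
    rw [e10, e11] at hd
    simp at hd
  · -- only `p = 3` and `A₅` is left
    rcases hexc with ⟨hp, -⟩ | ⟨hp3, ⟨f⟩⟩
    · exact absurd hpM hp
    exfalso
    have hM60 : Nat.card M = 60 := (Nat.card_congr f.toEquiv).trans card_four_five.2.2
    have hk3 : Nat.card L = 3 := by
      by_contra hne
      have h9 : 9 ≤ Nat.card L := by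
        rw [hj, hp3] at hne ⊢
        rcases j with _ | _ | j
        · omega
        · norm_num at hne
        · exact le_trans (by norm_num) (Nat.pow_le_pow_right (by norm_num) (show 2 ≤ j + 1 + 1 by omega))
      have := (sixty_le_psl (K := L) (by rw [← Nat.card_eq_fintype_card]; omega)).2 (by
        rw [← Nat.card_eq_fintype_card]; omega)
      have := Nat.le_of_dvd (by omega) hqM
      omega
    rcases hr.eq_two_or_odd' with rfl | hro
    · have hF : Fintype.card F = 9 := by rw [← hdeg, hk3]; norm_num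
      obtain ⟨c, hc, hc2⟩ := even_degree_root L (by rw [hF]) hdeg
      obtain ⟨e⟩ := nonempty_extP_equiv hc hc2
      have h24 := Subgroup.card_dvd_of_le hHM
      rw [Nat.card_congr e.toEquiv, Cfsg.Agent.Linear.card_PGL_two (F := L), ← Nat.card_eq_fintype_card, hk3,
        hM60] at h24
      norm_num at h24
    · have h5 := (five_dvd_iff _ Fintype.card_pos).1 ((Cfsg.Agent.S0804.result (F := F) rfl).1 ⟨M, ⟨f⟩⟩)
      rw [← hdeg, hk3] at h5
      have := mod_five_three r hro
      omega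
  · -- the subfield case
    have hle : M.map (glAut P).toMonoidHom ≤ extP L' := by
      rcases h with ⟨e, -⟩ | ⟨e, -⟩
      · exact e.trans_le (stdP_le_extP L')
      · exact e.le
    have hL' : L' ≠ ⊤ := by
      rintro rfl
      rcases h with ⟨e, -⟩ | ⟨-, -, c, hc, -⟩
      · rw [stdP_top] at e
        exact hM (Subgroup.map_injective (glAut P).injective
          (e.trans (Subgroup.map_top_of_surjective _ (glAut P).surjective).symm))
      · exact hc trivial
    have hLL : L ≤ L' := le_of_sq fun y hy => by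
      have := tr_sq_mem (hle ⟨_, hHM (stdP_le_extP L (hl (y - 2) (L.sub_mem hy (ofNat_mem L 2)))), rfl⟩)
      simp [tr, mul_apply2] at this
      convert this using 1
      ring
    haveI := Fintype.ofFinite L'
    obtain ⟨i, hi1, hi, hitop⟩ := exists_degree (F := L') (Subfield.inclusion hLL)
    obtain ⟨m, hm1, hm, hmtop⟩ := degree L'
    rw [Nat.card_eq_fintype_card, ← hi, ← Nat.card_eq_fintype_card, ← pow_mul, ← hdeg] at hm
    have him := Nat.pow_right_injective hk2 hm
    have hi' : i = 1 := by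
      rcases (Nat.dvd_prime hr).1 ⟨m, him.symm⟩ with e | e
      · exact e
      · exfalso
        have : r * m = r * 1 := by rw [mul_one, ← e]; exact him.trans e.symm
        exact hL' (hmtop (Nat.eq_of_mul_eq_mul_left hr.pos this))
    have hLeq : L = L' := by
      refine le_antisymm hLL fun x hx => ?_
      obtain ⟨y, hy⟩ := (hitop hi' ▸ trivial : (⟨x, hx⟩ : L') ∈ (Subfield.inclusion hLL).fieldRange)
      rw [← show (y : F) = x from congrArg Subtype.val hy]
      exact y.2
    subst hLeq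
    refine (Subgroup.eq_of_le_of_card_ge hHM ?_).symm
    rw [Nat.card_congr ((glAut P).subgroupMap M).toEquiv]
    exact Subgroup.card_le_of_le hle

include p in
/-- The maximal subgroup `extP`, for a given abstract field. -/
theorem exists_subfield_of_card {K : Type*} [Field K] [Fintype K] {r : ℕ} (hr : 1 ≤ r)
    (hdeg : Fintype.card K ^ r = Fintype.card F) :
    ∃ L : Subfield F, Nonempty (K ≃+* L) ∧ Nat.card L = Fintype.card K := by
  obtain ⟨ι⟩ := nonempty_ringHom_of_card_pow (F := F) hr hdeg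
  let e : K ≃+* ι.fieldRange := RingEquiv.ofBijective ι.rangeRestrictField ι.rangeRestrictField_bijective
  exact ⟨ι.fieldRange, ⟨e⟩, by rw [← Nat.card_eq_fintype_card]; exact (Nat.card_congr e.toEquiv).symm⟩

include p in
theorem exists_pgl {K : Type*} [Field K] [Fintype K] (hF : Fintype.card F = Fintype.card K ^ 2)
    (hq : Odd (Fintype.card K)) :
    ∃ H : Subgroup PSL, IsCoatom H ∧ Nonempty (H ≃* Matrix.ProjGenLinGroup (Fin 2) K) := by
  obtain ⟨L, ⟨e⟩, hL⟩ := exists_subfield_of_card p (F := F) (r := 2) (by norm_num) hF.symm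
  have hodd : Fintype.card F % 2 = 1 := by rw [hF]; exact Nat.odd_iff.1 hq.pow
  obtain ⟨c, hc, hc2⟩ := even_degree_root L hodd (by rw [hL, hF])
  obtain ⟨i⟩ := nonempty_extP_equiv hc hc2
  refine ⟨extP L, extP_coatom p Nat.prime_two (by rw [hL, hF]) ?_, ⟨i.trans (pglCongr e).symm⟩⟩
  intro hp
  obtain ⟨n, -, hn⟩ := FiniteField.card F p
  rw [hn, hp, Nat.pow_mod, Nat.mod_self, zero_pow n.pos.ne'] at hodd
  simp at hodd

include p in
theorem exists_psl {K : Type*} [Field K] [Fintype K] {r : ℕ} (hr : r.Prime)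
    (hF : Fintype.card F = Fintype.card K ^ r) (h : (Odd (Fintype.card K) ∧ r ≠ 2) ∨ (Even (Fintype.card K) ∧ Fintype.card K ≠ 2)) :
    ∃ H : Subgroup PSL, IsCoatom H ∧ Nonempty (H ≃* Matrix.ProjectiveSpecialLinearGroup (Fin 2) K) := by
  obtain ⟨L, ⟨e⟩, hL⟩ := exists_subfield_of_card p (F := F) (r := r) hr.one_le hF.symm
  have hdeg : Nat.card L ^ r = Fintype.card F := by rw [hL, hF]
  have hpp := (Fact.out : p.Prime)
  have hroot : ∀ c : F, c * c ∈ L → c ∈ L := by
    intro c hc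
    rcases h with ⟨-, hr2⟩ | ⟨hev, -⟩
    · exact odd_degree_no_root p L (hr.odd_of_ne_two hr2) hdeg hc
    · refine char_two_root ?_ hc
      refine PSL2Classes.two_eq_zero_of_even ?_
      rw [hF, Nat.pow_mod, Nat.even_iff.1 hev, zero_pow hr.ne_zero, Nat.zero_mod]
  obtain ⟨i⟩ := nonempty_stdP_equiv L
  refine ⟨stdP L, extP_eq_stdP hroot ▸ extP_coatom p hr hdeg ?_,
    ⟨i.trans (Cfsg.Agent.Linear.pslCongr e).symm⟩⟩
  intro hp
  obtain ⟨n, -, hn⟩ := FiniteField.card F p
  have hodd : ¬ Odd (Fintype.card F) := by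
    rw [hn, hp, Nat.not_odd_iff_even]; exact (Nat.even_pow.2 ⟨even_two, n.pos.ne'⟩)
  rcases h with ⟨ho, -⟩ | ⟨hev, h2⟩
  · exact absurd (hF ▸ ho.pow) hodd
  · rw [hL]
    have := Fintype.one_lt_card (α := K)
    have := Nat.even_iff.1 hev
    omega

end Cfsg.Agent.Linear.PSL2Max
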