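import Cfsg.Agent.Linear.RotationGroups
import Cfsg.Agent.Linear.PSL2Subfield
import Cfsg.Agent.Linear.PSL2Spectrum
import Mathlib

/-!
# The subgroups of `PSL₂(q)` of order prime to `p`
-/

set_option autoImplicit false
set_option linter.unusedSectionVars false

namespace Cfsg.Agent.Linear.PSL2PrimeTo

open Matrix MulAction
open scoped LinearAlgebra.Projectivization

/-- A ring homomorphism of fields on `PSL₂`. -/
def pslMap' {K L : Type*} [Field K] [Field L] (ι : K →+* L) :
    Matrix.ProjectiveSpecialLinearGroup (Fin 2) K →* Matrix.ProjectiveSpecialLinearGroup (Fin 2) L :=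
  QuotientGroup.map _ _ (Matrix.SpecialLinearGroup.map ι) (by
    intro g hg
    rw [Subgroup.mem_comap, mem_center_SL2_iff]
    rcases mem_center_SL2_iff.1 hg with rfl | rfl
    · exact Or.inl (map_one _)
    · refine Or.inr (Subtype.ext (Matrix.ext fun i j => ?_))
      simp [Matrix.one_apply, apply_ite ι])

theorem pslMap'_injective {K L : Type*} [Field K] [Field L] (ι : K →+* L) : Function.Injective (pslMap' ι) := by
  rw [injective_iff_map_eq_one]
  intro x hx
  induction x using QuotientGroup.induction_on with | _ g =>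
  rw [pslMap', QuotientGroup.map_mk, QuotientGroup.eq_one_iff, mem_center_SL2_iff] at hx
  rw [QuotientGroup.eq_one_iff, mem_center_SL2_iff]
  rcases hx with h | h
  · left
    refine Subtype.ext (Matrix.ext fun i j => ι.injective ?_)
    have := congrFun (congrFun (congrArg Subtype.val h) i) j
    simpa [Matrix.one_apply, apply_ite ι] using this
  · right
    refine Subtype.ext (Matrix.ext fun i j => ι.injective ?_)
    have := congrFun (congrFun (congrArg Subtype.val h) i) j
    simpa [Matrix.one_apply, apply_ite ι] using this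

section AlgClosed

variable {E : Type*} [Field E]

local notation "SLE" => Matrix.SpecialLinearGroup (Fin 2) E
local notation "PT" => Projectivization E (Fin 2 → E)

theorem toPSL_smul_mk (g : SLE) {v : Fin 2 → E} (hv : v ≠ 0) :
    toPSL g • (Projectivization.mk E v hv : PT) = Projectivization.mk E v hv ↔ ∃ l : E, g.1 *ᵥ v = l • v := by
  rw [show toPSL g • (Projectivization.mk E v hv : PT) = g • Projectivization.mk E v hv from rfl,
    Projectivization.smul_mk, Projectivization.mk_eq_mk_iff']
  exact ⟨fun ⟨a, ha⟩ => ⟨a, ha.symm⟩, fun ⟨a, ha⟩ => ⟨a, ha.symm⟩⟩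

theorem eigen_root (g : SLE) {v : Fin 2 → E} (hv : v ≠ 0) {l : E} (h : g.1 *ᵥ v = l • v) :
    l ^ 2 - g.1.trace * l + 1 = 0 := by
  have hd : (g.1 - l • (1 : Matrix (Fin 2) (Fin 2) E)).det = 0 :=
    Matrix.exists_mulVec_eq_zero_iff.1
      ⟨v, hv, by rw [Matrix.sub_mulVec, h, Matrix.smul_mulVec, Matrix.one_mulVec, sub_self]⟩
  have hg : g.1 0 0 * g.1 1 1 - g.1 0 1 * g.1 1 0 = 1 := by rw [← Matrix.det_fin_two]; exact g.2
  simp [Matrix.det_fin_two] at hd
  simp [Matrix.trace_fin_two]
  linear_combination hd - hg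

variable {p : ℕ} [Fact p.Prime] [CharP E p]

/-- A double eigenvalue gives an element killed by `p`. -/
theorem toPSL_pow_char {g : SLE} {l : E} (hl : l ^ 2 - g.1.trace * l + 1 = 0) (hd : g.1.trace - 2 * l = 0) :
    toPSL g ^ p = 1 := by
  have h1 := SmallOrder.pow_char_of_double_root (M := g.1) (p := p) (by rw [g.2]; exact hl) hd
  have hl2 : l ^ 2 = 1 := by linear_combination -hl - l * hd
  have : (l ^ p) ^ 2 = 1 := by rw [← pow_mul, mul_comm, pow_mul, hl2, one_pow]
  rw [← map_pow, toPSL_eq_one_iff]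
  rcases sq_eq_one_iff.1 this with h | h
  · left; refine Subtype.ext ?_; rw [Matrix.SpecialLinearGroup.coe_pow, h1, h, one_smul]; rfl
  · right; refine Subtype.ext ?_; rw [Matrix.SpecialLinearGroup.coe_pow, h1, h, neg_one_smul]; rfl

theorem eq_one_of_double {G : Type*} [Group G] [Finite G] (f : G →* Matrix.ProjectiveSpecialLinearGroup (Fin 2) E)
    (hf : Function.Injective f) (hp : ¬ p ∣ Nat.card G) {x : G} {g : SLE} (hg : toPSL g = f x) {l : E}
    (hl : l ^ 2 - g.1.trace * l + 1 = 0) (hd : g.1.trace - 2 * l = 0) : x = 1 := by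
  have hx : x ^ p = 1 := hf (by rw [map_pow, map_one, ← hg, toPSL_pow_char hl hd])
  exact orderOf_eq_one_iff.1 <| (Nat.dvd_prime (Fact.out : p.Prime)).1 (orderOf_dvd_of_pow_eq_one hx) |>.resolve_right
    fun h => hp (h ▸ orderOf_dvd_natCard x)

/-- Two fixed points on the projective line over an algebraically closed field. -/
theorem card_fixed [IsAlgClosed E] {G : Type*} [Group G] [Finite G]
    (f : G →* Matrix.ProjectiveSpecialLinearGroup (Fin 2) E)
    (hf : Function.Injective f) (hp : ¬ p ∣ Nat.card G) {x : G} (hx : x ≠ 1) :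
    Nat.card {P : PT | f x • P = P} = 2 := by
  classical
  obtain ⟨g, hg⟩ := toPSL_surjective (f x)
  obtain ⟨l, hl⟩ := IsAlgClosed.exists_root (Polynomial.X ^ 2 - Polynomial.C g.1.trace * Polynomial.X + 1)
    (by
      have : (Polynomial.X ^ 2 - Polynomial.C g.1.trace * Polynomial.X + 1 : Polynomial E).degree = 2 := by
        compute_degree!
      rw [this]; norm_num)
  simp only [Polynomial.IsRoot, Polynomial.eval_add, Polynomial.eval_sub, Polynomial.eval_mul,
    Polynomial.eval_pow, Polynomial.eval_X, Polynomial.eval_C, Polynomial.eval_one] at hl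
  have hd : g.1.trace - 2 * l ≠ 0 := fun h => hx (eq_one_of_double f hf hp hg hl h)
  set m : E := g.1.trace - l with hm
  have hlm : l ≠ m := fun h => hd (by rw [hm] at h; linear_combination -h)
  have hev : ∀ r : E, r ^ 2 - g.1.trace * r + 1 = 0 → ∃ v : Fin 2 → E, v ≠ 0 ∧ g.1 *ᵥ v = r • v := by
    intro r hr
    have h0 : (g.1 - r • (1 : Matrix (Fin 2) (Fin 2) E)).det = 0 := by
      have hg' : g.1 0 0 * g.1 1 1 - g.1 0 1 * g.1 1 0 = 1 := by rw [← Matrix.det_fin_two]; exact g.2
      simp [Matrix.trace_fin_two] at hr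
      simp [Matrix.det_fin_two]
      linear_combination hr + hg'
    obtain ⟨v, hv, hv'⟩ := Matrix.exists_mulVec_eq_zero_iff.2 h0
    rw [Matrix.sub_mulVec, Matrix.smul_mulVec, Matrix.one_mulVec, sub_eq_zero] at hv'
    exact ⟨v, hv, hv'⟩
  obtain ⟨a, ha0, ha⟩ := hev l hl
  obtain ⟨b, hb0, hb⟩ := hev m (by rw [hm]; linear_combination hl)
  have hne : (Projectivization.mk E a ha0 : PT) ≠ Projectivization.mk E b hb0 := by
    rw [Ne, Projectivization.mk_eq_mk_iff']
    rintro ⟨c, rfl⟩
    rw [Matrix.mulVec_smul, hb, smul_comm] at ha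
    exact hlm (smul_left_injective E ha0 ha).symm
  rw [show {P : PT | f x • P = P} = {Projectivization.mk E a ha0, Projectivization.mk E b hb0} from ?_,
    Nat.card_coe_set_eq, Set.ncard_pair hne]
  ext P
  induction P using Projectivization.ind with | _ v hv =>
  simp only [Set.mem_setOf_eq, Set.mem_insert_iff, Set.mem_singleton_iff, ← hg, toPSL_smul_mk]
  constructor
  · rintro ⟨r, hr⟩
    have hroot := eigen_root g hv hr
    have hcases : (r - l) * (r - m) = 0 := by rw [hm]; linear_combination hroot - hl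
    have key : ∀ (s s' : E) (w : Fin 2 → E) (hw : w ≠ 0), g.1 *ᵥ v = s • v → g.1 *ᵥ w = s • w → s' ≠ s →
        ∀ (u : Fin 2 → E), u ≠ 0 → g.1 *ᵥ u = s' • u → (Projectivization.mk E v hv : PT) = Projectivization.mk E w hw := by
      intro s s' w hw hgv hgw hss u hu hgu
      rw [Projectivization.mk_eq_mk_iff']
      by_contra hni
      push Not at hni
      have hli : LinearIndependent E ![w, v] := by
        rw [LinearIndependent.pair_iff' hw]
        exact fun c => hni c
      have hspan : Submodule.span E (Set.range ![w, v]) = ⊤ :=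
        hli.span_eq_top_of_card_eq_finrank (by simp)
      have hu' : g.1 *ᵥ u = s • u := by
        have hmem : u ∈ Submodule.span E (Set.range ![w, v]) := hspan ▸ Submodule.mem_top
        refine Submodule.span_induction (p := fun z _ => g.1 *ᵥ z = s • z) ?_ ?_ ?_ ?_ hmem
        · rintro z ⟨i, rfl⟩
          fin_cases i
          exacts [hgw, hgv]
        · simp
        · intro y z _ _ hy hz; rw [Matrix.mulVec_add, hy, hz, smul_add]
        · intro c y _ hy; rw [Matrix.mulVec_smul, hy, smul_comm]
      exact hss (smul_left_injective E hu (hgu.symm.trans hu'))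
    rcases mul_eq_zero.1 hcases with h | h
    · rw [sub_eq_zero.1 h] at hr
      exact Or.inl (key l m a ha0 hr ha hlm.symm b hb0 hb)
    · rw [sub_eq_zero.1 h] at hr
      exact Or.inr (key m l b hb0 hr hb hlm a ha0 ha)
  · rintro (h | h) <;> rw [Projectivization.mk_eq_mk_iff'] at h <;> obtain ⟨c, rfl⟩ := h
    · exact ⟨l, by rw [Matrix.mulVec_smul, ha, smul_comm]⟩
    · exact ⟨m, by rw [Matrix.mulVec_smul, hb, smul_comm]⟩

/-- The stabiliser of a point is cyclic. -/
theorem stab_cyclic {G : Type*} [Group G] [Finite G] (f : G →* Matrix.ProjectiveSpecialLinearGroup (Fin 2) E)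
    (hf : Function.Injective f) (hp : ¬ p ∣ Nat.card G) (K : Subgroup G) {v : Fin 2 → E} (hv : v ≠ 0)
    (hK : ∀ x ∈ K, f x • (Projectivization.mk E v hv : PT) = Projectivization.mk E v hv) : IsCyclic K := by
  classical
  have hex : ∀ x : K, ∃ g : SLE, ∃ l : E, toPSL g = f x ∧ g.1 *ᵥ v = l • v := fun x => by
    obtain ⟨g, hg⟩ := toPSL_surjective (f x)
    obtain ⟨l, hl⟩ := (toPSL_smul_mk g hv).1 (hg ▸ hK x x.2)
    exact ⟨g, l, hg, hl⟩
  choose g l hg hl using hex
  have key : ∀ (x : K) (h : SLE) (c : E), toPSL h = f x → h.1 *ᵥ v = c • v → l x ^ 2 = c ^ 2 := by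
    intro x h c he hc
    rcases toPSL_eq_iff.1 ((hg x).trans he.symm) with e | e
    · have : l x • v = c • v := by rw [← hl, ← hc, e]
      rw [smul_left_injective E hv this]
    · have : l x • v = (-c) • v := by
        rw [← hl, neg_smul, ← hc, e]
        simp [Matrix.neg_mulVec]
      rw [smul_left_injective E hv this]; ring
  let φ : K →* E :=
    { toFun := fun x => l x ^ 2
      map_one' := by rw [key 1 1 1 (by simp) (by simp)]; ring
      map_mul' := fun x y => by
        rw [key (x * y) (g x * g y) (l y * l x) (by rw [map_mul, hg, hg, Subgroup.coe_mul, map_mul]) ?_]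
        · ring
        · rw [Matrix.SpecialLinearGroup.coe_mul, ← Matrix.mulVec_mulVec, hl, Matrix.mulVec_smul, hl, smul_smul] }
  refine isCyclic_of_subgroup_isDomain φ ((injective_iff_map_eq_one φ).2 fun x hx => ?_)
  have hroot := eigen_root (g x) hv (hl x)
  refine Subtype.ext (eq_one_of_double f hf hp (hg x) hroot ?_)
  have hx' : l x ^ 2 = 1 := hx
  have hne : l x ≠ 0 := fun e => by simp [e] at hx'
  exact mul_left_cancel₀ hne (by linear_combination -hroot - hx')

end AlgClosed

variable {F : Type*} [Field F] [Fintype F]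

local notation "PSL" => Matrix.ProjectiveSpecialLinearGroup (Fin 2) F

/-- The subgroups of order prime to `p`. -/
theorem classification (p : ℕ) [Fact p.Prime] [CharP F p] (H : Subgroup PSL) (hp : ¬ p ∣ Nat.card H) :
    (∃ k : ℕ, (k ∣ (Fintype.card F + 1) / Nat.gcd 2 (Fintype.card F - 1) ∨
        k ∣ (Fintype.card F - 1) / Nat.gcd 2 (Fintype.card F - 1)) ∧
      ((IsCyclic H ∧ Nat.card H = k) ∨ (2 ≤ k ∧ Nat.card H = 2 * k ∧ Nonempty (H ≃* DihedralGroup k)))) ∨
      Nonempty (H ≃* alternatingGroup (Fin 4)) ∨ Nonempty (H ≃* Equiv.Perm (Fin 4)) ∨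
        Nonempty (H ≃* alternatingGroup (Fin 5)) := by
  classical
  let E := AlgebraicClosure F
  haveI : CharP E p := charP_of_injective_algebraMap (algebraMap F E).injective p
  let f : H →* Matrix.ProjectiveSpecialLinearGroup (Fin 2) E := (pslMap' (algebraMap F E)).comp H.subtype
  have hf : Function.Injective f := (pslMap'_injective _).comp H.subtype_injective
  letI : MulAction H (Projectivization E (Fin 2 → E)) := MulAction.compHom _ f
  let Ω : SubMulAction H (Projectivization E (Fin 2 → E)) :=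
    { carrier := {P | ∃ x : H, x ≠ 1 ∧ x • P = P}
      smul_mem' := fun c P hP => by
        obtain ⟨x, hx, hxP⟩ := hP
        refine ⟨c * x * c⁻¹, fun e => hx (by simpa [mul_assoc] using congrArg (fun t => c⁻¹ * t * c) e), ?_⟩
        rw [← mul_smul, inv_mul_cancel_right, mul_smul, hxP] }
  have hset : ∀ x : H, x ≠ 1 → Nat.card {P : Projectivization E (Fin 2 → E) | x • P = P} = 2 :=
    fun x hx => card_fixed f hf hp hx
  haveI : Finite Ω := by
    have hsub : (Ω : Set (Projectivization E (Fin 2 → E))) ⊆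
        ⋃ x : {x : H // x ≠ 1}, {P | x.1 • P = P} := fun P ⟨x, hx, hxP⟩ =>
      Set.mem_iUnion.2 ⟨⟨x, hx⟩, hxP⟩
    refine ((Set.finite_iUnion fun x : {x : H // x ≠ 1} => ?_).subset hsub).to_subtype
    exact Set.finite_coe_iff.1 (Nat.finite_of_card_ne_zero (by rw [hset x.1 x.2]; norm_num))
  have hrot : Rotation.IsRotation H Ω := by
    refine ⟨fun x hx => ?_, fun P => ?_, fun P => ?_⟩
    · refine Eq.trans (Nat.card_congr ?_) (hset x hx)
      exact
        { toFun := fun P => ⟨P.1.1, congrArg Subtype.val P.2⟩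
          invFun := fun P => ⟨⟨P.1, x, hx, P.2⟩, Subtype.ext P.2⟩
          left_inv := fun P => rfl
          right_inv := fun P => rfl }
    · obtain ⟨x, hx, hxP⟩ := P.2
      exact fun e => hx ((Subgroup.eq_bot_iff_forall _).1 e x (Subtype.ext hxP))
    · obtain ⟨Q, hQ⟩ := P
      induction Q using Projectivization.ind with | _ v hv =>
      exact stab_cyclic f hf hp _ hv fun x hx => congrArg Subtype.val hx
  have hdvd : ∀ g : H, orderOf g ∣ (Fintype.card F + 1) / Nat.gcd 2 (Fintype.card F - 1) ∨
      orderOf g ∣ (Fintype.card F - 1) / Nat.gcd 2 (Fintype.card F - 1) := fun g => by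
    rw [← Subgroup.orderOf_coe]
    rcases PSL2Classes.orderOf_dvd p (g : PSL) with h | h | h
    · rw [Subgroup.orderOf_coe] at h ⊢
      rcases (Nat.dvd_prime (Fact.out : p.Prime)).1 h with e | e
      · left; rw [e]; exact one_dvd _
      · exact absurd (e ▸ orderOf_dvd_natCard g) hp
    · exact Or.inr h
    · exact Or.inl h
  rcases Rotation.classification hrot with hc | ⟨m, hm, hcard, hiso, g, hg⟩ | h | h | h
  · obtain ⟨g, hg⟩ := hc.exists_generator
    exact Or.inl ⟨Nat.card H, orderOf_eq_card_of_forall_mem_zpowers hg ▸ hdvd g, Or.inl ⟨hc, rfl⟩⟩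
  · exact Or.inl ⟨m, hg ▸ hdvd g, Or.inr ⟨hm, hcard, hiso⟩⟩
  · exact Or.inr (Or.inl h)
  · exact Or.inr (Or.inr (Or.inl h))
  · exact Or.inr (Or.inr (Or.inr h))

end Cfsg.Agent.Linear.PSL2PrimeTo
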