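import Cfsg.Agent.Linear.PSL2PrimeTo
import Cfsg.Agent.Linear.PSL2Borel
import Cfsg.Agent.KnownA.GL2.Classes
import Cfsg.Agent.Linear.Transvection
import Mathlib

/-!
# Subgroups of `SL₂(q)` with the root groups of a subfield are `SL₂` of the subfield, possibly extended
-/

set_option autoImplicit false
set_option linter.unusedSectionVars false

namespace Cfsg.Agent.Linear.PSL2Std

open Matrix Cfsg.Agent.Dickson

variable {F : Type*} [Field F] [Fintype F] {K : Type*} [Field K] [Finite K]

local notation "PSL" => Matrix.ProjectiveSpecialLinearGroup (Fin 2) F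

/-- `PGL₂(K) → PSL₂(F)` when the scalars of `K` become squares. -/
theorem exists_pgl_hom (ι : K →+* F) (hsq : ∀ x : K, IsSquare (ι x)) :
    ∃ f : GL (Fin 2) K →* Matrix.ProjectiveSpecialLinearGroup (Fin 2) F,
      (∀ (G : GL (Fin 2) K) (g : SL2 F) (c : F), c ≠ 0 → G.1.map ι = c • g.1 → f G = toPSL g) ∧
      Nonempty (f.range ≃* Matrix.ProjGenLinGroup (Fin 2) K) := by
  classical
  choose s hs using fun g : GL (Fin 2) K => hsq g.1.det
  have hd0 : ∀ g : GL (Fin 2) K, ι g.1.det ≠ 0 := fun g =>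
    (map_ne_zero ι).2 (Matrix.GeneralLinearGroup.det_ne_zero g)
  have hs0 : ∀ g, s g ≠ 0 := fun g h => hd0 g (by rw [hs g, h, mul_zero])
  have hmapdet : ∀ g : GL (Fin 2) K, (g.1.map ι).det = s g * s g := fun g => by
    rw [← RingHom.mapMatrix_apply, ← RingHom.map_det, hs]
  let lift : GL (Fin 2) K → Matrix.SpecialLinearGroup (Fin 2) F := fun g =>
    ⟨(s g)⁻¹ • g.1.map ι, by
      rw [Matrix.det_smul, Fintype.card_fin, hmapdet g]
      field_simp [hs0 g]⟩
  let f : GL (Fin 2) K →* Matrix.ProjectiveSpecialLinearGroup (Fin 2) F :=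
    MonoidHom.mk' (fun g => toPSL (lift g)) (by
      intro g h
      rw [← map_mul, toPSL_eq_iff]
      have hc : (s (g * h)) * (s (g * h)) = (s g * s h) * (s g * s h) := by
        rw [← hs (g * h), Units.val_mul, Matrix.det_mul, map_mul, hs g, hs h]; ring
      rcases mul_self_eq_mul_self_iff.1 hc with he | he
      · left
        apply Subtype.ext
        change (s (g * h))⁻¹ • (g * h).1.map ι = ((s g)⁻¹ • g.1.map ι) * ((s h)⁻¹ • h.1.map ι)
        rw [he, Units.val_mul, Matrix.map_mul, smul_mul_smul_comm, mul_inv]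
      · right
        apply Subtype.ext
        change (s (g * h))⁻¹ • (g * h).1.map ι = -(((s g)⁻¹ • g.1.map ι) * ((s h)⁻¹ • h.1.map ι))
        rw [he, Units.val_mul, Matrix.map_mul, smul_mul_smul_comm, ← mul_inv, inv_neg, neg_smul])
  have hker : f.ker = Subgroup.center (GL (Fin 2) K) := by
    ext g
    rw [MonoidHom.mem_ker, Matrix.GeneralLinearGroup.mem_center_iff_val_mem_range_scalar]
    change toPSL (lift g) = 1 ↔ _
    rw [toPSL_eq_one_iff]
    constructor
    · intro h
      have hz : ∃ e : F, (e = 1 ∨ e = -1) ∧ (s g)⁻¹ • g.1.map ι = e • 1 := by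
        rcases h with h | h
        · exact ⟨1, Or.inl rfl, by rw [one_smul]; exact congrArg Subtype.val h⟩
        · exact ⟨-1, Or.inr rfl, by rw [neg_one_smul]; exact congrArg Subtype.val h⟩
      obtain ⟨e, -, he⟩ := hz
      have he' : g.1.map ι = (s g * e) • (1 : Matrix (Fin 2) (Fin 2) F) := by
        rw [← smul_smul, ← he, smul_smul, mul_inv_cancel₀ (hs0 g), one_smul]
      have e00 := congrFun (congrFun he' 0) 0
      have e01 := congrFun (congrFun he' 0) 1
      have e10 := congrFun (congrFun he' 1) 0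
      have e11 := congrFun (congrFun he' 1) 1
      simp at e00 e01 e10 e11
      refine ⟨g.1 0 0, ?_⟩
      ext i j
      fin_cases i <;> fin_cases j <;> simp [e01, e10]
      exact ι.injective (e00.trans e11.symm)
    · rintro ⟨t, ht⟩
      have hm : g.1.map ι = ι t • (1 : Matrix (Fin 2) (Fin 2) F) := by
        rw [← ht]; ext i j; simp [Matrix.scalar_apply, Matrix.diagonal_apply, Matrix.one_apply, apply_ite ι]
      have hst : ι t * ι t = s g * s g := by
        rw [← hmapdet g, hm, Matrix.det_smul, Matrix.det_one, Fintype.card_fin]; ring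
      rcases mul_self_eq_mul_self_iff.1 hst with he | he
      · left
        apply Subtype.ext
        change (s g)⁻¹ • g.1.map ι = 1
        rw [hm, smul_smul, he, inv_mul_cancel₀ (hs0 g), one_smul]
      · right
        apply Subtype.ext
        change (s g)⁻¹ • g.1.map ι = -1
        rw [hm, smul_smul, he, mul_neg, inv_mul_cancel₀ (hs0 g), neg_smul, one_smul]
  refine ⟨f, fun G g c hc hG => ?_, ⟨((QuotientGroup.quotientMulEquivOfEq hker.symm).trans
    (QuotientGroup.quotientKerEquivRange f)).symm⟩⟩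
  have hcs : c * c = s G * s G := by
    rw [← hmapdet G, hG, Matrix.det_smul, g.2, Fintype.card_fin]; ring
  change toPSL (lift G) = toPSL g
  rw [toPSL_eq_iff]
  rcases mul_self_eq_mul_self_iff.1 hcs with he | he
  · left
    apply Subtype.ext
    change (s G)⁻¹ • G.1.map ι = g.1
    rw [hG, he, smul_smul, inv_mul_cancel₀ (hs0 G), one_smul]
  · right
    apply Subtype.ext
    change (s G)⁻¹ • G.1.map ι = -g.1
    rw [hG, he, smul_smul, mul_neg, inv_mul_cancel₀ (hs0 G), neg_smul, one_smul]

/-- The hypotheses: the root groups of `H` are those of the subfield, and so is the orbit of infinity. -/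
def IsStd (ι : K →+* F) (H : Subgroup (SL2 F)) : Prop :=
  (∀ x : K, uel (ι x) ∈ H) ∧ (∀ x : K, lel (ι x) ∈ H) ∧ (∀ x : F, uel x ∈ H → x ∈ ι.fieldRange) ∧
    ∀ g ∈ H, g 1 0 = 0 ∨ g 0 0 / g 1 0 ∈ ι.fieldRange

theorem sl_le {ι : K →+* F} {H : Subgroup (SL2 F)} (h : IsStd ι H) :
    (Matrix.SpecialLinearGroup.map ι).range ≤ H := by
  have htop : H.comap (Matrix.SpecialLinearGroup.map ι) = ⊤ := by
    refine Cfsg.Agent.Linear.eq_top_of_transvection_mem fun i j hij x => ?_
    rw [Subgroup.mem_comap]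
    fin_cases i <;> fin_cases j
    · exact absurd rfl hij
    · convert h.1 x using 1
      apply ext2 <;> simp [Cfsg.Agent.Linear.transvection_val, Matrix.transvection]
    · convert h.2.1 x using 1
      apply ext2 <;> simp [Cfsg.Agent.Linear.transvection_val, Matrix.transvection]
    · exact absurd rfl hij
  rintro _ ⟨g, rfl⟩
  have : g ∈ H.comap (Matrix.SpecialLinearGroup.map ι) := htop ▸ Subgroup.mem_top g
  exact this

/-- Every element is a multiple of a matrix over the subfield. -/
theorem exists_scalar {ι : K →+* F} {H : Subgroup (SL2 F)} (h : IsStd ι H) {g : SL2 F} (hg : g ∈ H) :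
    ∃ c : F, c ≠ 0 ∧ c * c ∈ ι.fieldRange ∧ ∀ i j, c * g i j ∈ ι.fieldRange := by
  set L := ι.fieldRange with hL
  have hU : ∀ x ∈ L, uel x ∈ H := by rintro _ ⟨x, rfl⟩; exact h.1 x
  have hLo : ∀ x ∈ L, lel x ∈ H := by rintro _ ⟨x, rfl⟩; exact h.2.1 x
  -- upper triangular elements
  have hB : ∀ b ∈ H, b 1 0 = 0 → ∃ c : F, c ≠ 0 ∧ c * c ∈ L ∧ ∀ i j, c * b i j ∈ L := by
    intro b hb h10
    have hd := det_eq b
    rw [h10, mul_zero, sub_zero] at hd
    have ha : b 0 0 ≠ 0 := left_ne_zero_of_mul_eq_one hd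
    have hinv : b 1 1 = (b 0 0)⁻¹ := (eq_inv_of_mul_eq_one_right hd)
    have hu : b * uel 1 * b⁻¹ = uel (b 0 0 * b 0 0) := by
      apply ext2 <;> simp [mul_apply2, h10] <;> first
        | ring1
        | linear_combination hd
        | linear_combination -hd
    have ha2 : b 0 0 * b 0 0 ∈ L := h.2.2.1 _ (by
      rw [← hu]; exact mul_mem (mul_mem hb (hU 1 L.one_mem)) (inv_mem hb))
    have hw : uel (1 : F) * lel (-1) * uel 1 ∈ H :=
      mul_mem (mul_mem (hU 1 L.one_mem) (hLo _ (L.neg_mem L.one_mem))) (hU 1 L.one_mem)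
    have hab : b 0 0 * b 0 1 ∈ L := by
      rcases h.2.2.2 _ (mul_mem hb hw) with h0 | h0
      · exfalso
        simp [mul_apply2, h10] at h0
        rw [h0, mul_zero] at hd
        exact zero_ne_one hd
      · simp [mul_apply2, h10, hinv] at h0
        obtain ⟨t, ht⟩ := h0
        exact ⟨t, by rw [ht]; ring⟩
    refine ⟨b 0 0, ha, ha2, fun i j => ?_⟩
    fin_cases i <;> fin_cases j
    · exact ha2
    · exact hab
    · show b 0 0 * b 1 0 ∈ L
      rw [h10, mul_zero]; exact L.zero_mem
    · show b 0 0 * b 1 1 ∈ L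
      rw [hd]; exact L.one_mem
  rcases h.2.2.2 g hg with h10 | hx
  · exact hB g hg h10
  by_cases h10 : g 1 0 = 0
  · exact hB g hg h10
  set x := g 0 0 / g 1 0 with hxdef
  set w := uel (1 : F) * lel (-1) * uel 1 with hwdef
  have hw : w ∈ H := mul_mem (mul_mem (hU 1 L.one_mem) (hLo _ (L.neg_mem L.one_mem))) (hU 1 L.one_mem)
  set b := w * (uel (-x) * g) with hb
  have hbH : b ∈ H := mul_mem hw (mul_mem (hU _ (L.neg_mem hx)) hg)
  obtain ⟨c, hc0, hc2, hc⟩ := hB b hbH (by
    simp [hb, hwdef, mul_apply2, hxdef]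
    field_simp
    ring)
  have hgb : g = uel x * (w⁻¹ * b) := by
    rw [hb, inv_mul_cancel_left, ← mul_assoc, ← uel_add, add_neg_cancel, uel_zero, one_mul]
  refine ⟨c, hc0, hc2, fun i j => ?_⟩
  have key : ∀ (a : SL2 F), (∀ i j, a i j ∈ L) → ∀ (y : SL2 F), (∀ i j, c * y i j ∈ L) → ∀ i j, c * (a * y) i j ∈ L := by
    intro a ha y hy i j
    rw [mul_apply2, mul_add, mul_left_comm c, mul_left_comm c]
    exact L.add_mem (L.mul_mem (ha _ _) (hy _ _)) (L.mul_mem (ha _ _) (hy _ _))
  rw [hgb]
  refine key _ (fun i j => ?_) _ (key _ (fun i j => ?_) _ hc) i j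
  · fin_cases i <;> fin_cases j
    · simp [L.one_mem]
    · exact hx
    · simp [L.zero_mem]
    · simp [L.one_mem]
  · fin_cases i <;> fin_cases j <;>
      simp [hwdef, mul_apply2, L.one_mem, L.zero_mem, L.neg_mem L.one_mem]

/-- The image is `PSL₂(K)` or `PGL₂(K)`. -/
theorem iso {ι : K →+* F} {H : Subgroup (SL2 F)} (h : IsStd ι H) :
    Nonempty (H.map toPSL ≃* Matrix.ProjectiveSpecialLinearGroup (Fin 2) K) ∨
      (Nonempty (H.map toPSL ≃* Matrix.ProjGenLinGroup (Fin 2) K) ∧
        ∃ c : F, c ∉ ι.fieldRange ∧ c * c ∈ ι.fieldRange) := by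
  classical
  haveI := Fintype.ofFinite K
  by_cases hall : ∀ g ∈ H, ∀ i j, g i j ∈ ι.fieldRange
  · left
    have hH : H = (Matrix.SpecialLinearGroup.map ι).range := by
      refine le_antisymm (fun g hg => ?_) (sl_le h)
      choose e he using fun i j => hall g hg i j
      have hd : (Matrix.of e).det = 1 := by
        apply ι.injective
        rw [RingHom.map_det, map_one, ← g.2]
        congr 1
        ext i j
        exact he i j
      exact ⟨⟨Matrix.of e, hd⟩, Subtype.ext (Matrix.ext fun i j => he i j)⟩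
    have hrange : H.map toPSL = (PSL2PrimeTo.pslMap' ι).range := by
      rw [hH, MonoidHom.map_range]
      ext y
      constructor
      · rintro ⟨x, rfl⟩; exact ⟨toPSL x, rfl⟩
      · rintro ⟨x, rfl⟩
        obtain ⟨x, rfl⟩ := toPSL_surjective x
        exact ⟨x, rfl⟩
    exact ⟨(MulEquiv.subgroupCongr hrange).trans (MonoidHom.ofInjective (PSL2PrimeTo.pslMap'_injective ι)).symm⟩
  · right
    push Not at hall
    obtain ⟨g0, hg0, i0, j0, hij⟩ := hall
    obtain ⟨c0, hc0, hc02, hc0g⟩ := exists_scalar h hg0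
    have hc0L : c0 ∉ ι.fieldRange := fun hm => hij (by
      have := ι.fieldRange.div_mem (hc0g i0 j0) hm
      rwa [mul_div_cancel_left₀ _ hc0] at this)
    obtain ⟨d, hd⟩ := hc02
    have hdns : ¬ IsSquare d := by
      rintro ⟨e, rfl⟩
      rw [map_mul] at hd
      rcases mul_self_eq_mul_self_iff.1 hd with he | he
      · exact hc0L ⟨e, he⟩
      · exact hc0L ⟨-e, by rw [map_neg, he, neg_neg]⟩
    have hsq : ∀ x : K, IsSquare (ι x) := fun x => by
      by_cases hx : IsSquare x
      · obtain ⟨e, rfl⟩ := hx; exact ⟨ι e, map_mul ι e e⟩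
      · obtain ⟨e, he⟩ := Cfsg.Agent.KnownA.GL2.not_isSquare_mul hx hdns
        refine ⟨ι e / c0, ?_⟩
        rw [div_mul_div_comm, eq_div_iff (mul_ne_zero hc0 hc0), ← map_mul, ← he, map_mul, hd]
    obtain ⟨f, hf, ⟨E⟩⟩ := exists_pgl_hom ι hsq
    have hmemf : ∀ g ∈ H, toPSL g ∈ f.range := by
      intro g hg
      obtain ⟨c, hc, -, hcg⟩ := exists_scalar h hg
      choose e he using hcg
      have hmap : (Matrix.of e).map ι = c • g.1 := by
        ext i j
        simpa using he i j
      have hdet : (Matrix.of e).det ≠ 0 := fun h0 => by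
        have h1 : ι (Matrix.of e).det = c ^ 2 := by
          rw [RingHom.map_det, RingHom.mapMatrix_apply, hmap, Matrix.det_smul, g.2, Fintype.card_fin, mul_one]
        rw [h0, map_zero] at h1
        exact pow_ne_zero 2 hc h1.symm
      exact ⟨Matrix.GeneralLinearGroup.mkOfDetNeZero _ hdet, hf _ g c hc hmap⟩
    have hrange : H.map toPSL = f.range := by
      refine le_antisymm (by rintro _ ⟨g, hg, rfl⟩; exact hmemf g hg) ?_
      rintro _ ⟨G, rfl⟩
      have hsquare : ∀ G : GL (Fin 2) K, IsSquare G.1.det → f G ∈ H.map toPSL := by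
        intro G hG
        obtain ⟨e, he⟩ := hG
        have hdG := Matrix.GeneralLinearGroup.det_ne_zero G
        have he0 : e ≠ 0 := fun e0 => hdG (by rw [he, e0, mul_zero])
        let S : Matrix.SpecialLinearGroup (Fin 2) K := ⟨e⁻¹ • G.1, by
          rw [Matrix.det_smul, he, Fintype.card_fin]; field_simp⟩
        refine ⟨Matrix.SpecialLinearGroup.map ι S, sl_le h ⟨S, rfl⟩, (hf G _ (ι e) (by simpa using he0) ?_).symm⟩
        ext i j
        change ι (G.1 i j) = ι e * ι ((e⁻¹ • G.1) i j)
        rw [← map_mul, Matrix.smul_apply, smul_eq_mul, mul_inv_cancel_left₀ he0]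
      by_cases hG : IsSquare G.1.det
      · exact hsquare G hG
      choose e he using hc0g
      have hmap : (Matrix.of e).map ι = c0 • g0.1 := by
        ext i j
        simpa using he i j
      have hdet : (Matrix.of e).det = d := ι.injective (by
        rw [RingHom.map_det, RingHom.mapMatrix_apply, hmap, Matrix.det_smul, g0.2, Fintype.card_fin, mul_one, hd, pow_two])
      set G0 := Matrix.GeneralLinearGroup.mkOfDetNeZero (Matrix.of e) (by
        rw [hdet]; intro h0; exact hdns (h0 ▸ IsSquare.zero))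
      have h1 : f (G * G0) ∈ H.map toPSL := hsquare _ (by
        rw [Units.val_mul, Matrix.det_mul, show G0.1.det = d from hdet]
        exact Cfsg.Agent.KnownA.GL2.not_isSquare_mul hG hdns)
      rw [map_mul, show f G0 = toPSL g0 from hf _ g0 c0 hc0 hmap] at h1
      have h2 := mul_mem h1 (inv_mem (Subgroup.mem_map_of_mem toPSL hg0))
      rwa [mul_inv_cancel_right] at h2
    exact ⟨⟨(MulEquiv.subgroupCongr hrange).trans E⟩, c0, hc0L, d, hd⟩

end Cfsg.Agent.Linear.PSL2Std
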