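import Cfsg.Agent.Linear.CommuteUnipotent
import Mathlib

/-!
# Elements of order `r p` in `PSL_n(q)`
-/

set_option autoImplicit false
set_option linter.unusedSectionVars false

namespace Cfsg.Agent.Linear.PrimeAdjacent

open Module (finrank)
open Cfsg.Agent.Linear.CommuteUnipotent

variable {F : Type*} [Field F] [Fintype F] {p : ℕ} [Fact p.Prime] [CharP F p] {n : ℕ}

local notation "Vn" => (Fin n → F)
local notation "SLn" => Matrix.SpecialLinearGroup (Fin n) F
local notation "PSLn" => Matrix.ProjectiveSpecialLinearGroup (Fin n) F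
local notation "E" => (Matrix.toLinAlgEquiv' : Matrix (Fin n) (Fin n) F ≃ₐ[F] Module.End F (Fin n → F))

theorem mem_center_SL_iff (X : SLn) :
    X ∈ Subgroup.center SLn ↔ ∃ c : F, c ^ n = 1 ∧ X.1 = c • 1 := by
  rw [Matrix.SpecialLinearGroup.mem_center_iff, Fintype.card_fin]
  constructor
  · rintro ⟨c, hc, h⟩; exact ⟨c, hc, by rw [← h, Matrix.scalar_apply, Matrix.smul_one_eq_diagonal]⟩
  · rintro ⟨c, hc, h⟩; exact ⟨c, hc, by rw [h, Matrix.scalar_apply, Matrix.smul_one_eq_diagonal]⟩

theorem mk_eq_one_of_scalar {X : SLn} {c : F} (h : X.1 = c • 1) : (QuotientGroup.mk X : PSLn) = 1 := by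
  refine (QuotientGroup.eq_one_iff _).2 ((mem_center_SL_iff X).2 ⟨c, ?_, h⟩)
  have := X.2
  rwa [h, Matrix.det_smul, Matrix.det_one, mul_one, Fintype.card_fin] at this

/-- A lift of an element of order `p` is a scalar times a unipotent, which commutes with every lift
of a commuting element. -/
theorem exists_unipotent (hn : 1 ≤ n) (A B : SLn) (ha : orderOf (QuotientGroup.mk A : PSLn) = p)
    (hab : Commute (QuotientGroup.mk A : PSLn) (QuotientGroup.mk B)) :
    ∃ U : Module.End F Vn, U ≠ 0 ∧ IsNilpotent U ∧ Commute (E B.1) U := by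
  classical
  have hp : p.Prime := Fact.out
  haveI : Nonempty (Fin n) := ⟨⟨0, hn⟩⟩
  have hAp : A ^ p ∈ Subgroup.center SLn := by
    have h := pow_orderOf_eq_one (QuotientGroup.mk A : PSLn)
    rw [ha, ← QuotientGroup.mk_pow, QuotientGroup.eq_one_iff] at h
    exact h
  obtain ⟨c, hcn, hc⟩ := (mem_center_SL_iff _).1 hAp
  obtain ⟨f, -, hf⟩ := FiniteField.card F p
  let v := c ^ (p ^ ((f : ℕ) - 1))
  have hv : v ^ p = c := by
    show (c ^ (p ^ ((f : ℕ) - 1))) ^ p = c
    rw [← pow_mul, ← pow_succ, Nat.sub_add_cancel f.pos, ← hf, FiniteField.pow_card]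
  have hc0 : c ≠ 0 := fun h => by rw [h, zero_pow (by omega)] at hcn; exact zero_ne_one hcn
  have hv0 : v ≠ 0 := fun h => hc0 (by rw [← hv, h, zero_pow hp.ne_zero])
  haveI : CharP (Matrix (Fin n) (Fin n) F) p := Matrix.charP p
  set U := v⁻¹ • A.1 - 1 with hU
  have hUp : U ^ p = 0 := by
    rw [hU, sub_pow_char_of_commute _ (Commute.one_right _), one_pow, smul_pow,
      ← Matrix.SpecialLinearGroup.coe_pow, hc, smul_smul, inv_pow, hv, inv_mul_cancel₀ hc0, one_smul, sub_self]
  have hU0 : U ≠ 0 := fun h => by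
    rw [hU, sub_eq_zero] at h
    have hA : A.1 = v • 1 := by rw [← h, smul_smul, mul_inv_cancel₀ hv0, one_smul]
    rw [mk_eq_one_of_scalar hA, orderOf_one] at ha
    exact hp.one_lt.ne ha
  obtain ⟨z, hz⟩ : ∃ z : F, A.1 * B.1 = z • (B.1 * A.1) := by
    have h : (B * A)⁻¹ * (A * B) ∈ Subgroup.center SLn := by
      rw [← QuotientGroup.eq, QuotientGroup.mk_mul, QuotientGroup.mk_mul]
      exact hab.symm.eq
    obtain ⟨z, -, hz⟩ := (mem_center_SL_iff _).1 h
    refine ⟨z, ?_⟩
    have h' : A * B = (B * A) * ((B * A)⁻¹ * (A * B)) := by group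
    rw [← Matrix.SpecialLinearGroup.coe_mul, h', Matrix.SpecialLinearGroup.coe_mul, hz, Matrix.mul_smul, mul_one,
      Matrix.SpecialLinearGroup.coe_mul]
  have h1 : (U + 1) * B.1 = z • (B.1 * (U + 1)) := by
    rw [hU, sub_add_cancel, Matrix.smul_mul, hz, Matrix.mul_smul, smul_comm]
  let Bu : GL (Fin n) F := Matrix.SpecialLinearGroup.toGL B
  have hBu : (Bu : Matrix (Fin n) (Fin n) F) = B.1 := rfl
  have h2 : (Bu⁻¹ : GL (Fin n) F).1 * (U + 1) * Bu.1 = z • (U + 1) := by
    rw [mul_assoc, hBu, h1, Matrix.mul_smul, ← mul_assoc, ← hBu, Units.inv_mul, one_mul]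
  have h3 : ((z • (U + 1)) : Matrix (Fin n) (Fin n) F) ^ p = 1 := by
    rw [← h2, Units.conj_pow', add_pow_char_of_commute _ (Commute.one_right _), hUp, zero_add, one_pow, mul_one,
      Units.inv_mul]
  rw [smul_pow, add_pow_char_of_commute _ (Commute.one_right _), hUp, zero_add, one_pow] at h3
  have hz1 : z ^ p = 1 := by simpa using congrFun (congrFun h3 ⟨0, hn⟩) ⟨0, hn⟩
  have hz' : z = 1 := frobenius_inj F p (show frobenius F p z = frobenius F p 1 by simpa [frobenius_def] using hz1)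
  rw [hz', one_smul, add_mul, mul_add, one_mul, mul_one] at h1
  exact ⟨E U, (map_ne_zero_iff (E) (E).injective).2 hU0, ⟨p, by rw [← map_pow, hUp, map_zero]⟩,
    Commute.map (add_right_cancel h1).symm (E)⟩

theorem det_E (X : SLn) : LinearMap.det (E X.1) = 1 := by
  show LinearMap.det (Matrix.toLin' X.1) = 1
  rw [LinearMap.det_toLin', X.2]

/-- A determinant one element of order `r` whose fixed space has codimension at most one is trivial. -/
theorem eq_one_of_codim_one {r : ℕ} (hrF : (r : F) ≠ 0) {g : Module.End F Vn} (hg : g ^ r = 1)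
    (hdet : LinearMap.det g = 1) (h : n ≤ finrank F (LinearMap.ker (g - 1)) + 1) : g = 1 := by
  classical
  set W := LinearMap.ker (g - 1) with hW
  have hWfix : ∀ x ∈ W, g x = x := fun x hx => by
    rw [hW, LinearMap.mem_ker, LinearMap.sub_apply, Module.End.one_apply, sub_eq_zero] at hx; exact hx
  have hdim := LinearMap.finrank_range_add_finrank_ker (g - 1)
  rw [Module.finrank_fin_fun, ← hW] at hdim
  by_contra hne
  have hR0 : LinearMap.range (g - 1) ≠ ⊥ := fun h => hne (sub_eq_zero.1 (LinearMap.range_eq_bot.1 h))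
  obtain ⟨w, hw, hw0⟩ := Submodule.exists_mem_ne_zero_of_ne_bot hR0
  have hspan : ∀ x, ∃ c : F, c • w = (g - 1) x := fun x => by
    have h1 : finrank F (LinearMap.range (g - 1)) = 1 := by
      have := Submodule.one_le_finrank_iff.2 hR0
      omega
    obtain ⟨c, hc⟩ := (finrank_eq_one_iff_of_nonzero' (⟨w, hw⟩ : LinearMap.range (g - 1))
      (fun e => hw0 (congrArg Subtype.val e))).1 h1 ⟨(g - 1) x, ⟨x, rfl⟩⟩
    exact ⟨c, congrArg Subtype.val hc⟩
  choose φ hφ using hspan
  let φl : Vn →ₗ[F] F :=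
    { toFun := φ
      map_add' := fun x y => smul_left_injective F hw0 (by simp only [hφ, map_add, add_smul])
      map_smul' := fun c x => smul_left_injective F hw0 (by simp only [hφ, map_smul, RingHom.id_apply, smul_eq_mul, mul_smul]) }
  have hgeq : g = LinearMap.id + φl.smulRight w := LinearMap.ext fun x => by
    rw [LinearMap.add_apply, LinearMap.id_apply, LinearMap.smulRight_apply, show φl x = φ x from rfl, hφ,
      LinearMap.sub_apply, Module.End.one_apply, add_sub_cancel]
  have hφw : φ w = 0 := by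
    have h2 : LinearMap.det g = 1 + φl w := by
      rw [hgeq, ← LinearMap.det_toMatrix']
      have : LinearMap.toMatrix' (LinearMap.id + φl.smulRight w) =
          1 + Matrix.replicateCol Unit w * Matrix.replicateRow Unit fun j => φl (Pi.single j 1) := by
        ext a b
        simp [LinearMap.toMatrix'_apply, Matrix.mul_apply, Matrix.one_apply, Pi.single_apply, mul_comm]
      rw [this, Matrix.det_one_add_replicateCol_mul_replicateRow]
      congr 1
      conv_rhs => rw [← Finset.univ_sum_single w, map_sum]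
      exact Finset.sum_congr rfl fun j _ => by
        rw [show (Pi.single j (w j) : Vn) = w j • Pi.single j 1 by rw [← Pi.single_smul, smul_eq_mul, mul_one],
          map_smul, smul_eq_mul, mul_comm]
    rw [hdet, left_eq_add] at h2
    exact h2
  refine hne (LinearMap.ext fun x => ?_)
  rw [Module.End.one_apply]
  refine fix_of_shift hg hrF (hWfix _ ?_)
  rw [hW, LinearMap.mem_ker, show g x - x = (g - 1) x from rfl, ← hφ x,
    map_smul, ← hφ w, hφw, zero_smul, smul_zero]

theorem not_exists {r : ℕ} (hn : 2 ≤ n) (hr : r.Prime) (hr2 : r ≠ 2) (hrp : r ≠ p)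
    (h : (n = 2) ∨ (3 ≤ n ∧ ∀ j ≤ n - 2, ¬ r ∣ Nat.card (GL (Fin j) F)) ∨
      (n = 3 ∧ r = 3 ∧ ¬ 9 ∣ Fintype.card F - 1)) (x : PSLn) : orderOf x ≠ r * p := by
  classical
  intro hx
  have hp : p.Prime := Fact.out
  have hrF : (r : F) ≠ 0 := fun h => hrp ((Nat.prime_dvd_prime_iff_eq hp hr).1 ((CharP.cast_eq_zero_iff F p r).1 h)).symm
  obtain ⟨X, rfl⟩ := QuotientGroup.mk_surjective x
  have ha : orderOf (QuotientGroup.mk (X ^ r) : PSLn) = p := by
    rw [QuotientGroup.mk_pow, orderOf_pow, hx, Nat.gcd_eq_right (dvd_mul_right r p), Nat.mul_div_cancel_left _ hr.pos]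
  have hb : orderOf (QuotientGroup.mk (X ^ p) : PSLn) = r := by
    rw [QuotientGroup.mk_pow, orderOf_pow, hx, Nat.gcd_eq_right (dvd_mul_left p r), Nat.mul_div_cancel _ hp.pos]
  obtain ⟨N, hN0, hNnil, hNB⟩ := exists_unipotent (by omega) (X ^ r) (X ^ p) ha (by
    rw [QuotientGroup.mk_pow, QuotientGroup.mk_pow]; exact Commute.pow_pow_self _ r p)
  set B := X ^ p with hB
  have hrB : r ∣ orderOf B := hb ▸ orderOf_map_dvd (QuotientGroup.mk' (Subgroup.center SLn)) B
  set G := B ^ (orderOf B / r) with hG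
  have hGr : orderOf G = r := orderOf_pow_orderOf_div (orderOf_pos B).ne' hrB
  have hgr : (E G.1) ^ r = 1 := by
    rw [← map_pow, ← Matrix.SpecialLinearGroup.coe_pow, ← hGr, pow_orderOf_eq_one,
      Matrix.SpecialLinearGroup.coe_one, map_one]
  have hgN : Commute (E G.1) N := by
    rw [hG, Matrix.SpecialLinearGroup.coe_pow, map_pow]
    exact hNB.pow_left _
  have hG1 : E G.1 = 1 → False := fun h => by
    have hG1 : G = 1 := Subtype.ext ((E).injective (by rw [h, Matrix.SpecialLinearGroup.coe_one, map_one]))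
    rw [hG1, orderOf_one] at hGr
    exact hr.one_lt.ne hGr
  obtain ⟨m, hm⟩ := hNnil
  set K := LinearMap.ker N with hK
  set R := LinearMap.range N with hR
  have hRpos : 1 ≤ finrank F R := Submodule.one_le_finrank_iff.2 fun h => hN0 (LinearMap.range_eq_bot.1 h)
  have hdim := LinearMap.finrank_range_add_finrank_ker N
  rw [Module.finrank_fin_fun, ← hK, ← hR] at hdim
  have hmeet : ∀ W : Submodule F Vn, (∀ x ∈ W, N x ∈ W) → W ≠ ⊥ → K ⊓ W ≠ ⊥ := fun W hW hW0 h => by
    obtain ⟨x, hx, hx0⟩ := Submodule.exists_mem_ne_zero_of_ne_bot hW0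
    have : ∀ j : ℕ, (N ^ j) x ∈ W ∧ (N ^ j) x ≠ 0 := fun j => by
      induction j with
      | zero => exact ⟨hx, hx0⟩
      | succ j ih =>
        rw [pow_succ', Module.End.mul_apply]
        refine ⟨hW _ ih.1, fun h0 => ih.2 ?_⟩
        have : (N ^ j) x ∈ K ⊓ W := ⟨h0, ih.1⟩
        rwa [h, Submodule.mem_bot] at this
    exact (this m).2 (by rw [hm]; rfl)
  have hKR := hmeet R (fun x _ => ⟨x, rfl⟩) (fun h => hN0 (LinearMap.range_eq_bot.1 h))
  have hKRpos : 1 ≤ finrank F (K ⊓ R : Submodule F Vn) := Submodule.one_le_finrank_iff.2 hKR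
  -- a scalar on a line of `K ⊓ R`
  have heig : ∀ (g : Module.End F Vn), Commute g N → finrank F (K ⊓ R : Submodule F Vn) = 1 →
      ∃ a : F, ∀ x ∈ K ⊓ R, g x = a • x := fun g hgc h1 => by
    obtain ⟨w, hw, hw0⟩ := Submodule.exists_mem_ne_zero_of_ne_bot hKR
    have hgw : g w ∈ K ⊓ R := by
      obtain ⟨hwK, y, rfl⟩ := hw
      refine ⟨?_, g y, (LinearMap.congr_fun hgc.eq y).symm⟩
      rw [SetLike.mem_coe, hK, LinearMap.mem_ker] at hwK ⊢
      rw [← Module.End.mul_apply, ← hgc.eq, Module.End.mul_apply, hwK, map_zero]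
    obtain ⟨a, ha⟩ := (finrank_eq_one_iff_of_nonzero' (⟨w, hw⟩ : (K ⊓ R : Submodule F Vn))
      (fun e => hw0 (congrArg Subtype.val e))).1 h1 ⟨g w, hgw⟩
    refine ⟨a, fun x hx => ?_⟩
    obtain ⟨c, hc⟩ := (finrank_eq_one_iff_of_nonzero' (⟨w, hw⟩ : (K ⊓ R : Submodule F Vn))
      (fun e => hw0 (congrArg Subtype.val e))).1 h1 ⟨x, hx⟩
    rw [← show c • w = x from congrArg Subtype.val hc, map_smul, ← show a • w = g w from congrArg Subtype.val ha,
      smul_comm]
  rcases h with h2 | ⟨h3, hbig⟩ | ⟨h3, rfl, h9⟩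
  · -- dimension two
    have hKdim : finrank F K = 1 := by have := Submodule.finrank_mono (inf_le_left : K ⊓ R ≤ K); omega
    have hKR1 : K ⊓ R = K := Submodule.eq_of_le_of_finrank_le inf_le_left (by omega)
    obtain ⟨a, ha⟩ := heig (E G.1) hgN (by rw [hKR1, hKdim])
    obtain ⟨w, hw, hw0⟩ := Submodule.exists_mem_ne_zero_of_ne_bot hKR
    have har : a ^ r = 1 := by
      have : ∀ k : ℕ, ((E G.1) ^ k) w = a ^ k • w := fun k => by
        induction k with
        | zero => simp
        | succ k ih => rw [pow_succ', Module.End.mul_apply, ih, map_smul, ha w hw, smul_smul, pow_succ]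
      have h' := this r
      rw [hgr, Module.End.one_apply] at h'
      exact (smul_left_injective F hw0 (h'.symm.trans (one_smul F w).symm))
    have hRK : R = K ⊓ R := (Submodule.eq_of_le_of_finrank_le inf_le_right (by omega)).symm
    have hsub : ∀ x, E G.1 x - a • x ∈ K := fun x => by
      have hNx : N x ∈ K ⊓ R := by rw [← hRK]; exact ⟨x, rfl⟩
      rw [hK, LinearMap.mem_ker, map_sub, map_smul, ← Module.End.mul_apply, ← hgN.eq, Module.End.mul_apply,
        ha (N x) hNx, sub_self]
    have hdet := det_E G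
    have h2' : (a⁻¹ • E G.1) = 1 := by
      have ha0 : a ≠ 0 := fun e => by rw [e, zero_pow hr.ne_zero] at har; exact zero_ne_one har
      refine LinearMap.ext fun x => ?_
      rw [Module.End.one_apply]
      refine fix_of_shift (r := r) (by rw [smul_pow, hgr, inv_pow, har, inv_one, one_smul]) hrF ?_
      have hm : (a⁻¹ • E G.1) x - x ∈ K ⊓ R := by
        rw [hKR1]
        have := K.smul_mem a⁻¹ (hsub x)
        rwa [smul_sub, inv_smul_smul₀ ha0] at this
      rw [LinearMap.smul_apply, ha _ hm, inv_smul_smul₀ ha0]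
    have ha1 : a = 1 := by
      have hd : LinearMap.det (a⁻¹ • E G.1) = 1 := by rw [h2', map_one]
      rw [LinearMap.det_smul, hdet, mul_one, Module.finrank_fin_fun, h2, inv_pow, inv_eq_one] at hd
      obtain ⟨i, hi⟩ := hr.odd_of_ne_two hr2
      rw [hi, pow_succ, pow_mul, hd, one_pow, one_mul] at har
      exact har
    rw [ha1, inv_one, one_smul] at h2'
    exact hG1 h2'
  · -- the generic case
    refine hG1 (LinearMap.ext fun x => ?_)
    have hK' : ∀ y ∈ K, E G.1 y ∈ K := fun y hy => by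
      rw [hK, LinearMap.mem_ker] at hy ⊢
      rw [← Module.End.mul_apply, ← hgN.eq, Module.End.mul_apply, hy, map_zero]
    have hR' : ∀ y ∈ R, E G.1 y ∈ R := by
      rintro _ ⟨y, rfl⟩; exact ⟨E G.1 y, (LinearMap.congr_fun hgN.eq y).symm⟩
    have hsmall : ∀ (W : Submodule F Vn), (∀ y ∈ W, E G.1 y ∈ W) → finrank F W ≤ n - 2 → ∀ y ∈ W, E G.1 y = y :=
      fun W hW hd y hy => sub_eq_zero.1 ((Submodule.mem_bot F).1 (trivial_on_layer hr hbig hgr hW bot_le
        (by rw [finrank_bot, zero_add]; exact hd) (fun z hz => by rw [(Submodule.mem_bot F).1 hz, map_zero]) y hy))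
    have hstep : ∀ (W W' : Submodule F Vn), W' ≤ W → (∀ y ∈ W, E G.1 y ∈ W) → (∀ y ∈ W', E G.1 y = y) →
        finrank F W ≤ finrank F W' + (n - 2) → ∀ y ∈ W, E G.1 y = y := fun W W' hle hW hfix hd y hy =>
      fix_of_shift hgr hrF (hfix _ (trivial_on_layer hr hbig hgr hW hle hd hfix y hy))
    have hRfix : ∀ y ∈ R, E G.1 y = y := by
      by_cases hs : finrank F R ≤ n - 2
      · exact hsmall R hR' hs
      · have hle : K ≤ R := inf_eq_left.1 (Submodule.eq_of_le_of_finrank_le inf_le_left (by omega))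
        have hKle := Submodule.finrank_mono (inf_le_left : K ⊓ R ≤ K)
        exact hstep R K hle hR' (hsmall K hK' (by omega)) (by omega)
    have hKfix : ∀ y ∈ K, E G.1 y = y := by
      by_cases hs : finrank F K ≤ n - 2
      · exact hsmall K hK' hs
      · exact hstep K R (inf_eq_right.1 (Submodule.eq_of_le_of_finrank_le inf_le_right (by omega))) hK' hRfix (by omega)
    rw [Module.End.one_apply]
    refine fix_of_shift hgr hrF (hKfix _ ?_)
    rw [hK, LinearMap.mem_ker, map_sub, ← Module.End.mul_apply, ← hgN.eq, Module.End.mul_apply,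
      hRfix _ ⟨x, rfl⟩, sub_self]
  · -- dimension three, `r = 3`
    have hBc : B ^ 3 ∈ Subgroup.center SLn := by
      rw [← QuotientGroup.eq_one_iff, QuotientGroup.mk_pow, ← hb, pow_orderOf_eq_one]
    obtain ⟨c, hcn, hc⟩ := (mem_center_SL_iff _).1 hBc
    rw [h3] at hcn
    have hKR1 : finrank F (K ⊓ R : Submodule F Vn) = 1 := by
      have h1 := Submodule.finrank_mono (inf_le_left : K ⊓ R ≤ K)
      have h2 := Submodule.finrank_mono (inf_le_right : K ⊓ R ≤ R)
      omega
    obtain ⟨a, ha⟩ := heig (E B.1) hNB hKR1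
    obtain ⟨w, hw, hw0⟩ := Submodule.exists_mem_ne_zero_of_ne_bot hKR
    have hB3 : (E B.1) ^ 3 = c • 1 := by rw [← map_pow, ← Matrix.SpecialLinearGroup.coe_pow, hc, map_smul, map_one]
    have hac : a ^ 3 = c := by
      have h' := LinearMap.congr_fun hB3 w
      simp only [pow_succ, pow_zero, one_mul, Module.End.mul_apply, ha w hw, map_smul, LinearMap.smul_apply,
        Module.End.one_apply, smul_smul] at h'
      have := smul_left_injective F hw0 h'
      rw [← this]; ring
    have ha0 : a ≠ 0 := fun e => by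
      rw [e, zero_pow (by norm_num)] at hac
      rw [← hac, zero_pow (by norm_num)] at hcn
      exact zero_ne_one hcn
    have ha1 : a ^ 3 = 1 := by
      by_contra hne
      refine h9 ?_
      have h9' : orderOf (Units.mk0 a ha0) = 3 ^ (1 + 1) := by
        haveI : Fact (Nat.Prime 3) := ⟨Nat.prime_three⟩
        refine orderOf_eq_prime_pow (fun h => hne ?_) (Units.ext ?_)
        · simpa using congrArg Units.val h
        · rw [Units.val_pow_eq_pow_val, Units.val_mk0, show (3 : ℕ) ^ (1 + 1) = 3 * 3 from rfl, pow_mul, hac, hcn, Units.val_one]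
      have hd := orderOf_dvd_card (x := Units.mk0 a ha0)
      rw [h9', Fintype.card_units] at hd
      exact hd
    set M := a⁻¹ • E B.1 with hM
    have hM3 : M ^ 3 = 1 := by rw [hM, smul_pow, hB3, smul_smul, inv_pow, hac, inv_mul_cancel₀ (hac ▸ pow_ne_zero 3 ha0), one_smul]
    have hdet : LinearMap.det M = 1 := by
      rw [hM, LinearMap.det_smul, det_E, mul_one, Module.finrank_fin_fun, h3, inv_pow, ha1, inv_one]
    have hMN : Commute M N := hNB.smul_left a⁻¹
    have hMw : ∀ y ∈ K ⊓ R, M y = y := fun y hy => by rw [hM, LinearMap.smul_apply, ha y hy, inv_smul_smul₀ ha0]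
    have hcod : 3 ≤ finrank F (LinearMap.ker (M - 1)) + 1 := by
      -- a preimage of a fixed vector, averaged
      obtain ⟨y, hy⟩ := hw.2
      set y' := y + M y + M (M y) with hy'
      have hNy : ∀ z, N (M z) = M (N z) := fun z => (LinearMap.congr_fun hMN.eq z).symm
      have hNy' : N y' = (3 : F) • w := by
        rw [hy', map_add, map_add, hNy, hNy, hNy, hy, hMw w hw, hMw w hw, show (3 : F) = 1 + 1 + 1 by norm_num, add_smul,
          add_smul, one_smul]
      have hfix : M y' = y' := by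
        have h3 := LinearMap.congr_fun hM3 y
        simp only [pow_succ, pow_zero, one_mul, Module.End.mul_apply, Module.End.one_apply] at h3
        rw [hy', map_add, map_add, h3]; abel
      have hli : LinearIndependent F ![w, y'] := by
        rw [LinearIndependent.pair_iff' hw0]
        intro t ht
        have := congrArg N ht
        rw [map_smul, LinearMap.mem_ker.1 hw.1, smul_zero, hNy'] at this
        exact hw0 ((smul_eq_zero.1 this.symm).resolve_left (by exact_mod_cast hrF))
      have h := finrank_span_eq_card hli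
      have hle : Submodule.span F (Set.range ![w, y']) ≤ LinearMap.ker (M - 1) := by
        rw [Submodule.span_le]
        rintro _ ⟨i, rfl⟩
        fin_cases i <;> simp [LinearMap.mem_ker, sub_eq_zero, hMw w hw, hfix]
      have := Submodule.finrank_mono hle
      rw [h, Fintype.card_fin] at this
      omega
    have hM1 := eq_one_of_codim_one hrF hM3 hdet (by omega)
    have hBs : B.1 = a • 1 := by
      refine (E).injective ?_
      rw [map_smul, map_one, ← hM1, hM, smul_smul, mul_inv_cancel₀ ha0, one_smul]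
    rw [mk_eq_one_of_scalar hBs, orderOf_one] at hb
    omega

theorem order_eq {r : ℕ} (hr : r.Prime) (hrp : r ≠ p) (X : SLn) (h1 : ∃ c : F, (X.1) ^ (r * p) = c • 1)
    (h2 : ∀ (j : ℕ) (c : F), X.1 ^ j = c • 1 → p ∣ j ∧ r ∣ j) : orderOf (QuotientGroup.mk X : PSLn) = r * p := by
  have hp : p.Prime := Fact.out
  refine Nat.dvd_antisymm (orderOf_dvd_of_pow_eq_one ?_) ?_
  · obtain ⟨c, hc⟩ := h1
    rw [← QuotientGroup.mk_pow]
    exact mk_eq_one_of_scalar (c := c) (by rw [Matrix.SpecialLinearGroup.coe_pow]; exact hc)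
  · have h := pow_orderOf_eq_one (QuotientGroup.mk X : PSLn)
    rw [← QuotientGroup.mk_pow, QuotientGroup.eq_one_iff] at h
    obtain ⟨c, -, hc⟩ := (mem_center_SL_iff _).1 h
    rw [Matrix.SpecialLinearGroup.coe_pow] at hc
    obtain ⟨a, b⟩ := h2 _ c hc
    exact ((Nat.coprime_primes hr hp).2 hrp).mul_dvd_of_dvd_of_dvd b a

theorem transv_pow {ι : Type} [Fintype ι] [DecidableEq ι] {i j : ι} (h : i ≠ j) (k : ℕ) :
    (Matrix.transvection i j (1 : F)) ^ k = Matrix.transvection i j (k : F) := by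
  induction k with
  | zero => simp
  | succ k ih => rw [pow_succ, ih, Matrix.transvection_mul_transvection_same i j h, Nat.cast_succ]

theorem exists_block {r : ℕ} (hr : r.Prime) (hrp : r ≠ p) (hn : 4 ≤ n)
    (hd : r ∣ Nat.card (GL (Fin (n - 2)) F)) : ∃ x : PSLn, orderOf x = r * p := by
  classical
  haveI := Fact.mk hr
  obtain ⟨g, hg⟩ := exists_prime_orderOf_dvd_card' r (dvd_card_SL hr (by omega) hd)
  let e : Fin 2 ⊕ Fin (n - 2) ≃ Fin n := finSumFinEquiv.trans (finCongr (by omega))
  let T : Matrix (Fin 2) (Fin 2) F := Matrix.transvection 0 1 1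
  let M := Matrix.fromBlocks T 0 0 g.1
  have hT : T.det = 1 := Matrix.det_transvection_of_ne 0 1 (by decide) 1
  let X : SLn := ⟨Matrix.reindexAlgEquiv F F e M, by
    rw [Matrix.reindexAlgEquiv_apply, Matrix.det_reindex_self, Matrix.det_fromBlocks_zero₂₁, hT, g.2, mul_one]⟩
  have hpow : ∀ j : ℕ, M ^ j = Matrix.fromBlocks (Matrix.transvection 0 1 (j : F)) 0 0 (g.1 ^ j) := fun j => by
    rw [← transv_pow (by decide : (0 : Fin 2) ≠ 1)]
    exact Matrix.fromBlocks_diagonal_pow T g.1 j
  have hX : ∀ j : ℕ, X.1 ^ j = Matrix.reindexAlgEquiv F F e (M ^ j) := fun j =>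
    (map_pow (Matrix.reindexAlgEquiv F F e) M j).symm
  refine ⟨QuotientGroup.mk X, order_eq hr hrp X ⟨1, ?_⟩ fun j c hj => ?_⟩
  · rw [hX, hpow, ← Matrix.SpecialLinearGroup.coe_pow, pow_mul g, ← hg, pow_orderOf_eq_one, one_pow,
      Matrix.SpecialLinearGroup.coe_one, hg, show ((r * p : ℕ) : F) = 0 by rw [Nat.cast_mul, CharP.cast_eq_zero F p, mul_zero],
      Matrix.transvection_zero, Matrix.fromBlocks_one, map_one, one_smul]
  · rw [hX, hpow] at hj
    have hj' : Matrix.fromBlocks (Matrix.transvection 0 1 (j : F)) 0 0 (g.1 ^ j) =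
        c • (1 : Matrix (Fin 2 ⊕ Fin (n - 2)) (Fin 2 ⊕ Fin (n - 2)) F) :=
      (Matrix.reindexAlgEquiv F F e).injective (hj.trans (by rw [map_smul, map_one]))
    rw [← Matrix.fromBlocks_one, Matrix.fromBlocks_smul, Matrix.fromBlocks_inj] at hj'
    obtain ⟨hA, -, -, hD⟩ := hj'
    have hc1 : c = 1 := by
      have := congrFun (congrFun hA 0) 0
      simpa [Matrix.transvection] using this.symm
    refine ⟨(CharP.cast_eq_zero_iff F p j).1 ?_, hg ▸ orderOf_dvd_of_pow_eq_one ?_⟩
    · have := congrFun (congrFun hA 0) 1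
      simpa [Matrix.transvection] using this
    · refine Subtype.ext ?_
      rw [Matrix.SpecialLinearGroup.coe_pow, hD, hc1, one_smul, Matrix.SpecialLinearGroup.coe_one]

theorem exists_three {r : ℕ} (hr : r.Prime) (hrp : r ≠ p) (hn : n = 3) (z : Fˣ)
    (hz : ∃ c : F, (z : F) ^ r = c ∧ c ^ 3 = 1 ∨ r ≠ 3 ∧ (z : F) ^ r = 1 ∧ c = 1)
    (hzr : ∀ j : ℕ, ((z : F) ^ j) ^ 3 = 1 → r ∣ j) : ∃ x : PSLn, orderOf x = r * p := by
  classical
  subst hn
  set u : F := (z : F) with hu
  have hu0 : u ≠ 0 := z.ne_zero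
  let δ : Fin 3 → F := ![u, u, (u ^ 2)⁻¹]
  let D := Matrix.diagonal δ
  let T : Matrix (Fin 3) (Fin 3) F := Matrix.transvection 0 1 1
  have hdet : (D * T).det = 1 := by
    rw [Matrix.det_mul, Matrix.det_diagonal, Matrix.det_transvection_of_ne 0 1 (by decide) 1, mul_one, Fin.prod_univ_three]
    show u * u * (u ^ 2)⁻¹ = 1
    field_simp
  have hcomm : Commute D T := by
    show D * T = T * D
    ext a b
    fin_cases a <;> fin_cases b <;> simp [D, T, δ, Matrix.transvection, Matrix.mul_apply, Fin.sum_univ_three]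
  let X : Matrix.SpecialLinearGroup (Fin 3) F := ⟨D * T, hdet⟩
  have hX : ∀ j : ℕ, X.1 ^ j = Matrix.diagonal (fun i => δ i ^ j) * Matrix.transvection 0 1 (j : F) := fun j => by
    show (D * T) ^ j = _
    rw [hcomm.mul_pow, Matrix.diagonal_pow, transv_pow (by decide : (0 : Fin 3) ≠ 1)]
    rfl
  refine ⟨QuotientGroup.mk X, order_eq hr hrp X ⟨(u ^ r) ^ p, ?_⟩ fun j c hj => ?_⟩
  · have h3 : (u ^ r) ^ 3 = 1 := by
      rcases hz with ⟨c, ⟨hc, hc3⟩ | ⟨-, hc, -⟩⟩
      · rw [hc, hc3]
      · rw [hc, one_pow]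
    rw [hX, show ((r * p : ℕ) : F) = 0 by rw [Nat.cast_mul, CharP.cast_eq_zero F p, mul_zero],
      Matrix.transvection_zero, mul_one, Matrix.smul_one_eq_diagonal]
    congr 1
    funext i
    fin_cases i
    · simp [δ, pow_mul]
    · simp [δ, pow_mul]
    · show ((u ^ 2)⁻¹) ^ (r * p) = (u ^ r) ^ p
      rw [pow_mul, inv_pow, ← pow_mul, mul_comm 2 r, pow_mul,
        inv_eq_of_mul_eq_one_left (show u ^ r * (u ^ r) ^ 2 = 1 by rw [← pow_succ']; exact h3)]
  · rw [hX] at hj
    have e00 := congrFun (congrFun hj 0) 0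
    have e01 := congrFun (congrFun hj 0) 1
    have e22 := congrFun (congrFun hj 2) 2
    simp [δ, Matrix.transvection, Matrix.diagonal_mul] at e00 e01 e22
    refine ⟨(CharP.cast_eq_zero_iff F p j).1 (e01.resolve_left (fun h => hu0 h.1)), hzr j ?_⟩
    have hcne : c ≠ 0 := by rw [← e00]; exact pow_ne_zero _ hu0
    rw [← e00] at e22
    have hj2 : u ^ j * (u ^ j) ^ 2 = 1 := by
      rw [← pow_mul, mul_comm, pow_mul] at e22
      nth_rewrite 1 [← e22]
      exact inv_mul_cancel₀ (pow_ne_zero _ (pow_ne_zero _ hu0))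
    rw [← hj2]; ring

theorem adjacent_iff {r k : ℕ} (hn : 2 ≤ n) (hr : r.Prime) (hr2 : r ≠ 2) (hrp : r ≠ p)
    (hk : k = orderOf ((Fintype.card F : ℕ) : ZMod r)) :
    (r * p ∉ Set.range (orderOf : PSLn → ℕ)) ↔
      (n - 2 < k ∨ (n = 3 ∧ r = 3 ∧ 3 ∣ Fintype.card F - 1 ∧ ¬ 9 ∣ Fintype.card F - 1)) := by
  classical
  haveI := Fact.mk hr
  have hp : p.Prime := Fact.out
  have hq1 : 1 ≤ Fintype.card F := Fintype.card_pos
  have hrq : ¬ r ∣ Fintype.card F := fun h => by
    obtain ⟨f, -, hf⟩ := FiniteField.card F p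
    rw [hf] at h
    exact hrp ((Nat.prime_dvd_prime_iff_eq hr hp).1 (hr.dvd_of_dvd_pow h))
  have hdvd : ∀ i : ℕ, r ∣ Fintype.card F ^ i - 1 ↔ k ∣ i := fun i => by
    rw [hk, orderOf_dvd_iff_pow_eq_one, ← Nat.cast_pow, ← ZMod.natCast_eq_zero_iff,
      Nat.cast_sub (Nat.one_le_pow _ _ hq1), Nat.cast_one, sub_eq_zero]
  have hk0 : 0 < k := by
    rw [hk]
    refine orderOf_pos_iff.2 (isOfFinOrder_iff_pow_eq_one.2 ⟨r - 1, by have := hr.two_le; omega,
      ZMod.pow_card_sub_one_eq_one fun h => hrq ((ZMod.natCast_eq_zero_iff ..).1 h)⟩)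
  have hGL : ∀ j, r ∣ Nat.card (GL (Fin j) F) ↔ k ≤ j := fun j => by
    rw [Matrix.card_GL_field]
    constructor
    · intro h
      obtain ⟨i, -, hi⟩ := (Prime.dvd_finsetProd_iff hr.prime _).1 h
      rw [show Fintype.card F ^ j - Fintype.card F ^ (i : ℕ) =
        Fintype.card F ^ (i : ℕ) * (Fintype.card F ^ (j - i) - 1) by
          rw [Nat.mul_sub, mul_one, ← pow_add, Nat.add_sub_cancel' i.2.le]] at hi
      rcases hr.dvd_mul.1 hi with h1 | h1
      · exact absurd (hr.dvd_of_dvd_pow h1) hrq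
      · exact (Nat.le_of_dvd (by omega) ((hdvd _).1 h1)).trans (Nat.sub_le _ _)
    · intro h
      refine dvd_trans ?_ (Finset.dvd_prod_of_mem _ (Finset.mem_univ (⟨j - k, by omega⟩ : Fin j)))
      show r ∣ Fintype.card F ^ j - Fintype.card F ^ (j - k)
      have : Fintype.card F ^ j = Fintype.card F ^ (j - k) * Fintype.card F ^ k := by
        rw [← pow_add, Nat.sub_add_cancel h]
      rw [this, show Fintype.card F ^ (j - k) * Fintype.card F ^ k - Fintype.card F ^ (j - k) =
        Fintype.card F ^ (j - k) * (Fintype.card F ^ k - 1) by rw [Nat.mul_sub, mul_one]]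
      exact dvd_mul_of_dvd_right ((hdvd k).2 dvd_rfl) _
  constructor
  · intro hno
    by_contra hcon
    push Not at hcon
    obtain ⟨hkn, hexc⟩ := hcon
    apply hno
    rcases Nat.lt_or_ge n 4 with hn4 | hn4
    · have hn3 : n = 3 := by omega
      obtain rfl : k = 1 := by omega
      have hrq1 : r ∣ Fintype.card F - 1 := by simpa using (hdvd 1).2 dvd_rfl
      have hcard : Nat.card Fˣ = Fintype.card F - 1 := by
        rw [Nat.card_eq_fintype_card, Fintype.card_units]
      by_cases hr3 : r = 3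
      · subst hr3
        obtain ⟨z, hz⟩ := IsCyclic.exists_ofOrder_eq_natCard (α := Fˣ)
        have h9 := hexc hn3 rfl hrq1
        rw [← hcard] at h9
        have hw : orderOf (z ^ (Nat.card Fˣ / 9)) = 9 := by
          rw [← hz]
          exact orderOf_pow_orderOf_div (orderOf_pos z).ne' (hz ▸ h9)
        exact exists_three hr hrp hn3 (z ^ (Nat.card Fˣ / 9))
          ⟨_, Or.inl ⟨rfl, by
            rw [← pow_mul, ← Units.val_pow_eq_pow_val, ← show orderOf (z ^ (Nat.card Fˣ / 9)) = 3 * 3 from hw,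
              pow_orderOf_eq_one, Units.val_one]⟩⟩
          fun j hj => by
            rw [← pow_mul, ← Units.val_pow_eq_pow_val, Units.val_eq_one] at hj
            have := orderOf_dvd_of_pow_eq_one hj
            rw [hw] at this
            omega
      · obtain ⟨z, hz⟩ := exists_prime_orderOf_dvd_card' r (hcard ▸ hrq1)
        exact exists_three hr hrp hn3 z
          ⟨1, Or.inr ⟨hr3, by rw [← Units.val_pow_eq_pow_val, ← hz, pow_orderOf_eq_one, Units.val_one], rfl⟩⟩
          fun j hj => by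
            rw [← pow_mul, ← Units.val_pow_eq_pow_val, Units.val_eq_one] at hj
            have := orderOf_dvd_of_pow_eq_one hj
            rw [hz] at this
            exact (hr.dvd_mul.1 this).resolve_right fun h => hr3 ((Nat.prime_dvd_prime_iff_eq hr Nat.prime_three).1 h)
    · exact exists_block hr hrp hn4 ((hGL _).2 hkn)
  · rintro h ⟨x, hx⟩
    refine not_exists (p := p) hn hr hr2 hrp ?_ x hx
    rcases h with h | ⟨h3, hr3, -, h9⟩
    · rcases Nat.lt_or_ge n 3 with h3 | h3
      · exact Or.inl (by omega)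
      · exact Or.inr (Or.inl ⟨h3, fun j hj hd => absurd ((hGL j).1 hd) (by omega)⟩)
    · exact Or.inr (Or.inr ⟨h3, hr3, h9⟩)

end Cfsg.Agent.Linear.PrimeAdjacent
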