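import Cfsg.Agent.Linear.Card
import Mathlib.LinearAlgebra.Projectivization.Action
import Mathlib.LinearAlgebra.Projectivization.Cardinality
import Mathlib.FieldTheory.Finite.Basic
import Mathlib.Tactic

/-! # `PGL_2` on the projective line -/

namespace Cfsg.Agent.Linear

open Matrix
open scoped LinearAlgebra.Projectivization

variable {F : Type*} [Field F]

lemma card_projLine [Finite F] : Nat.card (ℙ F (Fin 2 → F)) = Nat.card F + 1 :=
  Projectivization.card_of_finrank_two F _ (Module.finrank_fin_fun F)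

/-- `[1:0]` -/
noncomputable def pInf : ℙ F (Fin 2 → F) :=
  Projectivization.mk F ![1, 0] (fun h => one_ne_zero (congr_fun h 0))
/-- `[0:1]` -/
noncomputable def pZero : ℙ F (Fin 2 → F) :=
  Projectivization.mk F ![0, 1] (fun h => one_ne_zero (congr_fun h 1))
/-- `[1:1]` -/
noncomputable def pOne : ℙ F (Fin 2 → F) :=
  Projectivization.mk F ![1, 1] (fun h => one_ne_zero (congr_fun h 0))

lemma pInf_ne_pZero : (pInf : ℙ F (Fin 2 → F)) ≠ pZero := by
  rw [pInf, pZero, Ne, Projectivization.mk_eq_mk_iff']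
  rintro ⟨a, ha⟩
  simpa using congr_fun ha 0

lemma pInf_ne_pOne : (pInf : ℙ F (Fin 2 → F)) ≠ pOne := by
  rw [pInf, pOne, Ne, Projectivization.mk_eq_mk_iff']
  rintro ⟨a, ha⟩
  have h0 := congr_fun ha 0
  have h1 := congr_fun ha 1
  simp at h0 h1
  subst h0
  simp at h1

lemma pZero_ne_pOne : (pZero : ℙ F (Fin 2 → F)) ≠ pOne := by
  rw [pZero, pOne, Ne, Projectivization.mk_eq_mk_iff']
  rintro ⟨a, ha⟩
  have h0 := congr_fun ha 0
  have h1 := congr_fun ha 1
  simp at h0 h1
  subst h1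
  simp at h0

/-- The group `GL_2` sends the standard frame to any three distinct points. -/
lemma exists_GL2_frame {a b c : ℙ F (Fin 2 → F)} (hab : a ≠ b) (hac : a ≠ c) (hbc : b ≠ c) :
    ∃ g : GL (Fin 2) F, ProjGenLinGroup.mk g • pInf = a ∧ ProjGenLinGroup.mk g • pZero = b
      ∧ ProjGenLinGroup.mk g • pOne = c := by
  induction a using Projectivization.ind with | _ u hu =>
  induction b using Projectivization.ind with | _ v hv =>
  induction c using Projectivization.ind with | _ w hw =>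
  rw [Ne, Projectivization.mk_eq_mk_iff'] at hab hac hbc
  have hd : u 0 * v 1 - v 0 * u 1 ≠ 0 := by
    intro hd
    apply hab
    by_cases h0 : v 0 = 0
    · have h1 : v 1 ≠ 0 := fun h1 => hv (by ext i; fin_cases i <;> simp [h0, h1])
      have hu0 : u 0 = 0 := by simpa [h0, h1] using hd
      exact ⟨u 1 / v 1, by ext i; fin_cases i <;> simp [h0, h1, hu0]⟩
    · refine ⟨u 0 / v 0, ?_⟩
      ext i
      fin_cases i <;> simp [h0]
      field_simp
      linear_combination hd
  let α := (w 0 * v 1 - v 0 * w 1) / (u 0 * v 1 - v 0 * u 1)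
  let β := (u 0 * w 1 - w 0 * u 1) / (u 0 * v 1 - v 0 * u 1)
  have hw0 : α * u 0 + β * v 0 = w 0 := by
    simp only [α, β]
    rw [div_mul_eq_mul_div, div_mul_eq_mul_div, ← add_div, div_eq_iff hd]
    ring
  have hw1 : α * u 1 + β * v 1 = w 1 := by
    simp only [α, β]
    rw [div_mul_eq_mul_div, div_mul_eq_mul_div, ← add_div, div_eq_iff hd]
    ring
  have hα : α ≠ 0 := by
    intro h
    rw [h] at hw0 hw1
    rcases eq_or_ne β 0 with hb | hb
    · exact hw (by ext i; fin_cases i <;> simp [← hw0, ← hw1, hb])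
    · exact hbc ⟨β⁻¹, by ext i; fin_cases i <;> simp [← hw0, ← hw1, hb]⟩
  have hβ : β ≠ 0 := by
    intro h
    rw [h] at hw0 hw1
    exact hac ⟨α⁻¹, by ext i; fin_cases i <;> simp [← hw0, ← hw1, hα]⟩
  refine ⟨GeneralLinearGroup.mkOfDetNeZero !![α * u 0, β * v 0; α * u 1, β * v 1] (by
    rw [det_fin_two_of]
    intro h
    apply hd
    have : α * β * (u 0 * v 1 - v 0 * u 1) = 0 := by linear_combination h
    simpa [hα, hβ] using this), ?_, ?_, ?_⟩
  all_goals
    simp only [pInf, pZero, pOne, Projectivization.PGL.mk_smul_mk, Projectivization.mk_eq_mk_iff']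
  · exact ⟨α, by ext i; fin_cases i <;> simp [Units.smul_def, Matrix.smul_eq_mulVec] <;> ring⟩
  · exact ⟨β, by ext i; fin_cases i <;> simp [Units.smul_def, Matrix.smul_eq_mulVec] <;> ring⟩
  · exact ⟨1, by ext i; fin_cases i <;> simp [Units.smul_def, Matrix.smul_eq_mulVec, hw0, hw1]⟩

lemma eq_one_of_fix_frame {g : ProjGenLinGroup (Fin 2) F} (h0 : g • (pInf : ℙ F (Fin 2 → F)) = pInf)
    (h1 : g • (pZero : ℙ F (Fin 2 → F)) = pZero) (h2 : g • (pOne : ℙ F (Fin 2 → F)) = pOne) :
    g = 1 := by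
  induction g using ProjGenLinGroup.induction_on with | mk A =>
  simp only [pInf, pZero, pOne, Projectivization.PGL.mk_smul_mk,
    Projectivization.mk_eq_mk_iff'] at h0 h1 h2
  obtain ⟨a, ha⟩ := h0
  obtain ⟨b, hb⟩ := h1
  obtain ⟨c, hc⟩ := h2
  have a0 := congr_fun ha 0
  have a1 := congr_fun ha 1
  have b0 := congr_fun hb 0
  have b1 := congr_fun hb 1
  have c0 := congr_fun hc 0
  have c1 := congr_fun hc 1
  simp [Units.smul_def, Matrix.smul_eq_mulVec, vecHead, vecTail, mulVec, dotProduct] at a0 a1 b0 b1 c0 c1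
  rw [← ProjGenLinGroup.mk_one, eq_comm, ProjGenLinGroup.mk_eq_mk_iff]
  have hne : A.1 0 0 ≠ 0 := fun h => (A.isUnit.map detMonoidHom).ne_zero
    (by simp [det_fin_two, h, ← a1])
  refine ⟨Units.mk0 _ hne, Units.ext ?_⟩
  ext i j
  fin_cases i <;> fin_cases j <;>
    simp [GeneralLinearGroup.scalar, ← a1, ← b0] <;> grind

/-- A group mapping onto `PGL_2` compatibly is 3-transitive. -/
theorem isMultiplyPretransitive_three {G : Type*} [Group G] [MulAction G (ℙ F (Fin 2 → F))]
    (h : ∀ g : ProjGenLinGroup (Fin 2) F, ∃ x : G, ∀ p : ℙ F (Fin 2 → F), x • p = g • p) :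
    MulAction.IsMultiplyPretransitive G (ℙ F (Fin 2 → F)) 3 := by
  rw [MulAction.isMultiplyPretransitive_iff]
  intro x y
  have ne : ∀ (z : Fin 3 ↪ ℙ F (Fin 2 → F)) (i j : Fin 3), i ≠ j → z i ≠ z j :=
    fun z i j hij => z.injective.ne hij
  obtain ⟨g, g0, g1, g2⟩ :=
    exists_GL2_frame (ne x 0 1 (by decide)) (ne x 0 2 (by decide)) (ne x 1 2 (by decide))
  obtain ⟨k, k0, k1, k2⟩ :=
    exists_GL2_frame (ne y 0 1 (by decide)) (ne y 0 2 (by decide)) (ne y 1 2 (by decide))
  obtain ⟨e, he⟩ := h (ProjGenLinGroup.mk k * (ProjGenLinGroup.mk g)⁻¹)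
  refine ⟨e, ?_⟩
  ext i
  change e • x i = y i
  rw [he, mul_smul]
  fin_cases i
  · simp only [Fin.zero_eta, ← g0, inv_smul_smul, k0]
  · simp only [Fin.mk_one, ← g1, inv_smul_smul, k1]
  · simp only [Fin.reduceFinMk, ← g2, inv_smul_smul, k2]

theorem PGL2_sharply_three :
    MulAction.IsMultiplyPretransitive (ProjGenLinGroup (Fin 2) F) (ℙ F (Fin 2 → F)) 3 ∧
      ∀ (g : ProjGenLinGroup (Fin 2) F) (a b c : ℙ F (Fin 2 → F)),
        a ≠ b → a ≠ c → b ≠ c → g • a = a → g • b = b → g • c = c → g = 1 := by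
  refine ⟨isMultiplyPretransitive_three fun g => ⟨g, fun _ => rfl⟩, ?_⟩
  intro g a b c hab hac hbc ha hb hc
  obtain ⟨k, k0, k1, k2⟩ := exists_GL2_frame hab hac hbc
  subst k0 k1 k2
  have := eq_one_of_fix_frame
    (g := (ProjGenLinGroup.mk k)⁻¹ * g * ProjGenLinGroup.mk k)
    (by rw [mul_smul, mul_smul, ha, inv_smul_smul]) (by rw [mul_smul, mul_smul, hb, inv_smul_smul])
    (by rw [mul_smul, mul_smul, hc, inv_smul_smul])
  calc g = ProjGenLinGroup.mk k * ((ProjGenLinGroup.mk k)⁻¹ * g * ProjGenLinGroup.mk k)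
        * (ProjGenLinGroup.mk k)⁻¹ := by group
    _ = 1 := by rw [this]; group

theorem SL2_three_transitive_iff [Fintype F] :
    MulAction.IsMultiplyPretransitive (SpecialLinearGroup (Fin 2) F) (ℙ F (Fin 2 → F)) 3
      ↔ ringChar F = 2 := by
  constructor
  · intro h
    by_contra h2
    obtain ⟨ε, hε⟩ := FiniteField.exists_nonsquare h2
    have hε0 : ε ≠ 0 := by rintro rfl; exact hε IsSquare.zero
    rw [MulAction.isMultiplyPretransitive_iff] at h
    have hne : ![(1 : F), ε] ≠ 0 := fun h' => one_ne_zero (congr_fun h' 0)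
    have hinj : ∀ z : ℙ F (Fin 2 → F), z ≠ pInf → z ≠ pZero →
        Function.Injective ![pInf, pZero, z] := by
      intro z h1 h2 i j hij
      fin_cases i <;> fin_cases j <;>
        simp_all [pInf_ne_pZero, (pInf_ne_pZero (F := F)).symm, eq_comm]
    have hq1 : Projectivization.mk F ![(1 : F), ε] hne ≠ pInf := by
      rw [pInf, Ne, Projectivization.mk_eq_mk_iff']
      rintro ⟨a, ha⟩
      exact hε0 (by simpa using (congr_fun ha 1).symm)
    have hq2 : Projectivization.mk F ![(1 : F), ε] hne ≠ pZero := by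
      rw [pZero, Ne, Projectivization.mk_eq_mk_iff']
      rintro ⟨a, ha⟩
      simpa using congr_fun ha 0
    obtain ⟨s, hs⟩ := h ⟨_, hinj pOne pInf_ne_pOne.symm pZero_ne_pOne.symm⟩ ⟨_, hinj _ hq1 hq2⟩
    have s0 : s • (pInf : ℙ F (Fin 2 → F)) = pInf := congrArg (fun e => e 0) hs
    have s1 : s • (pZero : ℙ F (Fin 2 → F)) = pZero := congrArg (fun e => e 1) hs
    have s2 : s • (pOne : ℙ F (Fin 2 → F)) = Projectivization.mk F ![(1 : F), ε] hne :=
      congrArg (fun e => e 2) hs
    simp only [pInf, pZero, pOne, Projectivization.smul_mk,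
      Projectivization.mk_eq_mk_iff'] at s0 s1 s2
    obtain ⟨a, ha⟩ := s0
    obtain ⟨b, hb⟩ := s1
    obtain ⟨c, hc⟩ := s2
    have a1 := congr_fun ha 1
    have b0 := congr_fun hb 0
    have c0 := congr_fun hc 0
    have c1 := congr_fun hc 1
    have e : ∀ v : Fin 2 → F, s • v = s.1 *ᵥ v := fun _ => rfl
    simp [e, vecHead, vecTail, mulVec, dotProduct] at a1 b0 c0 c1
    have hd := (det_fin_two s.1).symm.trans s.2
    rw [← a1, ← b0] at hd
    rw [← b0, add_zero] at c0
    rw [← a1, zero_add, c0] at c1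
    exact hε ⟨s.1 1 1, by linear_combination s.1 1 1 * c1 - ε * hd⟩
  · intro h2
    apply isMultiplyPretransitive_three
    intro g
    obtain ⟨x, rfl⟩ := ProjectiveSpecialLinearGroup.toPGL_surj_of_roots (R := F) (n := Fin 2)
      (fun r => by
        obtain ⟨k, hk⟩ := FiniteField.isSquare_of_char_two h2 (r : F)
        refine ⟨Units.mk0 k (fun h => r.ne_zero (by rw [hk, h, mul_zero])), ?_⟩
        ext
        simp [hk, pow_two]) g
    induction x using QuotientGroup.induction_on with | H s =>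
    refine ⟨s, fun p => ?_⟩
    induction p using Projectivization.ind with | _ v hv =>
    rfl

end Cfsg.Agent.Linear
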