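import Mathlib

/-!
# The commutant of a regular nilpotent skew endomorphism
-/

set_option autoImplicit false
set_option linter.unusedSectionVars false

namespace Cfsg.Agent.Linear.RegSkew

open Module

variable {F V : Type*} [Field F] [AddCommGroup V] [Module F V] [FiniteDimensional F V]

/-- A nilpotent endomorphism with a single Jordan block, with a cyclic vector. -/
structure Cyc (z : Module.End F V) (v : V) (e : ℕ) : Prop where
  rank : finrank F V = e + 1
  nil : z ^ (e + 1) = 0
  top : (z ^ e) v ≠ 0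

/-- Polynomials in `z`. -/
def el (z : Module.End F V) {d : ℕ} (c : Fin d → F) : Module.End F V := ∑ i, c i • z ^ i.1

theorem commute_el (z : Module.End F V) {d : ℕ} (c : Fin d → F) : Commute (el z c) z :=
  Commute.sum_left _ _ _ fun _ _ => ((Commute.refl z).pow_left _).smul_left _

theorem commute_el_el (z : Module.End F V) {d : ℕ} (b c : Fin d → F) : Commute (el z b) (el z c) :=
  Commute.sum_right _ _ _ fun _ _ => ((commute_el z b).pow_right _).smul_right _

theorem el_apply (z : Module.End F V) {d : ℕ} (c : Fin d → F) (p : V) : el z c p = ∑ i, c i • (z ^ i.1) p := by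
  simp [el, LinearMap.sum_apply]

variable {z : Module.End F V} {v : V} {e : ℕ}

theorem Cyc.pow_eq_zero (h : Cyc z v e) {j : ℕ} (hj : e < j) : z ^ j = 0 := pow_eq_zero_of_le hj h.nil

theorem Cyc.el_eq_zero (h : Cyc z v e) {c : Fin (e + 1) → F} (hc : el z c v = 0) : c = 0 := by
  funext i
  obtain ⟨n, hn⟩ : ∃ n, i.1 = n := ⟨_, rfl⟩
  induction n using Nat.strong_induction_on generalizing i with
  | _ n ih' =>
    obtain ⟨j, rfl⟩ : ∃ j, j = i := ⟨_, rfl⟩
    have ih : ∀ i : Fin (e + 1), i < j → c i = 0 := fun i hi => ih' i.1 (hn ▸ hi) i rfl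
    have h1 := congrArg (z ^ (e - j.1)) hc
    rw [el_apply, map_sum, map_zero, Finset.sum_eq_single j (fun i _ hij => ?_) (by simp)] at h1
    · rw [map_smul, ← Module.End.mul_apply, ← pow_add, Nat.sub_add_cancel (by omega)] at h1
      exact (smul_eq_zero.1 h1).resolve_right h.top
    · rcases lt_or_gt_of_ne hij with hlt | hgt
      · rw [ih i hlt]; simp
      · rw [map_smul, ← Module.End.mul_apply, ← pow_add, h.pow_eq_zero (by omega : e < e - j.1 + i.1)]
        simp

theorem Cyc.el_injective (h : Cyc z v e) {b c : Fin (e + 1) → F} (hbc : el z b v = el z c v) : b = c := by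
  refine sub_eq_zero.1 (h.el_eq_zero ?_)
  rw [el_apply] at hbc ⊢
  rw [el_apply] at hbc
  simp only [Pi.sub_apply, sub_smul, Finset.sum_sub_distrib, hbc, sub_self]

theorem Cyc.el_surjective (h : Cyc z v e) (p : V) : ∃ c : Fin (e + 1) → F, el z c v = p := by
  let φ : (Fin (e + 1) → F) →ₗ[F] V :=
    { toFun := fun c => el z c v
      map_add' := fun b c => by simp [el_apply, add_smul, Finset.sum_add_distrib]
      map_smul' := fun s c => by simp [el_apply, mul_smul, Finset.smul_sum] }
  exact ((LinearMap.injective_iff_surjective_of_finrank_eq_finrank (f := φ) (by rw [finrank_fin_fun, h.rank])).1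
    fun _ _ hbc => h.el_injective hbc) p

theorem Cyc.exists_el (h : Cyc z v e) {x : Module.End F V} (hx : Commute x z) : ∃ c : Fin (e + 1) → F, x = el z c := by
  obtain ⟨c, hc⟩ := h.el_surjective (x v)
  refine ⟨c, LinearMap.ext fun p => ?_⟩
  obtain ⟨b, rfl⟩ := h.el_surjective p
  have hxb : Commute x (el z b) := Commute.sum_right _ _ _ fun _ _ => (hx.pow_right _).smul_right _
  calc x (el z b v) = el z b (x v) := LinearMap.congr_fun hxb.eq v
    _ = el z b (el z c v) := by rw [hc]
    _ = el z c (el z b v) := LinearMap.congr_fun (commute_el_el z b c).eq v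

theorem Cyc.commute_of_commute (h : Cyc z v e) {x y : Module.End F V} (hx : Commute x z) (hy : Commute y z) :
    Commute x y := by
  obtain ⟨b, rfl⟩ := h.exists_el hx
  obtain ⟨c, rfl⟩ := h.exists_el hy
  exact commute_el_el z b c

theorem Cyc.el_eigen (h : Cyc z v e) (c : Fin (e + 1) → F) : el z c ((z ^ e) v) = c 0 • (z ^ e) v := by
  rw [el_apply, Finset.sum_eq_single 0 (fun i _ hi => ?_) (by simp)]
  · simp
  · rw [← Module.End.mul_apply, ← pow_add, h.pow_eq_zero (by
      have : i.1 ≠ 0 := fun h0 => hi (Fin.ext h0)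
      omega)]
    simp

theorem Cyc.isUnit_el (h : Cyc z v e) {c : Fin (e + 1) → F} (hc : c 0 ≠ 0) : IsUnit (el z c) := by
  rw [el, Fin.sum_univ_succ, Fin.val_zero, pow_zero]
  have hr : Commute z (∑ i : Fin e, c i.succ • z ^ i.1) :=
    Commute.sum_right _ _ _ fun _ _ => ((Commute.refl z).pow_right _).smul_right _
  have hs : (∑ i : Fin e, c i.succ • z ^ i.succ.1) = z * ∑ i : Fin e, c i.succ • z ^ i.1 := by
    rw [Finset.mul_sum]
    exact Finset.sum_congr rfl fun i _ => by rw [mul_smul_comm, Fin.val_succ, pow_succ']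
  rw [hs]
  refine IsNilpotent.isUnit_add_left_of_commute ⟨e + 1, by rw [hr.mul_pow, h.nil, zero_mul]⟩
    (IsUnit.smul (Units.mk0 _ hc) isUnit_one) ?_
  exact (Commute.one_right _).smul_right _

variable (z) in
/-- The units commuting with `z`. -/
def GA : Subgroup (Module.End F V)ˣ where
  carrier := {g | Commute g.1 z}
  one_mem' := Commute.one_left z
  mul_mem' := fun ha hb => Commute.mul_left ha hb
  inv_mem' := fun ha => Commute.units_inv_left ha

theorem Cyc.ne_zero (h : Cyc z v e) {x : (Module.End F V)ˣ} {c : F} (hc : x.1 ((z ^ e) v) = c • (z ^ e) v) : c ≠ 0 := by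
  rintro rfl
  refine h.top ?_
  have := congrArg (x⁻¹ : (Module.End F V)ˣ).1 hc
  rwa [← Module.End.mul_apply, ← Units.val_mul, inv_mul_cancel, Units.val_one, Module.End.one_apply, zero_smul,
    map_zero] at this

/-- The eigenvalue character on the socle. -/
theorem Cyc.exists_char (h : Cyc z v e) :
    ∃ χ : GA z →* Fˣ, ∀ x : GA z, x.1.1 ((z ^ e) v) = (χ x : F) • (z ^ e) v := by
  have hex : ∀ x : GA z, ∃ s : F, x.1.1 ((z ^ e) v) = s • (z ^ e) v := fun x => by
    obtain ⟨c, hc⟩ := h.exists_el x.2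
    exact ⟨c 0, by rw [hc]; exact h.el_eigen c⟩
  choose s hs using hex
  refine ⟨MonoidHom.mk' (fun x => Units.mk0 (s x) (h.ne_zero (hs x))) fun x y => Units.ext ?_, hs⟩
  refine smul_left_injective F h.top ?_
  show s (x * y) • (z ^ e) v = (s x * s y) • (z ^ e) v
  rw [← hs (x * y), mul_comm, mul_smul, ← hs x, ← map_smul, ← hs y]
  rfl

theorem Cyc.char_eq (h : Cyc z v e) {χ : GA z →* Fˣ} (hχ : ∀ x : GA z, x.1.1 ((z ^ e) v) = (χ x : F) • (z ^ e) v)
    (x : GA z) {c : Fin (e + 1) → F} (hc : x.1.1 = el z c) : (χ x : F) = c 0 := by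
  refine smul_left_injective F h.top ?_
  show (χ x : F) • (z ^ e) v = c 0 • (z ^ e) v
  rw [← hχ, hc, h.el_eigen]

/-- The scalars. -/
noncomputable def sc (z : Module.End F V) : Fˣ →* GA z :=
  (Units.map (algebraMap F (Module.End F V)).toMonoidHom).codRestrict _ fun s => Algebra.commute_algebraMap_left (s : F) z

theorem sc_apply (s : Fˣ) (p : V) : (sc z s).1.1 p = (s : F) • p := rfl

theorem Cyc.card_GA [Fintype F] (h : Cyc z v e) {q : ℕ} (hq : Fintype.card F = q) :
    Nat.card (GA z) = (q - 1) * q ^ e := by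
  classical
  let f : Fˣ × (Fin e → F) → GA z := fun x =>
    ⟨(h.isUnit_el (c := Fin.cons (x.1 : F) x.2) x.1.ne_zero).unit, commute_el z _⟩
  have hf : Function.Bijective f := by
    refine ⟨fun x y hxy => ?_, fun g => ?_⟩
    · have h1 : el z (Fin.cons (x.1 : F) x.2) = el z (Fin.cons (y.1 : F) y.2) := congrArg (fun g : GA z => g.1.1) hxy
      have h2 := Fin.cons_inj.1 (h.el_injective (LinearMap.congr_fun h1 v))
      exact Prod.ext (Units.ext h2.1) h2.2
    · obtain ⟨c, hc⟩ := h.exists_el g.2
      refine ⟨(Units.mk0 (c 0) (h.ne_zero (x := g.1) (by rw [hc]; exact h.el_eigen c)), Fin.tail c), ?_⟩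
      refine Subtype.ext (Units.ext ?_)
      show el z (Fin.cons (c 0) (Fin.tail c)) = g.1.1
      rw [Fin.cons_self_tail, hc]
  rw [← Nat.card_congr (Equiv.ofBijective f hf), Nat.card_prod, Nat.card_units, Nat.card_fun, Nat.card_fin,
    Nat.card_eq_fintype_card, hq]

section Form

variable (B : LinearMap.BilinForm F V)

/-- `a'` is the adjoint of `a`. -/
def Adj (a a' : Module.End F V) : Prop := ∀ p q, B (a p) q = B p (a' q)

variable {B}

theorem Adj.unique (hB : B.Nondegenerate) {a a' a'' : Module.End F V} (h1 : Adj B a a') (h2 : Adj B a a'') :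
    a' = a'' := LinearMap.ext fun q => sub_eq_zero.1 (hB.2 _ fun p => by rw [map_sub, ← h1, ← h2, sub_self])

theorem Adj.mul {a a' b b' : Module.End F V} (h1 : Adj B a a') (h2 : Adj B b b') : Adj B (a * b) (b' * a') :=
  fun p q => by rw [Module.End.mul_apply, h1, h2]; rfl

theorem Adj.one : Adj B 1 1 := fun _ _ => rfl

theorem Adj.pow {a : Module.End F V} (h : Adj B a a) : ∀ n : ℕ, Adj B (a ^ n) (a ^ n)
  | 0 => by simpa using Adj.one
  | n + 1 => by
    have := (Adj.pow h n).mul h
    rwa [← pow_succ, ← pow_succ'] at this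

theorem Adj.smul {a a' : Module.End F V} (s : F) (h : Adj B a a') : Adj B (s • a) (s • a') := fun p q => by
  simp [h p q]

theorem adj_scalar (s : F) : Adj B (s • (1 : Module.End F V)) (s • (1 : Module.End F V)) := Adj.one.smul s

theorem adj_el (hz : Adj B z (-z)) {d : ℕ} (c : Fin d → F) :
    Adj B (el z c) (el z fun i => (-1 : F) ^ i.1 * c i) := by
  have hpow : ∀ n : ℕ, Adj B (z ^ n) (((-1 : F) ^ n) • z ^ n) := by
    intro n
    induction n with
    | zero => simpa using Adj.one
    | succ n ih =>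
      have := ih.mul hz
      rw [← pow_succ, neg_mul, mul_smul_comm, ← pow_succ'] at this
      convert this using 1
      rw [pow_succ' (-1 : F), mul_smul, neg_one_smul]
  intro p q
  simp only [el_apply, map_sum, LinearMap.sum_apply, map_smul, LinearMap.smul_apply]
  refine Finset.sum_congr rfl fun i _ => ?_
  rw [hpow i.1 p q, LinearMap.smul_apply, map_smul, smul_smul, smul_eq_mul, smul_eq_mul, mul_comm (c i)]

variable [Fintype F]

/-- An element of the group fixed by the adjoint and with square eigenvalue is a square of a fixed one. -/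
theorem exists_root (h : Cyc z v e) {q : ℕ} (hq : Fintype.card F = q) (hodd : Odd q) {χ : GA z →* Fˣ}
    (hχ : ∀ x : GA z, x.1.1 ((z ^ e) v) = (χ x : F) • (z ^ e) v) (a : GA z) (ha : Adj B a.1.1 a.1.1)
    (hs : IsSquare (χ a)) : ∃ y : GA z, Adj B y.1.1 y.1.1 ∧ y * y = a := by
  classical
  haveI : Finite (GA z) := Nat.finite_of_card_ne_zero (by
    have := Fintype.one_lt_card (α := F)
    rw [h.card_GA hq]
    exact Nat.mul_ne_zero (by omega) (pow_ne_zero _ (by omega)))
  have hχsc : ∀ s : Fˣ, χ (sc z s) = s := fun s => Units.ext (smul_left_injective F h.top (hχ (sc z s)).symm)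
  have hU : Nat.card χ.ker = q ^ e := by
    have h1 := χ.ker.card_mul_index
    rw [Subgroup.index_ker, MonoidHom.range_eq_top.2 fun s => ⟨sc z s, hχsc s⟩, Subgroup.card_top, h.card_GA hq,
      Nat.card_units, Nat.card_eq_fintype_card (α := F), hq, mul_comm _ (q ^ e)] at h1
    exact Nat.eq_of_mul_eq_mul_right (by have := Fintype.one_lt_card (α := F); omega) h1
  obtain ⟨s, hs⟩ := hs
  set b : GA z := sc z (s⁻¹ * s⁻¹) * a
  have hb : b ∈ χ.ker := by
    rw [MonoidHom.mem_ker, map_mul, hχsc, hs, mul_mul_mul_comm, inv_mul_cancel, one_mul]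
  obtain ⟨r, hr⟩ := (hodd.pow : Odd (q ^ e))
  have hbr : b ^ (r + 1) * b ^ (r + 1) = b := by
    have h1 : (⟨b, hb⟩ : χ.ker) ^ (q ^ e) = 1 := hU ▸ pow_card_eq_one'
    have h2 : b ^ (q ^ e) = 1 := congrArg Subtype.val h1
    rw [← pow_add, show r + 1 + (r + 1) = q ^ e + 1 by omega, pow_succ, h2, one_mul]
  have hscadj : ∀ t : Fˣ, Adj B (sc z t).1.1 (sc z t).1.1 := fun t p q => by
    rw [sc_apply, sc_apply, map_smul, LinearMap.smul_apply, map_smul]
  have hcomm : ∀ x y : GA z, x * y = y * x := fun x y => Subtype.ext (Units.ext (h.commute_of_commute x.2 y.2).eq)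
  have hbadj : Adj B b.1.1 b.1.1 := by
    have := (hscadj (s⁻¹ * s⁻¹)).mul ha
    have e2 : a.1.1 * (sc z (s⁻¹ * s⁻¹)).1.1 = b.1.1 := congrArg (fun x : GA z => x.1.1) (hcomm a (sc z (s⁻¹ * s⁻¹)))
    rw [e2] at this
    exact this
  refine ⟨sc z s * b ^ (r + 1), ?_, ?_⟩
  · have h1 : Adj B (b ^ (r + 1)).1.1 (b ^ (r + 1)).1.1 := by
      simp only [SubmonoidClass.coe_pow, Units.val_pow_eq_pow_val]
      exact hbadj.pow _
    have h2 := (hscadj s).mul h1
    have e2 : (b ^ (r + 1)).1.1 * (sc z s).1.1 = (sc z s * b ^ (r + 1)).1.1 :=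
      congrArg (fun x : GA z => x.1.1) (hcomm (b ^ (r + 1)) (sc z s))
    rw [e2] at h2
    exact h2
  · calc sc z s * b ^ (r + 1) * (sc z s * b ^ (r + 1)) = sc z s * (b ^ (r + 1) * sc z s) * b ^ (r + 1) := by
          simp only [mul_assoc]
      _ = sc z s * sc z s * (b ^ (r + 1) * b ^ (r + 1)) := by rw [hcomm (b ^ (r + 1))]; simp only [mul_assoc]
      _ = a := by
        rw [hbr, ← map_mul, ← mul_assoc, ← map_mul, mul_mul_mul_comm, mul_inv_cancel, one_mul, map_one, one_mul]

/-- The number of isometries commuting with a regular nilpotent skew map. -/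
theorem card_isometries {k : ℕ} (h : Cyc z v (2 * k + 1)) {q : ℕ} (hq : Fintype.card F = q) (hodd : Odd q)
    (h2 : (2 : F) ≠ 0) (hB : B.Nondegenerate) (hz : Adj B z (-z)) :
    Nat.card {x : GA z // ∀ p p', B (x.1.1 p) (x.1.1 p') = B p p'} = 2 * q ^ (k + 1) := by
  classical
  have hq1 : 1 < q := hq ▸ Fintype.one_lt_card
  haveI : Finite (GA z) := Nat.finite_of_card_ne_zero (by
    rw [h.card_GA hq]
    exact Nat.mul_ne_zero (by omega) (pow_ne_zero _ (by omega)))
  obtain ⟨χ, hχ⟩ := h.exists_char
  choose co hco using fun x : GA z => h.exists_el x.2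
  let ad : GA z → Module.End F V := fun x => el z fun i => (-1 : F) ^ i.1 * co x i
  have had : ∀ x, Adj B x.1.1 (ad x) := fun x => by
    nth_rewrite 1 [hco x]; exact adj_el hz _
  have hadc : ∀ x, Commute (ad x) z := fun x => commute_el z _
  have had1 : ad 1 = 1 := (had 1).unique hB Adj.one
  have hadm : ∀ x y, ad (x * y) = ad y * ad x := fun x y => (had (x * y)).unique hB ((had x).mul (had y))
  let N₀ : GA z →* Module.End F V :=
    { toFun := fun x => ad x * x.1.1
      map_one' := by rw [had1]; exact one_mul _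
      map_mul' := fun x y => by
        show ad (x * y) * (x.1.1 * y.1.1) = ad x * x.1.1 * (ad y * y.1.1)
        rw [hadm, ← mul_assoc, ← mul_assoc,
          show ad y * ad x * x.1.1 = ad x * x.1.1 * ad y by
            rw [mul_assoc, (h.commute_of_commute (hadc y) ((hadc x).mul_left x.2)).eq]] }
  let N : GA z →* GA z := N₀.toHomUnits.codRestrict _ fun x => (hadc x).mul_left x.2
  have hker : ∀ x : GA z, x ∈ N.ker ↔ ∀ p p', B (x.1.1 p) (x.1.1 p') = B p p' := fun x => by
    rw [MonoidHom.mem_ker]
    constructor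
    · intro hx p p'
      have h1 : ad x * x.1.1 = 1 := congrArg (fun g : GA z => g.1.1) hx
      rw [had x, ← Module.End.mul_apply, h1, Module.End.one_apply]
    · intro hx
      refine Subtype.ext (Units.ext ?_)
      show ad x * x.1.1 = 1
      refine LinearMap.ext fun p' => sub_eq_zero.1 (hB.2 _ fun p => ?_)
      rw [map_sub, Module.End.mul_apply, ← had x, hx, Module.End.one_apply, sub_self]
  let sq : Subgroup Fˣ := (powMonoidHom 2 : Fˣ →* Fˣ).range
  have hsq : Nat.card sq * 2 = q - 1 := by
    have h1 := (powMonoidHom 2 : Fˣ →* Fˣ).ker.card_mul_index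
    rw [Subgroup.index_ker, Nat.card_units, Nat.card_eq_fintype_card (α := F), hq] at h1
    rw [← h1, mul_comm]
    congr 1
    have hne : (-1 : Fˣ) ≠ 1 := fun hh => h2 (by
      have := congrArg Units.val hh
      simp only [Units.val_neg, Units.val_one] at this
      linear_combination -this)
    have hset : ((powMonoidHom 2 : Fˣ →* Fˣ).ker : Set Fˣ) = {1, -1} := by
      ext s
      simp only [SetLike.mem_coe, MonoidHom.mem_ker, powMonoidHom_apply, Set.mem_insert_iff, Set.mem_singleton_iff]
      rw [Units.ext_iff, Units.ext_iff, Units.ext_iff, Units.val_pow_eq_pow_val, Units.val_one, Units.val_neg,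
        Units.val_one, sq_eq_one_iff]
    have h3 := Nat.card_coe_set_eq ((powMonoidHom 2 : Fˣ →* Fˣ).ker : Set Fˣ)
    rw [hset, Set.ncard_pair hne.symm, ← hset] at h3
    exact h3.symm
  let ev : Fˣ → (Fin k → F) → Fin (2 * k + 1 + 1) → F := fun s r i =>
    if i.1 % 2 = 0 then (Fin.cons (s : F) r : Fin (k + 1) → F) ⟨i.1 / 2, by omega⟩ else 0
  have hev0 : ∀ s r, ev s r 0 = (s : F) := fun s r => by simp [ev]
  have hfix : ∀ s r, Adj B (el z (ev s r)) (el z (ev s r)) := fun s r => by
    have e1 : (fun i : Fin (2 * k + 1 + 1) => (-1 : F) ^ i.1 * ev s r i) = ev s r := funext fun i => by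
      simp only [ev]
      split_ifs with hi
      · rw [(Nat.even_iff.2 hi).neg_one_pow, one_mul]
      · rw [mul_zero]
    have := adj_el hz (ev s r)
    rwa [e1] at this
  let f : sq × (Fin k → F) → N.range := fun x =>
    ⟨⟨(h.isUnit_el (c := ev x.1.1 x.2) (by rw [hev0]; exact x.1.1.ne_zero)).unit, commute_el z _⟩, by
      have hχ' : χ ⟨(h.isUnit_el (c := ev x.1.1 x.2) (by rw [hev0]; exact x.1.1.ne_zero)).unit, commute_el z _⟩ = x.1.1 :=
        Units.ext ((h.char_eq hχ _ rfl).trans (hev0 _ _))
      obtain ⟨t, ht⟩ := x.1.2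
      obtain ⟨y, hy, hyy⟩ := exists_root h hq hodd hχ _ (hfix x.1.1 x.2)
        (by rw [hχ', ← ht, powMonoidHom_apply, pow_two]; exact ⟨t, rfl⟩)
      refine ⟨y, Subtype.ext (Units.ext ?_)⟩
      show ad y * y.1.1 = _
      rw [(had y).unique hB hy]
      exact congrArg (fun g : GA z => g.1.1) hyy⟩
  have hf : Function.Bijective f := by
    refine ⟨fun x x' hxx => ?_, fun ⟨g, hg⟩ => ?_⟩
    · have h1 : el z (ev x.1.1 x.2) = el z (ev x'.1.1 x'.2) := congrArg (fun g : N.range => g.1.1.1) hxx
      have h3 := h.el_injective (LinearMap.congr_fun h1 v)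
      have h4 : ∀ j : Fin (k + 1), (Fin.cons (x.1.1 : F) x.2 : Fin (k + 1) → F) j = (Fin.cons (x'.1.1 : F) x'.2 : Fin (k + 1) → F) j := fun j => by
        have := congrFun h3 ⟨2 * j.1, by omega⟩
        simpa [ev] using this
      obtain ⟨h5, h6⟩ := Fin.cons_inj.1 (funext h4)
      exact Prod.ext (Subtype.ext (Units.ext h5)) h6
    · obtain ⟨y, rfl⟩ := hg
      obtain ⟨c, hc⟩ := h.exists_el (N y).2
      have hself : Adj B (N y).1.1 (N y).1.1 := by
        have h1 : (N y).1.1 = ad y * y.1.1 := rfl
        intro p p'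
        rw [h1, Module.End.mul_apply, Module.End.mul_apply, ← had y]
        have hsym : ∀ p p', B (ad y p) p' = B p (y.1.1 p') := by
          have h2 : Adj B (ad y) y.1.1 := by
            have h3 := adj_el hz fun i => (-1 : F) ^ i.1 * co y i
            simp only [← mul_assoc, ← mul_pow, neg_mul, one_mul, neg_neg, one_pow, one_mul] at h3
            rw [hco y]
            exact h3
          exact h2
        rw [hsym]
      have hodd0 : ∀ i : Fin (2 * k + 1 + 1), i.1 % 2 = 1 → c i = 0 := fun i hi => by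
        rw [hc] at hself
        have := congrFun (h.el_injective (LinearMap.congr_fun ((adj_el hz c).unique hB hself) v)) i
        rw [(Nat.odd_iff.2 hi).neg_one_pow] at this
        exact (mul_eq_zero.1 (show (2 : F) * c i = 0 by linear_combination -this)).resolve_left h2
      have hc0 : χ (N y) = χ y * χ y := by
        refine Units.ext ((h.char_eq hχ (N y) hc).trans ?_)
        have h1 : c 0 • (z ^ (2 * k + 1)) v = ((co y 0) * co y 0) • (z ^ (2 * k + 1)) v := by
          rw [← h.el_eigen c, ← hc]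
          show (ad y * y.1.1) _ = _
          rw [Module.End.mul_apply, hco y, h.el_eigen, map_smul]
          show co y 0 • el z _ _ = _
          rw [h.el_eigen, smul_smul, Fin.val_zero, pow_zero, one_mul]
        rw [Units.val_mul, h.char_eq hχ y (hco y)]
        exact smul_left_injective F h.top h1
      refine ⟨(⟨χ (N y), χ y, by rw [powMonoidHom_apply, pow_two, hc0]⟩, fun j => c ⟨2 * (j.1 + 1), by omega⟩), ?_⟩
      refine Subtype.ext (Subtype.ext (Units.ext ?_))
      show el z (ev (χ (N y)) _) = (N y).1.1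
      rw [hc]
      congr 1
      funext i
      simp only [ev]
      split_ifs with hi
      · obtain ⟨j, hj⟩ : ∃ j, i.1 = 2 * j := ⟨i.1 / 2, by omega⟩
        rcases j with _ | j
        · have : i = 0 := Fin.ext (hj.trans (by simp))
          subst this
          simpa using h.char_eq hχ (N y) hc
        · have : (⟨i.1 / 2, by omega⟩ : Fin (k + 1)) = (⟨j, by omega⟩ : Fin k).succ := Fin.ext (by simp; omega)
          rw [this, Fin.cons_succ]
          exact congrArg c (Fin.ext (by simp; omega))
      · exact (hodd0 i (by omega)).symm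
  have hrange : Nat.card N.range = Nat.card sq * q ^ k := by
    rw [← Nat.card_congr (Equiv.ofBijective f hf), Nat.card_prod, Nat.card_fun, Nat.card_fin, Nat.card_eq_fintype_card (α := F), hq]
  have hmain := N.ker.card_mul_index
  rw [Subgroup.index_ker, hrange, h.card_GA hq, ← hsq] at hmain
  rw [← Nat.card_congr (Equiv.subtypeEquivRight hker)]
  have hpos : 0 < Nat.card sq * q ^ k := by
    refine Nat.mul_pos (by omega) (pow_pos (by omega) _)
  refine Nat.eq_of_mul_eq_mul_right hpos (hmain.trans ?_)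
  ring

end Form

end Cfsg.Agent.Linear.RegSkew
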