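import Cfsg.Agent.Linear.PSL2Subgroups
import Cfsg.Agent.S0206
import Cfsg.Agent.S0494
import Mathlib

/-!
# Finite groups acting with two fixed points for each non-trivial element and cyclic stabilisers

The classical argument for the finite rotation groups: cyclic, dihedral, `A₄`, `S₄`, `A₅`.
-/

set_option autoImplicit false
set_option linter.unusedSectionVars false

namespace Cfsg.Agent.Linear.Rotation

open MulAction

/-- Every non-trivial element fixes two points, the stabilisers are non-trivial and cyclic. -/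
structure IsRotation (G : Type*) (Ω : Type*) [Group G] [MulAction G Ω] : Prop where
  fix : ∀ g : G, g ≠ 1 → Nat.card (fixedBy Ω g) = 2
  pt : ∀ x : Ω, stabilizer G x ≠ ⊥
  cyc : ∀ x : Ω, IsCyclic (stabilizer G x)

variable {G Ω : Type*} [Group G] [Finite G] [MulAction G Ω] [Finite Ω]

/-- The order of the stabiliser. -/
noncomputable def st (G : Type*) {Ω : Type*} [Group G] [MulAction G Ω] (x : Ω) : ℕ := Nat.card (stabilizer G x)

theorem orbit_mul_st (x : Ω) : Nat.card (orbit G x) * st G x = Nat.card G := by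
  rw [Nat.card_coe_set_eq, ← index_stabilizer, st, Subgroup.index_mul_card]

theorem orbit_mul_st_gen {G Ω : Type*} [Group G] [MulAction G Ω] (x : Ω) :
    Nat.card (orbit G x) * Nat.card (stabilizer G x) = Nat.card G := by
  rw [Nat.card_coe_set_eq, ← index_stabilizer, Subgroup.index_mul_card]

theorem two_le_st (h : IsRotation G Ω) (x : Ω) : 2 ≤ st G x :=
  Subgroup.one_lt_card_iff_ne_bot (stabilizer G x) |>.2 (h.pt x)

theorem exists_fixed (h : IsRotation G Ω) {g : G} (hg : g ≠ 1) : ∃ x : Ω, g ∈ stabilizer G x := by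
  have h2 := h.fix g hg
  obtain ⟨⟨x, hx⟩⟩ : Nonempty (fixedBy Ω g) := (Nat.card_pos_iff.1 (by omega)).1
  exact ⟨x, hx⟩

theorem st_smul (g : G) (x : Ω) : st G (g • x) = st G x := by
  have h1 := orbit_mul_st (G := G) x
  have h2 := orbit_mul_st (G := G) (g • x)
  rw [orbit_smul, ← h1] at h2
  exact Nat.eq_of_mul_eq_mul_left (Nat.card_pos_iff.2 ⟨⟨⟨x, mem_orbit_self x⟩⟩, inferInstance⟩) h2

theorem le_two_of_subset_fixed (h : IsRotation G Ω) {g : G} (hg : g ≠ 1) {S : Set Ω}
    (hS : ∀ x ∈ S, g • x = x) : Nat.card S ≤ 2 := by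
  rw [← h.fix g hg]
  exact Nat.card_mono (Set.toFinite _) hS

/-- Points whose stabilisers lie in `N` are few. -/
theorem bound (h : IsRotation G Ω) (N : Subgroup G) (T : Finset Ω)
    (hT : ∀ x ∈ T, stabilizer G x ≤ N) : ∑ x ∈ T, (st G x - 1) ≤ 2 * (Nat.card N - 1) := by
  classical
  haveI := Fintype.ofFinite G
  set NF : Finset G := (Finset.univ.filter fun g => g ∈ N).erase 1 with hNF
  have hN : NF.card = Nat.card N - 1 := by
    rw [hNF, Finset.card_erase_of_mem (by simp [one_mem]), Nat.card_eq_fintype_card, Fintype.card_subtype]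
  have hlhs : ∀ x ∈ T, st G x - 1 = (NF.filter fun g => g • x = x).card := by
    intro x hx
    rw [st, Nat.card_eq_fintype_card, Fintype.card_subtype,
      ← Finset.card_erase_of_mem (show (1 : G) ∈ Finset.univ.filter fun g => g ∈ stabilizer G x by simp [one_mem])]
    congr 1
    ext g
    simp only [Finset.mem_erase, Finset.mem_filter, Finset.mem_univ, true_and, mem_stabilizer_iff, hNF]
    exact ⟨fun ⟨a, b⟩ => ⟨⟨a, hT x hx b⟩, b⟩, fun ⟨⟨a, _⟩, b⟩ => ⟨a, b⟩⟩
  calc ∑ x ∈ T, (st G x - 1) = ∑ x ∈ T, (NF.filter fun g => g • x = x).card := Finset.sum_congr rfl hlhs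
    _ = ∑ g ∈ NF, (T.filter fun x => g • x = x).card :=
        Finset.sum_card_bipartiteAbove_eq_sum_card_bipartiteBelow fun x g => g • x = x
    _ ≤ ∑ _g ∈ NF, 2 := by
        refine Finset.sum_le_sum fun g hg => ?_
        rw [hNF, Finset.mem_erase] at hg
        have := le_two_of_subset_fixed h hg.1 (S := ↑(T.filter fun x => g • x = x))
          (fun x hx => (Finset.mem_filter.1 hx).2)
        rwa [Nat.card_coe_set_eq, Set.ncard_coe_finset] at this
    _ = _ := by rw [Finset.sum_const, smul_eq_mul, hN, mul_comm]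

/-- A normal subgroup of order divisible by a prime which is the order of every stabiliser it divides. -/
theorem normal_bound (h : IsRotation G Ω) (N : Subgroup G) [hNn : N.Normal] (a : ℕ) [Fact a.Prime]
    (ha : a ∣ Nat.card N) (hst : ∀ x : Ω, a ∣ st G x → st G x = a) :
    Nat.card G * (a - 1) ≤ 2 * (Nat.card N - 1) * a := by
  classical
  haveI := Fintype.ofFinite Ω
  obtain ⟨⟨g, hgN⟩, hg⟩ := exists_prime_orderOf_dvd_card' a ha
  rw [Subgroup.orderOf_mk] at hg
  have hg1 : g ≠ 1 := fun e => (Fact.out : a.Prime).ne_one (by rw [← hg, e, orderOf_one])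
  obtain ⟨x, hx⟩ := exists_fixed h hg1
  have hz : Subgroup.zpowers g ≤ stabilizer G x := Subgroup.zpowers_le.2 hx
  have hsx : st G x = a := hst x (by
    rw [← hg, ← Nat.card_zpowers]; exact Subgroup.card_dvd_of_le hz)
  have hle : stabilizer G x ≤ N := by
    rw [← Subgroup.eq_of_le_of_card_ge hz (by rw [Nat.card_zpowers, hg]; exact le_of_eq hsx)]
    exact Subgroup.zpowers_le.2 hgN
  have hb := bound h N (orbit G x).toFinset fun y hy => by
    obtain ⟨k, rfl⟩ := Set.mem_toFinset.1 hy
    intro t ht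
    have h1 : k⁻¹ * t * k ∈ stabilizer G x := by
      rw [mem_stabilizer_iff, mul_smul, mul_smul, mem_stabilizer_iff.1 ht, inv_smul_smul]
    simpa [mul_assoc] using hNn.conj_mem _ (hle h1) k
  rw [Finset.sum_congr rfl (fun y hy => by
    show st G y - 1 = a - 1
    obtain ⟨k, rfl⟩ := Set.mem_toFinset.1 hy
    rw [st_smul, hsx]), Finset.sum_const, smul_eq_mul, ← Set.ncard_eq_toFinset_card',
    ← Nat.card_coe_set_eq] at hb
  rw [← orbit_mul_st (G := G) x, hsx, mul_right_comm]
  exact Nat.mul_le_mul_right a hb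

theorem burnside (h : IsRotation G Ω) [Fintype (Quotient (orbitRel G Ω))] :
    (∑ q : Quotient (orbitRel G Ω), Nat.card (orbit G q.out)) + 2 * (Nat.card G - 1) =
      Fintype.card (Quotient (orbitRel G Ω)) * Nat.card G := by
  classical
  haveI := Fintype.ofFinite G
  haveI := Fintype.ofFinite Ω
  have hb := sum_card_fixedBy_eq_card_orbits_mul_card_group G Ω
  rw [← Finset.add_sum_erase _ _ (Finset.mem_univ (1 : G))] at hb
  have h1 : Fintype.card (fixedBy Ω (1 : G)) = Nat.card Ω := by
    rw [Nat.card_eq_fintype_card]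
    exact Fintype.card_congr (Equiv.subtypeUnivEquiv fun x => one_smul G x)
  rw [Finset.sum_congr rfl (fun g hg => show Fintype.card (fixedBy Ω g) = 2 by
    rw [← Nat.card_eq_fintype_card]; exact h.fix g (Finset.ne_of_mem_erase hg)), h1, Finset.sum_const,
    smul_eq_mul, Finset.card_erase_of_mem (Finset.mem_univ _), Finset.card_univ,
    Nat.card_congr (selfEquivSigmaOrbits G Ω), Nat.card_sigma, ← Nat.card_eq_fintype_card (α := G),
    mul_comm _ 2] at hb
  convert hb using 2

/-- Three orbit representatives. -/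
def Tri (G : Type*) {Ω : Type*} [Group G] [MulAction G Ω] (u v w : Ω) : Prop :=
  (∀ x : Ω, x ∈ orbit G u ∨ x ∈ orbit G v ∨ x ∈ orbit G w) ∧
    Nat.card (orbit G u) + Nat.card (orbit G v) + Nat.card (orbit G w) = Nat.card G + 2

theorem Tri.swap12 {u v w : Ω} (h : Tri G u v w) : Tri G v u w :=
  ⟨fun x => (h.1 x).elim (fun a => Or.inr (Or.inl a)) (fun a => a.elim Or.inl fun b => Or.inr (Or.inr b)),
    by rw [add_comm (Nat.card (orbit G v))]; exact h.2⟩

theorem Tri.swap23 {u v w : Ω} (h : Tri G u v w) : Tri G u w v :=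
  ⟨fun x => (h.1 x).elim Or.inl (fun a => Or.inr (a.symm)), by rw [add_right_comm]; exact h.2⟩

theorem Tri.st_cases {u v w : Ω} (h : Tri G u v w) (x : Ω) : st G x = st G u ∨ st G x = st G v ∨ st G x = st G w := by
  rcases h.1 x with ⟨g, rfl⟩ | ⟨g, rfl⟩ | ⟨g, rfl⟩ <;> simp [st_smul]

theorem cases_orbits (h : IsRotation G Ω) :
    IsCyclic G ∨ ∃ u v w : Ω, Tri G u v w ∧ st G u = 2 ∧ st G v ≤ st G w := by
  classical
  haveI := Fintype.ofFinite (Quotient (orbitRel G Ω))
  have hb := burnside h
  set k := Fintype.card (Quotient (orbitRel G Ω))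
  set n := Nat.card G with hn
  have hn1 : 1 ≤ n := Nat.card_pos
  have hle : ∀ x : Ω, 2 * Nat.card (orbit G x) ≤ n := fun x => by
    rw [hn, ← orbit_mul_st (G := G) x, mul_comm 2]; exact Nat.mul_le_mul_left _ (two_le_st h x)
  have hpos : ∀ x : Ω, 1 ≤ Nat.card (orbit G x) := fun x =>
    Nat.card_pos_iff.2 ⟨⟨⟨x, mem_orbit_self x⟩⟩, inferInstance⟩
  have hk : k < 4 := by
    by_contra hk
    have h1 : 2 * ∑ q : Quotient (orbitRel G Ω), Nat.card (orbit G q.out) ≤ k * n := by
      rw [Finset.mul_sum]
      refine (Finset.sum_le_sum fun q _ => hle q.out).trans ?_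
      rw [Finset.sum_const, Finset.card_univ, smul_eq_mul]
    have h4 : 4 * n ≤ k * n := Nat.mul_le_mul_right _ (by omega)
    omega
  have hsub : n = 1 → IsCyclic G := fun e => by
    haveI := (Nat.card_eq_one_iff_unique.1 e).1
    infer_instance
  have hk' : k = 0 ∨ k = 1 ∨ k = 2 ∨ k = 3 := by omega
  suffices key : ∀ m, k = m → ∀ e : Quotient (orbitRel G Ω) ≃ Fin m,
      (∑ i, Nat.card (orbit G (e.symm i).out)) + 2 * (n - 1) = m * n →
      (∀ x : Ω, ∃ i, x ∈ orbit G (e.symm i).out) →
      IsCyclic G ∨ ∃ u v w : Ω, Tri G u v w ∧ st G u = 2 ∧ st G v ≤ st G w by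
    let e : Quotient (orbitRel G Ω) ≃ Fin k := Fintype.equivFin _
    refine key k rfl e ?_ fun x => ⟨e (Quotient.mk'' x), ?_⟩
    · rwa [e.symm.sum_comp (fun q => Nat.card (orbit G q.out))]
    · rw [e.symm_apply_apply]
      exact orbitRel_apply.1 ((orbitRel G Ω).symm (Quotient.exact (Quotient.out_eq (Quotient.mk'' x))))
  intro m hm
  obtain rfl | rfl | rfl | rfl : m = 0 ∨ m = 1 ∨ m = 2 ∨ m = 3 := by omega
  · intro e hb _
    simp at hb
    exact Or.inl (hsub (by omega))
  · intro e hb _
    simp only [Fin.sum_univ_one] at hb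
    have := hle (e.symm 0).out
    have := hpos (e.symm 0).out
    exact Or.inl (hsub (by omega))
  · intro e hb _
    simp only [Fin.sum_univ_two] at hb
    have h1 := hpos (e.symm 0).out
    have h2 := hpos (e.symm 1).out
    have ho : Nat.card (orbit G (e.symm 0).out) = 1 := by omega
    have hst := orbit_mul_st (G := G) (e.symm 0).out
    rw [ho, one_mul] at hst
    have htop : stabilizer G (e.symm 0).out = ⊤ := Subgroup.eq_top_of_card_eq _ hst
    haveI := h.cyc (e.symm 0).out
    exact Or.inl (isCyclic_of_surjective (stabilizer G (e.symm 0).out).subtype fun g =>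
      ⟨⟨g, htop ▸ Subgroup.mem_top g⟩, rfl⟩)
  · intro e hb hcov
    right
    simp only [Fin.sum_univ_three] at hb
    set u := (e.symm 0).out
    set v := (e.symm 1).out
    set w := (e.symm 2).out
    have ht : Tri G u v w := ⟨fun x => by
      obtain ⟨i, hi⟩ := hcov x
      fin_cases i
      exacts [Or.inl hi, Or.inr (Or.inl hi), Or.inr (Or.inr hi)], by omega⟩
    have h2 : st G u = 2 ∨ st G v = 2 ∨ st G w = 2 := by
      by_contra hc
      push Not at hc
      have key : ∀ x : Ω, st G x ≠ 2 → Nat.card (orbit G x) * 3 ≤ n := fun x hx => by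
        rw [hn, ← orbit_mul_st (G := G) x]
        exact Nat.mul_le_mul_left _ (by have := two_le_st h x; omega)
      have := key u hc.1; have := key v hc.2.1; have := key w hc.2.2
      have := ht.2
      omega
    have key : ∀ a b c : Ω, Tri G a b c → st G a = 2 →
        ∃ u v w : Ω, Tri G u v w ∧ st G u = 2 ∧ st G v ≤ st G w := fun a b c h' ha => by
      rcases le_total (st G b) (st G c) with hbc | hbc
      exacts [⟨a, b, c, h', ha, hbc⟩, ⟨a, c, b, h'.swap23, ha, hbc⟩]
    rcases h2 with h2 | h2 | h2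
    exacts [key u v w ht h2, key v u w ht.swap12 h2, key w u v ht.swap23.swap12 h2]

/-- The dihedral case. -/
theorem dihedral_case (h : IsRotation G Ω) {u v w : Ω} (ht : Tri G u v w) (hu : st G u = 2)
    (hv : st G v = 2) : ∃ m, 2 ≤ m ∧ Nat.card G = 2 * m ∧ Nonempty (G ≃* DihedralGroup m) ∧
      ∃ g : G, orderOf g = m := by
  have h1 := orbit_mul_st (G := G) u
  have h2 := orbit_mul_st (G := G) v
  have h3 := orbit_mul_st (G := G) w
  have h4 := ht.2
  rw [hu] at h1
  rw [hv] at h2
  have hw2 : Nat.card (orbit G w) = 2 := by omega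
  rw [hw2] at h3
  set C := stabilizer G w with hC
  have hidx : C.index = 2 := by rw [hC, index_stabilizer, ← Nat.card_coe_set_eq, hw2]
  haveI : C.Normal := Subgroup.normal_of_index_eq_two hidx
  haveI := h.cyc w
  obtain ⟨⟨r, hr⟩, hgen⟩ := IsCyclic.exists_generator (α := C)
  have hro : orderOf r = st G w := by
    have h1 := orbit_mul_st (G := G) w
    have := orderOf_injective C.subtype C.subtype_injective ⟨r, hr⟩
    rw [orderOf_eq_card_of_forall_mem_zpowers hgen] at this
    exact this
  have hout : ∀ g : G, g ∉ C → g ≠ 1 ∧ g * g = 1 := by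
    intro g hg
    have hg1 : g ≠ 1 := fun e => hg (e ▸ one_mem C)
    refine ⟨hg1, ?_⟩
    obtain ⟨x, hx⟩ := exists_fixed h hg1
    have hst : st G x = 2 := by
      rcases ht.1 x with ⟨k, rfl⟩ | ⟨k, rfl⟩ | ⟨k, rfl⟩
      · rw [st_smul, hu]
      · rw [st_smul, hv]
      · exfalso
        apply hg
        have h5 : k⁻¹ * g * k ∈ C := by
          rw [hC, mem_stabilizer_iff, mul_smul, mul_smul, mem_stabilizer_iff.1 hx, inv_smul_smul]
        simpa [mul_assoc] using (inferInstance : C.Normal).conj_mem _ h5 k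
    have h6 := pow_card_eq_one' (G := stabilizer G x) (x := ⟨g, hx⟩)
    rw [show Nat.card (stabilizer G x) = 2 from hst, pow_two] at h6
    exact congrArg Subtype.val h6
  obtain ⟨s, hs⟩ : ∃ s : G, s ∉ C := by
    by_contra hall
    push Not at hall
    rw [show C = ⊤ from eq_top_iff.2 fun g _ => hall g, Subgroup.index_top] at hidx
    omega
  have hsr : s * r ∉ C := fun h' => hs (by simpa using mul_mem h' (inv_mem hr))
  obtain ⟨hs1, hss⟩ := hout s hs
  obtain ⟨hsr1, hsrsr⟩ := hout _ hsr
  have hs2 : orderOf s = 2 := orderOf_eq_prime (by rw [pow_two, hss]) hs1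
  have hsr2 : orderOf (s * r) = 2 := orderOf_eq_prime (by rw [pow_two, hsrsr]) hsr1
  have hw := two_le_st h w
  have hne : s ≠ s * r := by
    intro e
    rw [eq_comm, mul_eq_left] at e
    rw [e, orderOf_one] at hro
    omega
  obtain ⟨E⟩ := Cfsg.Agent.S0206.result s (s * r) hs2 hsr2 hne
  have htop : Subgroup.closure ({s, s * r} : Set G) = ⊤ := by
    set D := Subgroup.closure ({s, s * r} : Set G)
    have hsD : s ∈ D := Subgroup.subset_closure (Set.mem_insert _ _)
    have hrD : r ∈ D := by
      have : s * r ∈ D := Subgroup.subset_closure (Set.mem_insert_of_mem _ rfl)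
      simpa using mul_mem (inv_mem hsD) this
    have hCD : C ≤ D := fun c hc => by
      obtain ⟨i, hi⟩ := Subgroup.mem_zpowers_iff.1 (hgen ⟨c, hc⟩)
      have : r ^ i = c := by simpa using congrArg Subtype.val hi
      exact this ▸ zpow_mem hrD i
    rw [eq_top_iff]
    intro g _
    by_cases hg : g ∈ C
    · exact hCD hg
    · have hsg : s * g ∈ C := (Subgroup.mul_mem_iff_of_index_two hidx).2 (iff_of_false hs hg)
      simpa using mul_mem (inv_mem hsD) (hCD hsg)
  rw [show s * (s * r) = r by rw [← mul_assoc, hss, one_mul]] at E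
  refine ⟨orderOf r, hro ▸ hw, by rw [hro]; omega, ?_, r, rfl⟩
  rw [htop] at E
  exact ⟨Subgroup.topEquiv.symm.trans E⟩

theorem four_orbit (h : IsRotation G Ω) {x : Ω} (hx : Nat.card (orbit G x) = 4) (hn : Nat.card G = 12) :
    Nonempty (G ≃* alternatingGroup (Fin 4)) := by
  classical
  haveI := Fintype.ofFinite (orbit G x)
  let e : orbit G x ≃ Fin 4 := Fintype.equivFinOfCardEq (by rw [← Nat.card_eq_fintype_card, hx])
  let f : (⊤ : Subgroup G) →* Equiv.Perm (Fin 4) :=
    ((Equiv.permCongrHom e).toMonoidHom.comp (MulAction.toPermHom G (orbit G x))).comp (Subgroup.topEquiv).toMonoidHom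
  have hf : Function.Injective f := by
    rw [injective_iff_map_eq_one]
    intro g hg
    by_contra hne
    have hne' : (g : G) ≠ 1 := fun e' => hne (Subtype.ext e')
    have h1 : MulAction.toPermHom G (orbit G x) (g : G) = 1 :=
      (Equiv.permCongrHom e).injective (by rw [map_one]; exact hg)
    have := le_two_of_subset_fixed h hne' (S := orbit G x) (fun y hy => by
      simpa using congrArg Subtype.val (congrArg (fun π : Equiv.Perm (orbit G x) => π ⟨y, hy⟩) h1))
    omega
  obtain ⟨E⟩ := iso_alternating_four hf (by rw [Subgroup.card_top, hn])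
  exact ⟨Subgroup.topEquiv.symm.trans E⟩

theorem octahedral (h : IsRotation G Ω) (hst : ∀ x : Ω, st G x = 2 ∨ st G x = 3 ∨ st G x = 4)
    (hn : Nat.card G = 24) : Nonempty (G ≃* Equiv.Perm (Fin 4)) := by
  classical
  haveI := Fact.mk Nat.prime_three
  obtain ⟨P⟩ : Nonempty (Sylow 3 G) := inferInstance
  have hP : Nat.card (P : Subgroup G) = 3 := by
    rw [P.card_eq_multiplicity, hn, show (24 : ℕ) = 2 ^ 3 * 3 from rfl]
    rw [Nat.factorization_mul (by norm_num) (by norm_num)]
    simp [Nat.factorization_pow, Nat.Prime.factorization_self Nat.prime_three, Nat.prime_two.factorization,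
      Nat.factorization_eq_zero_of_not_dvd (show ¬ 3 ∣ 8 by norm_num)]
  have h3 : ∀ x : Ω, 3 ∣ st G x → st G x = 3 := fun x hd => by rcases hst x with e | e | e <;> omega
  have hcnt : Nat.card (Sylow 3 G) = 4 := by
    have hdvd : Nat.card (Sylow 3 G) ∣ 8 := by
      have h1 := P.card_dvd_index
      have h2 := (P : Subgroup G).card_mul_index
      rw [hP, hn] at h2
      rwa [show (P : Subgroup G).index = 8 by omega] at h1
    have hmod : Nat.card (Sylow 3 G) % 3 = 1 := card_sylow_modEq_one 3 G
    have hne : Nat.card (Sylow 3 G) ≠ 1 := fun e => by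
      haveI : (P : Subgroup G).Normal := by
        rw [← Subgroup.normalizer_eq_top_iff, ← Subgroup.index_eq_one]
        exact (P.card_eq_index_normalizer).symm.trans e
      have := normal_bound h (P : Subgroup G) 3 (by rw [hP]) h3
      rw [hn, hP] at this
      omega
    have hle := Nat.le_of_dvd (by norm_num) hdvd
    interval_cases hc : Nat.card (Sylow 3 G) <;> omega
  haveI := Fintype.ofFinite (Sylow 3 G)
  let e : Sylow 3 G ≃ Fin 4 := Fintype.equivFinOfCardEq (by rw [← Nat.card_eq_fintype_card, hcnt])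
  let φ : G →* Equiv.Perm (Sylow 3 G) := MulAction.toPermHom G (Sylow 3 G)
  have hker : ∀ (g : G), g ∈ φ.ker → ∀ Q : Sylow 3 G, g • Q = Q := fun g hg Q =>
    congrArg (fun π : Equiv.Perm (Sylow 3 G) => π Q) (MonoidHom.mem_ker.1 hg)
  have hK6 : Nat.card φ.ker ∣ 6 := by
    have h1 := Subgroup.card_mul_index (Subgroup.normalizer (P : Set G))
    rw [← P.card_eq_index_normalizer, hcnt, hn] at h1
    rw [show 6 = Nat.card (Subgroup.normalizer (P : Set G)) by omega]
    exact Subgroup.card_dvd_of_le fun g hg => Sylow.smul_eq_iff_mem_normalizer.1 (hker g hg P)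
  have hK3 : ¬ 3 ∣ Nat.card φ.ker := by
    intro hd
    obtain ⟨⟨g, hg⟩, ho⟩ := exists_prime_orderOf_dvd_card' 3 hd
    rw [Subgroup.orderOf_mk] at ho
    have hgp : IsPGroup 3 (Subgroup.zpowers g) := IsPGroup.of_card (n := 1) (by rw [Nat.card_zpowers, ho]; norm_num)
    have hall : ∀ Q : Sylow 3 G, (Q : Subgroup G) = Subgroup.zpowers g := by
      intro Q
      have hn' : g ∈ Subgroup.normalizer (Q : Set G) := Sylow.smul_eq_iff_mem_normalizer.1 (hker g hg Q)
      have hgQ : g ∈ (Q : Subgroup G) := by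
        rw [← Q.is_maximal' (IsPGroup.to_sup_of_normal_right' hgp Q.isPGroup' (Subgroup.zpowers_le.2 hn'))
          le_sup_right]
        exact Subgroup.mem_sup_left (Subgroup.mem_zpowers g)
      refine (Subgroup.eq_of_le_of_card_ge (Subgroup.zpowers_le.2 hgQ) ?_).symm
      rw [Nat.card_zpowers, ho, Q.card_eq_multiplicity, ← P.card_eq_multiplicity, hP]
    haveI : Subsingleton (Sylow 3 G) := ⟨fun Q R => Sylow.ext ((hall Q).trans (hall R).symm)⟩
    have := Finite.card_le_one_iff_subsingleton.2 (inferInstance : Subsingleton (Sylow 3 G))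
    omega
  have hK1 : Nat.card φ.ker = 1 := by
    have hle := Nat.le_of_dvd (by norm_num) hK6
    by_contra hne
    have hK2 : Nat.card φ.ker = 2 := by
      have := Nat.card_pos (α := φ.ker)
      interval_cases hc : Nat.card φ.ker <;> omega
    haveI := Fact.mk Nat.prime_two
    obtain ⟨⟨z, hz⟩, ho⟩ := exists_prime_orderOf_dvd_card' (G := φ.ker) 2 (by rw [hK2])
    rw [Subgroup.orderOf_mk] at ho
    have hz1 : z ≠ 1 := fun e' => by rw [e', orderOf_one] at ho; omega
    have hcen : ∀ g : G, g * z = z * g := fun g => by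
      have hmem : g * z * g⁻¹ ∈ φ.ker := (MonoidHom.normal_ker φ).conj_mem z hz g
      have hsub := (Nat.card_eq_two_iff' (1 : φ.ker)).1 hK2
      have hne' : g * z * g⁻¹ ≠ 1 := fun e' => hz1 (by simpa [mul_assoc] using congrArg (fun t => g⁻¹ * t * g) e')
      have := hsub.unique (y₁ := ⟨g * z * g⁻¹, hmem⟩) (y₂ := ⟨z, hz⟩) (fun e' => hne' (congrArg Subtype.val e'))
        (fun e' => hz1 (congrArg Subtype.val e'))
      exact mul_inv_eq_iff_eq_mul.1 (congrArg Subtype.val this)
    obtain ⟨x, hx⟩ := exists_fixed h hz1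
    have hle2 := le_two_of_subset_fixed h hz1 (S := orbit G x) (fun y hy => by
      obtain ⟨g, rfl⟩ := hy
      show z • g • x = g • x
      rw [← mul_smul, ← hcen, mul_smul, mem_stabilizer_iff.1 hx])
    have hm := orbit_mul_st (G := G) x
    rw [hn] at hm
    rcases hst x with e' | e' | e' <;> rw [e'] at hm <;> omega
  have hinj : Function.Injective φ := by
    rw [← MonoidHom.ker_eq_bot_iff]
    exact Subgroup.card_eq_one.1 hK1
  let f : (⊤ : Subgroup G) →* Equiv.Perm (Fin 4) :=
    ((Equiv.permCongrHom e).toMonoidHom.comp φ).comp (Subgroup.topEquiv).toMonoidHom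
  obtain ⟨E⟩ := iso_perm_four (f := f)
    (((Equiv.permCongrHom e).injective.comp hinj).comp (Subgroup.topEquiv).injective)
    (by rw [Subgroup.card_top, hn])
  exact ⟨Subgroup.topEquiv.symm.trans E⟩

theorem icosahedral (h : IsRotation G Ω) (hn : Nat.card G = 60) {u v w : Ω} (ht : Tri G u v w)
    (hu : st G u = 2) (hv : st G v = 3) (hw : st G w = 5) : Nonempty (G ≃* alternatingGroup (Fin 5)) := by
  classical
  haveI := Fintype.ofFinite Ω
  haveI := Fact.mk Nat.prime_two
  haveI := Fact.mk Nat.prime_three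
  haveI : Fact (Nat.Prime 5) := ⟨by norm_num⟩
  have hpr : ∀ a : ℕ, (a = 2 ∨ a = 3 ∨ a = 5) → ∀ x : Ω, a ∣ st G x → st G x = a := fun a ha x hd => by
    rcases ht.st_cases x with e | e | e <;> rcases ha with rfl | rfl | rfl <;> omega
  haveI : Nontrivial G := Finite.one_lt_card_iff_nontrivial.1 (by omega)
  haveI : IsSimpleGroup G := ⟨fun N hN => by
    haveI := hN
    by_contra hc
    push Not at hc
    have h1 : Nat.card N ≠ 1 := fun e => hc.1 (Subgroup.card_eq_one.1 e)
    have h60 : Nat.card N ≠ 60 := fun e => hc.2 (Subgroup.eq_top_of_card_eq _ (by rw [e, hn]))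
    have hd : Nat.card N ∣ 60 := hn ▸ Subgroup.card_subgroup_dvd_card N
    have hle := Nat.le_of_dvd (by norm_num) hd
    have h30 : Nat.card N = 30 → False := by
      intro e
      have hidx : N.index = 2 := by
        have := N.card_mul_index
        rw [e, hn] at this
        omega
      have hodd : ∀ x : Ω, x ∈ orbit G v ∪ orbit G w → stabilizer G x ≤ N := by
        intro x hx g hg
        have ho : Odd (st G x) := by
          rcases hx with ⟨k, rfl⟩ | ⟨k, rfl⟩ <;> rw [st_smul]
          · rw [hv]; decide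
          · rw [hw]; decide
        have hgo : Odd (orderOf g) := by
          refine Odd.of_dvd_nat ho ?_
          have := orderOf_dvd_natCard (⟨g, hg⟩ : stabilizer G x)
          rwa [Subgroup.orderOf_mk] at this
        obtain ⟨m, hm⟩ := hgo
        have hg2 : g = (g * g) ^ (m + 1) := by
          rw [← pow_two, ← pow_mul, show 2 * (m + 1) = orderOf g + 1 by omega, pow_succ, pow_orderOf_eq_one, one_mul]
        rw [hg2]
        exact pow_mem (Subgroup.mul_self_mem_of_index_two hidx g) _
      have hb := bound h N ((orbit G v).toFinset ∪ (orbit G w).toFinset) (fun x hx => hodd x (by simpa using hx))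
      have hdis : Disjoint (orbit G v).toFinset (orbit G w).toFinset := by
        rw [Finset.disjoint_left]
        intro x hx hx'
        obtain ⟨k, rfl⟩ := Set.mem_toFinset.1 hx
        obtain ⟨l, hl⟩ := Set.mem_toFinset.1 hx'
        have h35 : st G (l • w) = st G (k • v) := congrArg (st G) hl
        rw [st_smul, st_smul, hv, hw] at h35
        omega
      rw [Finset.sum_union hdis,
        Finset.sum_congr rfl (fun y hy => show st G y - 1 = 2 by
          obtain ⟨k, rfl⟩ := Set.mem_toFinset.1 hy; rw [st_smul, hv]),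
        Finset.sum_congr rfl (fun y hy => show st G y - 1 = 4 by
          obtain ⟨k, rfl⟩ := Set.mem_toFinset.1 hy; rw [st_smul, hw]),
        Finset.sum_const, Finset.sum_const, smul_eq_mul, smul_eq_mul, ← Set.ncard_eq_toFinset_card',
        ← Set.ncard_eq_toFinset_card', ← Nat.card_coe_set_eq, ← Nat.card_coe_set_eq, e] at hb
      have a := orbit_mul_st (G := G) v
      have b := orbit_mul_st (G := G) w
      rw [hv, hn] at a
      rw [hw, hn] at b
      omega
    by_cases h5 : 5 ∣ Nat.card N
    · have := normal_bound h N 5 h5 (hpr 5 (by norm_num))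
      rw [hn] at this
      interval_cases hc' : Nat.card N <;> first | omega | exact h30 rfl | exact h30 hc'
    by_cases h3 : 3 ∣ Nat.card N
    · have := normal_bound h N 3 h3 (hpr 3 (by norm_num))
      rw [hn] at this
      interval_cases hc' : Nat.card N <;> first | omega | exact h30 rfl | exact h30 hc'
    · have h2 : 2 ∣ Nat.card N := by
        interval_cases hc' : Nat.card N <;> omega
      have := normal_bound h N 2 h2 (hpr 2 (by norm_num))
      rw [hn] at this
      interval_cases hc' : Nat.card N <;> omega⟩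
  exact Cfsg.Agent.S0494.result (G := G) hn

/-- The finite rotation groups. -/
theorem classification (h : IsRotation G Ω) :
    IsCyclic G ∨ (∃ m, 2 ≤ m ∧ Nat.card G = 2 * m ∧ Nonempty (G ≃* DihedralGroup m) ∧ ∃ g : G, orderOf g = m) ∨
      Nonempty (G ≃* alternatingGroup (Fin 4)) ∨ Nonempty (G ≃* Equiv.Perm (Fin 4)) ∨
        Nonempty (G ≃* alternatingGroup (Fin 5)) := by
  rcases cases_orbits h with hc | ⟨u, v, w, ht, hu, hle⟩
  · exact Or.inl hc
  right
  have h1 := orbit_mul_st (G := G) u
  have h2 := orbit_mul_st (G := G) v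
  have h3 := orbit_mul_st (G := G) w
  have h4 := ht.2
  rw [hu] at h1
  rcases Nat.lt_or_ge (st G v) 3 with hv | hv
  · exact Or.inl (dihedral_case h ht hu (by have := two_le_st h v; omega))
  have hv3 : st G v = 3 := by
    by_contra hne
    have a : Nat.card (orbit G v) * 4 ≤ Nat.card G := h2 ▸ Nat.mul_le_mul_left _ (by omega)
    have b : Nat.card (orbit G w) * 4 ≤ Nat.card G := h3 ▸ Nat.mul_le_mul_left _ (by omega)
    omega
  rw [hv3] at h2 hle
  have hw : st G w < 6 := by
    by_contra hw
    have b : Nat.card (orbit G w) * 6 ≤ Nat.card G := h3 ▸ Nat.mul_le_mul_left _ (by omega)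
    omega
  right
  interval_cases hw' : st G w
  · exact Or.inl (four_orbit h (x := w) (by omega) (by omega))
  · refine Or.inr (Or.inl (octahedral h (fun x => ?_) (by omega)))
    rcases ht.st_cases x with e | e | e <;> omega
  · exact Or.inr (Or.inr (icosahedral h (by omega) ht hu hv3 hw'))

end Cfsg.Agent.Linear.Rotation
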