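import Mathlib.LinearAlgebra.Matrix.SpecialLinearGroup
import Mathlib.LinearAlgebra.Dual.Lemmas
import Mathlib.GroupTheory.PGroup
import Mathlib.FieldTheory.Finite.Basic
import Mathlib.Algebra.Module.ZMod

/-!
# Irreducible modules of `SL_2(q)` in characteristic `p`, quadratic or small

An irreducible module in which the Sylow `p`-subgroup acts quadratically, or whose fixed points
under it have at least half the dimension, is the natural module.
-/

set_option autoImplicit false
set_option linter.style.haveILetI false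
set_option linter.unusedSectionVars false

namespace Cfsg.Agent.Linear.SL2Quad

open Matrix Module

variable {F : Type*} [Field F]

local notation "SL" => Matrix.SpecialLinearGroup (Fin 2) F

/-- Upper unipotent. -/
def up (x : F) : SL := ⟨!![1, x; 0, 1], by simp [Matrix.det_fin_two]⟩

/-- The Weyl element. -/
def wl : SL := ⟨!![0, 1; -1, 0], by simp [Matrix.det_fin_two]⟩

/-- The torus. -/
def dia (a : Fˣ) : SL := ⟨!![(a : F), 0; 0, ((a⁻¹ : Fˣ) : F)], by simp [Matrix.det_fin_two]⟩

theorem coe_up (x : F) : ((up x : SL) : Matrix (Fin 2) (Fin 2) F) = !![1, x; 0, 1] := rfl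

theorem coe_wl : ((wl : SL) : Matrix (Fin 2) (Fin 2) F) = !![0, 1; -1, 0] := rfl

theorem coe_dia (a : Fˣ) :
    ((dia a : SL) : Matrix (Fin 2) (Fin 2) F) = !![(a : F), 0; 0, ((a⁻¹ : Fˣ) : F)] := rfl

/-- Lower unipotent. -/
def low (x : F) : SL := ⟨!![1, 0; x, 1], by simp [Matrix.det_fin_two]⟩

theorem coe_low (x : F) : ((low x : SL) : Matrix (Fin 2) (Fin 2) F) = !![1, 0; x, 1] := rfl

theorem up_add (x y : F) : up (x + y) = up x * up y := by
  refine Subtype.ext ?_
  ext i j
  fin_cases i <;> fin_cases j <;> simp [coe_up, Matrix.mul_apply, Fin.sum_univ_two, add_comm, SpecialLinearGroup.coe_mul]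

theorem up_zero : up (0 : F) = 1 := by
  refine Subtype.ext ?_
  ext i j
  fin_cases i <;> fin_cases j <;> simp [coe_up, SpecialLinearGroup.coe_mul]

theorem dia_mul (a b : Fˣ) : dia (a * b) = dia a * dia b := by
  refine Subtype.ext ?_
  ext i j
  fin_cases i <;> fin_cases j <;> simp [coe_dia, Matrix.mul_apply, Fin.sum_univ_two, mul_comm, SpecialLinearGroup.coe_mul]

theorem dia_one : dia (1 : Fˣ) = 1 := by
  refine Subtype.ext ?_
  ext i j
  fin_cases i <;> fin_cases j <;> simp [coe_dia, SpecialLinearGroup.coe_mul]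

theorem dia_up (a : Fˣ) (x : F) : dia a * up x = up ((a : F) * (a : F) * x) * dia a := by
  refine Subtype.ext ?_
  ext i j
  fin_cases i <;> fin_cases j <;> simp [coe_dia, coe_up, Matrix.mul_apply, Fin.sum_univ_two, SpecialLinearGroup.coe_mul]
  field_simp

theorem wl_dia (a : Fˣ) : wl * dia a⁻¹ = dia a * wl := by
  refine Subtype.ext ?_
  ext i j
  fin_cases i <;> fin_cases j <;> simp [coe_dia, coe_wl, Matrix.mul_apply, Fin.sum_univ_two, SpecialLinearGroup.coe_mul]

theorem wl_sq : wl * wl = dia (-1 : Fˣ) := by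
  refine Subtype.ext ?_
  ext i j
  fin_cases i <;> fin_cases j <;> simp [coe_dia, coe_wl, Matrix.mul_apply, Fin.sum_univ_two, SpecialLinearGroup.coe_mul]

/-- The relation between unipotents, the Weyl element and the torus. -/
theorem relation (x : Fˣ) :
    up (x : F) * (wl * (up ((x⁻¹ : Fˣ) : F) * (wl * (dia (-1 : Fˣ) * up (x : F))))) =
      dia x * wl := by
  refine Subtype.ext ?_
  ext i j
  fin_cases i <;> fin_cases j <;>
    simp [coe_dia, coe_wl, coe_up, Matrix.mul_apply, Fin.sum_univ_two, SpecialLinearGroup.coe_mul]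

theorem subgroup_eq_top (H : Subgroup SL) (hup : ∀ x : F, up x ∈ H) (hw : wl ∈ H) : H = ⊤ := by
  have hlow : ∀ x : F, (low x : SL) ∈ H := by
    intro x
    have e : (low x : SL) = wl * up (-x) * wl⁻¹ := by
      rw [eq_mul_inv_iff_mul_eq]
      refine Subtype.ext ?_
      ext i j
      fin_cases i <;> fin_cases j <;> simp [coe_wl, coe_up, coe_low, Matrix.mul_apply, Fin.sum_univ_two, SpecialLinearGroup.coe_mul]
    rw [e]
    exact H.mul_mem (H.mul_mem hw (hup _)) (H.inv_mem hw)
  have hc : ∀ g : SL, g.1 1 0 ≠ 0 → g ∈ H := by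
    intro g hg
    have hd := g.2
    rw [Matrix.det_fin_two] at hd
    have e : g = up ((g.1 0 0 - 1) / g.1 1 0) * low (g.1 1 0) *
        up ((g.1 1 1 - 1) / g.1 1 0) := by
      refine Subtype.ext ?_
      ext i j
      fin_cases i <;> fin_cases j <;> simp [coe_up, coe_low, Matrix.mul_apply, Fin.sum_univ_two, SpecialLinearGroup.coe_mul] <;> field_simp <;>
        first | ring1 | linear_combination -hd | linear_combination hd
    rw [e]
    exact H.mul_mem (H.mul_mem (hup _) (hlow _)) (hup _)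
  refine eq_top_iff.2 fun g _ => ?_
  by_cases hg : g.1 1 0 = 0
  · have hd := g.2
    rw [Matrix.det_fin_two, hg, mul_zero, sub_zero] at hd
    have h : wl * g ∈ H := hc _ (by
      simp [coe_wl, Matrix.mul_apply, Fin.sum_univ_two, SpecialLinearGroup.coe_mul]
      exact left_ne_zero_of_mul_eq_one hd)
    have := H.mul_mem (H.inv_mem hw) h
    rwa [inv_mul_cancel_left] at this
  · exact hc g hg

variable {k : Type*} [Field k] {M : Type*} [AddCommGroup M] [Module k M]

/-- The fixed points of the upper unipotents. -/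
def fixU (ρ : SL →* Module.End k M) : Submodule k M := ⨅ x : F, LinearMap.ker (ρ (up x) - 1)

/-- The commutator of the module with the upper unipotents. -/
def augU (ρ : SL →* Module.End k M) : Submodule k M := ⨆ x : F, LinearMap.range (ρ (up x) - 1)

/-- Irreducible and nontrivial. -/
structure IsIrr (ρ : SL →* Module.End k M) : Prop where
  irr : ∀ W : Submodule k M, (∀ g, ∀ v ∈ W, ρ g v ∈ W) → W = ⊥ ∨ W = ⊤
  nontriv : ∃ g v, ρ g v ≠ v

variable {ρ : Matrix.SpecialLinearGroup (Fin 2) F →* Module.End k M}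

theorem mem_fixU {v : M} : v ∈ fixU ρ ↔ ∀ x, ρ (up x) v = v := by
  simp [fixU, Submodule.mem_iInf, sub_eq_zero]

theorem sub_mem_augU (x : F) (v : M) : ρ (up x) v - v ∈ augU ρ :=
  Submodule.mem_iSup_of_mem x ⟨v, by simp⟩

theorem comp_apply (g h : SL) (v : M) : ρ (g * h) v = ρ g (ρ h v) := by
  rw [map_mul]; rfl

theorem inv_apply (g : SL) (v : M) : ρ g⁻¹ (ρ g v) = v := by
  rw [← comp_apply, inv_mul_cancel, map_one]; rfl

theorem dia_fixU {v : M} (hv : v ∈ fixU ρ) (a : Fˣ) : ρ (dia a) v ∈ fixU ρ := by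
  rw [mem_fixU] at hv ⊢
  intro x
  have h : (a : F) * (a : F) * (((a⁻¹ : Fˣ) : F) * ((a⁻¹ : Fˣ) : F) * x) = x := by
    simp only [Units.val_inv_eq_inv_val]
    field_simp
  conv_lhs => rw [← h, ← comp_apply, ← dia_up, comp_apply, hv]

theorem dia_augU {v : M} (hv : v ∈ augU ρ) (a : Fˣ) : ρ (dia a) v ∈ augU ρ := by
  revert v
  show augU ρ ≤ (augU ρ).comap (ρ (dia a))
  refine iSup_le fun x => ?_
  rintro _ ⟨v, rfl⟩
  show ρ (dia a) (ρ (up x) v - v) ∈ augU ρ
  rw [map_sub, ← comp_apply, dia_up, comp_apply]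
  exact sub_mem_augU _ _

theorem invariant_of_gens (W : Submodule k M) [Finite F] (hup : ∀ x, ∀ v ∈ W, ρ (up x) v ∈ W)
    (hw : ∀ v ∈ W, ρ wl v ∈ W) : ∀ g, ∀ v ∈ W, ρ g v ∈ W := by
  let H : Submonoid SL :=
    { carrier := {g | ∀ v ∈ W, ρ g v ∈ W}
      one_mem' := fun v hv => by rw [map_one]; exact hv
      mul_mem' := fun {g h} hg hh v hv => by rw [comp_apply]; exact hg _ (hh v hv) }
  haveI : Finite SL := inferInstance
  have hinv : ∀ g ∈ H, g⁻¹ ∈ H := by
    intro g hg
    rw [inv_eq_of_mul_eq_one_right (show g * g ^ (orderOf g - 1) = 1 by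
      rw [← pow_succ', Nat.sub_add_cancel (orderOf_pos g), pow_orderOf_eq_one])]
    exact pow_mem hg _
  intro g
  have h := subgroup_eq_top { H with inv_mem' := fun {x} hx => hinv x hx } hup hw
  exact (h ▸ Subgroup.mem_top g : g ∈ ({ H with inv_mem' := fun {x} hx => hinv x hx } : Subgroup SL))

theorem fix_disjoint [Finite F] (h : IsIrr ρ) {v : M} (hv : v ∈ fixU ρ)
    (hv' : ρ wl v ∈ fixU ρ) : v = 0 := by
  let W : Submodule k M := ⨅ g : SL, LinearMap.ker (ρ g - 1)
  have hW : ∀ {u : M}, u ∈ W ↔ ∀ g, ρ g u = u := fun {u} => by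
    simp [W, Submodule.mem_iInf, sub_eq_zero]
  rcases h.irr W (fun g u hu => by rw [hW.1 hu g]; exact hu) with hb | ht
  · have hall : ∀ g, ρ g v = v := by
      let H : Subgroup SL :=
        { carrier := {g | ρ g v = v}
          one_mem' := by show ρ 1 v = v; rw [map_one]; rfl
          mul_mem' := fun {a b} (ha : ρ a v = v) (hb : ρ b v = v) => by
            show ρ (a * b) v = v
            rw [comp_apply, hb, ha]
          inv_mem' := fun {a} (ha : ρ a v = v) => by
            show ρ a⁻¹ v = v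
            conv_lhs => rw [← ha, inv_apply] }
      have hlow : ∀ x, wl⁻¹ * up x * wl ∈ H := fun x => by
        show ρ (wl⁻¹ * up x * wl) v = v
        rw [comp_apply, comp_apply, mem_fixU.1 hv', inv_apply]
      have hwH : wl ∈ H := by
        have e : (wl : SL) = up 1 * (wl⁻¹ * up 1 * wl) * up 1 := by
          have e2 : (wl⁻¹ : SL) = wl * dia (-1 : Fˣ) := by
            refine inv_eq_of_mul_eq_one_right ?_
            rw [← mul_assoc, wl_sq, ← dia_mul, neg_one_mul, neg_neg, dia_one]
          rw [e2]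
          refine Subtype.ext ?_
          ext i j
          fin_cases i <;> fin_cases j <;>
            simp [coe_dia, coe_wl, coe_up, Matrix.mul_apply, Fin.sum_univ_two, SpecialLinearGroup.coe_mul]
        rw [e]
        exact H.mul_mem (H.mul_mem (mem_fixU.1 hv 1) (hlow 1)) (mem_fixU.1 hv 1)
      have hH := subgroup_eq_top H (mem_fixU.1 hv) hwH
      exact fun g => (hH ▸ Subgroup.mem_top g : g ∈ H)
    have := hW.2 hall
    rwa [hb, Submodule.mem_bot] at this
  · obtain ⟨g, u, hne⟩ := h.nontriv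
    exact absurd (hW.1 (ht ▸ Submodule.mem_top) g) hne

theorem exists_fix [Fintype F] {p : ℕ} [Fact p.Prime] [CharP F p] [Finite M]
    (hM : ∀ v : M, p • v = 0) {W : Submodule k M} (hW : W ≠ ⊥)
    (hinv : ∀ x, ∀ v ∈ W, ρ (up x) v ∈ W) : ∃ v ∈ W, v ≠ 0 ∧ v ∈ fixU ρ := by
  classical
  letI : SMul (Multiplicative F) W := ⟨fun x v => ⟨ρ (up (Multiplicative.toAdd x)) v, hinv _ _ v.2⟩⟩
  letI : MulAction (Multiplicative F) W :=
    { one_smul := fun v => Subtype.ext (by
        show ρ (up (0 : F)) (v : M) = v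
        rw [up_zero, map_one]; rfl)
      mul_smul := fun x y v => Subtype.ext (by
        show ρ (up (Multiplicative.toAdd x + Multiplicative.toAdd y)) (v : M) = _
        rw [up_add, comp_apply]; rfl) }
  obtain ⟨n, -, hn⟩ := FiniteField.card F p
  have hG : IsPGroup p (Multiplicative F) := IsPGroup.of_card (n := n) (by
    show Nat.card F = _
    rw [Nat.card_eq_fintype_card, hn])
  obtain ⟨w, hwW, hw0⟩ := W.ne_bot_iff.1 hW
  have hord : addOrderOf (⟨w, hwW⟩ : W) = p := by
    refine addOrderOf_eq_prime (Subtype.ext (hM w)) fun e => hw0 (congrArg Subtype.val e)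
  have hdvd : p ∣ Nat.card W := hord ▸ addOrderOf_dvd_natCard _
  obtain ⟨b, hb, hb0⟩ := hG.exists_fixed_point_of_prime_dvd_card_of_fixed_point W hdvd
    (a := (0 : W)) (fun x => Subtype.ext (map_zero _))
  refine ⟨b, b.2, fun e => hb0 (Subtype.ext e.symm), mem_fixU.2 fun x => ?_⟩
  exact congrArg Subtype.val (hb (Multiplicative.ofAdd x))

theorem augU_invariant (x : F) {v : M} (hv : v ∈ augU ρ) : ρ (up x) v ∈ augU ρ := by
  have h := Submodule.add_mem _ (sub_mem_augU x v) hv
  rwa [sub_add_cancel] at h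

theorem nontrivial_module (h : IsIrr ρ) : (⊤ : Submodule k M) ≠ ⊥ := by
  obtain ⟨g, v, hne⟩ := h.nontriv
  intro e
  have h0 : ∀ u : M, u = 0 := fun u => (Submodule.mem_bot k).1 (e ▸ Submodule.mem_top)
  exact hne ((h0 _).trans (h0 v).symm)

theorem augU_ne_bot [Finite F] (h : IsIrr ρ) : augU ρ ≠ ⊥ := by
  intro e
  have hfix : ∀ v, v ∈ fixU ρ := fun v => mem_fixU.2 fun x => by
    have h1 := sub_mem_augU (ρ := ρ) x v
    rwa [e, Submodule.mem_bot, sub_eq_zero] at h1
  exact nontrivial_module h ((Submodule.eq_bot_iff _).2 fun v _ => fix_disjoint h (hfix v) (hfix _))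

theorem wl_wl_apply (v : M) : ρ wl (ρ wl v) = ρ (dia (-1 : Fˣ)) v := by
  rw [← comp_apply, wl_sq]

/-- The module is spanned modulo the commutator by a torus-invariant space of fixed points and its
image under the Weyl element. -/
theorem span_of_fix [Finite F] (h : IsIrr ρ) {U : Submodule k M} (hU : U ≠ ⊥) (hUfix : U ≤ fixU ρ)
    (hUd : ∀ a, ∀ v ∈ U, ρ (dia a) v ∈ U) (hUI : U ≤ augU ρ) :
    augU ρ ⊔ U.map (ρ wl) = ⊤ := by
  classical
  let S : Set M := (U : Set M) ∪ {m | ∃ x, ∃ u ∈ U, m = ρ (up x) (ρ wl u)}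
  have hgen : ∀ g, ∀ v ∈ Submodule.span k S, ρ g v ∈ Submodule.span k S := by
    refine invariant_of_gens _ (fun x => ?_) ?_
    · show Submodule.span k S ≤ (Submodule.span k S).comap (ρ (up x))
      refine Submodule.span_le.2 ?_
      rintro m (hm | ⟨y, u, hu, rfl⟩)
      · show ρ (up x) m ∈ Submodule.span k S
        rw [mem_fixU.1 (hUfix hm) x]
        exact Submodule.subset_span (Or.inl hm)
      · refine Submodule.subset_span (Or.inr ⟨x + y, u, hu, ?_⟩)
        rw [up_add, comp_apply]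
    · show Submodule.span k S ≤ (Submodule.span k S).comap (ρ wl)
      refine Submodule.span_le.2 ?_
      rintro m (hm | ⟨y, u, hu, rfl⟩)
      · exact Submodule.subset_span (Or.inr ⟨0, m, hm, by rw [up_zero, map_one]; rfl⟩)
      · by_cases hy : y = 0
        · show ρ wl (ρ (up y) (ρ wl u)) ∈ Submodule.span k S
          rw [hy, up_zero, map_one]
          show ρ wl (ρ wl u) ∈ Submodule.span k S
          rw [wl_wl_apply]
          exact Submodule.subset_span (Or.inl (hUd _ u hu))
        · refine Submodule.subset_span (Or.inr ⟨-y⁻¹, ρ (dia (Units.mk0 (-y) (neg_ne_zero.2 hy))) u, hUd _ u hu, ?_⟩)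
          conv_rhs => rw [← mem_fixU.1 (hUfix hu) (-y⁻¹)]
          show ρ wl (ρ (up y) (ρ wl u)) = _
          rw [← comp_apply, ← comp_apply, ← comp_apply, ← comp_apply, ← comp_apply]
          congr 2
          refine Subtype.ext ?_
          ext i j
          fin_cases i <;> fin_cases j <;>
            simp [coe_dia, coe_wl, coe_up, Matrix.mul_apply, Fin.sum_univ_two, hy, SpecialLinearGroup.coe_mul]
  have htop : Submodule.span k S = ⊤ := (h.irr _ hgen).resolve_left fun e => hU
    (eq_bot_iff.2 fun u hu => e ▸ Submodule.subset_span (Or.inl hu))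
  rw [eq_top_iff, ← htop, Submodule.span_le]
  rintro m (hm | ⟨y, u, hu, rfl⟩)
  · exact Submodule.mem_sup_left (hUI hm)
  · have := Submodule.add_mem_sup (sub_mem_augU (ρ := ρ) y (ρ wl u))
      (Submodule.mem_map_of_mem (f := ρ wl) hu)
    rwa [sub_add_cancel] at this

/-- The dual action. -/
def dualRep (ρ : SL →* Module.End k M) : SL →* Module.End k (Module.Dual k M) where
  toFun g := (ρ g⁻¹).dualMap
  map_one' := by rw [inv_one, map_one]; rfl
  map_mul' g h := by rw [_root_.mul_inv_rev, map_mul]; rfl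

theorem dualRep_apply (g : SL) (f : Module.Dual k M) (v : M) : dualRep ρ g f v = f (ρ g⁻¹ v) := rfl

theorem dual_irr [FiniteDimensional k M] (h : IsIrr ρ) : IsIrr (dualRep ρ) := by
  refine ⟨fun W hW => ?_, ?_⟩
  · have hinv : ∀ g, ∀ v ∈ W.dualCoannihilator, ρ g v ∈ W.dualCoannihilator := by
      intro g v hv
      rw [Submodule.mem_dualCoannihilator] at hv ⊢
      intro f hf
      have := hv _ (hW g⁻¹ f hf)
      rwa [dualRep_apply, inv_inv] at this
    have e := Subspace.dualCoannihilator_dualAnnihilator_eq (W := W)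
    rcases h.irr _ hinv with hb | ht
    · right; rw [← e, hb, Submodule.dualAnnihilator_bot]
    · left; rw [← e, ht, Submodule.dualAnnihilator_top]
  · obtain ⟨g, v, hne⟩ := h.nontriv
    by_contra hall
    push Not at hall
    refine hne (sub_eq_zero.1 ((Module.forall_dual_apply_eq_zero_iff k _).1 fun f => ?_))
    have := LinearMap.congr_fun (hall g⁻¹ f) v
    rw [dualRep_apply, inv_inv] at this
    rw [map_sub, this, sub_self]

theorem dual_fix : fixU (dualRep ρ) = (augU ρ).dualAnnihilator := by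
  ext f
  rw [mem_fixU, Submodule.mem_dualAnnihilator]
  constructor
  · intro hf
    show augU ρ ≤ LinearMap.ker f
    refine iSup_le fun x => ?_
    rintro _ ⟨v, rfl⟩
    have := LinearMap.congr_fun (hf x) (ρ (up x) v)
    rw [dualRep_apply, inv_apply] at this
    show f (ρ (up x) v - v) = 0
    rw [map_sub, ← this, sub_self]
  · intro hf x
    refine LinearMap.ext fun v => ?_
    have := hf _ (sub_mem_augU x (ρ (up x)⁻¹ v))
    rw [← comp_apply, mul_inv_cancel, map_one, map_sub, sub_eq_zero] at this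
    exact this.symm

theorem dual_aug : augU (dualRep ρ) ≤ (fixU ρ).dualAnnihilator := by
  refine iSup_le fun x => ?_
  rintro _ ⟨f, rfl⟩
  rw [Submodule.mem_dualAnnihilator]
  intro v hv
  show dualRep ρ (up x) f v - f v = 0
  rw [dualRep_apply]
  have h : ρ (up x)⁻¹ v = v := by
    conv_lhs => rw [← mem_fixU.1 hv x, inv_apply]
  rw [h, sub_self]

theorem finrank_bound [Fintype F] {p : ℕ} [Fact p.Prime] [CharP F p] [FiniteDimensional k M]
    [Finite M] (hM : ∀ v : M, p • v = 0) (h : IsIrr ρ) :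
    finrank k M ≤ finrank k (augU ρ) + finrank k ↥(fixU ρ ⊓ augU ρ) := by
  obtain ⟨v, hv, hv0, hvf⟩ := exists_fix hM (augU_ne_bot h) fun x v hv => augU_invariant x hv
  have hU : fixU ρ ⊓ augU ρ ≠ ⊥ := (Submodule.ne_bot_iff _).2 ⟨v, ⟨hvf, hv⟩, hv0⟩
  have hs := span_of_fix h hU inf_le_left
    (fun a u hu => ⟨dia_fixU hu.1 a, dia_augU hu.2 a⟩) inf_le_right
  rw [← finrank_top k M, ← hs]
  refine (Submodule.finrank_add_le_finrank_add_finrank _ _).trans (Nat.add_le_add_left ?_ _)
  exact Submodule.finrank_map_le _ _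

/-- The natural module is recognised. -/
theorem natural [Fintype F] {p : ℕ} [Fact p.Prime] [CharP F p] {N : Type*} [AddCommGroup N]
    [Module (ZMod p) N] {ρ : Matrix.SpecialLinearGroup (Fin 2) F →* Module.End (ZMod p) N} [Finite N]
    [Finite (Module.Dual (ZMod p) N)] (hM : ∀ v : N, p • v = 0) (h : IsIrr ρ)
    (hyp : (∀ x y : F, ∀ v, ρ (up x) (ρ (up y) v - v) = ρ (up y) v - v) ∨
      finrank (ZMod p) N ≤ 2 * finrank (ZMod p) (fixU ρ)) :
    ∃ Γ : (Fin 2 → F) →+ N, Function.Bijective Γ ∧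
      ∀ (g : SL) v, Γ (g.1 *ᵥ v) = ρ g (Γ v) := by
  classical
  have hwinj : Function.Injective (ρ (wl : SL)) := fun u v e => by
    rw [← inv_apply (ρ := ρ) wl u, e, inv_apply]
  set W0 := fixU ρ with hW0
  have hdisj : Disjoint W0 (W0.map (ρ wl)) := by
    rw [Submodule.disjoint_def]
    rintro _ hx ⟨u, hu, rfl⟩
    rw [fix_disjoint h hu hx, map_zero]
  have hdim1 : finrank (ZMod p) (W0.map (ρ wl)) = finrank (ZMod p) W0 :=
    (Submodule.equivMapOfInjective _ hwinj W0).finrank_eq.symm
  have hI : augU ρ ≤ W0 := by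
    rcases hyp with hq | hd
    · refine iSup_le fun y => ?_
      rintro _ ⟨v, rfl⟩
      exact mem_fixU.2 fun x => hq x y v
    · have hsum := Submodule.finrank_add_finrank_le_of_disjoint hdisj
      rw [hdim1] at hsum
      have h1 := finrank_bound hM h
      rw [← hW0] at h1
      have h2 := finrank_bound (ρ := dualRep ρ) (p := p)
        (fun f => LinearMap.ext fun v => by
          rw [LinearMap.smul_apply, LinearMap.zero_apply, ← map_nsmul, hM, map_zero]) (dual_irr h)
      have h3 : finrank (ZMod p) (augU (dualRep ρ)) ≤ finrank (ZMod p) W0.dualAnnihilator :=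
        Submodule.finrank_mono dual_aug
      have h4 : finrank (ZMod p) ↥(fixU (dualRep ρ) ⊓ augU (dualRep ρ)) ≤
          finrank (ZMod p) (augU ρ).dualAnnihilator :=
        dual_fix (ρ := ρ) ▸ Submodule.finrank_mono inf_le_left
      have h5 := Subspace.finrank_add_finrank_dualAnnihilator_eq W0
      have h6 := Subspace.finrank_add_finrank_dualAnnihilator_eq (augU ρ)
      rw [Subspace.dual_finrank_eq] at h2
      have h7 : finrank (ZMod p) (augU ρ) ≤ finrank (ZMod p) ↥(W0 ⊓ augU ρ) := by omega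
      exact inf_eq_right.1 (Submodule.eq_of_le_of_finrank_le inf_le_right h7)
  -- the coordinates
  obtain ⟨w0, -, hw0, hw0f⟩ := exists_fix (ρ := ρ) hM (nontrivial_module h) fun x v _ => Submodule.mem_top
  have hA : ∀ (x : Fˣ) {a : N}, a ∈ W0 →
      ρ (up (x : F)) (ρ wl a) - ρ wl a = - ρ (dia x) a := by
    intro x a ha
    -- read both sides of the relation in the two summands
    have key : ∀ (y : Fˣ) {c : N}, c ∈ W0 →
        ρ (up ((y⁻¹ : Fˣ) : F)) (ρ wl (ρ (dia (-1 : Fˣ)) c)) - ρ wl (ρ (dia (-1 : Fˣ)) c) =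
          ρ (dia y⁻¹) c ∧
        ρ (up (y : F)) (ρ wl (ρ (dia y⁻¹) c)) - ρ wl (ρ (dia y⁻¹) c) = - c := by
      intro y c hc
      set d := ρ (up ((y⁻¹ : Fˣ) : F)) (ρ wl (ρ (dia (-1 : Fˣ)) c)) -
        ρ wl (ρ (dia (-1 : Fˣ)) c) with hd
      have hdW : d ∈ W0 := hI (sub_mem_augU _ _)
      have e := congrArg (fun g : SL => ρ g c) (relation y)
      simp only [comp_apply] at e
      rw [mem_fixU.1 hc (y : F), show ρ (up ((y⁻¹ : Fˣ) : F)) (ρ wl (ρ (dia (-1 : Fˣ)) c)) =
        d + ρ wl (ρ (dia (-1 : Fˣ)) c) from (sub_add_cancel _ _).symm, map_add, wl_wl_apply,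
        ← comp_apply (dia (-1 : Fˣ)), ← dia_mul, neg_one_mul, neg_neg, dia_one, map_one] at e
      change ρ (up (y : F)) (ρ wl d + c) = _ at e
      rw [map_add, mem_fixU.1 hc, ← comp_apply (dia y), ← wl_dia, comp_apply] at e
      set d' := ρ (up (y : F)) (ρ wl d) - ρ wl d with hd'
      have hd'W : d' ∈ W0 := hI (sub_mem_augU _ _)
      rw [show ρ (up (y : F)) (ρ wl d) = d' + ρ wl d from (sub_add_cancel _ _).symm] at e
      have e2 : d' + c = ρ wl (ρ (dia y⁻¹) c - d) := by
        rw [map_sub, ← e]; abel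
      have h0 : ρ (dia y⁻¹) c - d = 0 :=
        fix_disjoint h (W0.sub_mem (dia_fixU hc _) hdW) (e2 ▸ W0.add_mem hd'W hc)
      rw [h0, map_zero] at e2
      rw [sub_eq_zero] at h0
      refine ⟨h0.symm, ?_⟩
      rw [h0, ← hd']
      exact eq_neg_of_add_eq_zero_left e2
    have e := (key x (dia_fixU ha x)).2
    rwa [← comp_apply (dia x⁻¹), ← dia_mul, inv_mul_cancel, dia_one, map_one] at e
  let f : F →+ N := AddMonoidHom.mk' (fun x => -(ρ (up x) (ρ wl w0) - ρ wl w0)) fun x y => by
    have hd : ρ (up y) (ρ wl w0) - ρ wl w0 ∈ W0 := hI (sub_mem_augU _ _)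
    have h1 := mem_fixU.1 hd x
    rw [map_sub, ← comp_apply, ← up_add] at h1
    rw [show ρ (up (x + y)) (ρ wl w0) = (ρ (up y) (ρ wl w0) - ρ wl w0) + ρ (up x) (ρ wl w0) from
      sub_eq_iff_eq_add.1 h1]
    abel
  have hfW : ∀ x, f x ∈ W0 := fun x => W0.neg_mem (hI (sub_mem_augU _ _))
  have hfd : ∀ x : Fˣ, f (x : F) = ρ (dia x) w0 := fun x => by
    show -(ρ (up (x : F)) (ρ wl w0) - ρ wl w0) = _
    rw [hA x hw0f, neg_neg]
  have hfm : ∀ x y, f (x * y) = -(ρ (up x) (ρ wl (f y)) - ρ wl (f y)) := by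
    intro x y
    by_cases hy : y = 0
    · simp [hy]
    by_cases hx : x = 0
    · simp [hx, up_zero]
    rw [show x = ((Units.mk0 x hx : Fˣ) : F) from rfl, hA _ (hfW y), neg_neg,
      show y = ((Units.mk0 y hy : Fˣ) : F) from rfl, hfd, ← Units.val_mul, hfd, dia_mul, comp_apply]
  let Γ : (Fin 2 → F) →+ N := AddMonoidHom.mk' (fun v => f (v 0) - ρ wl (f (v 1))) fun u v => by
    simp only [Pi.add_apply, map_add]; abel
  let H : Subgroup SL :=
    { carrier := {g | ∀ v, Γ (g.1 *ᵥ v) = ρ g (Γ v)}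
      one_mem' := fun v => by rw [map_one, SpecialLinearGroup.coe_one, one_mulVec]; rfl
      mul_mem' := fun {g g'} hg hg' v => by
        rw [SpecialLinearGroup.coe_mul, ← mulVec_mulVec, hg, hg', ← comp_apply]
      inv_mem' := fun {g} hg v => by
        have := hg (g⁻¹.1 *ᵥ v)
        rw [mulVec_mulVec, ← SpecialLinearGroup.coe_mul, mul_inv_cancel,
          SpecialLinearGroup.coe_one, one_mulVec] at this
        rw [this, inv_apply] }
  have hH : H = ⊤ := by
    refine subgroup_eq_top H (fun x v => ?_) fun v => ?_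
    · show f (((up x : SL).1 *ᵥ v) 0) - ρ wl (f (((up x : SL).1 *ᵥ v) 1)) =
        ρ (up x) (f (v 0) - ρ wl (f (v 1)))
      rw [map_sub, mem_fixU.1 (hfW _)]
      simp only [up, Matrix.mulVec, dotProduct, Fin.sum_univ_two]
      simp [hfm]
      abel
    · show f (((wl : SL).1 *ᵥ v) 0) - ρ wl (f (((wl : SL).1 *ᵥ v) 1)) =
        ρ wl (f (v 0) - ρ wl (f (v 1)))
      have hε : ∀ {a : N}, a ∈ W0 → ρ (dia (-1 : Fˣ)) a = - a := fun {a} ha => by
        have h1 := hA (-1) ha
        have h2 := hA 1 ha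
        rw [dia_one, map_one] at h2
        change _ = - a at h2
        simp only [Units.val_one] at h2
        have h3 := mem_fixU.1 (hI (sub_mem_augU (ρ := ρ) (1 : F) (ρ wl a))) ((-1 : Fˣ) : F)
        rw [map_sub, ← comp_apply, ← up_add] at h3
        simp only [Units.val_neg, Units.val_one, neg_add_cancel, up_zero, map_one] at h1 h3
        rw [← neg_eq_iff_eq_neg.2 h1]
        change ρ wl a - ρ (up (-1 : F)) (ρ wl a) = _ at h3
        rw [h2] at h3
        rw [← h3]; abel
      rw [map_sub, wl_wl_apply, hε (hfW _)]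
      simp only [wl, Matrix.mulVec, dotProduct, Fin.sum_univ_two]
      simp
      abel
  have hΓ : ∀ g v, Γ (g.1 *ᵥ v) = ρ g (Γ v) := fun g => (hH ▸ Subgroup.mem_top g : g ∈ H)
  refine ⟨Γ, ⟨?_, ?_⟩, hΓ⟩
  · refine (injective_iff_map_eq_zero Γ).2 fun v hv => ?_
    have h1 : f (v 0) = ρ wl (f (v 1)) := sub_eq_zero.1 hv
    have h2 : f (v 1) = 0 := fix_disjoint h (hfW _) (h1 ▸ hfW _)
    rw [h2, map_zero] at h1
    have hf0 : ∀ x, f x = 0 → x = 0 := fun x hx => by
      by_contra hne
      rw [show x = ((Units.mk0 x hne : Fˣ) : F) from rfl, hfd] at hx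
      exact hw0 (by rw [← inv_apply (ρ := ρ) (dia (Units.mk0 x hne)) w0, hx, map_zero])
    funext i
    fin_cases i
    · exact hf0 _ h1
    · exact hf0 _ h2
  · -- the image is invariant
    have hrange : ∀ g, ∀ m ∈ Γ.range, ρ g m ∈ Γ.range := by
      rintro g _ ⟨v, rfl⟩
      exact ⟨g.1 *ᵥ v, hΓ g v⟩
    let R : Submodule (ZMod p) N := AddSubgroup.toZModSubmodule p Γ.range
    have hR : R = ⊤ := by
      refine (h.irr R fun g m hm => hrange g m hm).resolve_left fun e => hw0 ?_
      have h1 : Γ ![1, 0] ∈ R := ⟨_, rfl⟩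
      rw [e, Submodule.mem_bot] at h1
      have h2 : f 1 = w0 := by
        have := hfd 1
        rw [Units.val_one, dia_one] at this
        rw [this, map_one ρ]
        rfl
      simpa [Γ, h2] using h1
    intro m
    exact (hR ▸ Submodule.mem_top : m ∈ R)

/-- The natural module is recognised among the automorphisms of an abelian group. -/
theorem natural_mulAut [Fintype F] {p : ℕ} [Fact p.Prime] [CharP F p] {A : Type*} [CommGroup A]
    [Finite A] [Module (ZMod p) (Additive A)] (hA : ∀ a : A, a ^ p = 1)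
    (θ : Matrix.SpecialLinearGroup (Fin 2) F →* MulAut A)
    (hirr : ∀ U : Subgroup A, (∀ g, ∀ a ∈ U, θ g a ∈ U) → U = ⊥ ∨ U = ⊤)
    (hnt : ∃ g a, θ g a ≠ a)
    (hyp : (∀ x y : F, ∀ a, θ (up x) (θ (up y) a / a) = θ (up y) a / a) ∨
      Nat.card A ≤ Nat.card {a : A // ∀ x : F, θ (up x) a = a} ^ 2) :
    ∃ ψ : A ≃* Multiplicative (Fin 2 → F),
      ∀ g a, Multiplicative.toAdd (ψ (θ g a)) = g.1 *ᵥ Multiplicative.toAdd (ψ a) := by
  classical
  have hM : ∀ v : Additive A, p • v = 0 := fun v => by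
    rw [← toMul_eq_one, toMul_nsmul]
    exact hA _
  let ρ : Matrix.SpecialLinearGroup (Fin 2) F →* Module.End (ZMod p) (Additive A) :=
    { toFun := fun g => (MonoidHom.toAdditive (θ g).toMonoidHom).toZModLinearMap p
      map_one' := LinearMap.ext fun v => by
        show Additive.ofMul (θ 1 (Additive.toMul v)) = v
        rw [map_one]
        rfl
      map_mul' := fun g g' => LinearMap.ext fun v => by
        show Additive.ofMul (θ (g * g') (Additive.toMul v)) =
          Additive.ofMul (θ g (θ g' (Additive.toMul v)))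
        rw [map_mul]
        rfl }
  have hρ : ∀ g (a : A), ρ g (Additive.ofMul a) = Additive.ofMul (θ g a) := fun g a => rfl
  have hirr' : IsIrr ρ := by
    refine ⟨fun W hW => ?_, ?_⟩
    · rcases hirr (AddSubgroup.toSubgroup' W.toAddSubgroup) (fun g a ha => hW g _ ha) with h | h
      · refine Or.inl ((Submodule.eq_bot_iff _).2 fun v hv => ?_)
        exact toMul_eq_one.1 ((Subgroup.eq_bot_iff_forall _).1 h (Additive.toMul v) hv)
      · refine Or.inr (eq_top_iff.2 fun v _ => ?_)
        exact (h ▸ Subgroup.mem_top _ : Additive.toMul v ∈ AddSubgroup.toSubgroup' W.toAddSubgroup)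
    · obtain ⟨g, a, ha⟩ := hnt
      exact ⟨g, Additive.ofMul a, fun e => ha (Additive.ofMul.injective e)⟩
  haveI : Finite (Module.Dual (ZMod p) (Additive A)) := Finite.of_injective _ DFunLike.coe_injective
  have hhyp : (∀ x y : F, ∀ v, ρ (up x) (ρ (up y) v - v) = ρ (up y) v - v) ∨
      Module.finrank (ZMod p) (Additive A) ≤ 2 * Module.finrank (ZMod p) (fixU ρ) := by
    rcases hyp with h | h
    · exact Or.inl fun x y v => congrArg Additive.ofMul (h x y (Additive.toMul v))
    · right
      haveI : Fintype (Additive A) := Fintype.ofFinite _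
      haveI : Fintype (fixU ρ) := Fintype.ofFinite _
      have hle : Nat.card {a : A // ∀ x : F, θ (up x) a = a} ≤ Nat.card (fixU ρ) :=
        Nat.card_le_card_of_injective (fun a => (⟨Additive.ofMul a.1, mem_fixU.2 fun x =>
          congrArg Additive.ofMul (a.2 x)⟩ : fixU ρ)) fun a b e =>
          Subtype.ext (congrArg (fun z : fixU ρ => Additive.toMul (z : Additive A)) e :)
      have h2 := h.trans (Nat.pow_le_pow_left hle 2)
      rw [show Nat.card A = Nat.card (Additive A) from rfl, Nat.card_eq_fintype_card,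
        Nat.card_eq_fintype_card, Module.card_eq_pow_finrank (K := ZMod p) (V := Additive A),
        Module.card_eq_pow_finrank (K := ZMod p) (V := fixU ρ), ZMod.card, ← pow_mul] at h2
      have := (Nat.pow_le_pow_iff_right (Fact.out : p.Prime).one_lt).1 h2
      omega
  obtain ⟨Γ, hΓb, hΓ⟩ := natural hM hirr' hhyp
  refine ⟨(AddEquiv.toMultiplicativeLeft (AddEquiv.ofBijective Γ hΓb)).symm, fun g a => ?_⟩
  have key : Additive.ofMul (θ g a) =
      Γ (g.1 *ᵥ (AddEquiv.ofBijective Γ hΓb).symm (Additive.ofMul a)) := by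
    rw [hΓ, show Γ ((AddEquiv.ofBijective Γ hΓb).symm (Additive.ofMul a)) = Additive.ofMul a from
      (AddEquiv.ofBijective Γ hΓb).apply_symm_apply _, hρ]
  show (AddEquiv.ofBijective Γ hΓb).symm (Additive.ofMul (θ g a)) = _
  rw [key]
  exact (AddEquiv.ofBijective Γ hΓb).symm_apply_apply _

end Cfsg.Agent.Linear.SL2Quad
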