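import Cfsg.Prelude.Def_Classical
import Cfsg.Agent.Forms.Models
import Cfsg.Agent.Forms.NormField
import Mathlib.FieldTheory.Finite.GaloisField
import Mathlib.LinearAlgebra.Matrix.Adjugate

/-!
# `SU₂(q) ≅ SL₂(q)`

A basis of two isotropic vectors with skew inner product identifies `SU₂(q)` with the
determinant-one matrices over the fixed field of `x ↦ x ^ q`.
-/

set_option autoImplicit false

namespace Cfsg.Agent.Linear

open Matrix
open Cfsg.Agent.Forms (frobQ frobQ_apply frobQ_frobQ frobQ_ne_id two_le_q card_norm_eq)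

section

variable {F : Type*} [Field F] [Fintype F] {q : ℕ} (hF : Fintype.card F = q ^ 2)
include hF

/-- The fixed field of `x ↦ x ^ q`. -/
abbrev fixedQ : Subfield F := RingHom.eqLocusField (frobQ hF) (RingHom.id F)

theorem mem_fixedQ {x : F} : x ∈ fixedQ hF ↔ frobQ hF x = x := Iff.rfl

theorem card_fixedQ : Nat.card (fixedQ hF) = q := by
  classical
  have hq := two_le_q hF
  have hU : Nat.card Fˣ = q ^ 2 - 1 := by rw [Nat.card_units, Nat.card_eq_fintype_card, hF]
  have hfac : q ^ 2 - 1 = (q + 1) * (q - 1) := by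
    simpa using Nat.sq_sub_sq q 1
  have hk : Nat.card ((powMonoidHom (q - 1) : Fˣ →* Fˣ).ker) = q - 1 := by
    rw [IsCyclic.card_powMonoidHom_ker, hU, hfac, Nat.gcd_mul_left_left]
  have h1 : Nat.card (fixedQ hF)ˣ = q - 1 := by
    rw [← hk]
    refine Nat.card_congr (Equiv.ofBijective (fun u => ⟨Units.map (fixedQ hF).subtype.toMonoidHom u,
      ?_⟩) ⟨?_, ?_⟩)
    · rw [MonoidHom.mem_ker, powMonoidHom_apply]
      ext
      have h0 : ((u : fixedQ hF) : F) ≠ 0 := fun h => u.ne_zero (Subtype.ext h)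
      have h2 : ((u : fixedQ hF) : F) ^ q = ((u : fixedQ hF) : F) :=
        (mem_fixedQ hF).1 (u : fixedQ hF).2
      rw [Units.val_pow_eq_pow_val, Units.val_one]
      change ((u : fixedQ hF) : F) ^ (q - 1) = 1
      apply mul_right_cancel₀ h0
      rw [← pow_succ, one_mul, Nat.sub_add_cancel (by omega), h2]
    · intro u v h
      ext
      exact congrArg (fun k : (powMonoidHom (q - 1) : Fˣ →* Fˣ).ker => ((k : Fˣ) : F)) h
    · rintro ⟨x, hx⟩
      rw [MonoidHom.mem_ker, powMonoidHom_apply] at hx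
      have h2 : (x : F) ^ q = x := by
        have h3 := congrArg Units.val hx
        rw [Units.val_pow_eq_pow_val, Units.val_one] at h3
        calc (x : F) ^ q = (x : F) ^ (q - 1) * x := by
              rw [← pow_succ, Nat.sub_add_cancel (by omega)]
          _ = x := by rw [h3, one_mul]
      refine ⟨Units.mk0 ⟨x, h2⟩ (fun h => x.ne_zero (congrArg Subtype.val h)), ?_⟩
      ext
      rfl
  rw [Nat.card_units] at h1
  have : 0 < Nat.card (fixedQ hF) := Nat.card_pos
  omega

/-- The product `Pᵀ * σ(P)` is the Gram matrix of the columns of `P`. -/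
theorem preserves_iff (g : Matrix (Fin 2) (Fin 2) F) :
    (∀ u v : Fin 2 → F, Cfsg.hermForm 2 F q (g *ᵥ u) (g *ᵥ v) = Cfsg.hermForm 2 F q u v) ↔
      gᵀ * g.map (frobQ hF) = 1 := by
  have key : ∀ u v : Fin 2 → F, Cfsg.hermForm 2 F q u v = u ⬝ᵥ (frobQ hF ∘ v) := fun u v => rfl
  have key2 : ∀ u v : Fin 2 → F, Cfsg.hermForm 2 F q (g *ᵥ u) (g *ᵥ v) =
      u ⬝ᵥ ((gᵀ * g.map (frobQ hF)) *ᵥ (frobQ hF ∘ v)) := by
    intro u v
    have hv : frobQ hF ∘ (g *ᵥ v) = g.map (frobQ hF) *ᵥ (frobQ hF ∘ v) :=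
      funext fun i => RingHom.map_mulVec _ _ _ i
    rw [key, hv, ← Matrix.mulVec_mulVec, Matrix.dotProduct_mulVec u gᵀ,
      Matrix.vecMul_transpose]
  constructor
  · intro h
    ext i j
    have := h (Pi.single i 1) (Pi.single j 1)
    rw [key2, key] at this
    have hs : frobQ hF ∘ (Pi.single j 1 : Fin 2 → F) = Pi.single j 1 := by
      funext k
      rw [Function.comp_apply]
      by_cases hk : k = j
      · subst hk; simp
      · simp [hk, zero_pow (by have := two_le_q hF; omega : q ≠ 0)]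
    rw [hs] at this
    simpa [Matrix.one_apply, Pi.single_apply, eq_comm] using this
  · intro h u v
    rw [key2, h, Matrix.one_mulVec, key]

/-- An isotropic basis with skew inner product. -/
theorem exists_hyperbolic_pair :
    ∃ (P : Matrix (Fin 2) (Fin 2) F) (δ : F), δ ≠ 0 ∧ frobQ hF δ = -δ ∧ P.det ≠ 0 ∧
      Pᵀ * P.map (frobQ hF) = !![0, δ; -δ, 0] := by
  classical
  set σ := frobQ hF
  have hq := two_le_q hF
  obtain ⟨a, ha⟩ : ∃ a, σ a ≠ a := by
    by_contra h
    push Not at h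
    exact frobQ_ne_id hF (RingHom.ext h)
  set δ := a - σ a with hδdef
  have hδ : δ ≠ 0 := sub_ne_zero.2 (Ne.symm ha)
  have hσδ : σ δ = -δ := by rw [hδdef, map_sub, frobQ_frobQ, neg_sub]
  have hm1 : σ (-1 : F) = -1 := by rw [map_neg, map_one]
  have hc := card_norm_eq hF (-1) (neg_ne_zero.2 one_ne_zero) hm1
  have hnt : Nontrivial {x : F // x ^ (q + 1) = -1} := by
    rw [← Finite.one_lt_card_iff_nontrivial, hc]; omega
  obtain ⟨⟨l, hl⟩, ⟨k, hk⟩, hne⟩ := hnt
  have hne' : l ≠ k := fun h => hne (Subtype.ext h)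
  have hl' : l * σ l = -1 := by rw [frobQ_apply, ← pow_succ', hl]
  have hk' : k * σ k = -1 := by rw [frobQ_apply, ← pow_succ', hk]
  set c := 1 + l * σ k with hcdef
  have hc0 : c ≠ 0 := by
    intro h
    apply hne'
    have hk0 : σ k ≠ 0 := fun h0 => by simp [h0] at hk'
    apply mul_right_cancel₀ hk0
    linear_combination h - hk'
  set m := σ (δ / c) with hmdef
  have hσm : σ m = δ / c := frobQ_frobQ hF _
  have hσc : σ c = 1 + k * σ l := by
    rw [hcdef, map_add, map_one, map_mul, frobQ_frobQ, mul_comm]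
  have hm0 : m ≠ 0 := by
    rw [hmdef, ne_eq, map_eq_zero]
    exact div_ne_zero hδ hc0
  refine ⟨!![1, m; l, m * k], δ, hδ, hσδ, ?_, ?_⟩
  · rw [Matrix.det_fin_two_of, show (1 : F) * (m * k) - m * l = m * (k - l) by ring]
    exact mul_ne_zero hm0 (sub_ne_zero.2 (Ne.symm hne'))
  · have hσc0 : σ c ≠ 0 := by rw [ne_eq, map_eq_zero]; exact hc0
    ext i j
    fin_cases i <;> fin_cases j <;>
      simp only [Matrix.mul_apply, Fin.sum_univ_two, Matrix.transpose_apply, Matrix.map_apply,
        Matrix.of_apply, Matrix.cons_val', Matrix.cons_val_zero, Matrix.cons_val_one,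
        Matrix.empty_val', Matrix.cons_val_fin_one, Fin.zero_eta, Fin.mk_one, Fin.isValue,
        map_one, map_mul]
    · linear_combination hl'
    · rw [hσm]
      field_simp
      first
        | (rw [hcdef]; ring)
        | rw [hcdef]
        | skip
    · have : m * σ c = -δ := by
        rw [hmdef, ← map_mul, div_mul_cancel₀ _ hc0, hσδ]
      rw [hσc] at this
      linear_combination this
    · linear_combination m * σ m * hk'

/-- In such a basis the isometries of determinant one are the matrices over the fixed field. -/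
theorem gram_preserved_iff {δ : F} (hδ : δ ≠ 0) (h : Matrix (Fin 2) (Fin 2) F) (hh : h.det = 1) :
    hᵀ * !![0, δ; -δ, 0] * h.map (frobQ hF) = !![0, δ; -δ, 0] ↔ h.map (frobQ hF) = h := by
  have key : hᵀ * !![0, δ; -δ, 0] * h = !![0, δ; -δ, 0] := by
    rw [Matrix.det_fin_two] at hh
    ext i j
    fin_cases i <;> fin_cases j <;>
      simp [Matrix.mul_apply, Fin.sum_univ_two]
    · ring
    · linear_combination δ * hh
    · linear_combination -δ * hh
    · ring
  constructor
  · intro h1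
    have hu : IsUnit (hᵀ * !![0, δ; -δ, 0]) := by
      rw [Matrix.isUnit_iff_isUnit_det, Matrix.det_mul, Matrix.det_transpose, hh, one_mul,
        Matrix.det_fin_two_of, isUnit_iff_ne_zero]
      simpa using hδ
    exact hu.mul_left_cancel (h1.trans key.symm)
  · intro h1
    rw [h1, key]

/-- `SU₂(q) ≅ SL₂` of the fixed field. -/
theorem nonempty_SU2_equiv_fixedQ :
    Nonempty (Cfsg.SU 2 F q ≃* Matrix.SpecialLinearGroup (Fin 2) (fixedQ hF)) := by
  classical
  obtain ⟨P, δ, hδ, -, hP, hG⟩ := exists_hyperbolic_pair hF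
  have hPu : IsUnit P.det := isUnit_iff_ne_zero.2 hP
  set J : Matrix (Fin 2) (Fin 2) F := !![0, δ; -δ, 0]
  set σ := frobQ hF
  let conj : Matrix.SpecialLinearGroup (Fin 2) F →* Matrix.SpecialLinearGroup (Fin 2) F :=
    { toFun := fun x => ⟨P * x.1 * P⁻¹, by
        rw [Matrix.det_mul, Matrix.det_mul, x.2, mul_one, Matrix.det_nonsing_inv,
          Ring.mul_inverse_cancel _ hPu]⟩
      map_one' := Subtype.ext (by simp [Matrix.mul_nonsing_inv _ hPu])
      map_mul' := fun x y => Subtype.ext (by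
        show P * (x.1 * y.1) * P⁻¹ = P * x.1 * P⁻¹ * (P * y.1 * P⁻¹)
        simp only [Matrix.mul_assoc, Matrix.nonsing_inv_mul_cancel_left _ _ hPu]) }
  have hkey : ∀ x : Matrix.SpecialLinearGroup (Fin 2) F, conj x ∈ Cfsg.SU 2 F q ↔ x.1.map σ = x.1 := by
    intro x
    refine Iff.trans (preserves_iff hF (P * x.1 * P⁻¹)) (Iff.trans ?_ (gram_preserved_iff hF hδ x.1 x.2))
    have hPm : IsUnit (P.map σ).det := by
      rw [← RingHom.mapMatrix_apply, ← RingHom.map_det]; exact hPu.map σ
    have hmap : (P * x.1 * P⁻¹).map σ = P.map σ * x.1.map σ * (P.map σ)⁻¹ := by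
      rw [Matrix.map_mul, Matrix.map_mul]
      congr 1
      symm
      apply Matrix.inv_eq_left_inv
      rw [← Matrix.map_mul, Matrix.nonsing_inv_mul _ hPu, Matrix.map_one σ (map_zero σ) (map_one σ)]
    rw [hmap, Matrix.transpose_mul, Matrix.transpose_mul]
    have e : P⁻¹ᵀ * (x.1ᵀ * Pᵀ) * (P.map σ * x.1.map σ * (P.map σ)⁻¹) =
        P⁻¹ᵀ * (x.1ᵀ * J * x.1.map σ) * (P.map σ)⁻¹ := by
      rw [show J = Pᵀ * P.map σ from hG.symm]
      simp only [Matrix.mul_assoc]
    rw [e]
    have hT : IsUnit (Pᵀ).det := by rwa [Matrix.det_transpose]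
    constructor
    · intro h
      have := congrArg (fun X => Pᵀ * X * P.map σ) h
      simp only [Matrix.transpose_nonsing_inv, Matrix.mul_assoc,
        Matrix.nonsing_inv_mul _ hPm, mul_one] at this
      rw [Matrix.mul_nonsing_inv_cancel_left _ _ hT] at this
      simp only [← Matrix.mul_assoc, one_mul] at this
      rw [this, hG]
    · intro h
      rw [h, show !![0, δ; -δ, 0] = Pᵀ * P.map σ from hG.symm, Matrix.transpose_nonsing_inv,
        Matrix.nonsing_inv_mul_cancel_left _ _ hT, Matrix.mul_nonsing_inv _ hPm]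
  let ι : Matrix.SpecialLinearGroup (Fin 2) (fixedQ hF) →* Matrix.SpecialLinearGroup (Fin 2) F :=
    Matrix.SpecialLinearGroup.map (fixedQ hF).subtype
  let f : Matrix.SpecialLinearGroup (Fin 2) (fixedQ hF) →* Cfsg.SU 2 F q :=
    (conj.comp ι).codRestrict _ fun y => (hkey _).2 (by
      ext i j; exact (mem_fixedQ hF).1 (y i j).2)
  refine ⟨(MulEquiv.ofBijective f ⟨?_, ?_⟩).symm⟩
  · intro y z h
    have h' : P * (ι y).1 * P⁻¹ = P * (ι z).1 * P⁻¹ :=
      congrArg (fun t : Cfsg.SU 2 F q => (t : Matrix.SpecialLinearGroup (Fin 2) F).1) h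
    have h2 := congrArg (fun X => P⁻¹ * X * P) h'
    simp only [Matrix.mul_assoc, Matrix.nonsing_inv_mul_cancel_left _ _ hPu,
      Matrix.nonsing_inv_mul _ hPu, mul_one] at h2
    exact Subtype.ext (Matrix.ext fun i j => Subtype.ext (congrFun (congrFun h2 i) j))
  · rintro ⟨g, hg⟩
    let x : Matrix.SpecialLinearGroup (Fin 2) F := ⟨P⁻¹ * g.1 * P, by
      rw [Matrix.det_mul, Matrix.det_mul, g.2, mul_one, Matrix.det_nonsing_inv,
        Ring.inverse_mul_cancel _ hPu]⟩
    have hx : conj x = g := Subtype.ext (by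
      change P * (P⁻¹ * g.1 * P) * P⁻¹ = g.1
      simp only [Matrix.mul_assoc, Matrix.mul_nonsing_inv _ hPu, mul_one,
        Matrix.mul_nonsing_inv_cancel_left _ _ hPu])
    have hfix := (hkey x).1 (hx ▸ hg)
    let M : Matrix (Fin 2) (Fin 2) (fixedQ hF) :=
      fun i j => ⟨x.1 i j, (mem_fixedQ hF).2 (congrFun (congrFun hfix i) j)⟩
    refine ⟨⟨M, ?_⟩, ?_⟩
    · apply Subtype.val_injective
      change (fixedQ hF).subtype M.det = ((1 : fixedQ hF) : F)
      rw [RingHom.map_det]
      exact x.2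
    · apply Subtype.ext
      change conj _ = g
      rw [← hx]
      congr 1

end

end Cfsg.Agent.Linear
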