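import Cfsg.Agent.Linear.TransvCentTwo

/-!
# The large extraspecial subgroup of `SL_(m+2)(2)`
-/

set_option autoImplicit false
set_option linter.unusedSectionVars false

namespace Cfsg.Agent.Linear.TransvCentTwo

open Matrix

variable {F : Type*} [Field F] [Fintype F] {m : ℕ}

/-- Simultaneous permutation of rows and columns. -/
def perm {n : ℕ} (σ : Equiv.Perm (Fin n)) : SpecialLinearGroup (Fin n) F ≃* SpecialLinearGroup (Fin n) F where
  toFun A := ⟨A.1.submatrix σ σ, by rw [det_submatrix_equiv_self]; exact A.2⟩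
  invFun A := ⟨A.1.submatrix σ.symm σ.symm, by rw [det_submatrix_equiv_self]; exact A.2⟩
  left_inv A := Subtype.ext (by ext i j; simp)
  right_inv A := Subtype.ext (by ext i j; simp)
  map_mul' A B := Subtype.ext (submatrix_mul_equiv A.1 B.1 σ σ σ).symm

theorem exists_perm {n : ℕ} {i j : Fin n} (hij : i ≠ j) {k l : Fin n} (hkl : k ≠ l) :
    ∃ σ : Equiv.Perm (Fin n), σ i = k ∧ σ j = l := by
  refine ⟨(Equiv.swap i k).trans (Equiv.swap (Equiv.swap i k j) l), ?_, ?_⟩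
  · rw [Equiv.trans_apply, Equiv.swap_apply_left]
    refine Equiv.swap_apply_of_ne_of_ne (fun h => hij ?_) hkl
    exact (Equiv.swap i k).injective ((Equiv.swap_apply_left i k).trans h)
  · rw [Equiv.trans_apply, Equiv.swap_apply_left]

theorem transvection_submatrix {n : ℕ} (σ : Equiv.Perm (Fin n)) {i j k l : Fin n} (hi : σ i = k) (hj : σ j = l) :
    (transvection k l (1 : F)).submatrix σ σ = transvection i j 1 := by
  subst hi hj
  ext a b
  simp [transvection, Matrix.one_apply, Matrix.single, σ.injective.eq_iff]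

theorem large_odd (hF : Fintype.card F = 2) (hm : 1 ≤ m) (K : Subgroup (SpecialLinearGroup (Fin (m + 2)) F))
    (hK : Odd (Nat.card K)) (hQK : Q₀ F m ≤ Subgroup.normalizer (K : Set (SpecialLinearGroup (Fin (m + 2)) F))) :
    K = ⊥ := by
  classical
  have hconj : ∀ q ∈ Q₀ F m, ∀ k ∈ K, q * k * q⁻¹ ∈ K := fun q hq k hk =>
    ((Subgroup.mem_normalizer_iff.1 (hQK hq)) k).1 hk
  have hodd : ∀ k ∈ K, Odd (orderOf k) := fun k hk => by
    obtain ⟨c, hc⟩ := (Subgroup.orderOf_mk k hk) ▸ (orderOf_dvd_natCard (⟨k, hk⟩ : K))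
    rw [hc] at hK
    exact (Nat.odd_mul.1 hK).1
  -- `z₀` inverts `K`
  have hzz : (z₀ F m) * (z₀ F m) = 1 := by
    have := pow_orderOf_eq_one (z₀ F m)
    rwa [orderOf_z₀ hF, pow_two] at this
  have hz' : (z₀ F m)⁻¹ = (z₀ F m) := inv_eq_of_mul_eq_one_right hzz
  have hfix : ∀ k ∈ K, (z₀ F m) * k * (z₀ F m)⁻¹ = k → k = 1 := fun k hk h => by
    have hC : k ∈ Subgroup.centralizer ({(z₀ F m)} : Set (SpecialLinearGroup (Fin (m + 2)) F)) := by
      rw [Subgroup.mem_centralizer_singleton_iff]; exact (mul_inv_eq_iff_eq_mul.1 h).symm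
    obtain ⟨π, -, hker, -⟩ := exists_proj (m := m) hF
    have hn : ((Q₀ F m).subgroupOf (Subgroup.centralizer ({(z₀ F m)} : Set (SpecialLinearGroup (Fin (m + 2)) F)))).Normal := hker ▸ inferInstance
    have hcent : ∀ q ∈ Q₀ F m, q * k = k * q := fun q hq => by
      have h1 : k * q * k⁻¹ * q⁻¹ ∈ Q₀ F m :=
        mul_mem (hn.conj_mem ⟨q, Q₀_le hq⟩ hq ⟨k, hC⟩) (inv_mem hq)
      have h2 : k * q * k⁻¹ * q⁻¹ ∈ K := by
        have := mul_mem hk (hconj q hq k⁻¹ (inv_mem hk))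
        simpa [mul_assoc] using this
      obtain ⟨e, he⟩ := (IsPGroup.iff_orderOf.1 (isPGroup_Q₀ hF)) ⟨_, h1⟩
      rw [Subgroup.orderOf_mk] at he
      rcases e with _ | e
      · rw [pow_zero, orderOf_eq_one_iff, mul_inv_eq_one, mul_inv_eq_iff_eq_mul] at he
        exact he.symm
      · have := hodd _ h2
        rw [he, pow_succ] at this
        exact absurd this (Nat.not_odd_iff_even.2 (even_two.mul_left _))
    have hkz : k ∈ Subgroup.zpowers (z₀ F m) := centralizer_Q₀ (m := m) hF ▸ hcent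
    have h2 := (orderOf_dvd_of_mem_zpowers hkz)
    rw [orderOf_z₀ hF, Nat.dvd_prime Nat.prime_two] at h2
    rcases h2 with h2 | h2
    · exact orderOf_eq_one_iff.1 h2
    · exact absurd (h2 ▸ hodd k hk) (by decide)
  have hinv : ∀ k ∈ K, (z₀ F m) * k * (z₀ F m)⁻¹ = k⁻¹ := by
    let f : K → K := fun k => ⟨k.1⁻¹ * ((z₀ F m) * k.1 * (z₀ F m)⁻¹), mul_mem (inv_mem k.2) (hconj (z₀ F m) z₀_mem k.1 k.2)⟩
    have hf : Function.Injective f := fun a b hab => by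
      have h : a.1⁻¹ * ((z₀ F m) * a.1 * (z₀ F m)⁻¹) = b.1⁻¹ * ((z₀ F m) * b.1 * (z₀ F m)⁻¹) := congrArg Subtype.val hab
      have := hfix (b.1 * a.1⁻¹) (mul_mem b.2 (inv_mem a.2)) (by
        calc (z₀ F m) * (b.1 * a.1⁻¹) * (z₀ F m)⁻¹ = ((z₀ F m) * b.1 * (z₀ F m)⁻¹) * ((z₀ F m) * a.1 * (z₀ F m)⁻¹)⁻¹ := by group
          _ = b.1 * (b.1⁻¹ * ((z₀ F m) * b.1 * (z₀ F m)⁻¹)) * (a.1 * (a.1⁻¹ * ((z₀ F m) * a.1 * (z₀ F m)⁻¹)))⁻¹ := by group
          _ = b.1 * (a.1⁻¹ * ((z₀ F m) * a.1 * (z₀ F m)⁻¹)) * (a.1 * (a.1⁻¹ * ((z₀ F m) * a.1 * (z₀ F m)⁻¹)))⁻¹ := by rw [h]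
          _ = b.1 * a.1⁻¹ := by group)
      exact Subtype.ext (mul_inv_eq_one.1 this).symm
    intro k hk
    obtain ⟨x, hx⟩ := (Finite.injective_iff_surjective.1 hf) ⟨k, hk⟩
    have hx' : x.1⁻¹ * ((z₀ F m) * x.1 * (z₀ F m)⁻¹) = k := congrArg Subtype.val hx
    rw [← hx']
    have hzzk : ∀ g : SpecialLinearGroup (Fin (m + 2)) F, (z₀ F m) * ((z₀ F m) * g * (z₀ F m)⁻¹) * (z₀ F m)⁻¹ = g := fun g => by
      rw [hz', ← mul_assoc, ← mul_assoc, hzz, one_mul, mul_assoc, hzz, mul_one]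
    calc (z₀ F m) * (x.1⁻¹ * ((z₀ F m) * x.1 * (z₀ F m)⁻¹)) * (z₀ F m)⁻¹ = ((z₀ F m) * x.1 * (z₀ F m)⁻¹)⁻¹ * ((z₀ F m) * ((z₀ F m) * x.1 * (z₀ F m)⁻¹) * (z₀ F m)⁻¹) := by group
      _ = (x.1⁻¹ * ((z₀ F m) * x.1 * (z₀ F m)⁻¹))⁻¹ := by rw [hzzk]; group
  -- a second transvection of `Q`
  let i : Fin m := ⟨0, hm⟩
  obtain ⟨y, hyd⟩ : ∃ y : SpecialLinearGroup (Fin (m + 2)) F, y = el 0 (Pi.single i 1) 0 1 := ⟨_, rfl⟩
  have hy : y ∈ Q₀ F m := hyd ▸ el_mem_Q₀ _ _ _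
  set σ : Equiv.Perm (Fin (m + 2)) := Equiv.swap 1 i.succ.succ
  have hy' : y.1 = transvection 0 i.succ.succ 1 := by
    ext a b
    refine Fin.cases ?_ (fun a => Fin.cases ?_ (fun a => ?_) a) a <;>
      refine Fin.cases ?_ (fun b => Fin.cases ?_ (fun b => ?_) b) b <;>
      simp [hyd, el, M, transvection, Matrix.one_apply, Matrix.single, Fin.ext_iff, Pi.single_apply] <;>
      exact if_congr eq_comm rfl rfl
  have h0 : σ 0 = 0 := Equiv.swap_apply_of_ne_of_ne (by simp [Fin.ext_iff]) (by simp [Fin.ext_iff])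
  have hzy : perm σ (z₀ F m) = y := Subtype.ext (by
    show (z₀ F m).1.submatrix σ σ = y.1
    rw [hy', z₀_coe]
    exact transvection_submatrix σ h0 (Equiv.swap_apply_right _ _))
  have hyz : perm σ y = (z₀ F m) := Subtype.ext (by
    show y.1.submatrix σ σ = (z₀ F m).1
    rw [hy', z₀_coe]
    exact transvection_submatrix σ h0 (Equiv.swap_apply_left _ _))
  have hfy : ∀ j ∈ K, y * j = j * y → j = 1 := by
    intro j hj hcomm
    have hjC : perm σ j ∈ Subgroup.centralizer ({(z₀ F m)} : Set (SpecialLinearGroup (Fin (m + 2)) F)) := by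
      rw [Subgroup.mem_centralizer_singleton_iff, ← hyz, ← map_mul, ← map_mul, hcomm]
    refine (perm (F := F) σ).injective ((eq_one_of_inverted hF hjC hy ?_ ?_).trans (map_one _).symm)
    · rw [MulEquiv.orderOf_eq]; exact hodd j hj
    · rw [← hzy, ← map_inv, ← map_mul, ← map_mul, hinv j hj, map_inv]
  -- `y` inverts `K` too
  have hyy : y * y = 1 := by
    rw [hyd]
    rw [sq_el hF, ← el_one]; simp
  have hy'' : y⁻¹ = y := inv_eq_of_mul_eq_one_right hyy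
  have hinvy : ∀ k ∈ K, y * k * y⁻¹ = k⁻¹ := by
    let f : K → K := fun k => ⟨k.1⁻¹ * (y * k.1 * y⁻¹), mul_mem (inv_mem k.2) (hconj y hy k.1 k.2)⟩
    have hf : Function.Injective f := fun a b hab => by
      have h : a.1⁻¹ * (y * a.1 * y⁻¹) = b.1⁻¹ * (y * b.1 * y⁻¹) := congrArg Subtype.val hab
      have := hfy (b.1 * a.1⁻¹) (mul_mem b.2 (inv_mem a.2)) (mul_inv_eq_iff_eq_mul.1 (by
        calc y * (b.1 * a.1⁻¹) * y⁻¹ = (y * b.1 * y⁻¹) * (y * a.1 * y⁻¹)⁻¹ := by group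
          _ = b.1 * (b.1⁻¹ * (y * b.1 * y⁻¹)) * (a.1 * (a.1⁻¹ * (y * a.1 * y⁻¹)))⁻¹ := by group
          _ = b.1 * (a.1⁻¹ * (y * a.1 * y⁻¹)) * (a.1 * (a.1⁻¹ * (y * a.1 * y⁻¹)))⁻¹ := by rw [h]
          _ = b.1 * a.1⁻¹ := by group))
      exact Subtype.ext (mul_inv_eq_one.1 this).symm
    intro k hk
    obtain ⟨x, hx⟩ := (Finite.injective_iff_surjective.1 hf) ⟨k, hk⟩
    have hx' : x.1⁻¹ * (y * x.1 * y⁻¹) = k := congrArg Subtype.val hx
    rw [← hx']
    have hyyk : ∀ g : SpecialLinearGroup (Fin (m + 2)) F, y * (y * g * y⁻¹) * y⁻¹ = g := fun g => by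
      rw [hy'', ← mul_assoc, ← mul_assoc, hyy, one_mul, mul_assoc, hyy, mul_one]
    calc y * (x.1⁻¹ * (y * x.1 * y⁻¹)) * y⁻¹ = (y * x.1 * y⁻¹)⁻¹ * (y * (y * x.1 * y⁻¹) * y⁻¹) := by group
      _ = (x.1⁻¹ * (y * x.1 * y⁻¹))⁻¹ := by rw [hyyk]; group
  obtain ⟨q, hqd⟩ : ∃ q : SpecialLinearGroup (Fin (m + 2)) F, q = el 0 0 (Pi.single i 1) 1 := ⟨_, rfl⟩
  have hq : q ∈ Q₀ F m := hqd ▸ el_mem_Q₀ _ _ _
  have hqy : q * y = (z₀ F m) * y * q := by
    rw [hqd, hyd, z₀]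
    rw [el_mul, el_mul, el_mul]
    congr 1
    · simp [add_self hF]
    all_goals simp
    all_goals (ext k; simp [Matrix.one_apply, Pi.single_apply])
  rw [eq_bot_iff]
  intro k hk
  rw [Subgroup.mem_bot]
  have hzyk : (z₀ F m) * y * k = k * ((z₀ F m) * y) := by
    refine mul_inv_eq_iff_eq_mul.1 ?_
    calc (z₀ F m) * y * k * ((z₀ F m) * y)⁻¹ = (z₀ F m) * (y * k * y⁻¹) * (z₀ F m)⁻¹ := by group
      _ = k := by rw [hinvy k hk, hinv _ (inv_mem hk), inv_inv]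
  have hk' : q⁻¹ * k * q ∈ K := by simpa using hconj q⁻¹ (inv_mem hq) k hk
  have hcomm : y * (q⁻¹ * k * q) = (q⁻¹ * k * q) * y := by
    have e1 : y = q⁻¹ * ((z₀ F m) * y) * q := by rw [mul_assoc, ← hqy, inv_mul_cancel_left]
    calc y * (q⁻¹ * k * q) = q⁻¹ * ((z₀ F m) * y * k) * q := by nth_rewrite 1 [e1]; group
      _ = q⁻¹ * (k * ((z₀ F m) * y)) * q := by rw [hzyk]
      _ = (q⁻¹ * k * q) * y := by nth_rewrite 2 [e1]; group
  have := hfy _ hk' hcomm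
  calc k = q * (q⁻¹ * k * q) * q⁻¹ := by group
    _ = 1 := by rw [this]; group

theorem isLarge (hF : Fintype.card F = 2) (hm : 1 ≤ m) : Cfsg.IsLargeExtraspecial (Q₀ F m) := by
  refine ⟨isExtraspecial_Q₀ hF hm, (centralizer_Q₀ hF).trans (center_Q₀ hF).symm, ?_, large_odd hF hm⟩
  rw [center_Q₀ hF]
  intro g hg
  have hgC : g ∈ Subgroup.centralizer ({z₀ F m} : Set (SpecialLinearGroup (Fin (m + 2)) F)) :=
    Subgroup.centralizer_le (Set.singleton_subset_iff.2 (Subgroup.mem_zpowers _)) hg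
  obtain ⟨π, -, hker, -⟩ := exists_proj (m := m) hF
  have hn : ((Q₀ F m).subgroupOf (Subgroup.centralizer ({z₀ F m} : Set (SpecialLinearGroup (Fin (m + 2)) F)))).Normal :=
    hker ▸ inferInstance
  rw [Subgroup.mem_normalizer_iff]
  refine fun x => ⟨fun hx => hn.conj_mem ⟨x, Q₀_le hx⟩ hx ⟨g, hgC⟩, fun hx => ?_⟩
  have := hn.conj_mem ⟨g * x * g⁻¹, Q₀_le hx⟩ hx ⟨g, hgC⟩⁻¹
  simpa [Subgroup.mem_subgroupOf, mul_assoc] using this

theorem split (hF : Fintype.card F = 2) :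
    ∃ K : Subgroup (SpecialLinearGroup (Fin (m + 2)) F),
      K ≤ Subgroup.centralizer ({z₀ F m} : Set (SpecialLinearGroup (Fin (m + 2)) F)) ∧ Q₀ F m ⊓ K = ⊥ ∧
      Q₀ F m ⊔ K = Subgroup.centralizer ({z₀ F m} : Set (SpecialLinearGroup (Fin (m + 2)) F)) ∧
      Nonempty (K ≃* SpecialLinearGroup (Fin m) F) := by
  have hle : (levi F m).range ≤ Subgroup.centralizer ({z₀ F m} : Set (SpecialLinearGroup (Fin (m + 2)) F)) := by
    rintro _ ⟨K, rfl⟩; exact mem_cent_el _ _ _ _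
  refine ⟨(levi F m).range, hle, ?_, le_antisymm (sup_le Q₀_le hle) fun g hg => ?_,
    ⟨(MonoidHom.ofInjective levi_injective).symm⟩⟩
  · rw [eq_bot_iff]
    rintro _ ⟨⟨c, a, b, h⟩, ⟨K, rfl⟩⟩
    rw [Subgroup.mem_bot, (el_inj h).2.2.2, map_one]
  · obtain ⟨c, a, b, K, rfl⟩ := exists_el hF g hg
    rw [el_eq]
    exact Subgroup.mul_mem_sup (el_mem_Q₀ _ _ _) ⟨K, rfl⟩

theorem exists_elementary (hF : Fintype.card F = 2) :
    ∃ E : Subgroup (SpecialLinearGroup (Fin (m + 2)) F), E ≤ Q₀ F m ∧ Cfsg.IsElementaryAbelian 2 E ∧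
      Nat.card E = 2 ^ (m + 1) := by
  let f : Multiplicative (F × (Fin m → F)) →* SpecialLinearGroup (Fin (m + 2)) F :=
    MonoidHom.mk' (fun x => el x.toAdd.1 x.toAdd.2 0 1) fun x y => by
      rw [el_mul, one_mul]; congr 1 <;> simp [add_comm]
  have hf : Function.Injective f := fun x y h => Multiplicative.toAdd.injective
    (Prod.ext (el_inj h).1 (el_inj h).2.1)
  refine ⟨f.range, by rintro _ ⟨x, rfl⟩; exact el_mem_Q₀ _ _ _, ⟨⟨⟨?_⟩⟩, ?_⟩, ?_⟩
  · rintro ⟨_, x, rfl⟩ ⟨_, y, rfl⟩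
    exact Subtype.ext (show f x * f y = f y * f x by rw [← map_mul, ← map_mul, mul_comm])
  · rintro _ ⟨x, rfl⟩
    show el x.toAdd.1 x.toAdd.2 0 1 ^ 2 = 1
    rw [pow_two, sq_el hF]
    simpa using el_one
  · rw [← Nat.card_congr (MonoidHom.ofInjective hf).toEquiv, Nat.card_congr Multiplicative.toAdd, Nat.card_prod,
      Nat.card_fun, Nat.card_fin, Nat.card_eq_fintype_card, hF, pow_succ']

theorem generalizedFitting_transvection (hF : Fintype.card F = 2) {n : ℕ} (hn : 3 ≤ n) {i j : Fin n} (hij : i ≠ j)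
    (t : SpecialLinearGroup (Fin n) F) (ht : t.1 = transvection i j 1) :
    Cfsg.generalizedFittingSubgroup ↥(Subgroup.centralizer ({t} : Set (SpecialLinearGroup (Fin n) F))) =
      Cfsg.pCore 2 ↥(Subgroup.centralizer ({t} : Set (SpecialLinearGroup (Fin n) F))) := by
  haveI : Fact (Nat.Prime 2) := ⟨Nat.prime_two⟩
  obtain ⟨m, rfl⟩ : ∃ m, n = m + 2 := ⟨n - 2, by omega⟩
  obtain ⟨σ, h0, h1⟩ := exists_perm hij (k := (0 : Fin (m + 2))) (l := 1) (by simp [Fin.ext_iff])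
  have hzt : perm σ (z₀ F m) = t := Subtype.ext (by
    show (z₀ F m).1.submatrix σ σ = t.1
    rw [ht, z₀_coe]
    exact transvection_submatrix σ h0 h1)
  have he : (Subgroup.centralizer ({z₀ F m} : Set (SpecialLinearGroup (Fin (m + 2)) F))).map (perm (F := F) σ).toMonoidHom =
      Subgroup.centralizer ({t} : Set (SpecialLinearGroup (Fin (m + 2)) F)) := by
    ext g
    obtain ⟨g, rfl⟩ := (perm (F := F) σ).surjective g
    rw [Subgroup.mem_map_equiv, MulEquiv.symm_apply_apply, Subgroup.mem_centralizer_singleton_iff,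
      Subgroup.mem_centralizer_singleton_iff, ← hzt, ← map_mul, ← map_mul]
    exact (perm (F := F) σ).injective.eq_iff.symm
  let e := ((Subgroup.centralizer ({z₀ F m} : Set (SpecialLinearGroup (Fin (m + 2)) F))).equivMapOfInjective _
    (perm (F := F) σ).injective).trans (MulEquiv.subgroupCongr he)
  rw [Components.generalizedFitting_eq_pCore_iff]
  obtain ⟨hL, hO⟩ := Components.generalizedFitting_eq_pCore_iff.1 (generalizedFitting_centralizer (m := m) hF)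
  exact ⟨by rw [← Components.layer_map e, hL, Subgroup.map_bot],
    by rw [← Core.pPrimeCore_map_equiv e, hO, Subgroup.map_bot]⟩

end Cfsg.Agent.Linear.TransvCentTwo
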