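import Cfsg.Prelude.Def_MonsterType
import Cfsg.Agent.Core.Cores
import Cfsg.Agent.Components.FStar
import Cfsg.Agent.Components.Local
import Cfsg.Agent.FGS3.PGroupFrattini

/-!
# The centralizer of a transvection in `SL_(m+2)(2)`
-/

set_option autoImplicit false
set_option linter.unusedSectionVars false

namespace Cfsg.Agent.Linear.TransvCentTwo

open Matrix

variable {F : Type*} [Field F] [Fintype F] {m : ℕ}

/-- The element with corner `c`, row `a`, column `b` and block `K`. -/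
def M (c : F) (a b : Fin m → F) (K : Matrix (Fin m) (Fin m) F) : Matrix (Fin (m + 2)) (Fin (m + 2)) F :=
  Matrix.of (Fin.cons (Fin.cons 1 (Fin.cons c a))
    (Fin.cons (Fin.cons 0 (Fin.cons 1 0)) (fun i => Fin.cons 0 (Fin.cons (b i) (K i)))))

theorem M_mul (c c' : F) (a a' b b' : Fin m → F) (K K' : Matrix (Fin m) (Fin m) F) :
    M c a b K * M c' a' b' K' = M (c + c' + a ⬝ᵥ b') (a' + a ᵥ* K') (b + K *ᵥ b') (K * K') := by
  ext i j
  refine Fin.cases ?_ (fun i => Fin.cases ?_ (fun i => ?_) i) i <;>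
    refine Fin.cases ?_ (fun j => Fin.cases ?_ (fun j => ?_) j) j <;>
    simp [M, Matrix.mul_apply, Fin.sum_univ_succ, dotProduct, vecMul, mulVec] <;> ring

theorem M_one : M (0 : F) (0 : Fin m → F) 0 1 = 1 := by
  ext i j
  refine Fin.cases ?_ (fun i => Fin.cases ?_ (fun i => ?_) i) i <;>
    refine Fin.cases ?_ (fun j => Fin.cases ?_ (fun j => ?_) j) j <;>
    simp [M, Matrix.one_apply, Fin.succ_ne_zero, Fin.succ_inj, Fin.ext_iff]

theorem det_M (c : F) (a b : Fin m → F) (K : Matrix (Fin m) (Fin m) F) : (M c a b K).det = K.det := by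
  rw [det_succ_column_zero, Fin.sum_univ_succ]
  have h0 : ∀ i : Fin (m + 1), M c a b K i.succ 0 = 0 := fun i => by
    refine Fin.cases ?_ (fun i => ?_) i <;> simp [M]
  simp only [h0, mul_zero, zero_mul, Finset.sum_const_zero, add_zero]
  rw [det_succ_row_zero, Fin.sum_univ_succ]
  have h1 : ∀ j : Fin m, ((M c a b K).submatrix (Fin.succAbove 0) Fin.succ) 0 j.succ = 0 := fun j => by simp [M]
  simp only [h1, mul_zero, zero_mul, Finset.sum_const_zero, add_zero]
  simp [M, submatrix]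
  rfl

theorem M_inj {c c' : F} {a a' b b' : Fin m → F} {K K' : Matrix (Fin m) (Fin m) F}
    (h : M c a b K = M c' a' b' K') : c = c' ∧ a = a' ∧ b = b' ∧ K = K' := by
  refine ⟨?_, funext fun j => ?_, funext fun i => ?_, Matrix.ext fun i j => ?_⟩
  · simpa [M] using congrFun (congrFun h 0) (Fin.succ 0)
  · simpa [M] using congrFun (congrFun h 0) j.succ.succ
  · simpa [M] using congrFun (congrFun h i.succ.succ) (Fin.succ 0)
  · simpa [M] using congrFun (congrFun h i.succ.succ) j.succ.succ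

/-- The element of `SL`. -/
def el (c : F) (a b : Fin m → F) (K : SpecialLinearGroup (Fin m) F) : SpecialLinearGroup (Fin (m + 2)) F :=
  ⟨M c a b K.1, by rw [det_M]; exact K.2⟩

theorem el_mul (c c' : F) (a a' b b' : Fin m → F) (K K' : SpecialLinearGroup (Fin m) F) :
    el c a b K * el c' a' b' K' = el (c + c' + a ⬝ᵥ b') (a' + a ᵥ* K'.1) (b + K.1 *ᵥ b') (K * K') :=
  Subtype.ext (M_mul c c' a a' b b' K.1 K'.1)

theorem el_one : el (0 : F) (0 : Fin m → F) 0 1 = 1 := Subtype.ext M_one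

theorem el_inj {c c' : F} {a a' b b' : Fin m → F} {K K' : SpecialLinearGroup (Fin m) F}
    (h : el c a b K = el c' a' b' K') : c = c' ∧ a = a' ∧ b = b' ∧ K = K' :=
  have h' := M_inj (congrArg Subtype.val h)
  ⟨h'.1, h'.2.1, h'.2.2.1, Subtype.ext h'.2.2.2⟩

variable (F m) in
/-- The standard transvection. -/
def z₀ : SpecialLinearGroup (Fin (m + 2)) F := el 1 0 0 1

theorem z₀_coe : (z₀ F m).1 = transvection 0 1 1 := by
  ext i j
  refine Fin.cases ?_ (fun i => Fin.cases ?_ (fun i => ?_) i) i <;>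
    refine Fin.cases ?_ (fun j => Fin.cases ?_ (fun j => ?_) j) j <;>
    simp [z₀, el, M, transvection, Matrix.one_apply, Matrix.single, Fin.ext_iff]

theorem v1 : (1 : SpecialLinearGroup (Fin m) F).1 = 1 := rfl

theorem vmul (A B : SpecialLinearGroup (Fin m) F) : (A * B).1 = A.1 * B.1 := rfl

theorem zero_or_one (hF : Fintype.card F = 2) (x : F) : x = 0 ∨ x = 1 := by
  classical
  by_contra h
  push Not at h
  have := Finset.card_le_univ ({0, 1, x} : Finset F)
  rw [Finset.card_insert_of_notMem (by simp [Ne.symm h.1]), Finset.card_insert_of_notMem (by simp [Ne.symm h.2]),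
    Finset.card_singleton, hF] at this
  omega

theorem add_self (hF : Fintype.card F = 2) (x : F) : x + x = 0 := by
  have h2 : ((2 : ℕ) : F) = 0 := hF ▸ Nat.cast_card_eq_zero F
  rw [← two_mul, show (2 : F) = 0 by exact_mod_cast h2, zero_mul]

theorem mem_cent_el (c : F) (a b : Fin m → F) (K : SpecialLinearGroup (Fin m) F) :
    el c a b K ∈ Subgroup.centralizer ({z₀ F m} : Set (SpecialLinearGroup (Fin (m + 2)) F)) := by
  rw [Subgroup.mem_centralizer_singleton_iff, z₀, el_mul, el_mul]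
  simp [add_comm]

theorem exists_el (hF : Fintype.card F = 2) (g : SpecialLinearGroup (Fin (m + 2)) F)
    (hg : g ∈ Subgroup.centralizer ({z₀ F m} : Set (SpecialLinearGroup (Fin (m + 2)) F))) :
    ∃ c a b K, g = el c a b K := by
  have h : g.1 * (z₀ F m).1 = (z₀ F m).1 * g.1 :=
    congrArg (fun A : SpecialLinearGroup (Fin (m + 2)) F => A.1) (Subgroup.mem_centralizer_singleton_iff.1 hg)
  rw [z₀_coe] at h
  have hl : ∀ i, g.1 i 0 = if i = 0 then g.1 1 1 else 0 := by
    intro i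
    have := congrFun (congrFun h i) 1
    rw [mul_transvection_apply_same] at this
    split_ifs with hi
    · subst hi; rw [transvection_mul_apply_same] at this; linear_combination this
    · rw [transvection_mul_apply_of_ne _ _ _ _ hi] at this; linear_combination this
  have hr : ∀ j, g.1 1 j = if j = 1 then g.1 0 0 else 0 := by
    intro j
    have := congrFun (congrFun h 0) j
    rw [transvection_mul_apply_same] at this
    split_ifs with hj
    · subst hj; rw [mul_transvection_apply_same] at this; linear_combination -this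
    · rw [mul_transvection_apply_of_ne _ _ _ _ hj] at this; linear_combination -this
  have h11 : g.1 1 1 = g.1 0 0 := by simpa using hr 1
  have h00 : g.1 0 0 = 1 := by
    rcases zero_or_one hF (g.1 0 0) with h0 | h0
    · have hd : g.1.det = 0 := det_eq_zero_of_column_eq_zero 0 fun i => by
        rw [hl i]; split_ifs <;> simp [h11, h0]
      rw [g.2] at hd
      exact absurd hd one_ne_zero
    · exact h0
  set K := g.1.submatrix (fun i : Fin m => i.succ.succ) (fun j : Fin m => j.succ.succ)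
  have hM : g.1 = M (g.1 0 1) (fun j => g.1 0 j.succ.succ) (fun i => g.1 i.succ.succ 1) K := by
    ext i j
    refine Fin.cases ?_ (fun i => Fin.cases ?_ (fun i => ?_) i) i <;>
      refine Fin.cases ?_ (fun j => Fin.cases ?_ (fun j => ?_) j) j
    all_goals simp only [M, of_apply, Fin.cons_zero, Fin.cons_succ, Pi.zero_apply]
    · exact h00
    · rfl
    · rw [hl, if_neg (by simp)]
    · rw [Fin.succ_zero_eq_one, h11, h00]
    · rw [Fin.succ_zero_eq_one, hr, if_neg (by simp [Fin.ext_iff])]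
    · rw [hl, if_neg (by simp)]
    · rfl
    · rfl
  refine ⟨_, _, _, ⟨K, ?_⟩, Subtype.ext hM⟩
  have := g.2
  rwa [hM, det_M] at this

variable (F m) in
/-- The unipotent radical. -/
def Q₀ : Subgroup (SpecialLinearGroup (Fin (m + 2)) F) where
  carrier := {g | ∃ c a b, g = el c a b 1}
  one_mem' := ⟨0, 0, 0, el_one.symm⟩
  mul_mem' := by
    rintro _ _ ⟨c, a, b, rfl⟩ ⟨c', a', b', rfl⟩
    exact ⟨_, _, _, by rw [el_mul, one_mul]⟩
  inv_mem' := by
    rintro _ ⟨c, a, b, rfl⟩
    refine ⟨-c + a ⬝ᵥ b, -a, -b, inv_eq_of_mul_eq_one_right ?_⟩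
    rw [el_mul, ← el_one, one_mul]
    congr 1 <;> simp

theorem el_mem_Q₀ (c : F) (a b : Fin m → F) : el c a b 1 ∈ Q₀ F m := ⟨c, a, b, rfl⟩

theorem Q₀_le : Q₀ F m ≤ Subgroup.centralizer ({z₀ F m} : Set (SpecialLinearGroup (Fin (m + 2)) F)) := by
  rintro _ ⟨c, a, b, rfl⟩
  exact mem_cent_el c a b 1

theorem z₀_mem : z₀ F m ∈ Q₀ F m := el_mem_Q₀ 1 0 0

theorem sq_el (hF : Fintype.card F = 2) (c : F) (a b : Fin m → F) :
    el c a b 1 * el c a b 1 = el (a ⬝ᵥ b) 0 0 1 := by
  rw [el_mul, one_mul]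
  congr 1
  · rw [add_self hF, zero_add]
  · rw [v1, vecMul_one]; exact funext fun i => add_self hF _
  · rw [v1, one_mulVec]; exact funext fun i => add_self hF _

theorem isPGroup_Q₀ (hF : Fintype.card F = 2) : IsPGroup 2 (Q₀ F m) := by
  rintro ⟨_, c, a, b, rfl⟩
  refine ⟨2, Subtype.ext ?_⟩
  show el c a b 1 ^ 2 ^ 2 = 1
  rw [pow_two 2, pow_mul, pow_two (el c a b 1), sq_el hF, pow_two, el_mul, ← el_one, one_mul]
  congr 1 <;> simp [add_self hF]

theorem card_Q₀ (hF : Fintype.card F = 2) : Nat.card (Q₀ F m) = 2 ^ (2 * m + 1) := by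
  let f : F × (Fin m → F) × (Fin m → F) → Q₀ F m := fun x => ⟨el x.1 x.2.1 x.2.2 1, el_mem_Q₀ _ _ _⟩
  have hf : Function.Bijective f := ⟨fun x y h => by
    obtain ⟨h1, h2, h3, -⟩ := el_inj (congrArg Subtype.val h)
    exact Prod.ext h1 (Prod.ext h2 h3), fun ⟨_, c, a, b, hg⟩ => ⟨(c, a, b), Subtype.ext hg.symm⟩⟩
  rw [← Nat.card_congr (Equiv.ofBijective f hf)]
  simp only [Nat.card_prod, Nat.card_fun, Nat.card_fin, Nat.card_eq_fintype_card (α := F), hF]
  rw [← pow_add, ← two_mul, ← pow_succ']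

/-- Only the centre centralizes the radical. -/
theorem centralizer_Q₀ (hF : Fintype.card F = 2) :
    Subgroup.centralizer (Q₀ F m : Set (SpecialLinearGroup (Fin (m + 2)) F)) = Subgroup.zpowers (z₀ F m) := by
  classical
  refine le_antisymm (fun g hg => ?_) (Subgroup.zpowers_le.2 ?_)
  · obtain ⟨c, a, b, K, rfl⟩ := exists_el hF g (Subgroup.centralizer_le (Set.singleton_subset_iff.2 z₀_mem) hg)
    have h1 : ∀ a' b' : Fin m → F, el 0 a' b' 1 * el c a b K = el c a b K * el 0 a' b' 1 :=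
      fun a' b' => hg _ (el_mem_Q₀ 0 a' b')
    have hK : K = 1 := by
      refine Subtype.ext (Matrix.ext fun i j => ?_)
      have h := h1 (Pi.single i 1) 0
      rw [el_mul, el_mul] at h
      have h' := congrFun (el_inj h).2.1 j
      simp only [v1, vecMul_one, Pi.add_apply, single_one_vecMul] at h'
      show K.1 i j = (1 : Matrix (Fin m) (Fin m) F) i j
      rw [Matrix.one_apply]
      rw [Pi.single_apply] at h'
      by_cases hij : i = j
      · subst hij; rw [if_pos rfl] at h' ⊢; simp only [Matrix.row] at h'; linear_combination h'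
      rw [if_neg hij, if_neg (Ne.symm hij)] at *
      simp only [Matrix.row] at h'
      linear_combination h'
    subst hK
    have hab : ∀ a' b' : Fin m → F, a' ⬝ᵥ b = a ⬝ᵥ b' := fun a' b' => by
      have h := h1 a' b'
      rw [el_mul, el_mul] at h
      linear_combination (el_inj h).1
    have ha : a = 0 := funext fun i => by simpa using (hab 0 (Pi.single i 1)).symm
    have hb : b = 0 := funext fun i => by simpa using hab (Pi.single i 1) 0
    subst ha hb
    rcases zero_or_one hF c with rfl | rfl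
    · rw [el_one]; exact one_mem _
    · exact Subgroup.mem_zpowers _
  · rintro _ ⟨c, a, b, rfl⟩
    rw [z₀, el_mul, el_mul]
    simp [add_comm]

theorem orderOf_z₀ (hF : Fintype.card F = 2) : orderOf (z₀ F m) = 2 := by
  refine orderOf_eq_prime ?_ fun h => ?_
  · rw [pow_two, z₀, sq_el hF]; simpa using el_one
  · exact one_ne_zero (el_inj (h.trans el_one.symm)).1

theorem center_Q₀ (hF : Fintype.card F = 2) :
    (Subgroup.center (Q₀ F m)).map (Q₀ F m).subtype = Subgroup.zpowers (z₀ F m) := by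
  rw [← centralizer_Q₀ hF]
  refine le_antisymm ?_ fun g hg => ?_
  · rintro _ ⟨x, hx, rfl⟩ y hy
    exact congrArg Subtype.val (Subgroup.mem_center_iff.1 hx ⟨y, hy⟩)
  · have hgQ : g ∈ Q₀ F m := (Subgroup.zpowers_le.2 z₀_mem) (centralizer_Q₀ hF ▸ hg)
    exact ⟨⟨g, hgQ⟩, Subgroup.mem_center_iff.2 fun y => Subtype.ext (hg y.1 y.2), rfl⟩

theorem isExtraspecial_Q₀ (hF : Fintype.card F = 2) (hm : 1 ≤ m) : Cfsg.IsExtraspecial 2 (Q₀ F m) := by
  classical
  haveI : Fact (Nat.Prime 2) := ⟨Nat.prime_two⟩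
  have hmem : ∀ {c : F} {a b : Fin m → F} {x : Q₀ F m}, x.1 = el c a b 1 → a = 0 → b = 0 →
      x ∈ Subgroup.center (Q₀ F m) := by
    intro c a b x hx ha hb
    obtain ⟨y, hy, hyx⟩ : x.1 ∈ (Subgroup.center (Q₀ F m)).map (Q₀ F m).subtype := by
      rw [center_Q₀ hF, hx, ha, hb]
      rcases zero_or_one hF c with rfl | rfl
      · rw [el_one]; exact one_mem _
      · exact Subgroup.mem_zpowers _
    rwa [← Subtype.ext hyx]
  have hcomm : commutator (Q₀ F m) ≤ Subgroup.center (Q₀ F m) := by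
    rw [commutator_def, Subgroup.commutator_le]
    rintro ⟨g, c, a, b, rfl⟩ - ⟨g', c', a', b', rfl⟩ -
    refine hmem (c := a ⬝ᵥ b' - a' ⬝ᵥ b) (a := 0) (b := 0) ?_ rfl rfl
    show el c a b 1 * el c' a' b' 1 * (el c a b 1)⁻¹ * (el c' a' b' 1)⁻¹ = _
    rw [mul_inv_eq_iff_eq_mul, mul_inv_eq_iff_eq_mul, el_mul, el_mul, el_mul]
    congr 1 <;> simp
    · ring
    · exact add_comm _ _
    · exact add_comm _ _
  have hne : z₀ F m ∈ (commutator (Q₀ F m)).map (Q₀ F m).subtype := by
    let i : Fin m := ⟨0, hm⟩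
    refine ⟨_, Subgroup.commutator_mem_commutator (g₁ := ⟨_, el_mem_Q₀ (0 : F) (Pi.single i 1) 0⟩)
      (g₂ := ⟨_, el_mem_Q₀ (0 : F) 0 (Pi.single i 1)⟩) (Subgroup.mem_top _) (Subgroup.mem_top _), ?_⟩
    show el (0 : F) (Pi.single i 1) 0 1 * el (0 : F) 0 (Pi.single i 1) 1 * (el (0 : F) (Pi.single i 1) 0 1)⁻¹ *
      (el (0 : F) 0 (Pi.single i 1) 1)⁻¹ = _
    rw [mul_inv_eq_iff_eq_mul, mul_inv_eq_iff_eq_mul, z₀, el_mul, el_mul, el_mul]
    congr 1 <;> simp
  have hcenter : Subgroup.center (Q₀ F m) ≤ commutator (Q₀ F m) := by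
    rw [← Subgroup.map_le_map_iff_of_injective (Q₀ F m).subtype_injective, center_Q₀ hF]
    exact Subgroup.zpowers_le.2 hne
  refine ⟨⟨isPGroup_Q₀ hF, le_antisymm (FGS3.frattini_le_of_elementary (p := 2) hcomm ?_)
    (hcenter.trans (FGS3.commutator_le_frattini (p := 2) (isPGroup_Q₀ hF))), le_antisymm hcomm hcenter⟩, ?_⟩
  · rintro ⟨g, c, a, b, rfl⟩
    refine hmem (c := a ⬝ᵥ b) (a := 0) (b := 0) ?_ rfl rfl
    show el c a b 1 ^ 2 = _
    rw [pow_two, sq_el hF]
  · rw [Nat.card_congr ((Subgroup.center (Q₀ F m)).equivMapOfInjective _ (Q₀ F m).subtype_injective).toEquiv,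
      center_Q₀ hF, Nat.card_zpowers, orderOf_z₀ hF]

variable (F m) in
/-- The Levi factor. -/
def levi : SpecialLinearGroup (Fin m) F →* SpecialLinearGroup (Fin (m + 2)) F :=
  MonoidHom.mk' (el 0 0 0) fun K L => by rw [el_mul]; congr 1 <;> simp

theorem levi_injective : Function.Injective (levi F m) := fun _ _ h => (el_inj h).2.2.2

theorem el_eq (c : F) (a b : Fin m → F) (K : SpecialLinearGroup (Fin m) F) :
    el c a b K = el c (a ᵥ* (K⁻¹ : SpecialLinearGroup (Fin m) F).1) b 1 * levi F m K := by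
  show _ = _ * el 0 0 0 K
  rw [el_mul]
  congr 1
  · simp
  · rw [vecMul_vecMul, ← vmul, inv_mul_cancel, v1]; simp
  · simp
  · rw [one_mul]

/-- Projection of the centralizer to the Levi factor. -/
theorem exists_proj (hF : Fintype.card F = 2) :
    ∃ π : ↥(Subgroup.centralizer ({z₀ F m} : Set (SpecialLinearGroup (Fin (m + 2)) F))) →*
        SpecialLinearGroup (Fin m) F,
      Function.Surjective π ∧ π.ker = (Q₀ F m).subgroupOf _ ∧ ∀ c a b K (h : el c a b K ∈ _), π ⟨el c a b K, h⟩ = K := by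
  choose c a b K hK using fun g : ↥(Subgroup.centralizer ({z₀ F m} : Set (SpecialLinearGroup (Fin (m + 2)) F))) =>
    exists_el hF g.1 g.2
  have hu : ∀ (g : ↥(Subgroup.centralizer ({z₀ F m} : Set (SpecialLinearGroup (Fin (m + 2)) F)))) c' a' b' K',
      g.1 = el c' a' b' K' → K g = K' := fun g c' a' b' K' h => (el_inj ((hK g).symm.trans h)).2.2.2
  refine ⟨MonoidHom.mk' K fun g g' => hu _ _ _ _ _ (by
      show g.1 * g'.1 = _
      rw [hK g, hK g', el_mul]), fun L => ⟨⟨el 0 0 0 L, mem_cent_el _ _ _ _⟩, hu _ _ _ _ _ rfl⟩, ?_,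
    fun c' a' b' K' h => hu _ _ _ _ _ rfl⟩
  ext g
  rw [MonoidHom.mem_ker, Subgroup.mem_subgroupOf]
  constructor
  · intro h
    change K g = 1 at h
    exact ⟨c g, a g, b g, by rw [hK g, h]⟩
  · rintro ⟨c', a', b', hg⟩
    exact hu _ _ _ _ _ hg

/-- Normal `2`-subgroups of `SL_m(2)` are trivial. -/
theorem pCore_SL_eq_bot (hF : Fintype.card F = 2) : Cfsg.pCore 2 (SpecialLinearGroup (Fin m) F) = ⊥ := by
  classical
  haveI : Fact (Nat.Prime 2) := ⟨Nat.prime_two⟩
  rcases Nat.lt_or_ge m 2 with hm | hm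
  · haveI : Subsingleton (SpecialLinearGroup (Fin m) F) := ⟨fun A B => Subtype.ext (Matrix.ext fun i j => by
      obtain rfl : m = 1 := by have := i.isLt; omega
      have hA := A.2
      have hB := B.2
      rw [Matrix.det_fin_one] at hA hB
      fin_cases i; fin_cases j
      exact hA.trans hB.symm)⟩
    exact Subsingleton.elim _ _
  set P := Cfsg.pCore 2 (SpecialLinearGroup (Fin m) F)
  letI : MulAction P (Fin m → F) :=
    { smul := fun g v => g.1.1 *ᵥ v
      one_smul := fun v => one_mulVec v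
      mul_smul := fun g h v => (mulVec_mulVec v g.1.1 h.1.1).symm }
  obtain ⟨v, hv, hv0⟩ := IsPGroup.exists_fixed_point_of_prime_dvd_card_of_fixed_point (G := P)
    (Core.isPGroup_pCore 2 _) (Fin m → F)
    (by rw [Nat.card_fun, Nat.card_fin, Nat.card_eq_fintype_card, hF]; exact dvd_pow_self 2 (by omega))
    (a := 0) (fun g => mulVec_zero _)
  let W : Submodule F (Fin m → F) :=
    { carrier := {w | ∀ g : P, g.1.1 *ᵥ w = w}
      add_mem' := fun hx hy g => by rw [mulVec_add, hx g, hy g]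
      zero_mem' := fun g => mulVec_zero _
      smul_mem' := fun c x hx g => by rw [mulVec_smul, hx g] }
  have hinv : ∀ (h : SpecialLinearGroup (Fin m) F) w, w ∈ W → h.1 *ᵥ w ∈ W := by
    intro h w hw g
    have hn : h⁻¹ * g.1 * h ∈ P := by
      have := (inferInstance : P.Normal).conj_mem g.1 g.2 h⁻¹
      rwa [inv_inv] at this
    conv_rhs => rw [← hw ⟨_, hn⟩]
    show g.1.1 *ᵥ (h.1 *ᵥ w) = h.1 *ᵥ ((h⁻¹ * g.1 * h).1 *ᵥ w)
    rw [mulVec_mulVec, mulVec_mulVec, ← vmul, ← vmul,
      show h * (h⁻¹ * g.1 * h) = g.1 * h by group]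
  have hshift : ∀ i j : Fin m, i ≠ j → ∀ w, w ∈ W → w i • Pi.single j (1 : F) ∈ W := by
    intro i j hij w hw
    have h := hinv ⟨transvection j i 1, det_transvection_of_ne _ _ hij.symm 1⟩ w hw
    have he : transvection j i (1 : F) *ᵥ w = w + w i • Pi.single j (1 : F) := by
      rw [transvection, add_mulVec, one_mulVec]
      congr 1
      ext k
      by_cases hk : k = j
      · subst hk; simp [Matrix.mulVec, dotProduct, Matrix.single, Pi.single_apply]
      · simp [Matrix.mulVec, dotProduct, Matrix.single, Pi.single_apply, hk, Ne.symm hk]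
    change transvection j i (1 : F) *ᵥ w ∈ W at h
    rw [he] at h
    simpa using W.sub_mem h hw
  obtain ⟨i, hi⟩ : ∃ i, v i ≠ 0 := Function.ne_iff.1 (Ne.symm hv0)
  have hvW : v ∈ W := fun g => hv g
  have hej : ∀ j, i ≠ j → Pi.single j (1 : F) ∈ W := fun j hij => by
    have := hshift i j hij v hvW
    rcases zero_or_one hF (v i) with h | h
    · exact absurd h hi
    · rwa [h, one_smul] at this
  obtain ⟨j, hji⟩ : ∃ j : Fin m, j ≠ i := by
    haveI : Nontrivial (Fin m) := Fin.nontrivial_iff_two_le.2 hm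
    exact exists_ne i
  have hall : ∀ k, Pi.single k (1 : F) ∈ W := fun k => by
    by_cases hk : i = k
    · subst hk
      have := hshift j i hji _ (hej j hji.symm)
      rwa [Pi.single_eq_same, one_smul] at this
    · exact hej k hk
  rw [eq_bot_iff]
  intro g hg
  refine Subtype.ext (Matrix.ext fun k l => ?_)
  have := congrFun (hall l ⟨g, hg⟩) k
  rw [mulVec_single_one] at this
  simpa [Matrix.one_apply, Pi.single_apply] using this

theorem pCore_centralizer (hF : Fintype.card F = 2) :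
    Cfsg.pCore 2 ↥(Subgroup.centralizer ({z₀ F m} : Set (SpecialLinearGroup (Fin (m + 2)) F))) =
      (Q₀ F m).subgroupOf _ := by
  haveI : Fact (Nat.Prime 2) := ⟨Nat.prime_two⟩
  obtain ⟨π, hπ, hker, -⟩ := exists_proj (m := m) hF
  refine le_antisymm ?_ (Core.le_pCore (hker ▸ inferInstance) ((isPGroup_Q₀ hF).comap_subtype))
  rw [← hker]
  intro x hx
  rw [MonoidHom.mem_ker]
  have hn : ((Cfsg.pCore 2 _).map π).Normal := Subgroup.Normal.map inferInstance π hπ
  have := Core.le_pCore hn ((Core.isPGroup_pCore 2 _).map π) (Subgroup.mem_map_of_mem π hx)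
  rwa [pCore_SL_eq_bot hF, Subgroup.mem_bot] at this

theorem generalizedFitting_centralizer (hF : Fintype.card F = 2) :
    Cfsg.generalizedFittingSubgroup ↥(Subgroup.centralizer ({z₀ F m} : Set (SpecialLinearGroup (Fin (m + 2)) F))) =
      Cfsg.pCore 2 ↥(Subgroup.centralizer ({z₀ F m} : Set (SpecialLinearGroup (Fin (m + 2)) F))) := by
  haveI : Fact (Nat.Prime 2) := ⟨Nat.prime_two⟩
  set C := Subgroup.centralizer ({z₀ F m} : Set (SpecialLinearGroup (Fin (m + 2)) F))
  have hCQ : Subgroup.centralizer (Cfsg.pCore 2 C : Set C) ≤ Cfsg.pCore 2 C := by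
    rw [pCore_centralizer hF]
    intro x hx
    rw [Subgroup.mem_subgroupOf]
    have hx' : x.1 ∈ Subgroup.centralizer (Q₀ F m : Set (SpecialLinearGroup (Fin (m + 2)) F)) := fun y hy =>
      congrArg Subtype.val (hx ⟨y, Q₀_le hy⟩ hy)
    rw [centralizer_Q₀ hF] at hx'
    exact (Subgroup.zpowers_le.2 z₀_mem) hx'
  have hO : Cfsg.pPrimeCore 2 C = ⊥ := by
    have h := le_inf ((Subgroup.le_centralizer_iff.1 (Core.pCore_le_centralizer_pPrimeCore 2 C)).trans hCQ)
      (le_refl (Cfsg.pPrimeCore 2 C))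
    rw [Core.pCore_inf_pPrimeCore] at h
    exact le_bot_iff.mp h
  refine Components.generalizedFitting_eq_pCore_iff.2 ⟨Components.layer_eq_bot_of_centralizer_fitting_le ?_, hO⟩
  rwa [Core.fittingSubgroup_eq_pCore hO]

/-- An element of odd order inverted by an element of the radical is trivial. -/
theorem eq_one_of_inverted (hF : Fintype.card F = 2) {j y : SpecialLinearGroup (Fin (m + 2)) F}
    (hj : j ∈ Subgroup.centralizer ({z₀ F m} : Set (SpecialLinearGroup (Fin (m + 2)) F))) (hy : y ∈ Q₀ F m)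
    (hodd : Odd (orderOf j)) (hinv : y * j * y⁻¹ = j⁻¹) : j = 1 := by
  haveI : Fact (Nat.Prime 2) := ⟨Nat.prime_two⟩
  obtain ⟨π, -, hker, -⟩ := exists_proj (m := m) hF
  have hn : ((Q₀ F m).subgroupOf (Subgroup.centralizer ({z₀ F m} : Set (SpecialLinearGroup (Fin (m + 2)) F)))).Normal :=
    hker ▸ inferInstance
  have h1 : j * y⁻¹ * j⁻¹ ∈ Q₀ F m := hn.conj_mem ⟨y⁻¹, Q₀_le (inv_mem hy)⟩ (inv_mem hy) ⟨j, hj⟩
  have h2 : (j * j)⁻¹ ∈ Q₀ F m := by
    have : (j * j)⁻¹ = y * (j * y⁻¹ * j⁻¹) := by rw [_root_.mul_inv_rev]; nth_rewrite 1 [← hinv]; group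
    rw [this]; exact mul_mem hy h1
  obtain ⟨k, hk⟩ := (IsPGroup.iff_orderOf.1 (isPGroup_Q₀ hF)) ⟨_, h2⟩
  rw [Subgroup.orderOf_mk, orderOf_inv, ← pow_two, orderOf_pow' j two_ne_zero,
    Nat.Coprime.gcd_eq_one (Nat.coprime_two_right.2 hodd), Nat.div_one] at hk
  rw [← orderOf_eq_one_iff]
  rcases k with _ | k
  · exact hk
  · exact absurd hodd (by rw [hk, pow_succ, Nat.not_odd_iff_even]; exact even_two.mul_left _)

end Cfsg.Agent.Linear.TransvCentTwo
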